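import Cfsg.Agent.Lib.UMS.Aut62
import Cfsg.Agent.Lib.UMS.HY

/-! Semilinear automorphisms of `XU`. -/

set_option autoImplicit false
set_option linter.unusedSectionVars false

namespace UMS.H62

open Subgroup H69 Cfsg Matrix U4S H12 H76
open LMS (XX GX iL kk MM au tw Sg)
open scoped MatrixGroups commutatorElement

universe u
variable {F : Type u} [Field F] [CharP F 2] [Fintype F] [Hs F] {n : ℕ} [Ok n F]

local notation "X" => XU n F
local notation "I" => Fin (n + 3)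
local notation "Mx" => Matrix (Fin (n + 3)) (Fin (n + 3)) F

theorem is0 : Is (ee 0 : VV n F) := is_ee (by simp [Fin.ext_iff])
theorem isL : Is (ee iL : VV n F) := is_ee (by simp [Fin.ext_iff])

theorem iso_span {y : VV n F} (h : ∀ v, bt v v = 0 → bt y v = 0) : y = 0 := by
  obtain ⟨c, hc⟩ := ex_tr (F := F)
  have h0 := h _ is0.1
  have hL := h _ isL.1
  have k0 : bt (ee 0) y = 0 := by rw [bt_symm, h0, map_zero]
  have kL : bt (ee iL) y = 0 := by rw [bt_symm, hL, map_zero]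
  have s : σ (bt y y) = bt y y := (bt_symm y y).symm
  have e1 : bt (ee 0 : VV n F) (ee iL) = 1 := by rw [bt_ee, if_pos (by simp [Fin.ext_iff])]
  have e2 : bt (ee iL : VV n F) (ee 0) = 1 := by rw [bt_ee, if_pos (by simp [Fin.ext_iff])]
  have yy : bt y y = 0 := by
    have := h (y + ee 0 + (c * bt y y) • ee iL) (by
      simp only [bt_add_l, bt_add_r, bt_smul_l, bt_smul_r, h0, hL, k0, kL, is0.1, isL.1, e1, e2, map_mul, s]
      linear_combination bt y y * hc + bt y y * CharTwo.two_eq_zero (R := F))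
    simpa only [bt_add_r, bt_smul_r, h0, hL, mul_zero, add_zero] using this
  by_contra y0
  obtain ⟨u, hu, k⟩ := ex_hyp ⟨yy, y0⟩
  rw [bt_symm, h u hu, map_zero] at k
  exact zero_ne_one k

/-- a matrix commuting with `XU` is scalar -/
theorem scal {H : Mx} (h : ∀ x : X, H * x.1.1 = x.1.1 * H) : ∃ a : F, H = a • (1 : Mx) := by
  have k : ∀ v : VV n F, bt v v = 0 → ∀ x, bt x v • H *ᵥ v = bt (H *ᵥ x) v • v := fun v hv x => by
    have := h (tc v 1)
    rw [tc_val hv, mul_add, add_mul, mul_one, one_mul, add_right_inj, Subfield.coe_one, one_smul] at this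
    rw [← mulVec_smul, ← hm_mulVec, ← hm_mulVec, mulVec_mulVec, mulVec_mulVec, this]
  obtain ⟨a, ha⟩ : ∃ a : F, H *ᵥ (ee 0 : VV n F) = a • ee 0 := by
    have := k _ is0.1 (ee iL)
    rw [bt_ee, if_pos (by simp [Fin.ext_iff]), one_smul] at this
    exact ⟨_, this⟩
  have ev : ∀ v : VV n F, Is v → H *ᵥ v = a • v := fun v hv => by
    obtain ⟨x, rfl⟩ := tr_Is is0 hv
    rw [← ac_smul, ← ha, ac, ac, mulVec_mulVec, mulVec_mulVec, h]
  refine ⟨a, Matrix.ext_of_mulVec_single fun i => ?_⟩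
  generalize (Pi.single i 1 : VV n F) = x
  rw [smul_mulVec, one_mulVec, ← CharTwo.add_eq_zero]
  refine iso_span fun v hv => ?_
  by_cases v0 : v = 0
  · rw [v0, bt_zero_r]
  have := k v hv x
  rw [ev v ⟨hv, v0⟩, smul_smul] at this
  rw [bt_add_l, bt_smul_l, ← smul_left_injective F v0 this, mul_comm, CharTwo.add_self_eq_zero]

variable (F n) in
/-- the isometries -/
def GI : Subgroup (GX n F) where
  carrier := {g | ad g.1 * g.1 = 1}
  one_mem' := by change ad (1 : Mx) * 1 = 1; rw [ad_one, mul_one]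
  mul_mem' := fun {a b} ha hb => by
    change ad (a.1 * b.1) * (a.1 * b.1) = 1
    rw [ad_mul, mul_assoc, ← mul_assoc (ad a.1), show ad a.1 * a.1 = 1 from ha, one_mul]; exact hb
  inv_mem' := fun {a} ha => by
    have e : (a⁻¹).1 = ad a.1 := Units.inv_eq_of_mul_eq_one_left ha
    change ad (a⁻¹).1 * (a⁻¹).1 = 1
    rw [e, ad_ad, ← e, Units.mul_inv]

theorem mem_GI {g : GX n F} : g ∈ GI F n ↔ ad g.1 * g.1 = 1 := Iff.rfl
theorem sl_GI {x : XX n F} : Matrix.SpecialLinearGroup.toGL x ∈ GI F n ↔ x ∈ XU n F := mem_XU.symm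

theorem gc_mem {g : GX n F} (h : g ∈ GI F n) {x : XX n F} (hx : x ∈ XU n F) : gc g x ∈ XU n F :=
  sl_GI.1 (mul_mem (mul_mem h (sl_GI.2 hx)) (inv_mem h))

/-- conjugation by isometries -/
def giH : GI F n →* MulAut X := MonoidHom.mk'
  (fun g => ⟨⟨fun x => ⟨gc g.1 x.1, gc_mem g.2 x.2⟩, fun x => ⟨gc g.1⁻¹ x.1, gc_mem (inv_mem g.2) x.2⟩,
    fun x => Subtype.ext (by change gc _ (gc _ _) = _; rw [← gc_mul, inv_mul_cancel, gc_one]),
    fun x => Subtype.ext (by change gc _ (gc _ _) = _; rw [← gc_mul, mul_inv_cancel, gc_one])⟩,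
    fun x y => Subtype.ext (map_mul (gc g.1) _ _)⟩)
  fun a b => MulEquiv.ext fun x => Subtype.ext (gc_mul a.1 b.1 x.1)

theorem giH_val (g : GI F n) (x : X) : (giH g x).1 = gc g.1 x.1 := rfl

theorem σ_comm (φ : RingAut F) (a : F) : σ (φ a) = φ (σ a) := DFunLike.congr_fun (LMS.aut_comm' σ φ) a

theorem ad_map (φ : RingAut F) (M : Mx) : ad (M.map φ) = (ad M).map φ :=
  Matrix.ext fun i j => by rw [ad_apply, map_apply, map_apply, ad_apply, σ_comm]

theorem fr_mem (φ : RingAut F) {x : XX n F} (h : x ∈ XU n F) : fr φ x ∈ XU n F := by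
  rw [mem_XU] at h ⊢
  rw [fr_val, ad_map, ← LMS.NFa.map_mul', h, LMS.NFa.map_one']

/-- field automorphisms of `XU` -/
def frU (φ : RingAut F) : X →* X := ((fr φ).comp (Subgroup.subtype _)).codRestrict _ fun x => fr_mem φ x.2

theorem frU_val (φ : RingAut F) (x : X) : (frU φ x).1 = fr φ x.1 := rfl
theorem au_frU (φ : RingAut F) : Au (frU φ : X →* X) φ := ⟨1, fun x => by rw [LMS.au_false, gc_one]; rfl⟩

theorem gu_of {g : GX n F} (h : ∀ x : X, gc g x.1 ∈ XU n F) : ∃ g0 ∈ GI F n, ∀ M, gc g0 M = gc g M := by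
  have e : ad g.1 * ad (g⁻¹).1 = 1 := by rw [← ad_mul, Units.inv_mul, ad_one]
  obtain ⟨l, hl⟩ := scal (H := ad g.1 * g.1) fun x => by
    have k := mem_XU.1 (h x)
    rw [gc_val, ad_mul, ad_mul] at k
    have k2 := congrArg (fun M => x.1.1 * (ad g.1 * M * g.1)) k
    have x1 : x.1.1 * ad x.1.1 = 1 := mul_eq_one_comm.1 (mem_XU.1 x.2)
    simp only [mul_one] at k2
    rw [← k2]
    simp only [← mul_assoc, e, one_mul, x1, Units.inv_mul_cancel_right]
  have s : σ l = l := by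
    have := congrArg ad hl
    rw [ad_mul, ad_ad, hl, ad_smul, ad_one] at this
    simpa using (congrFun (congrFun this 0) 0).symm
  have l0 : l ≠ 0 := by
    rintro rfl
    have := congrArg (fun M => M * (g⁻¹).1 * ad (g⁻¹).1) hl
    simp only [Units.mul_inv_cancel_right, e, zero_smul, zero_mul] at this
    exact one_ne_zero this
  obtain ⟨b, hb⟩ := LMS.norm_surj Hs.sg s
  have b0 : b ≠ 0 := by rintro rfl; exact l0 (by rw [← hb, zero_mul])
  have b1 : σ b ≠ 0 := (map_ne_zero _).2 b0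
  refine ⟨⟨b⁻¹ • g.1, b • (g⁻¹).1, by simp [smul_smul, b0], by simp [smul_smul, b0]⟩, ?_, fun M => Subtype.ext ?_⟩
  · change ad (b⁻¹ • g.1) * (b⁻¹ • g.1) = 1
    rw [ad_smul, smul_mul_smul_comm, hl, smul_smul, ← hb, map_inv₀]
    convert one_smul F (1 : Mx) using 2
    field_simp
  · change b⁻¹ • g.1 * M.1 * b • (g⁻¹).1 = g.1 * M.1 * (g⁻¹).1
    simp [smul_smul, b0]

/-- a semilinear automorphism is induced by an isometry -/
theorem Au.gi {α : X →* X} {φ : RingAut F} (h : Au α φ) : ∃ g : GI F n, ∀ x, α x = giH g (frU φ x) := by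
  obtain ⟨g, h⟩ := h
  obtain ⟨g0, h0, k⟩ := gu_of (g := g) fun x => by
    obtain ⟨y, rfl⟩ := (Au.inj (au_frU φ)).2 x
    exact (h y ▸ (α y).2 : au g φ false y.1 ∈ _)
  exact ⟨⟨g0, h0⟩, fun x => Subtype.ext ((h x).trans (k _).symm)⟩

theorem frU_one (x : X) : frU 1 x = x := Subtype.ext (fr_one _)

theorem Au.gi1 {α : X →* X} (h : Au α 1) : ∃ g : GI F n, ∀ x, α x = giH g x :=
  (Au.gi h).imp fun g k x => by rw [k, frU_one]

theorem au_giH (g : GI F n) : Au (giH g).toMonoidHom 1 := ⟨g.1, fun x => by rw [LMS.au_false, fr_one]; rfl⟩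

theorem ex_su {g : GI F n} (h : Matrix.GeneralLinearGroup.det g.1 = 1) :
    ∃ u : X, Matrix.SpecialLinearGroup.toGL u.1 = g.1 ∧ ∀ x, giH g x = u * x * u⁻¹ := by
  obtain ⟨u, hu⟩ := LMS.B5.ex_sl h
  exact ⟨⟨u, sl_GI.1 (hu ▸ g.2)⟩, hu, fun x => Subtype.ext ((congrArg (fun k => gc k x.1) hu.symm).trans (gc_sl u x.1))⟩

theorem au_comm {α β : X →* X} (h : Au α 1) (k : Au β 1) : ∃ u : X, ∀ x, α (β x) = u * β (α x) * u⁻¹ := by
  obtain ⟨g, h⟩ := Au.gi1 h
  obtain ⟨g', k⟩ := Au.gi1 k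
  obtain ⟨u, -, hu⟩ := ex_su (g := g * g' * g⁻¹ * g'⁻¹) (by
    simp only [Subgroup.coe_mul, Subgroup.coe_inv, map_mul, map_inv, mul_inv_cancel_comm, mul_inv_cancel])
  refine ⟨u, fun x => ?_⟩
  rw [← hu, h, k, k, h, ← MulAut.mul_apply, ← MulAut.mul_apply, ← MulAut.mul_apply, ← map_mul, ← map_mul, ← map_mul,
    inv_mul_cancel_right, inv_mul_cancel_right]

theorem au_two {α : X →* X} (a : Au α 1) {k : ℕ} (h : ∀ x, α^[2 ^ k] x = x) : ∃ u, P2 u ∧ α = cn u := by
  obtain ⟨g, e⟩ := Au.gi1 a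
  have e' : (α : X → X) = giH g := funext e
  obtain ⟨y, ⟨j, hj⟩, hy⟩ := LMS.B5.odd_lift giH g ⟨k, MulEquiv.ext fun x => by
    have k' : ∀ m : ℕ, (giH g ^ m) x = (giH g)^[m] x := fun m => by
      induction m with
      | zero => rfl
      | succ m ih => rw [pow_succ', MulAut.mul_apply, ih, Function.iterate_succ_apply']
    rw [k', ← e']; exact h x⟩
  have hj' : y.1 ^ 2 ^ j = 1 := congrArg Subtype.val hj
  obtain ⟨u, h1, h2⟩ := ex_su (g := y) (Units.ext (by
    have := congrArg (fun z => ((Matrix.GeneralLinearGroup.det z : Fˣ) : F)) hj'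
    simp only [map_pow, map_one, Units.val_pow_eq_pow_val, Units.val_one] at this
    rw [← sub_eq_zero, ← one_pow (2 ^ j), ← sub_pow_char_pow] at this
    exact sub_eq_zero.1 (pow_eq_zero_iff (Nat.two_pow_pos j).ne' |>.1 this)))
  refine ⟨u, ⟨j, Subtype.ext (Matrix.SpecialLinearGroup.toGL_injective ?_)⟩, MonoidHom.ext fun x => ?_⟩
  · rw [Subgroup.coe_pow, map_pow, h1, hj', Subgroup.coe_one, map_one]
  · rw [e, ← hy, h2, cn_apply]

theorem sr_val {i j : I} (h : Sh i j) (a : F) :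
    (sr i j a : X).1.1 = 1 + single i j a + single j.rev i.rev (σ a) := by
  obtain ⟨h1, h2, h3, h4⟩ := h
  rw [sr, sh_val (by rw [bt_smul_l, bt_smul_r, bt_ee, if_neg h3, mul_zero, mul_zero])
    (by rw [bt_ee, Fin.rev_rev, if_neg h4.symm]) (by rw [bt_smul_l, bt_ee, Fin.rev_rev, if_neg h1, mul_zero]),
    hm_smul_l, hm_smul_r, hm_ee, hm_ee, Fin.rev_rev]
  simp

theorem key_one {g : GX n F} {φ : RingAut F} (h : ∀ x : X, gc g (fr φ x.1) = x.1) : φ = 1 := by
  have h3 := Ok.h3 (n := n) (F := F)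
  have k : ∀ j : I, Sh 0 j → ∀ (a : F) (m : I), m ≠ j.rev → g.1 m 0 * φ a = if m = 0 then a * g.1 j j else 0 := by
    intro j s a m hm
    have e := LMS.B5.mul_eq (h (sr 0 j a))
    have v : (fr φ (sr 0 j a : X).1).1 = 1 + single 0 j (φ a) + single j.rev (Fin.rev 0) (φ (σ a)) := by
      rw [fr_val, sr_val s]
      ext p q
      simp [one_apply, single_apply, apply_ite φ]
    rw [v, sr_val s, add_assoc, add_assoc, mul_add, add_mul, mul_one, one_mul, add_right_inj, mul_add, add_mul] at e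
    have := congrFun (congrFun e m) j
    rw [Matrix.add_apply, Matrix.add_apply, mul_single_apply_same, mul_single_apply_of_ne _ _ _ _ _ s.2.1,
      single_mul_apply_of_ne _ _ _ _ _ hm, add_zero, add_zero] at this
    rw [this]
    split_ifs with m0
    · rw [m0, single_mul_apply_same]
    · rw [single_mul_apply_of_ne _ _ _ _ _ m0]
  have s1 : Sh (0 : I) 1 := by simp [Sh, Fin.ext_iff]; omega
  have s2 : Sh (0 : I) ⟨2, by omega⟩ := by simp [Sh, Fin.ext_iff]; omega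
  have c0 : ∀ m, m ≠ 0 → g.1 m 0 = 0 := fun m hm => by
    by_cases e : m = Fin.rev 1
    · simpa [hm] using k _ s2 1 m (by rw [e]; simp [Fin.ext_iff])
    · simpa [hm] using k _ s1 1 m e
  have g0 : g.1 0 0 ≠ 0 := left_ne_zero_of_mul_eq_one ((mul_comm _ _).trans ((LMS.B5b.col c0 0).trans (one_apply_eq _)))
  have r0 : (0 : I) ≠ Fin.rev 1 := by simp [Fin.ext_iff]
  have k1 := k _ s1 1 0 r0
  refine RingEquiv.ext fun a => mul_left_cancel₀ g0 ?_
  rw [map_one, mul_one, if_pos rfl, one_mul] at k1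
  rw [k _ s1 a 0 r0, if_pos rfl, ← k1, mul_comm]
  rfl

theorem Au.uniq {α : X →* X} {φ φ' : RingAut F} (h : Au α φ) (k : Au α φ') : φ = φ' := by
  obtain ⟨g, h⟩ := h
  obtain ⟨g', k⟩ := k
  refine mul_inv_eq_one.1 (key_one (g := g'⁻¹ * g) fun x => ?_)
  obtain ⟨y, rfl⟩ := (Au.inj (au_frU φ')).2 x
  rw [frU_val, fr_fr, inv_mul_cancel_right, gc_mul, ← LMS.au_false, ← h, k, LMS.au_false, ← gc_mul, inv_mul_cancel, gc_one]

theorem Au.inv {α β : X →* X} {φ : RingAut F} (h : Au α φ) (k : ∀ x, β (α x) = x) : Au β φ⁻¹ := by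
  obtain ⟨g, e⟩ := h
  obtain ⟨g', h'⟩ := LMS.B5.fr_gc φ⁻¹ g
  refine ⟨g'⁻¹, fun x => ?_⟩
  obtain ⟨y, rfl⟩ := (Au.inj ⟨g, e⟩).2 x
  rw [k, e, LMS.au_false, LMS.au_false, h', fr_fr, inv_mul_cancel, fr_one, ← gc_mul, inv_mul_cancel, gc_one]

end UMS.H62
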