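import Cfsg.Agent.Lib.UMS.CE
import Cfsg.Agent.Lib.UMS.B7

/-! From `D1` to `D0`. -/

set_option autoImplicit false
set_option linter.unusedSimpArgs false
set_option linter.unusedSectionVars false

namespace UMS

open Subgroup H69 Cfsg Matrix U4S
open LMS (XX GX iL kk MM au tw Sg)
open scoped MatrixGroups commutatorElement

universe u
variable {G : Type*} [Group G] [Finite G] {F : Type u} [Field F] [CharP F 2] [Fintype F] [Hs F] {n : ℕ} [Ok n F]
  {ι ψ χ : XU n F →* G} {t : G} {E : Subgroup G}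

local notation "X" => XU n F
local notation "V" => VV n F
local notation "I" => Fin (n + 3)

namespace H91

theorem is0 : Is (ee 0 : V) := is_ee (by
  intro e; have := congrArg Fin.val e; simp [Fin.val_rev] at this)

theorem zm (a b : K0 F) : (zz a : X) * zz b = zz (a + b) := tc_mul is0.1 a b

theorem z0 : (zz 0 : X) = 1 := tc_zero _

theorem zZ (a : K0 F) : (zz a : X) ∈ ZZ n F := mem_ZZ.2 ⟨a, rfl⟩

theorem uniq (e : Em ι) {a b : K0 F} (h : ι (zz a) = ι (zz b)) : a = b :=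
  tc_inj is0 (e.inj2 (P2.of_sq (tc_sq is0.1 a)) (P2.of_sq (tc_sq is0.1 b)) h)

theorem zc {x : X} (hx : x ∈ QQ n F) (a : K0 F) : x * zz a = zz a * x := PP_cen (QQ_le hx) a

theorem ev_mul {y y' : G} {x : X} {a b : K0 F} (c : Cn ι (ZZ n F) y) (h : y * ι x * y⁻¹ = ι x * ι (zz a))
    (k : y' * ι x * y'⁻¹ = ι x * ι (zz b)) : y * y' * ι x * (y * y')⁻¹ = ι x * ι (zz (a + b)) := by
  calc y * y' * ι x * (y * y')⁻¹ = y * (y' * ι x * y'⁻¹) * y⁻¹ := by group
    _ = y * ι x * y⁻¹ * (y * ι (zz b)) * y⁻¹ := by rw [k]; group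
    _ = _ := by rw [h, c _ (zZ b), ← zm, map_mul]; group

theorem ev_cj {y : G} {x p : X} {a : K0 F} (hp : p ∈ PP n F) (h : y * ι x * y⁻¹ = ι x * ι (zz a)) :
    ι p * y * (ι p)⁻¹ * ι (p * x * p⁻¹) * (ι p * y * (ι p)⁻¹)⁻¹ = ι (p * x * p⁻¹) * ι (zz a) := by
  have e : (zz a : X) = p * zz a * p⁻¹ := by rw [PP_cen hp, mul_inv_cancel_right]
  conv_rhs => rw [e]
  simp only [map_mul, map_inv]
  calc _ = ι p * (y * ι x * y⁻¹) * (ι p)⁻¹ := by group
    _ = _ := by rw [h]; group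

theorem ev_add {y : G} {x x' : X} {a b : K0 F} (hx : x' ∈ QQ n F) (h : y * ι x * y⁻¹ = ι x * ι (zz a))
    (k : y * ι x' * y⁻¹ = ι x' * ι (zz b)) : y * ι (x * x') * y⁻¹ = ι (x * x') * ι (zz (a + b)) := by
  calc y * ι (x * x') * y⁻¹ = (y * ι x * y⁻¹) * (y * ι x' * y⁻¹) := by rw [map_mul]; group
    _ = ι x * ι (zz a * x') * ι (zz b) := by rw [h, k, map_mul]; group
    _ = _ := by rw [← zc hx, ← zm]; simp only [map_mul, mul_assoc]

theorem vv (w : V) : w + w = 0 := by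
  ext i; simp [CharTwo.add_self_eq_zero]

theorem ev_cv {y : G} {x x' : X} {a : K0 F} (c : Cn ι (ZZ n F) y) (hx : x ∈ QQ n F) (hx' : x' ∈ QQ n F)
    (e : cv x = cv x') (h : y * ι x * y⁻¹ = ι x * ι (zz a)) : y * ι x' * y⁻¹ = ι x' * ι (zz a) := by
  have m := mul_mem (inv_mem hx) hx'
  have e1 : cv (x⁻¹ * x') = 0 := by
    have := cv_mul hx m
    rw [mul_inv_cancel_left, e] at this
    exact (add_eq_left.1 this.symm)
  obtain ⟨b, hb⟩ := mem_ZZ.1 ((cv_ker m).1 e1)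
  have e2 : y * ι (x⁻¹ * x') * y⁻¹ = ι (x⁻¹ * x') * ι (zz 0) := by
    rw [hb, c _ (zZ b), z0, map_one, mul_one, mul_inv_cancel_right]
  have := ev_add m h e2
  rwa [mul_inv_cancel_left, add_zero] at this

theorem d1_mul {a b : K0 F} {y y' : G} (h : D1 ι t a y) (k : D1 ι t b y') : D1 ι t (a + b) (y * y') := by
  refine ⟨fun x hx => by rw [mul_assoc, k.1 x hx, ← mul_assoc, h.1 x hx, mul_assoc], fun x hx => ?_, ?_⟩
  · obtain ⟨a, ha⟩ := h.2.1 x hx
    obtain ⟨b, hb⟩ := k.2.1 x hx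
    exact ⟨_, ev_mul h.1 ha hb⟩
  · calc y * y' * t * (y * y')⁻¹ = y * (y' * t * y'⁻¹) * y⁻¹ := by group
      _ = y * t * y⁻¹ * (y * ι (zz b)) * y⁻¹ := by rw [k.2.2]; group
      _ = _ := by rw [h.2.2, h.1 _ (zZ b), ← zm, map_mul]; group

theorem d1_cj (c : ∀ x, t * ι x = ι x * t) {a : K0 F} {y : G} (h : D1 ι t a y) {p : X} (hp : p ∈ PP n F) :
    D1 ι t a (ι p * y * (ι p)⁻¹) := by
  have e : ∀ b, ι p * ι (zz b) * (ι p)⁻¹ = ι (zz b) := fun b => by
    rw [← map_mul, PP_cen hp, map_mul, mul_inv_cancel_right]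
  refine ⟨fun x hx => ?_, fun x hx => ?_, ?_⟩
  · obtain ⟨b, rfl⟩ := mem_ZZ.1 hx
    rw [← e b]
    calc _ = ι p * (y * ι (zz b)) * (ι p)⁻¹ := by group
      _ = _ := by rw [h.1 _ (zZ _)]; group
  · obtain ⟨b, hb⟩ := h.2.1 _ ((mem_normalizer_iff.1 (inv_mem (PP_nQ hp)) x).1 hx)
    have := ev_cj hp hb
    rw [show p * (p⁻¹ * x * p⁻¹⁻¹) * p⁻¹ = x by group] at this
    exact ⟨_, this⟩
  · rw [← e a]
    calc _ = ι p * (y * ((ι p)⁻¹ * (t * ι p)) * y⁻¹) * (ι p)⁻¹ := by group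
      _ = ι p * (y * t * y⁻¹) * (ι p)⁻¹ := by rw [c, inv_mul_cancel_left]
      _ = ι p * t * ι (zz a) * (ι p)⁻¹ := by rw [h.2.2]; group
      _ = _ := by rw [← c]; group

theorem cjQ {v x : X} (hv : v ∈ QQ n F) (hx : x ∈ QQ n F) :
    ∃ c : K0 F, (c : F) = bt (cv v) (cv x) + σ (bt (cv v) (cv x)) ∧ v * x * v⁻¹ = x * zz c := by
  obtain ⟨c, e1, e2⟩ := comm_QQ hv hx
  exact ⟨c, e1, by rw [e2, mul_assoc x, zc hv, mul_assoc, mul_inv_cancel_right]⟩

theorem d1_zero (h : C2 ι t) {y : G} (k : D1 ι t 0 y) : ∃ u : V, ∀ x ∈ QQ n F, ∀ a : K0 F,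
    y * ι x * y⁻¹ = ι x * ι (zz a) → (a : F) = bt u (cv x) + σ (bt u (cv x)) := by
  have e := k.2.2
  rw [z0, map_one, mul_one, mul_inv_eq_iff_eq_mul] at e
  obtain ⟨v, hv, u, hk, rfl⟩ := cQb h.em (h.CN y e) k.1 k.2.1
  refine ⟨cv v, fun x hx a ha => ?_⟩
  obtain ⟨c, e1, e2⟩ := cjQ hv hx
  have : u * ι v * ι x * (u * ι v)⁻¹ = ι x * ι (zz c) := by
    calc _ = u * ι (v * x * v⁻¹) * u⁻¹ := by simp only [map_mul, map_inv]; group
      _ = _ := by rw [← hk _ ⟨_, rfl⟩, mul_inv_cancel_right, e2, map_mul]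
  rw [ha] at this
  rw [uniq h.em (mul_left_cancel this), e1]

/-- the middle part of a vector -/
def pm (w : V) : V := fun j => if j = 0 ∨ j = iL then 0 else w j

theorem pm_mi (w : V) : Mi (pm w) := ⟨by simp [pm], by simp [pm]⟩

theorem pm_of {w : V} (h : Mi w) : pm w = w := by
  ext j
  by_cases e : j = 0 ∨ j = iL
  · rcases e with rfl | rfl
    · simp [pm, h.1]
    · simp [pm, h.2]
  · simp [pm, e]

theorem pm_add (w w' : V) : pm (w + w') = pm w + pm w' := by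
  ext j
  by_cases e : j = 0 ∨ j = iL <;> simp [pm, e]

theorem ex_eta (h : C2 ι t) {c : K0 F} {y : G} (k : D1 ι t c y) : ∃ η : V →+ K0 F, (∀ w, η (pm w) = η w) ∧
    ∀ x ∈ QQ n F, y * ι x * y⁻¹ = ι x * ι (zz (η (cv x))) := by
  choose s hs hs' using fun w : V => cv_surj (pm_mi w)
  choose η hη using fun w => k.2.1 _ (hs w)
  refine ⟨AddMonoidHom.mk' η fun w w' => ?_, fun w => ?_, fun x hx => ?_⟩
  · have := ev_cv k.1 (mul_mem (hs w) (hs w')) (hs (w + w'))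
      (by rw [cv_mul (hs w) (hs w'), hs', hs', hs', pm_add]) (ev_add (hs w') (hη w) (hη w'))
    rw [hη] at this
    exact uniq h.em (mul_left_cancel this)
  · have := ev_cv k.1 (hs w) (hs (pm w)) (by rw [hs', hs', pm_of (pm_mi w)]) (hη w)
    rw [hη] at this
    exact uniq h.em (mul_left_cancel this)
  · exact ev_cv k.1 (hs (cv x)) hx (by rw [hs', pm_of (cv_mi x)]) (hη _)

theorem rev0 : (0 : I).rev = iL := Fin.rev_zero _

theorem mi_ee {j : I} (h0 : j ≠ 0) (hL : j ≠ iL) (a : F) : Mi (a • ee j : V) :=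
  ⟨by simp [ee, h0.symm], by simp [ee, hL.symm]⟩

theorem lin (h : C2 ι t) {c : K0 F} {y : G} (k : D1 ι t c y) {η : V →+ K0 F}
    (hη : ∀ x ∈ QQ n F, y * ι x * y⁻¹ = ι x * ι (zz (η (cv x)))) {a w : V} (ha : Mi a) (aa : bt a a = 0)
    (hw : Mi w) (wa : bt w a = 1) : ∃ γ : F, ∀ l : F, (η (l • a) : F) = l * γ + σ (l * γ) := by
  have hp : (tc a 1 : X) ∈ PP n F := tc_St aa (by rw [ee_bt, rev0, ha.2, map_zero]) 1
  obtain ⟨u, hu⟩ := d1_zero h (by
    have := d1_mul k (d1_cj h.tc k hp)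
    rwa [k0_add] at this)
  refine ⟨σ (bt u (w + a)), fun l => ?_⟩
  obtain ⟨x, hx, e⟩ := cv_surj (show Mi (l • w) from ⟨by simp [hw.1], by simp [hw.2]⟩)
  have m : tc a 1 * x * (tc a 1)⁻¹ ∈ QQ n F := (mem_normalizer_iff.1 (PP_nQ hp) x).1 hx
  have e1 : cv (tc a 1 * x * (tc a 1)⁻¹) = l • w + l • a := by
    ext j
    by_cases j0 : j = 0
    · rw [j0, (cv_mi _).1]; simp [hw.1, ha.1]
    · rw [cv_cj hp hx j0, ac_tc aa, e, bt_smul_left, wa]; simp
  have := hu _ m _ (ev_mul k.1 (hη _ m) (ev_cj hp (hη x hx)))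
  rw [e1, e, map_add, add_right_comm, k0_add, zero_add, ← smul_add, bt_smul_right] at this
  rw [this, map_mul, map_mul, sg_sg, sg_sg, add_comm]

theorem lin_ee (h : C2 ι t) {c : K0 F} {y : G} (k : D1 ι t c y) {η : V →+ K0 F}
    (hη : ∀ x ∈ QQ n F, y * ι x * y⁻¹ = ι x * ι (zz (η (cv x)))) {j : I} (h0 : j ≠ 0) (hL : j ≠ iL) :
    ∃ γ : F, ∀ l : F, (η (l • ee j) : F) = l * γ + σ (l * γ) := by
  have A : ∀ j : I, j ≠ 0 → j ≠ iL → j ≠ j.rev → ∃ γ : F, ∀ l : F, (η (l • ee j) : F) = l * γ + σ (l * γ) :=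
    fun j h0 hL hj => lin h k hη (w := ee j.rev) (by simpa using mi_ee h0 hL (1 : F)) (is_ee hj).1
      (by simpa using mi_ee (j := j.rev) (fun e => hL (by rw [← rev0, ← e, Fin.rev_rev]))
            (fun e => h0 (Fin.rev_injective (e.trans rev0.symm))) (1 : F))
      (by rw [bt_ee]; simp [ee])
  by_cases hj : j = j.rev
  swap
  · exact A j h0 hL hj
  have n3 := (inferInstance : Ok n F).h3
  have jv := congrArg Fin.val hj
  have v1 : ((1 : I) : ℕ) = 1 := rfl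
  have vr : ((1 : I).rev : ℕ) = n + 1 := by rw [Fin.val_rev, v1]; omega
  have vL : ((iL : I) : ℕ) = n + 2 := rfl
  rw [Fin.val_rev] at jv
  have a1 : (1 : I) ≠ 0 := fun e => by have := congrArg Fin.val e; simp at this
  have a2 : (1 : I) ≠ iL := fun e => by have := congrArg Fin.val e; omega
  have a3 : (1 : I) ≠ (1 : I).rev := fun e => by have := congrArg Fin.val e; omega
  have a4 : (1 : I).rev ≠ 0 := fun e => by have := congrArg Fin.val e; rw [vr] at this; simp at this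
  have a5 : (1 : I).rev ≠ iL := fun e => by have := congrArg Fin.val e; omega
  have a6 : j ≠ 1 := fun e => by have := congrArg Fin.val e; omega
  have a7 : j ≠ (1 : I).rev := fun e => by have := congrArg Fin.val e; omega
  obtain ⟨ω, hω⟩ := ex_om (F := F)
  obtain ⟨γ1, g1⟩ := A 1 a1 a2 a3
  obtain ⟨γ2, g2⟩ := A (1 : I).rev a4 a5 (by rw [Fin.rev_rev]; exact a3.symm)
  obtain ⟨γ3, g3⟩ := lin h k hη (a := ee j + ee 1 + ω • ee (1 : I).rev) (w := ee j)
    ⟨by simp [ee, h0.symm, a1.symm, a4.symm], by simp [ee, hL.symm, a2.symm, a5.symm]⟩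
    (by
      simp only [bt_add_left, bt_smul_left, ee_bt, ← hj, Fin.rev_rev]
      simp [ee, a6, a7, a6.symm, a7.symm, a3, a3.symm]
      rw [add_assoc, add_comm _ ω, hω, CharTwo.add_self_eq_zero])
    (by simpa using mi_ee h0 hL (1 : F))
    (by rw [ee_bt, ← hj]; simp [ee, a6, a7])
  refine ⟨γ3 + γ1 + ω * γ2, fun l => ?_⟩
  have e : l • (ee j : V) = l • (ee j + ee 1 + ω • ee (1 : I).rev) + l • ee 1 + (l * ω) • ee (1 : I).rev := by
    rw [smul_add, smul_add, smul_smul, add_right_comm _ _ (l • ee 1), add_assoc (l • ee j), vv, add_zero,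
      add_assoc, vv, add_zero]
  rw [e, map_add, map_add]
  push_cast
  rw [g1, g2, g3]
  simp only [map_add, map_mul, mul_add]
  ring

theorem exQ (h : C2 ι t) {c : K0 F} {y : G} (k : D1 ι t c y) :
    ∃ d, Cn ι (QQ n F) d ∧ d * t * d⁻¹ = t * ι (zz c) := by
  obtain ⟨η, hp, hη⟩ := ex_eta h k
  have : ∀ j : I, ∃ γ : F, (j = 0 ∨ j = iL → γ = 0) ∧
      (¬ (j = 0 ∨ j = iL) → ∀ l : F, (η (l • ee j) : F) = l * γ + σ (l * γ)) := fun j => by
    by_cases e : j = 0 ∨ j = iL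
    · exact ⟨0, fun _ => rfl, fun k => (k e).elim⟩
    · obtain ⟨γ, g⟩ := lin_ee h k hη (not_or.1 e).1 (not_or.1 e).2
      exact ⟨γ, fun k => (e k).elim, fun _ => g⟩
  choose γ g0 g1 using this
  obtain ⟨v, hv, ev⟩ := cv_surj (show Mi (fun i => σ (γ i.rev) : V) from
    ⟨by simp only [rev0]; rw [g0 _ (.inr rfl), map_zero], by
      simp only [← rev0, Fin.rev_rev]; rw [g0 _ (.inl rfl), map_zero]⟩)
  have key : ∀ w : V, Mi w → (η w : F) = bt w (cv v) + σ (bt w (cv v)) := fun w hw => by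
    have e : w = ∑ j, w j • (ee j : V) := by
      ext i; simp [ee, Finset.sum_apply, Pi.single_apply]
    conv_lhs => rw [e, map_sum]
    rw [ev, bt, map_sum, ← Finset.sum_add_distrib]
    push_cast
    refine Finset.sum_congr rfl fun j _ => ?_
    rw [sg_sg, Fin.rev_rev]
    by_cases e : j = 0 ∨ j = iL
    · have : w j = 0 := by
        rcases e with rfl | rfl
        exacts [hw.1, hw.2]
      simp [this]
    · exact g1 j e _
  refine ⟨(ι v)⁻¹ * y, fun x hx => ?_, ?_⟩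
  · obtain ⟨b, e1, e2⟩ := cjQ hv hx
    have : b = η (cv x) := Subtype.ext (by rw [e1, key _ (cv_mi x), bt_symm (cv x) (cv v), sg_sg, add_comm])
    have e3 := hη x hx
    rw [← this, ← map_mul, ← e2, map_mul, map_mul, map_inv] at e3
    calc _ = (ι v)⁻¹ * (y * ι x * y⁻¹) * y := by group
      _ = _ := by rw [e3]; group
  · calc _ = (ι v)⁻¹ * (y * t * y⁻¹) * ι v := by group
      _ = (ι v)⁻¹ * t * ι (zz c * v) := by rw [k.2.2, map_mul]; group
      _ = (ι v)⁻¹ * (t * ι v) * ι (zz c) := by rw [← zc hv, map_mul]; group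
      _ = _ := by rw [h.tc, inv_mul_cancel_left]

theorem dP (h : C2 ι t) {c : K0 F} {d : G} (k : Cn ι (QQ n F) d) (e : d * t * d⁻¹ = t * ι (zz c)) :
    Cn ι (PP n F) d := by
  have dz : d * ι (zz c) = ι (zz c) * d := k _ (ZZ_le_QQ (zZ c))
  have e' : d * (t * ι (zz c)) * d⁻¹ = t := by
    calc _ = d * t * d⁻¹ * (d * ι (zz c)) * d⁻¹ := by group
      _ = _ := by rw [e, dz, mul_assoc t, ← mul_assoc (ι _), ← map_mul, zm, k0_add, z0, map_one]; group
  have ct : ∀ p ∈ PP n F, d * ι p * d⁻¹ * t = t * (d * ι p * d⁻¹) := fun p hp => by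
    calc _ = d * ι p * d⁻¹ * (d * (t * ι (zz c)) * d⁻¹) := by rw [e']
      _ = d * (ι p * t * ι (zz c)) * d⁻¹ := by group
      _ = d * (t * ι (zz c) * ι p) * d⁻¹ := by rw [← h.tc, mul_assoc t, ← map_mul, PP_cen hp, map_mul, mul_assoc t]
      _ = d * (t * ι (zz c)) * d⁻¹ * (d * ι p * d⁻¹) := by group
      _ = _ := by rw [e']
  have le : (PP n F).map (cι ι d) ≤ ι.range := h.perf (by rw [← map_commutator, PP_pf]) (by
    rintro _ ⟨p, hp, rfl⟩
    exact ct p hp)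
  have ex : ∀ p ∈ PP n F, ∃ a, ∃ k ∈ 𝐂(ι.range), k ∈ ι.range ∧ d * ι p * d⁻¹ = k * ι (zz a * p) := fun p hp => by
    have m : d * ι p * d⁻¹ * (ι p)⁻¹ ∈ ι.range := mul_mem (le ⟨p, hp, rfl⟩) (inv_mem ⟨p, rfl⟩)
    obtain ⟨a, u, hu, e⟩ := cQ h.em (le_normalizer m) (fun x hx => by
      have h1 := k _ ((mem_normalizer_iff.1 (inv_mem (PP_nQ hp)) x).1 hx)
      have h2 := k x hx
      simp only [map_mul, map_inv, inv_inv] at h1
      calc _ = d * ι p * (d⁻¹ * ((ι p)⁻¹ * ι x * ι p * d)) * d⁻¹ * (ι p)⁻¹ := by group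
        _ = d * ι x * ι p * d⁻¹ * (ι p)⁻¹ := by rw [← h1]; group
        _ = _ := by rw [h2]; group)
    refine ⟨a, u, hu, (mul_mem_cancel_right (show ι (zz a) ∈ ι.range from ⟨zz a, rfl⟩)).1 (e ▸ m), ?_⟩
    rw [map_mul, ← mul_assoc, ← e, inv_mul_cancel_right]
  intro p hp
  rw [← PP_pf] at hp
  have : ⁅PP n F, PP n F⁆ ≤ (centralizer {d}).comap ι := commutator_le.2 fun a ha b hb => by
    obtain ⟨x, u, hu, mu, e1⟩ := ex a ha
    obtain ⟨x', u', hu', mu', e2⟩ := ex b hb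
    refine mem_centralizer_singleton_iff.2 (mul_inv_eq_iff_eq_mul.1 ?_).symm
    have c1 : ∀ s, u * ι s = ι s * u := fun s => (hu _ ⟨s, rfl⟩).symm
    have c2 : ∀ s, u' * ι s = ι s * u' := fun s => (hu' _ ⟨s, rfl⟩).symm
    have c3 : u * u' = u' * u := (hu _ mu').symm
    have c4 : ⁅zz x * a, zz x' * b⁆ = ⁅a, b⁆ := by
      have zq : ∀ y : K0 F, (zz y : X) ∈ PP n F := fun y => QQ_le (ZZ_le_QQ (zZ y))
      calc _ = zz x * (a * zz x') * b * a⁻¹ * ((zz x)⁻¹ * b⁻¹) * (zz x')⁻¹ := by rw [commutatorElement_def]; group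
        _ = zz x * zz x' * (a * b * a⁻¹ * b⁻¹) * (zz x' * zz x)⁻¹ := by
          rw [PP_cen ha, ← mul_inv_rev b, PP_cen hb]; group
        _ = _ := by
          rw [zm, zm, add_comm x', ← PP_cen (mul_mem (mul_mem (mul_mem ha hb) (inv_mem ha)) (inv_mem hb)),
            mul_inv_cancel_right, commutatorElement_def]
    calc d * ι ⁅a, b⁆ * d⁻¹ = ⁅d * ι a * d⁻¹, d * ι b * d⁻¹⁆ := by
          simp only [commutatorElement_def, map_mul, map_inv]; group
      _ = u * (ι (zz x * a) * u') * ι (zz x' * b) * (u * ι (zz x * a))⁻¹ * (u' * ι (zz x' * b))⁻¹ := by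
          rw [e1, e2, commutatorElement_def]; group
      _ = u * u' * ι (zz x * a * (zz x' * b)) * (u' * ι (zz x' * b) * u * ι (zz x * a))⁻¹ := by
          rw [← c2, map_mul (f := ι) (zz x * a)]; group
      _ = u * u' * ι ⁅zz x * a, zz x' * b⁆ * (u * u')⁻¹ := by
          rw [mul_assoc u' (ι _) u, ← c1, ← mul_assoc u', ← c3]
          simp only [commutatorElement_def, map_mul ι (zz x * a * (zz x' * b) * _), map_mul ι (zz x * a * (zz x' * b)),
            map_inv]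
          group
      _ = _ := by rw [c4, mul_assoc u, c2, ← mul_assoc u, c1]; group
  exact (mem_centralizer_singleton_iff.1 (this hp)).symm

theorem s6c (h : C2 ι t) {c : K0 F} {y : G} (k : D1 ι t c y) : ∃ d, D0 ι t (ee 0) c d :=
  let ⟨d, h1, h2⟩ := exQ h k
  ⟨d, dP h h1 h2, h2⟩

end H91

end UMS
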