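import Cfsg.Agent.Lib.UMS.Defs2
import Cfsg.Agent.Lib.UMS.B3b
import Cfsg.Agent.Lib.UMS.Au62
import Cfsg.Agent.Lib.UMS.S6C91

set_option autoImplicit false
set_option linter.unusedSectionVars false

namespace UMS.H65

open Subgroup H69 Cfsg Matrix U4S
open LMS (XX GX iL kk MM au tw Sg)
open scoped MatrixGroups commutatorElement

universe u
variable {G : Type*} [Group G] [Finite G] {F : Type u} [Field F] [CharP F 2] [Fintype F] [Hs F] {n : ℕ} [Ok n F]
  {ι : XU n F →* G} {g : G}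

local notation "X" => XU n F
local notation "V" => VV n F
local notation "𝐪" => Nat.card (K0 F)

theorem k01 (h2 : 𝐪 = 2) (c : K0 F) : c = 0 ∨ c = 1 := by
  obtain ⟨y, -, hy⟩ := (Nat.card_eq_two_iff' (0 : K0 F)).1 h2
  by_cases h : c = 0
  · exact Or.inl h
  · exact Or.inr ((hy c h).trans (hy 1 one_ne_zero).symm)

theorem fun_tr (h2 : 𝐪 = 2) (η : V → K0 F) (add : ∀ u v, η (u + v) = η u + η v) :
    ∃ y : V, ∀ w, (η w : F) = bt w y + σ (bt w y) := by
  obtain ⟨ω, hω⟩ := ex_om (F := F)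
  have two := CharTwo.two_eq_zero (R := F)
  let θ : V →+ K0 F := AddMonoidHom.mk' η add
  let γ : Fin (n + 3) → F := fun j => ((η (ω • ee j) : F) + η (ee j)) + η (ee j) * ω
  have key : ∀ j (a : F), (θ (a • ee j) : F) = a * γ j + σ (a * γ j) := fun j a => by
    obtain ⟨x, y, rfl⟩ := dec_om hω a
    have s1 : σ (η (ω • ee j) : F) = η (ω • ee j) := (η (ω • ee j)).2
    have s2 : σ (η (ee j) : F) = η (ee j) := (η (ee j)).2
    have so : σ ω = 1 + ω := by linear_combination hω - ω * two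
    have e1 : (θ (ee j) : F) = γ j + σ (γ j) := by
      show (η (ee j) : F) = _
      simp only [γ, map_add, map_mul, s1, s2, so]
      linear_combination (-(η (ω • ee j) : F) - η (ee j) - η (ee j) * ω) * two
    have e2 : (θ (ω • ee j) : F) = ω * γ j + σ (ω * γ j) := by
      show (η (ω • ee j) : F) = _
      simp only [γ, map_add, map_mul, s1, s2, so]
      linear_combination (-ω * (η (ω • ee j) : F) - η (ee j) - 2 * η (ee j) * ω - η (ee j) * ω ^ 2) * two
    rcases k01 h2 x with rfl | rfl <;> rcases k01 h2 y with rfl | rfl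
    · simp
    · simpa using e2
    · simpa using e1
    · simp only [OneMemClass.coe_one, one_mul, add_smul, one_smul, map_add, add_mul, AddMemClass.coe_add]
      rw [e1, e2]; ring
  refine ⟨fun i => σ (γ i.rev), fun w => ?_⟩
  have e : w = ∑ j, w j • (ee j : V) := by
    ext i; simp [ee, Finset.sum_apply, Pi.single_apply]
  have e' : bt w (fun i => σ (γ i.rev)) = ∑ j, w j * γ j := by
    simp only [bt, sg_sg, Fin.rev_rev]
  rw [e', map_sum, ← Finset.sum_add_distrib]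
  show ((θ w : K0 F) : F) = _
  conv_lhs => rw [e, map_sum]
  push_cast
  exact Finset.sum_congr rfl fun j _ => key j (w j)

theorem ne0L : (0 : Fin (n + 3)) ≠ iL := by
  intro h; have := congrArg Fin.val h; simp at this

theorem revL : (iL : Fin (n + 3)).rev = 0 := by rw [← H91.rev0, Fin.rev_rev]

theorem dec (v : V) : v = v 0 • ee 0 + v iL • ee iL + H91.pm v := by
  ext j
  simp only [ee, H91.pm, Pi.add_apply, Pi.smul_apply, Pi.single_apply, smul_eq_mul]
  by_cases h0 : j = 0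
  · subst h0; simp [ne0L]
  · by_cases hL : j = iL
    · subst hL; simp [h0]
    · simp [h0, hL]

theorem bt3 (a b a' b' : F) {w w' : V} (h : Mi w) (h' : Mi w') :
    bt (a • ee 0 + b • ee iL + w) (a' • ee 0 + b' • ee iL + w') = a * σ b' + b * σ a' + bt w w' := by
  have z1 : (ee 0 : V) iL = 0 := by simp [ee, ne0L.symm]
  have z2 : (ee iL : V) 0 = 0 := by simp [ee, ne0L]
  have z3 : (ee 0 : V) 0 = 1 := by simp [ee]
  have z4 : (ee iL : V) iL = 1 := by simp [ee]
  simp only [bt_add_left, bt_add_right, bt_smul_left, bt_smul_right, bt_ee, H91.rev0, revL, Pi.add_apply, Pi.smul_apply,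
    smul_eq_mul, z1, z2, z3, z4, h.1, h.2]
  rw [ee_bt, ee_bt, H91.rev0, revL, h'.1, h'.2]
  simp
  ring

theorem mi_ext {w w' : V} (h : Mi w) (h' : Mi w') (k : ∀ v : V, v iL = 0 → bt v w = bt v w') : w = w' := by
  ext j
  by_cases h0 : j = 0
  · rw [h0, h.1, h'.1]
  · have := k (ee j.rev) (by
      have : j.rev ≠ iL := fun e => h0 (by rw [← Fin.rev_rev j, e, revL])
      simp [ee, this.symm])
    rw [ee_bt, ee_bt, Fin.rev_rev] at this
    exact (σ : RingAut F).injective this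

theorem exS {δ : V → V} {φ : RingAut F} (d : Dl ι g δ φ) : ∃ (α : X ≃* X) (s : V → V),
    (∀ u v, s (u + v) = s u + s v) ∧ (∀ (a : F) v, s (a • v) = φ a • s v) ∧ (∀ u v, bt (s u) (s v) = φ (bt u v)) ∧
    Function.Bijective s ∧ s (ee 0) = ee 0 ∧ (∀ w, Mi w → s w = δ w) ∧ ∀ x v, ac (α x) (s v) = s (ac x v) := by
  let s : V → V := fun v => φ (v 0) • ee 0 + φ (v iL) • ee iL + δ (H91.pm v)
  have pms : ∀ (a : F) (v : V), H91.pm (a • v) = a • H91.pm v := fun a v => by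
    ext j; simp only [H91.pm, Pi.smul_apply, smul_eq_mul]; split_ifs <;> simp
  have sa : ∀ u v, s (u + v) = s u + s v := fun u v => by
    simp only [s, Pi.add_apply, map_add, add_smul, H91.pm_add, d.add _ _ (H91.pm_mi u) (H91.pm_mi v)]; abel
  have ss : ∀ (a : F) v, s (a • v) = φ a • s v := fun a v => by
    simp only [s, Pi.smul_apply, smul_eq_mul, map_mul, pms, d.smul a _ (H91.pm_mi v), smul_add, mul_smul]
  have sb : ∀ u v, bt (s u) (s v) = φ (bt u v) := fun u v => by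
    conv_rhs => rw [dec u, dec v, bt3 _ _ _ _ (H91.pm_mi u) (H91.pm_mi v)]
    simp only [s]
    rw [bt3 _ _ _ _ (d.mi _ (H91.pm_mi u)) (d.mi _ (H91.pm_mi v)), d.iso _ _ (H91.pm_mi u) (H91.pm_mi v)]
    simp only [map_add, map_mul, H62.σ_comm]
  have d0 : δ 0 = 0 := by
    have := d.smul 0 0 ⟨rfl, rfl⟩
    simpa using this
  have s0 : s (ee 0) = ee 0 := by
    have : H91.pm (ee 0 : V) = 0 := by
      ext j; simp only [H91.pm, ee, Pi.single_apply, Pi.zero_apply]; split_ifs <;> simp_all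
    simp only [s, this, d0]
    simp [ee, ne0L.symm]
  have sm : ∀ w, Mi w → s w = δ w := fun w hw => by simp only [s, hw.1, hw.2, H91.pm_of hw]; simp
  clear_value s
  let L : V →ₗ[F] V :=
    { toFun := fun v => s fun i => φ.symm (v i)
      map_add' := fun u v => by
        have := sa (fun i => φ.symm (u i)) fun i => φ.symm (v i)
        refine Eq.trans (congrArg s ?_) this
        ext i; simp
      map_smul' := fun a v => by
        have := ss (φ.symm a) fun i => φ.symm (v i)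
        rw [RingEquiv.apply_symm_apply] at this
        refine Eq.trans (congrArg s ?_) this
        ext i; simp }
  let M := LinearMap.toMatrix' L
  have hM : ∀ v : V, M *ᵥ (fun i => φ (v i)) = s v := fun v => by
    rw [LinearMap.toMatrix'_mulVec]
    show s _ = s v
    congr 1; ext i; simp
  have bφ : ∀ u v : V, bt (fun i => φ (u i)) (fun i => φ (v i)) = φ (bt u v) := fun u v => by
    simp only [bt, map_sum, map_mul, H62.σ_comm]
  have sj : ∀ v : V, ∃ u : V, v = fun i => φ (u i) := fun v => ⟨fun i => φ.symm (v i), by ext i; simp⟩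
  have iM : H12.ad M * M = 1 := H12.iso_ad fun u v => by
    obtain ⟨u, rfl⟩ := sj u
    obtain ⟨v, rfl⟩ := sj v
    rw [hM, hM, sb, bφ]
  let C : GX n F := ⟨M, H12.ad M, mul_eq_one_comm.1 iM, iM⟩
  let C' : H62.GI F n := ⟨C, iM⟩
  let α0 : X →* X := (H62.giH C').toMonoidHom.comp (H62.frU φ)
  have bij : Function.Bijective α0 := H62.Au.inj (H62.Au.comp (H62.au_giH C') (H62.au_frU φ))
  refine ⟨MulEquiv.ofBijective α0 bij, s, sa, ss, sb, ?_, s0, sm, fun x v => ?_⟩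
  · refine Finite.injective_iff_bijective.1 fun u v e => ?_
    have : s (u + v) = 0 := by rw [sa, e, H91.vv]
    have z : u + v = 0 := bt_nd fun y => φ.injective (by rw [← sb, this, ← zero_smul F (0 : V), bt_smul_right]; simp)
    rw [← add_zero u, ← H91.vv v, ← add_assoc, z, zero_add]
  · have e : (α0 x).1.1 = M * x.1.1.map φ * H12.ad M := by
      show (gc C (fr φ x.1)).1 = _
      rw [gc_val]; rfl
    show (α0 x).1.1 *ᵥ s v = s (x.1.1 *ᵥ v)
    rw [e, ← hM, ← hM, mulVec_mulVec, mul_assoc, iM, mul_one, ← mulVec_mulVec]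
    congr 1
    ext i
    exact (RingHom.map_mulVec (φ : F →+* F) x.1.1 v i).symm

theorem exA {δ : V → V} {φ : RingAut F} (d : Dl ι g δ φ) : ∃ α : X ≃* X, (∀ y, α y ∈ PP n F ↔ y ∈ PP n F) ∧
    (∀ a, α (zz a) = zz a) ∧ (∀ y, α y ∈ QQ n F ↔ y ∈ QQ n F) ∧ ∀ x ∈ QQ n F, cv (α x) = δ (cv x) := by
  obtain ⟨α, s, sa, ss, sb, bij, s0, sm, k⟩ := exS d
  have sL : ∀ u : V, s u iL = φ (u iL) := fun u => by
    have := sb u (ee 0)
    rwa [s0, bt_ee, bt_ee, H91.rev0] at this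
  have q1 : ∀ x ∈ QQ n F, ∀ v : V, v iL = 0 → ac (α x) v = v + bt v (δ (cv x)) • ee 0 := fun x hx v hv => by
    obtain ⟨u, rfl⟩ := bij.2 v
    rw [sL, map_eq_zero] at hv
    rw [k, ac_QQ hx hv, sa, ss, s0, ← sb, sm _ (cv_mi x)]
  have q2 : ∀ x ∈ QQ n F, α x ∈ QQ n F := fun x hx => QQ_iff.2 fun v hv => ⟨_, q1 x hx v hv, fun e => by
    rw [e, ee_bt, H91.rev0, (d.mi _ (cv_mi x)).2, map_zero]⟩
  refine ⟨α, fun y => ?_, fun a => ac_ext fun v => ?_, fun y => ⟨fun h => ?_, q2 y⟩, fun x hx => ?_⟩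
  · rw [mem_PP, mem_PP]
    conv_lhs => rw [← s0, k]
    exact bij.1.eq_iff
  · obtain ⟨u, rfl⟩ := bij.2 v
    have pa : φ (a : F) = a := by
      rcases d.ph with e | e
      · rw [e]; rfl
      · rw [e]; exact a.2
    rw [k, zz, ac_tc H91.is0.1, ac_tc H91.is0.1, sa, ss, s0, map_mul, pa, ← sb, s0]
  · have e : (QQ n F).map α.toMonoidHom = QQ n F :=
      eq_of_le_of_card_ge (by rintro _ ⟨x, hx, rfl⟩; exact q2 x hx) (card_map_of_injective α.injective).ge
    rw [← e] at h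
    obtain ⟨x, hx, e'⟩ := h
    exact α.injective e' ▸ hx
  · refine mi_ext (cv_mi _) (d.mi _ (cv_mi x)) fun v hv => ?_
    have := (ac_QQ (q2 x hx) hv).symm.trans (q1 x hx v hv)
    have e := congrFun (add_left_cancel this) 0
    simpa [ee] using e

theorem cvz {x y : X} (hx : x ∈ QQ n F) (hy : y ∈ QQ n F) (e : cv x = cv y) : ∃ a, y = x * zz a := by
  have c1 : cv (1 : X) = 0 := (cv_ker (one_mem _)).2 (one_mem _)
  have h1 := cv_mul (inv_mem hx) hx
  have h2 := cv_mul (inv_mem hx) hy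
  rw [← e, ← h1, inv_mul_cancel, c1, cv_ker (mul_mem (inv_mem hx) hy), mem_ZZ] at h2
  obtain ⟨a, ha⟩ := h2
  exact ⟨a, by rw [← ha]; group⟩

theorem ofDl (e : Em ι) (h2 : 𝐪 = 2) (z : Nz ι g) {δ : V → V} {φ : RingAut F} (d : Dl ι g δ φ) :
    ∃ x, ∃ α : X ≃* X, (∀ y, α y ∈ PP n F ↔ y ∈ PP n F) ∧ (∀ a, α (zz a) = zz a) ∧
      ∀ p ∈ PP n F, g * ι x * ι p * (g * ι x)⁻¹ = ι (α p) := by
  obtain ⟨α, aP, aZ, aQ, ac'⟩ := exA d
  have gz : ∀ a, g * ι (zz a) * g⁻¹ = ι (zz a) := fun a => by rw [z.cZ _ (H91.zZ a)]; group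
  have ex : ∀ x ∈ QQ n F, ∃ c, g * ι x * g⁻¹ = ι (α x * zz c) := fun x hx => by
    obtain ⟨x', h', e1, e2⟩ := d.act x hx
    obtain ⟨c, rfl⟩ := cvz ((aQ x).2 hx) h' ((ac' x hx).trans e2.symm)
    exact ⟨c, e1⟩
  choose sec hs1 hs2 using fun w : V => cv_surj (H91.pm_mi w)
  choose η hη using fun w : V => ex _ (hs1 w)
  have all : ∀ x ∈ QQ n F, ∀ w, cv x = H91.pm w → g * ι x * g⁻¹ = ι (α x * zz (η w)) := fun x hx w hw => by
    obtain ⟨a, rfl⟩ := cvz (hs1 w) hx ((hs2 w).trans hw.symm)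
    rw [map_mul, ← conj_mul, hη, gz, ← map_mul, map_mul α, aZ, mul_assoc, mul_assoc, H91.zm, H91.zm, add_comm a]
  have add : ∀ u v, η (u + v) = η u + η v := fun u v => by
    have h1 := all _ (mul_mem (hs1 u) (hs1 v)) (u + v) (by rw [cv_mul (hs1 u) (hs1 v), hs2, hs2, H91.pm_add])
    rw [map_mul, ← conj_mul, hη, hη, ← map_mul, mul_assoc, ← mul_assoc (zz _), ← H91.zc ((aQ _).2 (hs1 v)), mul_assoc,
      H91.zm, ← mul_assoc, ← map_mul α, map_mul ι, map_mul ι, mul_right_inj] at h1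
    exact (H91.uniq e h1).symm
  obtain ⟨y, hy⟩ := fun_tr h2 η add
  have onQ : ∀ x ∈ QQ n F, g * ι (sec y) * ι x * (g * ι (sec y))⁻¹ = ι (α x) := fun x hx => by
    obtain ⟨c, hc, k⟩ := H91.cjQ (hs1 y) hx
    have e1 : bt (cv x) y = bt (cv x) (H91.pm y) := by
      conv_lhs => rw [dec y]
      simp only [bt_add_right, bt_smul_right, bt_ee, H91.rev0, revL, (cv_mi x).1, (cv_mi x).2, mul_zero, zero_add]
    have e2 : c = η (cv x) := Subtype.ext (by rw [hc, hy, e1, hs2, bt_symm (cv x), sg_sg, add_comm])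
    calc _ = g * ι (sec y * x * (sec y)⁻¹) * g⁻¹ := by simp only [map_mul, map_inv]; group
      _ = _ := by
        rw [k, map_mul, ← conj_mul, all x hx (cv x) (H91.pm_of (cv_mi x)).symm, gz, ← map_mul, mul_assoc, H91.zm, e2,
          k0_add, H91.z0, mul_one]
  refine ⟨sec y, α, aP, aZ, ?_⟩
  set g' := g * ι (sec y) with hg'
  have nP : g' ∈ 𝐍((PP n F).map ι) := mul_mem z.nP (le_normalizer ⟨_, QQ_le (hs1 y), rfl⟩)
  have onP : ∀ p ∈ PP n F, ∃ c, g' * ι p * g'⁻¹ = ι (α p * zz c) := fun p hp => by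
    obtain ⟨p', hp', e1⟩ := (mem_normalizer_iff.1 nP _).1 (⟨p, hp, rfl⟩ : ι p ∈ (PP n F).map ι)
    have cn : Cn ι (QQ n F) (ι ((α p)⁻¹ * p')) := fun x hx => by
      obtain ⟨x, rfl⟩ := α.surjective x
      have hx' := (aQ x).1 hx
      have h1 := onQ _ ((mem_normalizer_iff.1 (PP_nQ hp) _).1 hx')
      have h3 := onQ _ hx'
      simp only [map_mul, map_inv] at h1 ⊢
      rw [e1, ← h3]
      calc _ = (ι (α p))⁻¹ * (g' * (ι p * ι x * (ι p)⁻¹) * g'⁻¹) * (g' * ι p * g'⁻¹) := by group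
        _ = _ := by rw [h1, ← h3]; group
    obtain ⟨c, k, hk, e2⟩ := cQ e (le_normalizer ⟨_, rfl⟩) cn
    have e3 : k = ι ((α p)⁻¹ * p' * (zz c)⁻¹) := by rw [map_mul, e2, map_inv]; group
    have e4 := PP_cc (mul_mem (mul_mem (inv_mem ((aP p).2 hp)) hp') (inv_mem (QQ_le (ZZ_le_QQ (H91.zZ c)))))
      (e.cen.1 (e3 ▸ hk))
    refine ⟨c, ?_⟩
    rw [← e1]
    congr 1
    calc p' = α p * ((α p)⁻¹ * p' * (zz c)⁻¹) * zz c := by group
      _ = _ := by rw [e4, mul_one]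
  let K : Subgroup X := ((MulAut.conj g').toMonoidHom.comp ι).eqLocus (ι.comp α.toMonoidHom)
  have le : ⁅PP n F, PP n F⁆ ≤ K := by
    rw [Subgroup.commutator_le]
    intro a ha b hb
    obtain ⟨c, hc⟩ := onP a ha
    obtain ⟨c', hc'⟩ := onP b hb
    show g' * ι ⁅a, b⁆ * g'⁻¹ = ι (α ⁅a, b⁆)
    have e1 : g' * ι ⁅a, b⁆ * g'⁻¹ = ⁅g' * ι a * g'⁻¹, g' * ι b * g'⁻¹⁆ := by
      simp only [commutatorElement_def, map_mul, map_inv]; group
    rw [e1, hc, hc', ← map_commutatorElement, map_commutatorElement α]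
    congr 1
    have A := (aP a).2 ha
    have B := (aP b).2 hb
    have c1 := PP_cen (mul_mem B (QQ_le (ZZ_le_QQ (H91.zZ c')))) c
    have c2 := PP_cen (inv_mem A) c'
    simp only [commutatorElement_def]
    calc _ = α a * (zz c * (α b * zz c')) * (zz c)⁻¹ * (α a)⁻¹ * (zz c')⁻¹ * (α b)⁻¹ := by group
      _ = α a * α b * (zz c' * (α a)⁻¹) * (zz c')⁻¹ * (α b)⁻¹ := by rw [← c1]; group
      _ = _ := by rw [← c2]; group
  intro p hp
  exact le (PP_pf.ge hp)

end UMS.H65
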