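import Cfsg.Agent.Lib.UMS.Iso77
import Cfsg.Agent.Lib.UMS.HX
import Cfsg.Agent.Lib.LMS.B5b
import Cfsg.Agent.Lib.AutCl.ClSU

/-! Automorphisms of `XU` modulo the centre, the fixed field, transitivity on isotropic vectors. -/

set_option autoImplicit false
set_option linter.unusedSectionVars false

namespace UMS.H62

open Subgroup H69 Cfsg Matrix U4S H12
open LMS (XX GX iL kk MM au tw Sg)
open scoped MatrixGroups commutatorElement

universe u
variable {F : Type u} [Field F] [CharP F 2] [Fintype F] [Hs F] {n : ℕ} [Ok n F]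

theorem card_F : Fintype.card F = Nat.card (K0 F) ^ 2 := by
  obtain ⟨w, hw⟩ := ex_tr (F := F)
  have two := CharTwo.two_eq_zero (R := F)
  let e : F ≃ K0 F × K0 F :=
    { toFun := fun a => (⟨a + σ a, by rw [mem_K0, map_add, ss, add_comm]⟩,
        ⟨a * σ w + σ a * w, by rw [mem_K0, map_add, map_mul, map_mul, ss, ss, add_comm]⟩)
      invFun := fun p => p.1 * w + p.2
      left_inv := fun a => by
        change (a + σ a) * w + (a * σ w + σ a * w) = a
        linear_combination a * hw + (σ a * w) * two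
      right_inv := fun p => by
        have h1 : σ (p.1 : F) = p.1 := p.1.2
        have h2 : σ (p.2 : F) = p.2 := p.2.2
        refine Prod.ext (Subtype.ext ?_) (Subtype.ext ?_)
        · change p.1 * w + p.2 + σ (p.1 * w + p.2 : F) = p.1
          rw [map_add, map_mul, h1, h2]
          linear_combination p.1 * hw + (p.2 : F) * two
        · change (p.1 * w + p.2) * σ w + σ (p.1 * w + p.2 : F) * w = p.2
          rw [map_add, map_mul, h1, h2]
          linear_combination p.2 * hw + (p.1 * w * σ w : F) * two }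
  rw [← Nat.card_eq_fintype_card, Nat.card_congr e, Nat.card_prod, sq]

theorem pf_XU : commutator (XU n F) = ⊤ := pf_XU77 card_F

theorem psu (β : MulAut (XU n F ⧸ center (XU n F))) : ∃ (α : XU n F →* XU n F) (φ : RingAut F), Au α φ ∧
    ∀ M : XU n F, β (QuotientGroup.mk M) = QuotientGroup.mk (α M) := by
  have : H11.U.IsSq F (Nat.card (K0 F)) := ⟨card_F⟩
  have h3 := Ok.h3 (n := n) (F := F)
  obtain ⟨C, e, he⟩ := iso_su (n := n) (card_F (F := F))
  have ce : ∀ x, e x ∈ center _ ↔ x ∈ center _ := fun x => by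
    simp only [mem_center_iff]
    exact ⟨fun h y => e.injective (by rw [map_mul, map_mul, h]), fun h y => by
      obtain ⟨y, rfl⟩ := e.surjective y
      rw [← map_mul, ← map_mul, h]⟩
  let E := QuotientGroup.congr (center (XU n F)) (center (SU (n + 3) F (Nat.card (K0 F)))) e (by
    ext y
    obtain ⟨y, rfl⟩ := e.surjective y
    exact (mem_map_iff_mem e.injective).trans (ce y).symm)
  obtain ⟨g, φ, hβ⟩ := H67.psu_aut (by omega) (by omega) (E.symm.trans (β.trans E))
  have k := (H67.isInducedBySemilinearPSU_iff g φ _).2 hβ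
  let γ : SU (n + 3) F (Nat.card (K0 F)) →* SU (n + 3) F (Nat.card (K0 F)) :=
    ((au g.1 φ false).comp (Subgroup.subtype _)).codRestrict _ fun s =>
      H67.semi_mem_GU φ g.2 (g := Matrix.SpecialLinearGroup.toGL s.1) s.2
  obtain ⟨C', hC⟩ := LMS.B5.fr_gc φ C
  refine ⟨e.symm.toMonoidHom.comp (γ.comp e.toMonoidHom), φ, ⟨C⁻¹ * g.1 * C', fun x => (gc C).injective ?_⟩, fun M => E.injective ?_⟩
  · rw [← he]
    change (e (e.symm (γ (e x)))).1 = _
    rw [e.apply_symm_apply, LMS.au_false, ← gc_mul, ← mul_assoc, mul_inv_cancel_left, gc_mul, ← hC, ← he]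
    rfl
  · have := k (e M) (γ (e M)) rfl
    change E (β (E.symm (E (QuotientGroup.mk M)))) = _ at this
    rw [E.symm_apply_apply] at this
    rw [this]
    change _ = QuotientGroup.mk (e (e.symm (γ (e M))))
    rw [e.apply_symm_apply]

theorem normal_XU (N : Subgroup (XU n F)) [N.Normal] : N ≤ center _ ∨ N = ⊤ := by
  have : H11.U.IsSq F (Nat.card (K0 F)) := ⟨card_F⟩
  have h3 := Ok.h3 (n := n) (F := F)
  obtain ⟨C, e, -⟩ := iso_su (n := n) (card_F (F := F))
  have := Subgroup.Normal.map ‹N.Normal› e.toMonoidHom e.surjective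
  refine (H11.U.normal_le_center_or (by omega) (by omega) (N.map e.toMonoidHom)).imp (fun k x hx => ?_) fun k => ?_
  · have := mem_center_iff.1 (k ⟨x, hx, rfl⟩)
    exact mem_center_iff.2 fun y => e.injective (by rw [map_mul, map_mul]; exact this _)
  · rw [H11.U.commutator_SU_eq_top (by omega) (by omega)] at k
    exact eq_top_iff.2 fun x _ => (mem_map_iff_mem e.injective).1 (k (mem_top (e x)))

theorem au_id : Au (MonoidHom.id (XU n F)) 1 := ⟨1, fun x => by rw [LMS.au_false, gc_one]; rfl⟩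

theorem aut_psu {Γ : Type*} [Group Γ] {f : XU n F →* Γ} (e : Em f) (β : XU n F → XU n F)
    (h1 : ∀ x y, f (β (x * y)) = f (β x) * f (β y)) (h2 : ∀ y, ∃ x, f (β x) = f y) :
    ∃ α φ, Au α φ ∧ ∀ x, f (β x) = f (α x) := by
  let b : XU n F →* f.range := MonoidHom.mk' (fun x => ⟨f (β x), _, rfl⟩) fun x y => Subtype.ext (h1 x y)
  have sb : Function.Surjective b := by
    rintro ⟨_, y, rfl⟩
    obtain ⟨x, hx⟩ := h2 y
    exact ⟨x, Subtype.ext hx⟩
  rcases normal_XU b.ker with k | k
  · obtain ⟨β', hβ⟩ := LMS.B5b.lift pf_XU f.rangeRestrict b f.rangeRestrict_surjective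
      (by rw [MonoidHom.ker_rangeRestrict]; exact e) sb k
    obtain ⟨α, φ, a, h⟩ := psu β'
    exact ⟨α, φ, a, fun x => congrArg Subtype.val (hβ _ h x)⟩
  · have z : ∀ x, f (β x) = 1 := fun x => congrArg Subtype.val (show b x = 1 from (k ▸ mem_top x : x ∈ b.ker))
    refine ⟨_, 1, au_id, fun x => ?_⟩
    obtain ⟨y, hy⟩ := h2 x
    rw [MonoidHom.id_apply, ← hy, z, z]

/-- an element normalising the image induces a semilinear automorphism -/
theorem act {G : Type*} [Group G] {ι : XU n F →* G} (e : Em ι) {a : G} (h : a ∈ 𝐍(ι.range)) :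
    ∃ α φ, Act ι a α ∧ Au α φ := by
  have k : ∀ x, ∃ y, ι y = a * ι x * a⁻¹ := fun x => (mem_normalizer_iff.1 h _).1 ⟨x, rfl⟩
  choose β hβ using k
  obtain ⟨α, φ, h1, h2⟩ := aut_psu e β (fun x y => by rw [hβ, hβ, hβ, map_mul]; group) fun y => by
    obtain ⟨x, hx⟩ : a⁻¹ * ι y * a ∈ ι.range := (mem_normalizer_iff''.1 h _).1 ⟨y, rfl⟩
    exact ⟨x, by rw [hβ, hx]; group⟩
  exact ⟨α, φ, fun x => by rw [← hβ, h2], h1⟩

theorem nm_surj (c : K0 F) : ∃ a : F, nm a = c :=
  let ⟨b, h⟩ := LMS.norm_surj Hs.sg c.2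
  ⟨b, Subtype.ext h⟩

theorem Au.inj {α : XU n F →* XU n F} {φ : RingAut F} (h : Au α φ) : Function.Bijective α := by
  obtain ⟨g, h⟩ := h
  refine Finite.injective_iff_bijective.1 fun x y k => Subtype.ext ((LMS.au_bij g φ false).1 ?_)
  rw [← h, ← h, k]

theorem Au.comp {α β : XU n F →* XU n F} {φ φ' : RingAut F} (h : Au α φ) (k : Au β φ') : Au (α.comp β) (φ * φ') := by
  obtain ⟨g, h⟩ := h
  obtain ⟨g', k⟩ := k
  obtain ⟨g'', e⟩ := LMS.au_comp g g' φ φ' false false
  exact ⟨g'', fun x => by rw [MonoidHom.comp_apply, h, k]; exact DFunLike.congr_fun e x.1⟩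

theorem au_cn (u : XU n F) : Au (cn u) 1 := by
  obtain ⟨g, h⟩ := LMS.cn_au u.1
  exact ⟨g, fun x => DFunLike.congr_fun h x.1⟩

end UMS.H62
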