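import Cfsg.Agent.Lib.LMS.CE
import Cfsg.Agent.Lib.UMS.Au77
import Cfsg.Agent.Lib.UMS.Aut62
import Cfsg.Agent.Lib.UMS.H12b

/-! Automorphisms centralising the radical `Q`. -/

set_option autoImplicit false
set_option linter.unusedSectionVars false

namespace UMS.H94

open Subgroup H69 Cfsg Matrix U4S UMS.H12
open LMS (XX GX iL kk MM au tw Sg)
open LMS.CE (colz rowz diag_ne)

universe u
variable {G : Type*} [Group G] [Finite G] {F : Type u} [Field F] [CharP F 2] [Fintype F] [Hs F] {n : ℕ} [Ok n F]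
  {ι : XU n F →* G}

local notation "X" => XU n F
local notation "I" => Fin (n + 3)
local notation "Mx" => Matrix (Fin (n + 3)) (Fin (n + 3)) F
local notation "Nf(" v ", " b ")" => hm v (ee 0) + hm (ee 0) v + b • hm (ee 0 : VV n F) (ee 0)

theorem n0 : (0 : I) ≠ iL := Fin.last_pos.ne

theorem rL : (0 : I).rev = iL := Fin.rev_zero _

theorem rL' : (iL : I).rev = 0 := Fin.rev_last _

theorem memQ {x : X} : x ∈ QQ n F ↔ ∀ a b : I, (a ≠ 0 ∧ b ≠ iL) ∨ a = b → x.1.1 a b = (1 : Mx) a b :=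
  LMS.mem_QQ' n0

theorem p2Q {x : X} (h : x ∈ QQ n F) : P2 x :=
  let ⟨k, hk⟩ := P2.of_mem (LMS.isP_QQ n0) h; ⟨k, Subtype.ext hk⟩

theorem zz_xe (c : K0 F) : (zz c : X).1 = xe 0 iL (c : F) := Subtype.ext (by rw [zz_val, LMS.xe_val n0])

theorem zzQ (c : K0 F) : (zz c : X) ∈ QQ n F := by
  change (zz c : X).1 ∈ LMS.QQ F 0 iL
  exact zz_xe (n := n) c ▸ subset_closure ⟨iL, c, Or.inl rfl⟩

theorem inj2 (e : Em ι) {x y : X} (hx : P2 x) (hy : P2 y) (h : ι x = ι y) : x = y := by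
  have m : x * y⁻¹ ∈ center X := e (by rw [MonoidHom.mem_ker, map_mul, map_inv, h, mul_inv_cancel])
  have c : x * y⁻¹ = y⁻¹ * x := by
    have := mem_center_iff.1 m y
    rw [inv_mul_cancel_right] at this
    rw [eq_inv_mul_iff_mul_eq, this]
  obtain ⟨i, hi⟩ := hx
  obtain ⟨j, hj⟩ := hy
  refine mul_inv_eq_one.1 (H77.cen_two m ⟨i + j, ?_⟩)
  rw [(show Commute x y⁻¹ from c).mul_pow, inv_pow, pow_add, pow_mul, hi, pow_mul', hj, one_pow, one_pow, inv_one, mul_one]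

theorem comm2 (e : Em ι) {x y : X} (hx : P2 x) (h : ι x * ι y = ι y * ι x) : x * y = y * x :=
  (mul_inv_eq_iff_eq_mul.1 (inj2 e (hx.cjg y) hx (by
    rw [map_mul, map_mul, map_inv, ← h, mul_inv_cancel_right]))).symm

theorem b1 {v : VV n F} (h : Mi v) : bt v (ee 0) = 0 := by rw [bt_ee_r, rL, h.2]

theorem b2 {v : VV n F} (h : Mi v) : bt (ee 0) v = 0 := bt_sw (b1 h)

theorem b3 : bt (ee 0 : VV n F) (ee 0) = 0 := is0.1

theorem nf_mul {v w : VV n F} (hv : Mi v) (hw : Mi w) (b c : F) :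
    (Nf(v, b)) * (Nf(w, c)) = bt w v • hm (ee 0 : VV n F) (ee 0) := by
  simp [add_mul, mul_add, hm_mul, b1 hv, b2 hv, b1 hw, b2 hw, b3]

theorem nf_un {v : VV n F} (hv : Mi v) (b : F) :
    ad (1 + (Nf(v, b))) * (1 + (Nf(v, b))) = 1 + (b + σ b + bt v v) • hm (ee 0 : VV n F) (ee 0) := by
  have : ad (Nf(v, b)) = Nf(v, (σ b : F)) := by
    rw [ad_add, ad_add, ad_smul, ad_hm, ad_hm, ad_hm, add_comm (hm (ee 0) v)]
  rw [ad_add, ad_one, this, add_mul 1, one_mul, mul_add _ 1, mul_one, nf_mul hv hv, add_smul, add_smul]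
  have := mm (hm v (ee 0) + hm (ee 0) v)
  linear_combination (norm := abel) this

theorem nf_ent {v : VV n F} (b : F) (i j : I) : (Nf(v, b)) i j =
    (if j = iL then v i else 0) + (if i = 0 then σ (v j.rev) else 0) + if i = 0 ∧ j = iL then b else 0 := by
  have (j : I) : j.rev = 0 ↔ j = iL := by rw [← rL', Fin.rev_inj]
  simp only [Matrix.add_apply, Matrix.smul_apply, hm, vecMulVec_apply, ee, Pi.single_apply, this]
  split_ifs <;> simp_all

theorem mi_cv (x : X) : Mi (cv x) := ⟨if_pos (.inl rfl), if_pos (.inr rfl)⟩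

theorem exQ' {v : VV n F} (hv : Mi v) {b : F} (hb : b + σ b = bt v v) : ∃ x ∈ QQ n F, x.1.1 = 1 + (Nf(v, b)) := by
  have e : (1 + (Nf(v, b)) : Mx) = (1 + hm (ee 0) v) * (1 + hm (v + (b + bt v v) • ee 0) (ee 0)) := by
    have := mm (bt v v • hm (ee 0 : VV n F) (ee 0))
    simp only [add_mul, mul_add, one_mul, mul_one, hm_mul, hm_add_l, hm_smul_l, Matrix.mul_smul, b2 hv, add_smul,
      zero_smul, smul_zero]
    linear_combination (norm := abel) -this
  have k : (mk (1 + (Nf(v, b))) : X).1.1 = _ := mk_val (by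
    rw [e, det_mul, det_hm, det_hm, b2 hv, bt_add_l, bt_smul_l, b1 hv, b3]; ring)
    (by rw [nf_un hv, hb, CharTwo.add_self_eq_zero, zero_smul, add_zero])
  refine ⟨_, memQ.2 fun i j h => ?_, k⟩
  rw [k, Matrix.add_apply, nf_ent]
  rcases h with ⟨h1, h2⟩ | rfl
  · simp [h1, h2]
  · by_cases h0 : i = 0
    · subst h0
      simp [n0, hv.2]
    · by_cases h1 : i = iL
      · subst h1
        simp [h0, hv.2]
      · simp [h0, h1]

theorem ex_b (v : VV n F) : ∃ b : F, b + σ b = bt v v := by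
  obtain ⟨c, hc⟩ := ex_tr (F := F)
  exact ⟨bt v v * c, by rw [map_mul, ← bt_symm, ← mul_add, hc, mul_one]⟩

theorem exQ {v : VV n F} (hv : Mi v) : ∃ x ∈ QQ n F, cv x = v := by
  obtain ⟨b, hb⟩ := ex_b v
  obtain ⟨x, hx, e⟩ := exQ' hv hb
  refine ⟨x, hx, funext fun j => ?_⟩
  unfold cv
  split_ifs with h
  · rcases h with rfl | rfl
    exacts [hv.1.symm, hv.2.symm]
  · push Not at h
    rw [e, Matrix.add_apply, nf_ent, one_apply_ne h.2]
    simp [h.1]

theorem Q_val {x : X} (h : x ∈ QQ n F) : x.1.1 = 1 + (Nf(cv x, x.1.1 0 iL)) := by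
  have q := memQ.1 h
  ext i j
  rw [Matrix.add_apply, nf_ent]
  have (j : I) : j.rev = 0 ↔ j = iL := by rw [← rL', Fin.rev_inj]
  have (j : I) : j.rev = iL ↔ j = 0 := by rw [← rL, Fin.rev_inj]
  by_cases hi : i = 0
  · subst hi
    by_cases hj : j = iL
    · subst hj
      simp [cv, one_apply_ne n0]
    by_cases h0 : j = 0
    · subst h0
      simp [cv, q 0 0 (.inr rfl), n0]
    have := congrFun (congrFun (mem_XU.1 x.2) 0) j
    rw [mul_apply, Fintype.sum_eq_add 0 j (Ne.symm h0) fun k hk => by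
      rw [q k j (.inl ⟨hk.1, hj⟩), one_apply_ne hk.2, mul_zero], ad_apply, ad_apply, q j j (.inr rfl),
      q _ _ (.inr rfl), one_apply_eq, one_apply_eq, map_one, one_mul, mul_one, one_apply_ne (Ne.symm h0),
      CharTwo.add_eq_zero, rL] at this
    simp [cv, *, one_apply_ne (Ne.symm h0)]
  · by_cases hj : j = iL
    · subst hj
      by_cases hL : i = iL
      · subst hL
        simp [cv, q iL iL (.inr rfl), hi]
      · simp [cv, hi, hL, one_apply_ne hL]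
    · simp [hi, hj, q i j (.inl ⟨hi, hj⟩)]

theorem Q_tr {x : X} (h : x ∈ QQ n F) : x.1.1 0 iL + σ (x.1.1 0 iL) = bt (cv x) (cv x) := by
  have := mem_XU.1 x.2
  rw [Q_val h, nf_un (mi_cv x), add_eq_left, hm_ee] at this
  have := congrFun (congrFun this 0) (0 : I).rev
  simpa [CharTwo.add_eq_zero] using this

theorem Q_zz {x : X} (h : x ∈ QQ n F) (e : cv x = 0) : ∃ c, x = zz c := by
  have k := Q_tr h
  rw [e, bt_zero_l, CharTwo.add_eq_zero] at k
  refine ⟨⟨_, k.symm⟩, xext ?_⟩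
  rw [zz, tc_val b3]
  conv_lhs => rw [Q_val h, e]
  ext i j
  simp [hm, vecMulVec_apply]

theorem mi_ee {j : I} (h0 : j ≠ 0) (hL : j ≠ iL) (a : F) : Mi (a • ee j : VV n F) :=
  ⟨by simp [ee, h0.symm], by simp [ee, hL.symm]⟩

theorem cenQ {x : X} (h : x ∈ QQ n F) (c : ∀ y ∈ QQ n F, x * y = y * x) : ∃ c, x = zz c := by
  refine Q_zz h (funext fun j => ?_)
  by_cases h0 : j = 0
  · exact h0 ▸ (mi_cv x).1
  by_cases hL : j = iL
  · exact hL ▸ (mi_cv x).2
  have k (a : F) : a * σ (cv x j) = σ a * cv x j := by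
    have m : Mi (a • ee j.rev : VV n F) := mi_ee (fun e => hL (by rw [← rL, ← e, Fin.rev_rev]))
      (fun e => h0 (by rw [← rL', ← e, Fin.rev_rev])) a
    obtain ⟨b, hb⟩ := ex_b (a • ee j.rev : VV n F)
    obtain ⟨y, hy, e⟩ := exQ' m hb
    have := congrArg (fun z : X => z.1.1) (c y hy)
    simp only [mul_val] at this
    rw [e, Q_val h] at this
    simp only [add_mul (1 : Mx), mul_add _ (1 : Mx), one_mul, mul_one, nf_mul m (mi_cv x), nf_mul (mi_cv x) m] at this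
    have e2 : bt (a • ee j.rev) (cv x) • hm (ee 0 : VV n F) (ee 0) = bt (cv x) (a • ee j.rev) • hm (ee 0) (ee 0) := by
      linear_combination (norm := abel) this
    have := congrFun (congrFun e2 0) (0 : I).rev
    simpa [hm_ee, bt_smul_l, bt_smul_r, bt_ee_l, bt_ee_r] using this
  obtain ⟨c, hc⟩ := ex_tr (F := F)
  have k1 := k 1
  have k2 := k c
  rw [map_one, one_mul, one_mul] at k1
  rw [k1, ← CharTwo.add_eq_zero, ← add_mul, hc, one_mul] at k2
  exact k2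

theorem fin {a : G} {α : X →* X} {g : GX n F} (h : Act ι a α) (hg : ∀ x, (α x).1 = au g 1 false x.1) {y : X} {l : F}
    (e : y.1.1 = l • g.1) : ∃ k ∈ 𝐂(ι.range), a = k * ι y := by
  have key : ∀ M : X, α M = y * M * y⁻¹ := by
    intro M
    rw [eq_mul_inv_iff_mul_eq]
    apply xext
    rw [mul_val, mul_val, hg, H77.au1, gc_val, e, Matrix.mul_smul, Matrix.smul_mul, mul_assoc, Units.inv_mul, mul_one]
  refine ⟨a * (ι y)⁻¹, mem_centralizer_iff.2 ?_, by rw [inv_mul_cancel_right]⟩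
  rintro _ ⟨w, rfl⟩
  have := h (y⁻¹ * w * y)
  rw [key] at this
  simp only [map_mul, map_inv] at this
  calc ι w * (a * (ι y)⁻¹) = (ι y * ((ι y)⁻¹ * ι w * ι y) * (ι y)⁻¹) * (a * (ι y)⁻¹) := by group
    _ = a * (ι y)⁻¹ * ι w := by rw [← this]; group

theorem cQb (e : Em ι) {a : G} (ha : a ∈ 𝐍(ι.range)) (h : Cn ι (ZZ n F) a)
    (k : ∀ x ∈ QQ n F, ∃ c, a * ι x * a⁻¹ = ι x * ι (zz c)) :
    ∃ x ∈ QQ n F, ∃ k ∈ 𝐂(ι.range), a = k * ι x := by
  obtain ⟨α, φ, A, U⟩ := H62.act e ha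
  obtain ⟨g, gu, hg⟩ := H77.au_unit U
  have eq (x : X) : (α x).1.1 * g.1 = g.1 * x.1.1.map φ := by
    rw [hg, LMS.au_false, gc_val, mul_assoc, Units.inv_mul, mul_one, fr_val]
  have pα {x : X} (p : P2 x) : P2 (α x) := let ⟨j, hj⟩ := p; ⟨j, by rw [← map_pow, hj, map_one]⟩
  have k0 : g.1 * single 0 iL 1 = single 0 iL 1 * g.1 := by
    have := eq (zz 1)
    rw [inj2 e (pα (p2Q (zzQ 1))) (p2Q (zzQ 1)) ((A _).symm.trans (by
      rw [h _ (subset_closure ⟨1, rfl⟩), mul_inv_cancel_right])), zz_val, Matrix.map_add _ (map_add φ),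
      Matrix.map_one _ (map_zero φ) (map_one φ), add_mul, mul_add, one_mul, mul_one, add_right_inj] at this
    simpa [Matrix.map_single] using this.symm
  have c0 := colz k0 (rowz _ _ _ _)
  have ne := diag_ne c0
  have dL : g.1 iL iL = g.1 0 0 := by
    have := congrFun (congrFun k0 0) iL
    rw [mul_single_apply_same, single_mul_apply_same, mul_one, one_mul] at this
    exact this.symm
  have km (j : I) (h0 : j ≠ 0) (hL : j ≠ iL) (s : F) (r : I) (hr : r ≠ 0) :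
      g.1 r j * φ s = (s • ee j : VV n F) r * g.1 0 0 := by
    obtain ⟨b, hb⟩ := ex_b (s • ee j : VV n F)
    obtain ⟨x, hx, ex⟩ := exQ' (mi_ee h0 hL s) hb
    obtain ⟨c, hc⟩ := k x hx
    have := congrFun (congrFun (eq x) r) iL
    rw [inj2 e (pα (p2Q hx)) (p2Q (mul_mem hx (zzQ c))) (by rw [← A, hc, map_mul]), mul_val, zz_val, ex] at this
    have jL : j.rev ≠ iL := fun e => h0 (by rw [← rL', ← e, Fin.rev_rev])
    simp only [hm_smul_l, hm_smul_r, hm_ee, rL, Matrix.map_add _ (map_add φ), smul_single, smul_eq_mul, mul_one,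
      Matrix.map_one _ (map_zero φ) (map_one φ), Matrix.map_single, mul_assoc, add_mul, mul_add, one_mul,
      Matrix.add_apply, rowz _ _ _ _ r hr, mul_single_apply_same, mul_single_apply_of_ne _ _ _ _ _ jL.symm, c0 r hr,
      add_zero, zero_mul, add_right_inj] at this
    by_cases hj : r = j
    · subst hj
      simpa [single_mul_apply_same, rowz _ _ _ _ r hr, rowz _ _ _ _ iL n0.symm, dL, ee] using this.symm
    · simpa [rowz _ _ _ _ r hj, ee, hj] using this.symm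
  obtain ⟨j, h0, hL⟩ := LMS.ex_third (0 : I) iL
  have dd (j : I) (h0 : j ≠ 0) (hL : j ≠ iL) (r : I) (hr : r ≠ 0) : g.1 r j = (1 : Mx) r j * g.1 0 0 := by
    simpa [ee, Pi.single_apply, one_apply] using km j h0 hL 1 r hr
  obtain rfl : φ = 1 := RingEquiv.ext fun s => by
    have := km j h0 hL s j h0
    rw [dd j h0 hL j h0, one_apply_eq, one_mul, mul_comm] at this
    simpa [ee, ne] using this
  have ent : ∀ a b : I, (a ≠ 0 ∧ b ≠ iL) ∨ a = b → ((g.1 0 0)⁻¹ • g.1) a b = (1 : Mx) a b := by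
    intro a b hab
    rw [Matrix.smul_apply, smul_eq_mul, inv_mul_eq_iff_eq_mul₀ ne, mul_comm]
    by_cases hb : b = 0
    · subst hb
      by_cases ha : a = 0
      · rw [ha, one_apply_eq, one_mul]
      · rw [c0 a ha, one_apply_ne ha, zero_mul]
    by_cases hb' : b = iL
    · rw [hab.resolve_left fun k => k.2 hb', hb', dL, one_apply_eq, one_mul]
    exact dd b hb hb' a (hab.elim (·.1) fun k => k ▸ hb)
  have det : ((g.1 0 0)⁻¹ • g.1).det = 1 := by
    rw [det_of_isUpperTriangular]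
    · exact Finset.prod_eq_one fun a _ => by rw [ent a a (Or.inr rfl), one_apply_eq]
    · intro a b hab
      have hab' : b < a := hab
      rw [ent a b (Or.inl ⟨(lt_of_le_of_lt (Fin.zero_le b) hab').ne',
        (lt_of_lt_of_le hab' (Fin.le_last a)).ne⟩), one_apply_ne hab'.ne']
  have un : ad ((g.1 0 0)⁻¹ • g.1) * ((g.1 0 0)⁻¹ • g.1) = 1 := by
    have := congrFun (congrFun gu 0) 0
    rw [mul_apply, Finset.sum_eq_single 0 (fun b _ hb => by rw [c0 b hb, mul_zero]) (by simp), ad_apply, rL, dL,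
      one_apply_eq] at this
    rw [ad_smul, Matrix.smul_mul, Matrix.mul_smul, gu, smul_smul, map_inv₀, ← mul_inv, this, inv_one, one_smul]
  exact ⟨⟨⟨_, det⟩, mem_XU.2 un⟩, memQ.2 ent, fin A hg rfl⟩

theorem cQ (e : Em ι) {a : G} (ha : a ∈ 𝐍(ι.range)) (h : Cn ι (QQ n F) a) :
    ∃ c, ∃ k ∈ 𝐂(ι.range), a = k * ι (zz c) := by
  obtain ⟨x, hx, k, hk, rfl⟩ := cQb e ha (fun y hy => h y ((closure_le _).2 (by
    rintro _ ⟨c, rfl⟩; exact zzQ c) hy)) fun y hy => ⟨0, by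
      rw [h y hy, mul_inv_cancel_right, zz, tc_zero b3, map_one, mul_one]⟩
  obtain ⟨c, rfl⟩ := cenQ hx fun y hy => comm2 e (p2Q hx) (by
    have := h y hy
    rw [← mul_assoc, mem_centralizer_iff.1 hk _ ⟨y, rfl⟩, mul_assoc, mul_assoc] at this
    exact mul_left_cancel this)
  exact ⟨c, k, hk, rfl⟩

theorem QP : QQ n F ≤ PP n F := fun x hx v hv => by
  obtain rfl : v = ee 0 := hv
  rw [ac, Q_val hx]
  simp [add_mulVec, smul_mulVec, hm_mulVec, b3, b2 (mi_cv x)]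

theorem cS (e : Em ι) {a : G} (ha : a ∈ 𝐍(ι.range)) {v : VV n F} (hv : Is v) (h : Cn ι (St {v}) a) :
    ∃ c, ∃ k ∈ 𝐂(ι.range), a = k * ι (tc v c) := by
  obtain ⟨x, rfl⟩ := tr_Is is0 hv
  have m : ι x ∈ 𝐍(ι.range) := le_normalizer ⟨x, rfl⟩
  obtain ⟨c, k, hk, ek⟩ := cQ e (mul_mem (mul_mem (inv_mem m) ha) m) fun y hy => by
    have := h (x * y * x⁻¹) (by
      rintro _ rfl
      rw [ac_mul, ac_mul, ac_inv, QP hy _ rfl])
    simp only [map_mul, map_inv] at this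
    calc _ = (ι x)⁻¹ * (a * (ι x * ι y * (ι x)⁻¹)) * ι x := by group
      _ = _ := by rw [this]; group
  refine ⟨c, k, hk, ?_⟩
  rw [← cj_tc x b3, map_mul, map_mul, map_inv, ← mul_assoc, ← mul_assoc, ← mem_centralizer_iff.1 hk _ ⟨x, rfl⟩,
    mul_assoc _ k, ← show (zz c : X) = tc (ee 0) c from rfl, ← ek]
  group

theorem cz_nQ {y : X} (h : y * zz 1 = zz 1 * y) : y ∈ 𝐍(QQ n F) := by
  have := congrArg Subtype.val h
  rw [coe_mul, coe_mul, zz_xe] at this
  exact mem_normalizer_iff.2 fun x => mem_normalizer_iff.1 (LMS.cz_nQ one_ne_zero this) x.1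

theorem oddQ (e : Em ι) {R : Subgroup G} (o : Odd (Nat.card R)) (h : R ≤ 𝐍(ι.range))
    (c : ∀ r ∈ R, r * ι (zz 1) = ι (zz 1) * r) (k : ∀ x ∈ QQ n F, ι x ∈ 𝐍(R)) :
    ∀ r ∈ R, Cn ι (QQ n F) r := by
  have od : ∀ r ∈ R, Odd (orderOf r) := fun r hr =>
    Odd.of_dvd_nat o (R.orderOf_dvd_natCard hr)
  have cmR : ∀ r ∈ R, ∀ x ∈ QQ n F, r * ι x * r⁻¹ * (ι x)⁻¹ ∈ R := fun r hr x hx => by
    have := mul_mem hr ((mem_normalizer_iff.1 (k x hx) _).1 (inv_mem hr))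
    simpa only [mul_assoc] using this
  have s1 : ∀ w ∈ R, w ∈ ι.range → w ∈ 𝐂(ι.range) := by
    rintro _ hw ⟨y, rfl⟩
    have nQ := cz_nQ (comm2 e (p2Q (zzQ 1)) (c _ hw).symm).symm
    have cn : Cn ι (QQ n F) (ι y) := fun x hx => by
      obtain ⟨j, hj⟩ := p2Q (mul_mem ((mem_normalizer_iff.1 nQ x).1 hx) (inv_mem hx))
      have p : P2 (ι y * ι x * (ι y)⁻¹ * (ι x)⁻¹) := ⟨j, by
        rw [← map_inv, ← map_inv, ← map_mul, ← map_mul, ← map_mul, ← map_pow, hj, map_one]⟩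
      have := p.eq_one (od _ (cmR _ hw x hx))
      rwa [mul_inv_eq_one, mul_inv_eq_iff_eq_mul] at this
    obtain ⟨c', k', hk', ey⟩ := cQ e (h hw) cn
    have hc := mem_centralizer_iff.1 hk' _ ⟨zz c', rfl⟩
    have sq : ι y * ι y = k' * k' := by
      rw [ey, mul_assoc, ← mul_assoc (ι _), hc, mul_assoc, ← map_mul, zz, tc_sq b3, map_one, mul_one]
    obtain ⟨m, hm⟩ := od _ hw
    have : ι y = (ι y * ι y) ^ (m + 1) := by
      rw [← pow_two, ← pow_mul, mul_add, mul_one, show 2 * m + 2 = (2 * m + 1) + 1 from rfl, ← hm,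
        pow_succ, pow_orderOf_eq_one, one_mul]
    rw [this, sq]
    exact pow_mem (mul_mem hk' hk') _
  intro r hr x hx
  have m1 := cmR r hr x hx
  have m2 : r * ι x * r⁻¹ * (ι x)⁻¹ ∈ ι.range :=
    mul_mem ((mem_normalizer_iff.1 (h hr) _).1 ⟨x, rfl⟩) (inv_mem ⟨x, rfl⟩)
  have cz : Commute (r * ι x * r⁻¹ * (ι x)⁻¹) (ι x) :=
    (mem_centralizer_iff.1 (s1 _ m1 m2) _ ⟨x, rfl⟩).symm
  obtain ⟨j, hj⟩ := p2Q hx
  have hj' : ι x ^ 2 ^ j = 1 := by rw [← map_pow, hj, map_one]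
  have p : P2 (r * ι x * r⁻¹ * (ι x)⁻¹) := ⟨j, by
    have := cz.mul_pow (2 ^ j)
    rw [inv_mul_cancel_right, conj_pow, hj', mul_one, mul_one, mul_inv_cancel] at this
    exact this.symm⟩
  have := p.eq_one (od _ m1)
  rwa [mul_inv_eq_one, mul_inv_eq_iff_eq_mul] at this

end UMS.H94
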