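import Cfsg.Agent.Lib.UMS.B3b
import Cfsg.Agent.Lib.UMS.WIT
import Cfsg.Agent.Lib.UMS.B7

/-! Transport of an element acting on the point stabiliser as an endomorphism. -/

set_option autoImplicit false
set_option linter.unusedSectionVars false

namespace UMS
namespace H18

open Subgroup H69 Cfsg Matrix U4S
open LMS (XX GX iL kk MM au tw Sg)
open scoped MatrixGroups commutatorElement

universe u
variable {G : Type*} [Group G] [Finite G] {F : Type u} [Field F] [CharP F 2] [Fintype F] [Hs F] {n : ℕ} [Ok n F]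
  {ι : XU n F →* G} {t : G} {E : Subgroup G}

local notation "X" => XU n F
local notation "V" => VV n F
local notation "I" => Fin (n + 3)

theorem pB1 (h : C1 ι t) (α : X →* X) {g : G} (e : g * t * g⁻¹ = t * ι (α (zz 1)))
    (hα : ∀ p ∈ PP n F, g * ι p * g⁻¹ = ι (α p)) {a : V} (ha : Is a) :
    ∃ y : G, y * t * y⁻¹ = t * ι (α (tc a 1)) ∧ ∀ p : X, ac p a = a → y * ι p * y⁻¹ = ι (α p) := by
  obtain ⟨x, hx⟩ := wit1 ha
  refine ⟨ι (α x) * g * (ι x)⁻¹, ?_, fun p hp => ?_⟩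
  · have c1 : (ι x)⁻¹ * t * ι x = t := by rw [mul_assoc, h.tc, inv_mul_cancel_left]
    have c2 : ι (α x) * t = t * ι (α x) := (h.tc _).symm
    calc _ = ι (α x) * (g * ((ι x)⁻¹ * t * ι x) * g⁻¹) * (ι (α x))⁻¹ := by group
      _ = _ := by
        rw [c1, e, ← mul_assoc, c2, ← hx, ← tc_cj B3b.b00, map_mul, map_mul, map_mul, map_mul, map_inv, map_inv]
        simp only [mul_assoc]; rfl
  · have m : x⁻¹ * p * x ∈ PP n F := by
      rw [mem_PP, ac_mul, ac_mul, hx, hp, ← hx, ← ac_mul, inv_mul_cancel, ac_one]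
    have := hα _ m
    simp only [map_mul, map_inv] at this
    calc _ = ι (α x) * (g * ((ι x)⁻¹ * ι p * ι x) * g⁻¹) * (ι (α x))⁻¹ := by group
      _ = _ := by rw [this]; group

theorem pB2 (h : C1 ι t) (α : X →* X) {g : G} (e : g * t * g⁻¹ = t * ι (α (zz 1)))
    (hα : ∀ p ∈ PP n F, g * ι p * g⁻¹ = ι (α p)) {a b : V} (ha : Is a) (hb : Is b) (o : bt b a = 0) :
    ∃ y : G, y * t * y⁻¹ = t * ι (tc b 1 * tc a 1) ∧ ∀ p : X, ac p a = a → ac p b = b → y * ι p = ι p * y := by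
  obtain ⟨y, y1, y2⟩ := pB1 h α e hα ha
  obtain ⟨w, w1, w2⟩ := pB1 h α e hα hb
  refine ⟨w⁻¹ * y, ?_, fun p pa pb => ?_⟩
  · have k1 := w2 (tc a 1) (tc_St ha.1 o 1 b rfl)
    have k2 := w2 (tc b 1) (tc_St hb.1 hb.1 1 b rfl)
    have k3 : w * (t * ι (tc b 1)) * w⁻¹ = t := by
      calc _ = w * t * w⁻¹ * (w * ι (tc b 1) * w⁻¹) := by group
        _ = _ := by rw [w1, k2, mul_assoc, ← map_mul, ← map_mul, tc_sq hb.1, map_one, map_one, mul_one]
    calc _ = w⁻¹ * (y * t * y⁻¹) * w := by group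
      _ = w⁻¹ * (w * (t * ι (tc b 1)) * w⁻¹ * (w * ι (tc a 1) * w⁻¹)) * w := by rw [y1, k3, k1]
      _ = _ := by rw [map_mul]; group
  · have := (y2 p pa).trans (w2 p pb).symm
    calc _ = w⁻¹ * (y * ι p * y⁻¹) * y := by group
      _ = _ := by rw [this]; group

/-- an element centralising the stabiliser of two basis vectors -/
theorem partB (h : C1 ι t) (α : X →* X) {g : G} (e : g * t * g⁻¹ = t * ι (α (zz 1)))
    (hα : ∀ p ∈ PP n F, g * ι p * g⁻¹ = ι (α p)) (c : K0 F) :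
    ∃ d, Cn ι (St {ee 0, ee 1}) d ∧ d * t * d⁻¹ = t * ι (zz c) := by
  obtain ⟨a, hc⟩ := tr_surj c
  have o : Ot (ee 0 : V) (ee 1) := WIT.ot01
  have i1 : ∀ s : F, Is (s • ee 0 + ee 1 : V) := fun s => by
    simpa using o.is (a := s) (b := 1) (.inr one_ne_zero)
  have b1 : ∀ s r : F, bt (s • ee 0 + ee 1 : V) (r • ee 0 + ee 1) = 0 := fun s r => by
    have := o.symm.2.2.1
    simp only [bt_add_left, bt_add_right, bt_smul_left, bt_smul_right, o.1, o.2.1, o.2.2.1, this, mul_zero, add_zero]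
  have f1 : ∀ (s : F) (p : X), p ∈ St {ee 0, ee 1} → ac p (s • ee 0 + ee 1 : V) = s • ee 0 + ee 1 := fun s p hp => by
    rw [ac_add, ac_smul, hp _ (.inl rfl), hp _ (.inr rfl)]
  obtain ⟨y, y1, y2⟩ := pB2 h α e hα (i1 1) (i1 a) (b1 _ _)
  obtain ⟨w, w1, w2⟩ := pB2 h α e hα (i1 0) (i1 (a + 1)) (b1 _ _)
  refine ⟨w * y, fun p hp => ?_, ?_⟩
  · rw [mul_assoc, y2 p (f1 _ p hp) (f1 _ p hp), ← mul_assoc, w2 p (f1 _ p hp) (f1 _ p hp), mul_assoc]
  · have k : ∀ s, w * ι (tc (s • ee 0 + ee 1) 1) = ι (tc (s • ee 0 + ee 1) 1) * w := fun s =>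
      w2 _ (tc_St (i1 s).1 (b1 _ _) 1 _ rfl) (tc_St (i1 s).1 (b1 _ _) 1 _ rfl)
    have k' : w * ι (tc (a • ee 0 + ee 1) 1 * tc ((1 : F) • ee 0 + ee 1) 1) * w⁻¹ =
        ι (tc (a • ee 0 + ee 1) 1 * tc ((1 : F) • ee 0 + ee 1) 1) := by
      rw [map_mul, ← mul_assoc, k, mul_assoc (ι _), k, ← mul_assoc, mul_inv_cancel_right]
    have f := B3b.four o.1 o.2.1 o.2.2.1 hc
    have cm : ∀ s r, Commute (tc (s • ee 0 + ee 1) 1 : X) (tc (r • ee 0 + ee 1) 1) := fun s r =>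
      tc_comm (i1 s).1 (i1 r).1 (b1 _ _) 1 1
    calc _ = w * (y * t * y⁻¹) * w⁻¹ := by group
      _ = w * t * w⁻¹ * (w * ι (tc (a • ee 0 + ee 1) 1 * tc ((1 : F) • ee 0 + ee 1) 1) * w⁻¹) := by rw [y1]; group
      _ = _ := by
        rw [w1, k', mul_assoc, ← map_mul,
          (((cm _ _).mul_right (cm _ _)).mul_left ((cm _ _).mul_right (cm _ _))).eq, one_smul, zero_smul, zero_add, f]
        rfl

end H18
end UMS
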