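import Cfsg.Agent.Lib.UMS.F24
import Cfsg.Agent.Lib.UMS.S670

set_option autoImplicit false
set_option linter.unusedSectionVars false

namespace UMS.H78

open Subgroup H69 Cfsg Matrix U4S
open LMS (XX GX iL kk MM au tw Sg)
open scoped MatrixGroups commutatorElement

universe u
variable {G : Type*} [Group G] [Finite G] {F : Type u} [Field F] [CharP F 2] [Fintype F] [Hs F] {n : ℕ} [Ok n F]
  {ι ψ χ : XU n F →* G} {t : G} {E : Subgroup G}

local notation "X" => XU n F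
local notation "V" => VV n F
local notation "𝐪" => Nat.card (K0 F)
local notation "I" => Fin (n + 3)
local notation "Mx" => Matrix (Fin (n + 3)) (Fin (n + 3)) F

open S670

local notation "Q" => QQ n F

theorem n10 : (1 : I) ≠ 0 := fun e => by simpa using congrArg Fin.val e
theorem n1L : (1 : I) ≠ iL := fun e => by simpa [iL] using congrArg Fin.val e
theorem n1r (h : 3 ≤ n) : (1 : I) ≠ (1 : I).rev := fun e => by
  have := congrArg Fin.val e
  simp [Fin.val_rev] at this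
  omega

theorem mi_e {j : I} (h0 : j ≠ 0) (hL : j ≠ iL) (a : F) : Mi (a • ee j : V) :=
  ⟨by simp [ee, h0.symm], by simp [ee, hL.symm]⟩

theorem mi_r {j : I} (h0 : j ≠ 0) (hL : j ≠ iL) (a : F) : Mi (a • ee j.rev : V) :=
  mi_e (fun k => hL (by rw [← Fin.rev_rev j, k]; rfl)) (fun k => h0 (by rw [← Fin.rev_rev j, k]; exact Fin.rev_last _)) a

theorem tr0 {b : F} (h : ∀ a : F, σ a * b + σ (σ a * b) = 0) : b = 0 := by
  obtain ⟨ω, hω⟩ := ex_om (F := F)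
  have k1 := h 1
  have k2 := h ω
  rw [map_one, one_mul] at k1
  rw [map_mul, sg_sg] at k2
  have two : (2 : F) = 0 := CharTwo.two_eq_zero
  linear_combination k2 + ω * k1 - b * hω - ω * σ b * two

theorem perp {u v : V} (hu : Mi u) (hv : Mi v) (h : ∀ w, Mi w → bt (ee 1) w = 0 → Tr u w = Tr v w) :
    ∃ l : F, u = v + l • ee 1 := by
  refine ⟨u 1 - v 1, funext fun j => ?_⟩
  by_cases j1 : j = 1
  · simp [j1, ee]
  have e : (v + (u 1 - v 1) • (ee 1 : V)) j = v j := by simp [ee, j1]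
  rw [e]
  by_cases j0 : j = 0
  · rw [j0, hu.1, hv.1]
  by_cases jL : j = iL
  · rw [jL, hu.2, hv.2]
  refine sub_eq_zero.1 (tr0 fun a => ?_)
  have := congrArg Subtype.val (h _ (mi_r j0 jL a) (by
    rw [bt_smul_right, bt_ee, Fin.rev_rev, ee, Pi.single_eq_of_ne j1, mul_zero]))
  change bt _ _ + σ (bt _ _) = bt _ _ + σ (bt _ _) at this
  rw [bt_smul_right, bt_smul_right, bt_ee, bt_ee, Fin.rev_rev] at this
  rw [mul_sub, map_sub]
  linear_combination this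

theorem lin (em : Em ι) {d : G} (hQ : d ∈ 𝐍((Q).map ι)) (k : Cn ι (St {ee 0, ee 1}) d) :
    ∃ a : K0 F, ∀ x ∈ Q, ∀ x' ∈ Q, d * ι x * d⁻¹ = ι x' → cv x' = cv x + ((a : F) * bt (cv x) (ee 1)) • ee 1 := by
  have two : (2 : F) = 0 := CharTwo.two_eq_zero
  have h3 := Ok.h3 (n := n) (F := F)
  have i1 : Is (ee 1 : V) := is_ee (n1r h3)
  have fx : ∀ w ∈ Q, bt (ee 1) (cv w) = 0 → d * ι w * d⁻¹ = ι w := fun w hw e =>
    mul_inv_eq_iff_eq_mul.2 (k w (mem_St.2 (by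
      rintro v (rfl | rfl)
      · exact mem_PP.1 (QQ_le hw)
      · rw [ac_QQ hw (v := ee 1) (Pi.single_eq_of_ne n1L.symm _), e, zero_smul, add_zero])))
  have cz : ∀ a, d * ι (zz a) * d⁻¹ = ι (zz a) := fun a => fx _ (ZZ_le_QQ (H24.zz_mem a)) (by
    rw [(cv_ker (ZZ_le_QQ (H24.zz_mem a))).2 (H24.zz_mem a), ← zero_smul F (0 : V), bt_smul_right, map_zero, zero_mul])
  have fm : ∀ x ∈ Q, ∀ x' ∈ Q, ∀ w ∈ Q, ∀ w' ∈ Q, d * ι x * d⁻¹ = ι x' → d * ι w * d⁻¹ = ι w' →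
      Tr (cv x') (cv w') = Tr (cv x) (cv w) := fun x hx x' hx' w hw w' hw' e e' =>
    (z_inj em ((cz _).symm.trans (form hx hw hx' hw' e e'))).symm
  have key : ∀ x ∈ Q, ∀ x' ∈ Q, d * ι x * d⁻¹ = ι x' →
      ∃ a : K0 F, cv x' = cv x + ((a : F) * bt (cv x) (ee 1)) • ee 1 := fun x hx x' hx' e => by
    by_cases b0 : bt (cv x) (ee 1) = 0
    · have := em.inj2 (P2.of_mem isP_QQ hx') (P2.of_mem isP_QQ hx)
        (e.symm.trans (fx x hx (by rw [bt_symm, b0, map_zero])))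
      exact ⟨0, by rw [this, b0, mul_zero, zero_smul, add_zero]⟩
    obtain ⟨l, hl⟩ := perp (cv_mi x') (cv_mi x) fun w hw e' => by
      obtain ⟨y, hy, rfl⟩ := cv_surj hw
      exact fm x hx x' hx' y hy y hy e (fx y hy e')
    obtain ⟨c, c1, c2⟩ := sq_QQ hx
    obtain ⟨c', c1', c2'⟩ := sq_QQ hx'
    have cc : c = c' := z_inj em (by rw [← cz c, ← c2, ← c2', map_mul, map_mul, ← e]; group)
    rw [← cc, c1, hl, bt_add_left, bt_add_right, bt_add_right, bt_smul_left, bt_smul_left, bt_smul_right,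
      bt_smul_right, i1.1, bt_symm (cv x) (ee 1)] at c1'
    set b := bt (cv x) (ee 1)
    have sb : σ b ≠ 0 := fun h => b0 (by rw [← sg_sg b, h, map_zero])
    refine ⟨⟨l / b, mem_K0.2 ?_⟩, by rw [hl]; congr 2; exact (div_mul_cancel₀ l b0).symm⟩
    rw [map_div₀, div_eq_div_iff sb b0]
    linear_combination -c1' - l * σ b * two
  have tr : ∀ x ∈ Q, ∀ x' ∈ Q, ∀ w ∈ Q, ∀ w' ∈ Q, d * ι x * d⁻¹ = ι x' → d * ι w * d⁻¹ = ι w' → ∀ a a' : K0 F,
      cv x' = cv x + ((a : F) * bt (cv x) (ee 1)) • ee 1 → cv w' = cv w + ((a' : F) * bt (cv w) (ee 1)) • ee 1 →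
      ((a : F) + a') * (σ (bt (cv w) (ee 1)) * bt (cv x) (ee 1) + bt (cv w) (ee 1) * σ (bt (cv x) (ee 1))) = 0 :=
    fun x hx x' hx' w hw w' hw' e e' a a' k1 k2 => by
      have := congrArg Subtype.val (fm x hx x' hx' w hw w' hw' e e')
      change bt _ _ + σ (bt _ _) = bt _ _ + σ (bt _ _) at this
      rw [k1, k2, bt_add_left, bt_add_right, bt_add_right, bt_smul_left, bt_smul_left, bt_smul_right,
        bt_smul_right, i1.1, bt_symm (cv w) (ee 1)] at this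
      simp only [map_add, map_mul, sg_sg, mem_K0.1 a.2, mem_K0.1 a'.2, mul_zero, add_zero] at this
      linear_combination this
  obtain ⟨ω, hω⟩ := ex_om (F := F)
  have ex : ∀ s : F, ∃ w ∈ Q, bt (cv w) (ee 1) = s := fun s => by
    obtain ⟨w, hw, e⟩ := cv_surj (mi_r (n := n) n10 n1L s)
    exact ⟨w, hw, by rw [e, bt_ee]; simp [ee]⟩
  obtain ⟨w1, h1, b1⟩ := ex 1
  obtain ⟨w2, h2, b2⟩ := ex ω
  obtain ⟨v1, g1, e1⟩ := exQ hQ h1
  obtain ⟨v2, g2, e2⟩ := exQ hQ h2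
  obtain ⟨a1, f1⟩ := key _ h1 _ g1 e1
  obtain ⟨a2, f2⟩ := key _ h2 _ g2 e2
  have t12 := tr _ h1 _ g1 _ h2 _ g2 e1 e2 _ _ f1 f2
  rw [b1, b2, map_one] at t12
  refine ⟨a1, fun x hx x' hx' e => ?_⟩
  obtain ⟨a, f⟩ := key _ hx _ hx' e
  have t1 := tr _ hx _ hx' _ h1 _ g1 e e1 _ _ f f1
  have t2 := tr _ hx _ hx' _ h2 _ g2 e e2 _ _ f f2
  rw [b1, map_one] at t1
  rw [b2] at t2
  rw [f]
  congr 2
  set b := bt (cv x) (ee 1)
  have a12 : (a2 : F) = a1 := by linear_combination t12 - (a1 + a2 : F) * hω - (a1 : F) * two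
  rw [a12] at t2
  linear_combination t2 + ω * t1 - ((a : F) + a1) * b * hω - (((a : F) + a1) * ω * σ b + a1 * b) * two

theorem partC (h : C1 ι t) {d : G} {c : K0 F} (k : Cn ι (St {ee 0, ee 1}) d) (e : d * t * d⁻¹ = t * ι (zz c)) :
    ∃ y, D1 ι t c y := by
  have two : (2 : F) = 0 := CharTwo.two_eq_zero
  have h3 := Ok.h3 (n := n) (F := F)
  have i1 : Is (ee 1 : V) := is_ee (n1r h3)
  have zS : ZZ n F ≤ St {ee 0, ee 1} := fun x hx => mem_St.2 (by
    rintro v (rfl | rfl)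
    · exact mem_PP.1 (QQ_le (ZZ_le_QQ hx))
    · rw [ac_QQ (ZZ_le_QQ hx) (v := ee 1) (Pi.single_eq_of_ne n1L.symm _), (cv_ker (ZZ_le_QQ hx)).2 hx, ← zero_smul F (0 : V),
        bt_smul_right, map_zero, zero_mul, zero_smul, add_zero])
  have nZ : d ∈ 𝐍((ZZ n F).map ι) := centralizer_le_normalizer _ (by
    rintro _ ⟨x, hx, rfl⟩
    exact (k x (zS hx)).symm)
  have hQ := (H24.nv h e nZ).2
  obtain ⟨a, ha⟩ := lin h.em hQ k
  have hp : (tc (ee 1) a : X) ∈ PP n F := tc_St i1.1 (by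
    rw [ee_bt, ee, Pi.single_eq_of_ne, map_zero]
    exact fun e => n1L (by rw [← e]; exact H24.r0)) a
  refine ⟨ι (tc (ee 1) a) * d, fun x hx => ?_, fun x hx => ?_, ?_⟩
  · obtain ⟨b, rfl⟩ := mem_ZZ.1 hx
    rw [mul_assoc, k _ (zS hx), ← mul_assoc, ← map_mul, PP_cen hp, map_mul, mul_assoc]
  · obtain ⟨x', hx', e'⟩ := exQ hQ hx
    have m := (mem_normalizer_iff.1 (PP_nQ hp) x').1 hx'
    obtain ⟨b, hb⟩ := Q_eq hx m (funext fun j => by
      by_cases j0 : j = 0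
      · rw [j0, (cv_mi _).1, (cv_mi _).1]
      rw [cv_cj hp hx' j0, ac_tc i1.1, ha x hx x' hx' e', bt_add_left, bt_smul_left, i1.1, mul_zero, add_zero,
        add_assoc, ← add_smul, ← two_mul, two, zero_mul, zero_smul, add_zero])
    refine ⟨b, ?_⟩
    rw [← map_mul, ← hb, map_mul, map_mul, map_inv, ← e']
    group
  · calc _ = ι (tc (ee 1) a) * (d * t * d⁻¹) * (ι (tc (ee 1) a))⁻¹ := by group
      _ = _ := by
        rw [e, ← mul_assoc, ← h.tc, mul_assoc t, ← map_mul, PP_cen hp, map_mul, ← mul_assoc, mul_inv_cancel_right]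

end UMS.H78
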