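import Cfsg.Agent.Lib.UMS.DL80
import Cfsg.Agent.Lib.UMS.S6B18
import Cfsg.Agent.Lib.UMS.S6C78
import Cfsg.Agent.Lib.UMS.Au62
import Cfsg.Agent.Lib.UMS.CE94
import Cfsg.Agent.Lib.UMS.CE
import Cfsg.Agent.Lib.UMS.WIT

set_option autoImplicit false
set_option linter.unusedSectionVars false

namespace UMS.H86

open Subgroup H69 Cfsg Matrix U4S
open LMS (XX GX iL kk MM au tw Sg)
open scoped MatrixGroups commutatorElement

universe u
variable {G : Type*} [Group G] [Finite G] {F : Type u} [Field F] [CharP F 2] [Fintype F] [Hs F] {n : ℕ} [Ok n F]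
  {ι ψ χ : XU n F →* G} {t : G} {E : Subgroup G}

local notation "X" => XU n F
local notation "V" => VV n F
local notation "𝐪" => Nat.card (K0 F)
local notation "I" => Fin (n + 3)
local notation "Mx" => Matrix (Fin (n + 3)) (Fin (n + 3)) F

theorem bt_sum (c : I → F) (v : I → V) (w : V) : bt (∑ i, c i • v i) w = ∑ i, c i * bt (v i) w := by
  induction (Finset.univ : Finset I) using Finset.induction_on with
  | empty => simp [bt]
  | insert a s h ih => rw [Finset.sum_insert h, Finset.sum_insert h, bt_add_left, bt_smul_left, ih]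

theorem dec (w : V) : w = ∑ i, w i • ee i := by
  ext j
  simp [ee, Pi.single_apply]

theorem mi_ee {j : I} (h : ¬ (j = 0 ∨ j = iL)) : Mi (ee j : V) :=
  ⟨Pi.single_eq_of_ne (fun e => h (Or.inl e.symm)) _, Pi.single_eq_of_ne (fun e => h (Or.inr e.symm)) _⟩

theorem mi_smul {w : V} (h : Mi w) (a : F) : Mi (a • w) :=
  ⟨by rw [Pi.smul_apply, h.1, smul_zero], by rw [Pi.smul_apply, h.2, smul_zero]⟩

theorem ind {P : V → Prop} (h0 : P 0) (ha : ∀ v w, Mi v → Mi w → P v → P w → P (v + w))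
    (h1 : ∀ (a : F) j, ¬ (j = 0 ∨ j = iL) → P (a • ee j)) {w : V} (hw : Mi w) : P w := by
  rw [dec w]
  refine (Finset.sum_induction _ (fun v => Mi v ∧ P v) (fun a b h k => ⟨H80.mi_add h.1 k.1, ha _ _ h.1 k.1 h.2 k.2⟩)
    ⟨⟨rfl, rfl⟩, h0⟩ fun j _ => ?_).2
  by_cases k : j = 0 ∨ j = iL
  · have : w j = 0 := by rcases k with rfl | rfl; exacts [hw.1, hw.2]
    rw [this, zero_smul]
    exact ⟨⟨rfl, rfl⟩, h0⟩
  · exact ⟨mi_smul (mi_ee k) _, h1 _ _ k⟩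

theorem exA {g : G} {δ : V → V} {φ : RingAut F} (d : Dl ι g δ φ) : ∃ α : X →* X, Au α φ ∧ (∀ c, α (zz c) = zz c) ∧
    (∀ p ∈ PP n F, α p ∈ PP n F) ∧ ∀ x ∈ QQ n F, α x ∈ QQ n F ∧ cv (α x) = δ (cv x) := by
  classical
  have pp : ∀ a, φ (φ a) = a := fun a => by
    rcases d.ph with rfl | rfl
    exacts [rfl, sg_sg a]
  have pk : ∀ c : K0 F, φ c = c := fun c => by
    rcases d.ph with rfl | rfl
    exacts [rfl, c.2]
  let v : I → V := fun i => if i = 0 ∨ i = iL then ee i else δ (ee i)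
  have b0 : ∀ i j : I, i = 0 ∨ i = iL → ∀ w : V, Mi w → bt w (ee i) = 0 := fun i j h w hw => by
    rw [bt_ee]
    rcases h with rfl | rfl
    · rw [CE.r0, hw.2]
    · rw [← CE.r0, Fin.rev_rev, hw.1]
  have hv : ∀ i j, bt (v i) (v j) = bt (ee i : V) (ee j) := fun i j => by
    simp only [v]
    split_ifs with h k k
    · rfl
    · rw [bt_symm, b0 i i h _ (d.mi _ (mi_ee k)), bt_symm (ee j), b0 i i h _ (mi_ee k)]
    · rw [b0 j j k _ (d.mi _ (mi_ee h)), b0 j j k _ (mi_ee h)]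
    · rw [d.iso _ _ (mi_ee h) (mi_ee k), bt_ee, ee, Pi.single_apply, apply_ite φ, map_one, map_zero]
  have li : ∀ u : I → V, (∀ i j, bt (u i) (u j) = bt (ee i : V) (ee j)) → LinearIndependent F u := fun u hu =>
    Fintype.linearIndependent_iff.2 fun c hc j => by
      have := bt_sum c u (u j.rev)
      rw [hc] at this
      simp only [hu, bt_ee, Fin.rev_rev] at this
      simpa [bt, ee, Pi.single_apply] using this.symm
  obtain ⟨g0, iso, hg⟩ := wittG (fun i => (ee i : V)) v (li _ fun _ _ => rfl) (li _ hv) hv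
  have gi : ∀ u : V, g0.1 *ᵥ ((g0⁻¹).1 *ᵥ u) = u := fun u => by rw [mulVec_mulVec, Units.mul_inv, one_mulVec]
  let α : X →* X := ((au g0 φ false).comp (XU n F).subtype).codRestrict _ fun x => mem_XU.2 fun a b => by
    have := mem_XU.1 (H62.fr_mem φ x.2)
    change bt ((g0.1 * (fr φ x.1).1 * (g0⁻¹).1) *ᵥ a) ((g0.1 * (fr φ x.1).1 * (g0⁻¹).1) *ᵥ b) = _
    rw [← mulVec_mulVec, ← mulVec_mulVec, ← mulVec_mulVec, ← mulVec_mulVec, iso, this, ← iso, gi, gi]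
  have ha : ∀ x, (α x).1 = au g0 φ false x.1 := fun _ => rfl
  obtain ⟨s, hs⟩ : ∃ s : V → V, ∀ u, s u = g0.1 *ᵥ fun i => φ (u i) := ⟨_, fun _ => rfl⟩
  have sa : ∀ x u, ac (α x) (s u) = s (ac x u) := fun x u => by rw [hs, hs, CE.semi ha]
  have s1 : ∀ u w, s (u + w) = s u + s w := fun u w => by
    rw [hs, hs, hs, ← mulVec_add]; congr 1; ext i; simp
  have s2 : ∀ (a : F) u, s (a • u) = φ a • s u := fun a u => by
    rw [hs, hs, ← mulVec_smul]; congr 1; ext i; simp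
  have s3 : ∀ i, s (ee i) = v i := fun i => by
    rw [hs, ← hg]; congr 1; ext j; simp [ee, Pi.single_apply, apply_ite φ]
  have s0 : s (ee 0) = ee 0 := by rw [s3]; exact if_pos (Or.inl rfl)
  have s4 : ∀ u w, bt (s u) (s w) = φ (bt u w) := fun u w => by
    rw [hs, hs, iso]; simp [bt, H62.σ_comm]
  have s5 : ∀ u, ∃ w, s w = u := fun u => ⟨fun i => φ (((g0⁻¹).1 *ᵥ u) i), by
    rw [hs]; simp only [pp]; exact gi u⟩
  have s6 : ∀ w, Mi w → s w = δ w := fun w hw => by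
    refine ind (P := fun w => s w = δ w) ?_ (fun a b ha hb h k => by rw [s1, d.add _ _ ha hb, h, k])
      (fun a j k => by rw [s2, d.smul _ _ (mi_ee k), s3]; exact congrArg _ (if_neg k)) hw
    have := d.smul 0 0 ⟨rfl, rfl⟩
    rw [← zero_smul F (0 : V), s2, this, map_zero, zero_smul, zero_smul]
  have sL : ∀ u, s u iL = φ (u iL) := fun u => by
    have := s4 u (ee 0)
    rwa [s0, bt_ee, bt_ee, CE.r0] at this
  have sQ : ∀ x ∈ QQ n F, ∀ u : V, u iL = 0 → ac (α x) u = u + bt u (δ (cv x)) • ee 0 := fun x hx u hu => by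
    obtain ⟨w, rfl⟩ := s5 u
    rw [sL, map_eq_zero] at hu
    rw [sa, ac_QQ hx hu, s1, s2, s0, ← s4, s6 _ (cv_mi x)]
  refine ⟨α, ⟨g0, ha⟩, fun c => ac_ext fun u => ?_, fun p hp => ?_, fun x hx => ?_⟩
  · obtain ⟨w, rfl⟩ := s5 u
    rw [sa, CE.acz, CE.acz, s1, s2, s0, map_mul, pk, sL]
  · rw [mem_PP, ← s0, sa, mem_PP.1 hp]
  · have m : α x ∈ QQ n F := QQ_iff.2 fun u hu => ⟨_, sQ x hx u hu, by
      rintro rfl
      exact H94.b2 (d.mi _ (cv_mi x))⟩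
    refine ⟨m, funext fun j => ?_⟩
    by_cases j0 : j = 0
    · rw [j0, (cv_mi _).1, (d.mi _ (cv_mi x)).1]
    · have hu : (ee j.rev : V) iL = 0 := Pi.single_eq_of_ne (fun e => j0 (by rw [← CE.r0, Fin.rev_inj] at e; exact e.symm)) _
      have := CE.e00 (add_left_cancel ((ac_QQ m hu).symm.trans (sQ x hx _ hu)))
      rwa [ee_bt, ee_bt, Fin.rev_rev, (σ : RingAut F).injective.eq_iff] at this

theorem adj (e : Em ι) (h2 : 𝐪 = 2) {g : G} (z : Nz ι g) {δ : V → V} {φ : RingAut F} (d : Dl ι g δ φ) {α : X →* X}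
    (az : ∀ c, α (zz c) = zz c) (aQ : ∀ x ∈ QQ n F, α x ∈ QQ n F ∧ cv (α x) = δ (cv x)) :
    ∃ y ∈ QQ n F, ∀ x ∈ QQ n F, g * ι y * ι x * (g * ι y)⁻¹ = ι (α x) := by
  classical
  have zZ : ∀ c : K0 F, (zz c : X) ∈ ZZ n F := fun c => mem_ZZ.2 ⟨c, rfl⟩
  have zm : ∀ c c' : K0 F, (zz c : X) * zz c' = zz (c + c') := fun c c' => tc_mul CE.b00 c c'
  have same : ∀ x ∈ QQ n F, ∀ y ∈ QQ n F, cv x = cv y → ∃ c, x = y * zz c := fun x hx y hy k => by
    have k0 : cv (y⁻¹ * y) = 0 := (cv_ker (mul_mem (inv_mem hy) hy)).2 (by rw [inv_mul_cancel]; exact one_mem _)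
    rw [cv_mul (inv_mem hy) hy, ← k, ← cv_mul (inv_mem hy) hx] at k0
    obtain ⟨c, hc⟩ := mem_ZZ.1 ((cv_ker (mul_mem (inv_mem hy) hx)).1 k0)
    exact ⟨c, by rw [← hc, mul_inv_cancel_left]⟩
  have ex : ∀ w : V, ∃ (x : X) (c : K0 F), Mi w → x ∈ QQ n F ∧ cv x = w ∧ g * ι x * g⁻¹ = ι (α x * zz c) := fun w => by
    by_cases hw : Mi w
    · obtain ⟨x, hx, rfl⟩ := cv_surj hw
      obtain ⟨x', h1, h3, h4⟩ := d.act x hx
      obtain ⟨c, hc⟩ := same x' h1 _ (aQ x hx).1 (h4.trans (aQ x hx).2.symm)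
      exact ⟨x, c, fun _ => ⟨hx, rfl, hc ▸ h3⟩⟩
    · exact ⟨1, 0, fun k => absurd k hw⟩
  choose f c hf using ex
  obtain ⟨ω, hω⟩ := ex_om (F := F)
  obtain ⟨y, hy, ey⟩ := cv_surj (n := n) (w := fun i => if i = 0 ∨ i = iL then 0 else
    (c (ω • ee i.rev) : F) + c (ee i.rev) * ω) ⟨if_pos (Or.inl rfl), if_pos (Or.inr rfl)⟩
  have zg : ∀ a, g * ι (zz a) * g⁻¹ = ι (zz a) := fun a => by rw [z.cZ _ (zZ a), mul_inv_cancel_right]
  have one : ∀ w, Mi w → bt (cv y) w + σ (bt (cv y) w) = c w →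
      ∃ x ∈ QQ n F, cv x = w ∧ g * ι y * ι x * (g * ι y)⁻¹ = ι (α x) := fun w hw k => by
    obtain ⟨h1, h3, h4⟩ := hf w hw
    obtain ⟨b, hb, eb⟩ := comm_QQ hy h1
    rw [h3, k] at hb
    refine ⟨_, h1, h3, ?_⟩
    have e1 : y * f w * y⁻¹ = f w * zz b := by
      rw [eb, mul_assoc (f w), PP_cen (QQ_le hy), ← mul_assoc, mul_inv_cancel_right]
    rw [show g * ι y * ι (f w) * (g * ι y)⁻¹ = g * ι (y * f w * y⁻¹) * g⁻¹ by simp only [map_mul, map_inv]; group,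
      e1, map_mul, ← conj_mul, h4, zg, ← map_mul, mul_assoc, Subtype.ext hb, CE.zsq, mul_one]
  have p0 : ∃ x ∈ QQ n F, cv x = 0 ∧ g * ι y * ι x * (g * ι y)⁻¹ = ι (α x) :=
    ⟨1, one_mem _, (cv_ker (one_mem _)).2 (one_mem _), by simp⟩
  have pa : ∀ v w : V, (∃ x ∈ QQ n F, cv x = v ∧ g * ι y * ι x * (g * ι y)⁻¹ = ι (α x)) →
      (∃ x ∈ QQ n F, cv x = w ∧ g * ι y * ι x * (g * ι y)⁻¹ = ι (α x)) →
      ∃ x ∈ QQ n F, cv x = v + w ∧ g * ι y * ι x * (g * ι y)⁻¹ = ι (α x) := by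
    rintro _ _ ⟨a, ha, rfl, k⟩ ⟨b, hb, rfl, k'⟩
    exact ⟨a * b, mul_mem ha hb, cv_mul ha hb, by rw [map_mul, ← conj_mul, k, k', map_mul, map_mul]⟩
  have all : ∀ w, Mi w → ∃ x ∈ QQ n F, cv x = w ∧ g * ι y * ι x * (g * ι y)⁻¹ = ι (α x) := fun w hw => by
    refine ind (P := fun w => ∃ x ∈ QQ n F, cv x = w ∧ g * ι y * ι x * (g * ι y)⁻¹ = ι (α x)) p0
      (fun v w _ _ => pa v w) (fun a j k => ?_) hw
    have k' : ¬ (j.rev = 0 ∨ j.rev = iL) := fun m => k (by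
      rcases m with m | m
      · right; rw [← CE.r0, ← m, Fin.rev_rev]
      · left; rwa [← CE.r0, Fin.rev_inj] at m)
    have yj : bt (cv y) (ee j) = (c (ω • ee j) : F) + c (ee j) * ω := by
      rw [bt_ee, ey]; simp only [if_neg k', Fin.rev_rev]
    have c1 : σ (c (ee j) : F) = c (ee j) := (c _).2
    have c2 : σ (c (ω • ee j) : F) = c (ω • ee j) := (c _).2
    have two : (2 : F) = 0 := CharTwo.two_eq_zero
    have q1 := one _ (mi_ee k) (by
      rw [yj, map_add, map_mul, c1, c2]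
      linear_combination (c (ee j) : F) * hω + (c (ω • ee j) : F) * two)
    have q2 := one _ (mi_smul (mi_ee k) ω) (by
      rw [bt_smul_right, yj, map_mul, map_add, map_mul, c1, c2, sg_sg]
      linear_combination (c (ω • ee j) : F) * hω + (c (ee j) * ω * σ ω : F) * two)
    obtain ⟨r, s, rfl⟩ := dec_om hω a
    rw [add_smul, mul_smul]
    refine pa _ _ ?_ ?_
    · rcases H80.k01 h2 r.2 with m | m <;> rw [m]
      · rwa [zero_smul]
      · rwa [one_smul]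
    · rcases H80.k01 h2 s.2 with m | m <;> rw [m]
      · rwa [zero_smul]
      · rwa [one_smul]
  refine ⟨y, hy, fun x hx => ?_⟩
  obtain ⟨x', h1, h3, h4⟩ := all _ (cv_mi x)
  obtain ⟨b, rfl⟩ := same x hx x' h1 h3.symm
  rw [map_mul, ← conj_mul, h4, map_mul α, az, map_mul]
  congr 1
  rw [mul_assoc g, ← map_mul, PP_cen (QQ_le hy), map_mul, ← mul_assoc, z.cZ _ (zZ b), mul_assoc (ι _),
    mul_inv_cancel_right]

theorem onP (e : Em ι) {g : G} (hg : g ∈ 𝐍((PP n F).map ι)) {α : X →* X} {φ : RingAut F} (a : Au α φ)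
    (aP : ∀ p ∈ PP n F, α p ∈ PP n F) (aQ : ∀ x ∈ QQ n F, α x ∈ QQ n F)
    (k : ∀ x ∈ QQ n F, g * ι x * g⁻¹ = ι (α x)) : ∀ p ∈ PP n F, g * ι p * g⁻¹ = ι (α p) := by
  have sj : (QQ n F).map α = QQ n F := eq_of_le_of_card_ge (map_le_iff_le_comap.2 aQ)
    (card_map_of_injective a.bij.1).ge
  have ex : ∀ p ∈ PP n F, ∃ c, g * ι p * g⁻¹ = ι (α p * zz c) := fun p hp => by
    obtain ⟨p', h1, h2⟩ := conj_mem_of_mem_normalizer hg (mem_map_of_mem ι hp)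
    obtain ⟨c, u, hu, eu⟩ := cQ e (a := ι ((α p)⁻¹ * p')) (le_normalizer ⟨_, rfl⟩) fun x hx => by
      obtain ⟨y, hy, rfl⟩ : x ∈ (QQ n F).map α := by rwa [sj]
      have m := k _ (conj_mem_of_mem_normalizer (PP_nQ hp) hy)
      rw [map_mul, map_mul, map_inv, ← conj_mul, ← conj_mul, conj_inv.symm, ← h2, k y hy] at m
      simp only [map_mul, map_inv] at m ⊢
      calc (ι (α p))⁻¹ * ι p' * ι (α y) = (ι (α p))⁻¹ * (ι p' * ι (α y) * (ι p')⁻¹) * ι p' := by group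
        _ = _ := by rw [m]; group
    have zP : (zz c : X) ∈ PP n F := QQ_le (H94.zzQ c)
    have : (α p)⁻¹ * p' * (zz c)⁻¹ = 1 := PP_cc (mul_mem (mul_mem (inv_mem (aP p hp)) h1) (inv_mem zP))
      (e.cen.1 (by rw [map_mul, eu, map_inv, mul_inv_cancel_right]; exact hu))
    exact ⟨c, by rw [← h2, ← mul_inv_eq_one.1 this, mul_inv_cancel_left]⟩
  have le : ⁅PP n F, PP n F⁆ ≤ (cι ι g).eqLocus (ι.comp α) := commutator_le.2 fun p hp r hr => by
    obtain ⟨c, ec⟩ := ex p hp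
    obtain ⟨d, ed⟩ := ex r hr
    change cι ι g ⁅p, r⁆ = ι (α ⁅p, r⁆)
    rw [map_commutatorElement, cι_apply, cι_apply, ec, ed, ← map_commutatorElement, map_commutatorElement α]
    congr 1
    have c1 := PP_cen (aP p hp)
    have c2 := PP_cen (aP r hr)
    have c3 := PP_cen (QQ_le (H94.zzQ (n := n) c)) d
    rw [commutatorElement_def, commutatorElement_def]
    calc α p * zz c * (α r * zz d) * (α p * zz c)⁻¹ * (α r * zz d)⁻¹
        = α p * (zz c * α r) * zz d * (zz c)⁻¹ * ((zz d * α p)⁻¹ * zz d) * (α r * zz d)⁻¹ := by group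
      _ = α p * α r * (zz c * zz d) * (zz c)⁻¹ * (zz d)⁻¹ * (α p)⁻¹ * (zz d * (zz d)⁻¹) * (α r)⁻¹ := by
        rw [← c2 c, ← c1 d]; group
      _ = _ := by rw [c3]; group
  intro p hp
  exact le (PP_pf.ge hp)

theorem s6b (h : C1 ι t) (h2 : 𝐪 = 2) {g : G} {c : K0 F} (hc : c ≠ 0) (e : g * t * g⁻¹ = t * ι (zz c))
    (k : g ∈ 𝐍((ZZ n F).map ι)) : ∃ c' y, c' ≠ 0 ∧ D1 ι t c' y := by
  have k01 : ∀ a : K0 F, a = 0 ∨ a = 1 := fun a => (H80.k01 h2 a.2).imp Subtype.ext Subtype.ext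
  obtain rfl : c = 1 := (k01 c).resolve_left hc
  have z0 : (zz 0 : X) = 1 := tc_zero _
  have cz : Cn ι (ZZ n F) g := fun x hx => by
    obtain ⟨a, rfl⟩ := mem_ZZ.1 hx
    obtain ⟨y, hy, ey⟩ := conj_mem_of_mem_normalizer k (mem_map_of_mem ι hx)
    obtain ⟨b, rfl⟩ := mem_ZZ.1 hy
    rcases k01 a with rfl | rfl
    · rw [z0, map_one, mul_one, one_mul]
    rcases k01 b with rfl | rfl
    · rw [z0, map_one, eq_comm, conj_eq_one_iff] at ey
      rw [ey, mul_one, one_mul]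
    · rw [← mul_inv_eq_iff_eq_mul, ← ey]
  have z : Nz ι g := ⟨(H24.nv h e k).1, (H24.nv h e k).2, cz⟩
  obtain ⟨δ, φ, d⟩ := H80.exDl h.em h2 z
  obtain ⟨α, a, az, aP, aQ⟩ := exA d
  obtain ⟨y, hy, ey⟩ := adj h.em h2 z d az aQ
  have hP := onP h.em (mul_mem z.nP (le_normalizer (mem_map_of_mem ι (QQ_le hy)))) a aP (fun x hx => (aQ x hx).1) ey
  obtain ⟨u, h1, h3⟩ := H18.partB h α (g := g * ι y) (by
    rw [az, ← e, mul_assoc g, ← h.tc]; group) hP 1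
  obtain ⟨w, hw⟩ := H78.partC h h1 h3
  exact ⟨1, w, one_ne_zero, hw⟩

end UMS.H86
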