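import Cfsg.Agent.Lib.UMS.DL80
import Cfsg.Agent.Lib.UMS.AU
import Cfsg.Agent.Lib.UMS.Au62
import Cfsg.Agent.Lib.UMS.CE
import Cfsg.Agent.Lib.UMS.B3b
import Cfsg.Agent.Lib.UMS.S6B18
import Cfsg.Agent.Lib.UMS.S6C78

/-! The normaliser of `P` acts on `P` like a semilinear automorphism. -/

set_option autoImplicit false
set_option linter.unusedSectionVars false

namespace UMS

open Subgroup H69 Cfsg Matrix U4S
open LMS (XX GX iL kk MM au tw Sg)
open scoped MatrixGroups commutatorElement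

universe u
variable {G : Type*} [Group G] [Finite G] {F : Type u} [Field F] [CharP F 2] [Fintype F] [Hs F] {n : ℕ} [Ok n F]
  {ι : XU n F →* G} {g : G} {δ : VV n F → VV n F} {φ : RingAut F}

local notation "X" => XU n F
local notation "V" => VV n F
local notation "𝐪" => Nat.card (K0 F)
local notation "I" => Fin (n + 3)
local notation "Q" => QQ n F

namespace H9

open AU45 S670

theorem mi0 : Mi (0 : V) := ⟨rfl, rfl⟩

theorem mi_c {w : V} (h : Mi w) (j : I) : Mi (w j • ee j : V) := by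
  by_cases h0 : j = 0
  · rw [h0, h.1, zero_smul]; exact mi0
  by_cases hL : j = iL
  · rw [hL, h.2, zero_smul]; exact mi0
  exact H94.mi_ee h0 hL _

theorem ind {P : V → Prop} {w : V} (h : Mi w) (h0 : P 0) (h1 : ∀ j, j ≠ 0 → j ≠ iL → P (w j • ee j))
    (h2 : ∀ u v, Mi u → Mi v → P u → P v → P (u + v)) : P w := by
  have k : ∀ s : Finset I, Mi (∑ j ∈ s, w j • ee j : V) ∧ P (∑ j ∈ s, w j • ee j) := fun s => by
    induction s using Finset.induction_on with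
    | empty => exact ⟨mi0, h0⟩
    | insert j s hj ih =>
      rw [Finset.sum_insert hj]
      refine ⟨H80.mi_add (mi_c h j) ih.1, h2 _ _ (mi_c h j) ih.1 ?_ ih.2⟩
      by_cases j0 : j = 0
      · rw [j0, h.1, zero_smul]; exact h0
      by_cases jL : j = iL
      · rw [jL, h.2, zero_smul]; exact h0
      exact h1 j j0 jL
  have e : (∑ j, w j • ee j : V) = w := by
    funext i
    simp [ee, Finset.sum_apply, Pi.single_apply]
  exact e ▸ (k Finset.univ).2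

theorem T_ee (a : GX n F) (j : I) : T a φ (ee j) = fun i => a.1 i j := by
  have : (fun i => φ ((ee j : V) i)) = Pi.single j 1 := by
    funext i
    simp only [ee, Pi.single_apply]
    split_ifs <;> simp
  rw [T, this, mulVec_single_one]; rfl

theorem exM (d : Dl ι g δ φ) : ∃ a : GX n F, H12.ad a.1 * a.1 = 1 ∧ T a φ (ee 0) = ee 0 ∧
    ∀ w, Mi w → T a φ w = δ w := by
  classical
  let v : I → V := fun j => if j = 0 ∨ j = iL then ee j else δ (ee j)
  have me : ∀ j : I, ¬ (j = 0 ∨ j = iL) → Mi (ee j : V) := fun j hj => by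
    simpa using H94.mi_ee (F := F) (not_or.1 hj).1 (not_or.1 hj).2 1
  have o : ∀ (w : V) (j : I), Mi w → (j = 0 ∨ j = iL) → bt w (ee j) = 0 := fun w j hw hj => by
    rcases hj with rfl | rfl
    · rw [bt_ee, H94.rL, hw.2]
    · rw [bt_ee, H94.rL', hw.1]
  have b : ∀ i j, bt (v i) (v j) = bt (ee i : V) (ee j) := fun i j => by
    by_cases hi : i = 0 ∨ i = iL <;> by_cases hj : j = 0 ∨ j = iL <;> simp only [v, hi, hj, if_true, if_false]
    · rw [bt_symm, o _ _ (d.mi _ (me j hj)) hi, bt_symm, o _ _ (me j hj) hi]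
    · rw [o _ _ (d.mi _ (me i hi)) hj, o _ _ (me i hi) hj]
    · rw [d.iso _ _ (me i hi) (me j hj), bee]
      split_ifs <;> simp
  let M : Matrix I I F := of fun i j => v j i
  have hM : H12.ad M * M = 1 := by
    ext i j
    have := b j i.rev
    rw [bee, Fin.rev_rev] at this
    rw [one_apply, if_congr eq_comm rfl rfl, ← this, Matrix.mul_apply, bt]
    exact Finset.sum_congr rfl fun k _ => mul_comm _ _
  let a : GX n F := ⟨M, H12.ad M, mul_eq_one_comm.1 hM, hM⟩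
  have te : ∀ j, T a φ (ee j) = v j := fun j => T_ee a j
  refine ⟨a, hM, by rw [te]; exact if_pos (Or.inl rfl), fun w hw => ?_⟩
  have d0 : δ 0 = 0 := by simpa using d.smul 0 0 mi0
  refine ind (P := fun w => T a φ w = δ w) hw ?_ (fun j j0 jL => ?_) fun u v hu hv h1 h2 => ?_
  · rw [d0]; simpa using T_smul a φ 0 0
  · have hj : ¬ (j = 0 ∨ j = iL) := not_or.2 ⟨j0, jL⟩
    rw [T_smul, te, d.smul _ _ (me j hj)]
    exact congrArg _ (if_neg hj)
  · rw [T_add, d.add _ _ hu hv, h1, h2]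

theorem exα (d : Dl ι g δ φ) : ∃ α : X →* X, Function.Injective α ∧ (∀ p ∈ PP n F, α p ∈ PP n F) ∧
    ∀ x ∈ Q, α x ∈ Q ∧ cv (α x) = δ (cv x) := by
  obtain ⟨a, ha, a0, aw⟩ := exM d
  let α : X →* X := (H62.giH ⟨a, ha⟩).toMonoidHom.comp (H62.frU φ)
  have hα : ∀ x, (α x).1 = au a φ false x.1 := fun x => rfl
  have k : ∀ x ∈ Q, ∀ v : V, v iL = 0 → ac (α x) v = v + bt v (δ (cv x)) • ee 0 := fun x hx v hv => by
    obtain ⟨v, rfl⟩ := T_surj a φ v
    have : v iL = 0 := by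
      have h1 := bt_T ha φ v (ee 0)
      rw [a0, bt_ee, bt_ee, H94.rL, hv] at h1
      exact (map_eq_zero φ).1 h1.symm
    rw [ac_T hα, ac_QQ hx this, T_add, T_smul, a0, ← aw _ (cv_mi x), bt_T ha]
  refine ⟨α, (Au.bij ⟨a, hα⟩).1, fun p hp => mem_PP.2 (by
    conv_lhs => rw [← a0, ac_T hα, mem_PP.1 hp, a0]), fun x hx => ?_⟩
  have q : α x ∈ Q := QQ_iff.2 fun v hv => ⟨_, k x hx v hv, fun e => by
    rw [e, H94.b2 (d.mi _ (cv_mi x))]⟩
  refine ⟨q, Tr_nd (cv_mi _) (d.mi _ (cv_mi x)) fun w hw => ?_⟩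
  have h1 := (ac_QQ q hw.2).symm.trans (k x hx w hw.2)
  have h2 := congrFun (add_left_cancel h1) 0
  simp only [Pi.smul_apply, ee, Pi.single_eq_same, smul_eq_mul, mul_one] at h2
  refine Subtype.ext ?_
  change bt _ _ + σ (bt _ _) = bt _ _ + σ (bt _ _)
  rw [bt_symm w, bt_symm w (δ _), h2]

theorem dual (h2 : 𝐪 = 2) {R : V → K0 F → Prop} (h0 : R 0 0) (h1 : ∀ w, Mi w → ∃ c, R w c)
    (h3 : ∀ u v c c', R u c → R v c' → R (u + v) (c + c')) : ∃ v, Mi v ∧ ∀ w, Mi w → R w (Tr v w) := by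
  classical
  obtain ⟨ω, hω⟩ := ex_om (F := F)
  choose! f hf using h1
  let v : V := fun i => if i = 0 ∨ i = iL then 0 else
    (f (ee i.rev) : F) * ω + f (ω • ee i.rev)
  refine ⟨v, ⟨if_pos (Or.inl rfl), if_pos (Or.inr rfl)⟩, fun w hw => ?_⟩
  have two : (2 : F) = 0 := CharTwo.two_eq_zero
  have z : Tr v 0 = 0 := by simpa using Tr_r 0 v 0
  have ad : ∀ a b : V, Tr v (a + b) = Tr v a + Tr v b := fun a b => Subtype.ext (by
    change bt _ _ + σ (bt _ _) = bt _ _ + σ (bt _ _) + (bt _ _ + σ (bt _ _))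
    rw [bt_add_right, map_add]; ring)
  refine ind (P := fun w => R w (Tr v w)) hw (z ▸ h0) (fun j j0 jL => ?_)
    fun a b _ _ ha hb => ad a b ▸ h3 _ _ _ _ ha hb
  have vj : v j.rev = (f (ee j) : F) * ω + f (ω • ee j) := by
    have : ¬ (j.rev = 0 ∨ j.rev = iL) := by
      rw [← H94.rL', ← H94.rL, Fin.rev_inj, Fin.rev_inj]; tauto
    simp only [v, if_neg this, Fin.rev_rev]
  have e1 : Tr v (ee j) = f (ee j) := Subtype.ext (by
    change bt _ _ + σ (bt _ _) = _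
    rw [bt_ee, vj, map_add, map_mul, mem_K0.1 (f _).2, mem_K0.1 (f _).2]
    linear_combination (f (ee j) : F) * hω + (f (ω • ee j) : F) * two)
  have e2 : Tr v (ω • ee j) = f (ω • ee j) := Subtype.ext (by
    change bt _ _ + σ (bt _ _) = _
    rw [bt_smul_right, bt_ee, vj, map_mul, map_add, map_mul, mem_K0.1 (f _).2, mem_K0.1 (f _).2, sg_sg]
    linear_combination (f (ω • ee j) : F) * hω + (f (ee j) : F) * ω * σ ω * two)
  have r1 : R (ee j) (Tr v (ee j)) := e1 ▸ hf _ (by simpa using H94.mi_ee (F := F) j0 jL 1)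
  have r2 : R (ω • ee j) (Tr v (ω • ee j)) := e2 ▸ hf _ (H94.mi_ee j0 jL ω)
  obtain ⟨x, y, e⟩ := dec_om hω (w j)
  rw [e, add_smul, ad]
  refine h3 _ _ _ _ ?_ ?_
  · rcases H80.k01 h2 (mem_K0.1 x.2) with k | k <;> rw [k]
    · rw [zero_smul]; exact z ▸ h0
    · rwa [one_smul]
  · rcases H80.k01 h2 (mem_K0.1 y.2) with k | k <;> rw [k]
    · rw [zero_mul, zero_smul]; exact z ▸ h0
    · rwa [one_mul]

theorem ofDl (e : Em ι) (h2 : 𝐪 = 2) (z : Nz ι g) (d : Dl ι g δ φ) :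
    ∃ (x : X) (α : X →* X), (∀ p ∈ PP n F, g * ι x * ι p * (g * ι x)⁻¹ = ι (α p)) ∧ ∀ c, α (zz c) = zz c := by
  obtain ⟨α, inj, aP, aQ⟩ := exα d
  have gz : ∀ c, g * ι (zz c) * g⁻¹ = ι (zz c) := fun c => by
    rw [z.cZ _ (mem_ZZ.2 ⟨c, rfl⟩), mul_inv_cancel_right]
  have zc : ∀ p ∈ PP n F, ∀ c, ι (zz c) * ι p = ι p * ι (zz c) := fun p hp c => by
    rw [← map_mul, ← map_mul, PP_cen hp]
  have ex : ∀ x ∈ Q, ∃ c, g * ι x * g⁻¹ = ι (α x) * ι (zz c) := fun x hx => by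
    obtain ⟨x', h1, h3, h4⟩ := d.act x hx
    obtain ⟨c, rfl⟩ := Q_eq (aQ x hx).1 h1 (h4.trans (aQ x hx).2.symm)
    exact ⟨c, by rw [h3, map_mul]⟩
  have zQ : ∀ c, (zz c : X) ∈ Q := H94.zzQ
  have d0 : δ 0 = 0 := by simpa using d.smul 0 0 mi0
  have az : ∀ c, α (zz c) = zz c := fun c => by
    have k := aQ _ (zQ c)
    rw [(cv_ker (zQ c)).2 (mem_ZZ.2 ⟨c, rfl⟩), d0] at k
    obtain ⟨c', hc⟩ := mem_ZZ.1 ((cv_ker k.1).1 k.2)
    rcases H80.k01 h2 (mem_K0.1 c.2) with k1 | k1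
    · rw [show c = 0 from Subtype.ext k1, zz_zero, map_one]
    rcases H80.k01 h2 (mem_K0.1 c'.2) with k2 | k2
    · rw [show c' = 0 from Subtype.ext k2, zz_zero, ← map_one α] at hc
      rw [inj hc, map_one]
    · rw [hc, show c' = c from Subtype.ext (k2.trans k1.symm)]
  obtain ⟨v, hv, hR⟩ := dual h2 (R := fun w c => ∃ x ∈ Q, cv x = w ∧ g * ι x * g⁻¹ = ι (α x) * ι (zz c))
    ⟨1, one_mem _, (cv_ker (one_mem _)).2 (one_mem _), by simp [zz_zero]⟩
    (fun w hw => by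
      obtain ⟨x, hx, rfl⟩ := cv_surj hw
      exact (ex x hx).imp fun c hc => ⟨x, hx, rfl, hc⟩)
    (by
      rintro _ _ c c' ⟨x, hx, rfl, h1⟩ ⟨y, hy, rfl, h3⟩
      refine ⟨x * y, mul_mem hx hy, cv_mul hx hy, ?_⟩
      rw [map_mul, ← conj_mul, h1, h3, ← zz_mul, map_mul, map_mul, map_mul, mul_assoc, ← mul_assoc (ι (zz c)),
        zc _ (QQ_le (aQ y hy).1)]
      simp only [mul_assoc])
  obtain ⟨x0, hx0, rfl⟩ := cv_surj hv
  have kQ : ∀ x ∈ Q, g * ι x0 * ι x * (g * ι x0)⁻¹ = ι (α x) := fun x hx => by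
    obtain ⟨y, hy, e1, e2⟩ := hR _ (cv_mi x)
    obtain ⟨b, rfl⟩ := Q_eq hy hx e1.symm
    obtain ⟨c, h1, h3⟩ := comm_QQ hx0 hx
    have h4 : c = Tr (cv x0) (cv (y * zz b)) := Subtype.ext h1
    rw [← h4] at e2
    calc _ = g * ι (x0 * (y * zz b)) * (ι x0)⁻¹ * g⁻¹ := by rw [map_mul ι x0]; group
      _ = g * ι y * g⁻¹ * (g * ι (zz b) * g⁻¹) * (g * ι (zz c) * g⁻¹) := by
        rw [h3, mul_assoc _ x0, PP_cen (QQ_le hx0)]; simp only [map_mul]; group
      _ = _ := by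
        rw [e2, gz, gz, map_mul, map_mul, az, mul_assoc, mul_assoc, zc _ (QQ_le (zQ c)) b, ← mul_assoc (ι (zz c)),
          ← map_mul, zz_sq, map_one, one_mul]
  have nP : g * ι x0 ∈ 𝐍((PP n F).map ι) :=
    mul_mem z.nP (le_normalizer (mem_map_of_mem ι (QQ_le hx0)))
  refine ⟨x0, α, ?_, az⟩
  generalize g * ι x0 = k at kQ nP ⊢
  have sQ : (Q).map α = Q := eq_of_le_of_card_ge (map_le_iff_le_comap.2 fun x hx => (aQ x hx).1)
    (card_map_of_injective inj).ge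
  have kP : ∀ p ∈ PP n F, ∃ c, k * ι p * k⁻¹ = ι (α p) * ι (zz c) := fun p hp => by
    obtain ⟨p', hp', e1⟩ := (mem_normalizer_iff.1 nP _).1 (mem_map_of_mem ι hp)
    obtain ⟨c, κ, hκ, e2⟩ := cQ e (a := ι ((α p)⁻¹ * p')) (le_normalizer ⟨_, rfl⟩) fun y hy => by
      obtain ⟨x, hx, rfl⟩ := sQ.ge hy
      have h1 := kQ _ (conj_mem_of_mem_normalizer (PP_nQ hp) hx)
      simp only [map_mul, map_inv] at h1 ⊢
      rw [← kQ x hx, e1]
      calc _ = (ι (α p))⁻¹ * (k * (ι p * ι x * (ι p)⁻¹) * k⁻¹) * (k * ι p * k⁻¹) := by group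
        _ = _ := by rw [h1, ← kQ x hx]; group
    have h1 : (α p)⁻¹ * p' * (zz c)⁻¹ = 1 := PP_cc (mul_mem (mul_mem (inv_mem (aP p hp)) hp') (inv_mem (QQ_le (zQ c))))
      (e.cen.1 (by rwa [map_mul, map_inv, e2, mul_inv_cancel_right]))
    refine ⟨c, ?_⟩
    rw [← e1, ← map_mul, ← mul_inv_eq_one.1 h1, mul_inv_cancel_left]
  let S : Subgroup X := ((MulAut.conj k).toMonoidHom.comp ι).eqLocus (ι.comp α)
  have : PP n F ≤ S := by
    rw [← PP_pf, commutator_le]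
    intro a ha b hb
    obtain ⟨c, h1⟩ := kP a ha
    obtain ⟨c', h3⟩ := kP b hb
    change k * ι ⁅a, b⁆ * k⁻¹ = ι (α ⁅a, b⁆)
    have c1 := zc _ (aP b hb) c
    have c2 := zc _ (aP a ha) c'
    have c3 := zc _ (QQ_le (zQ c')) c
    rw [map_commutatorElement, conjugate_commutatorElement, h1, h3, map_commutatorElement, map_commutatorElement]
    simp only [commutatorElement_def]
    generalize ι (α a) = A at *
    generalize ι (α b) = B at *
    generalize ι (zz c) = C at *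
    generalize ι (zz c') = D at *
    calc _ = A * (C * B) * D * C⁻¹ * A⁻¹ * D⁻¹ * B⁻¹ := by group
      _ = A * B * (C * D) * C⁻¹ * A⁻¹ * D⁻¹ * B⁻¹ := by rw [c1]; group
      _ = A * B * A⁻¹ * (A * D) * A⁻¹ * D⁻¹ * B⁻¹ := by rw [c3]; group
      _ = _ := by rw [← c2]; group
  exact fun p hp => this hp

theorem s6b {t : G} (h : C1 ι t) (h2 : 𝐪 = 2) {c : K0 F} (hc : c ≠ 0) (e : g * t * g⁻¹ = t * ι (zz c))
    (k : g ∈ 𝐍((ZZ n F).map ι)) : ∃ c' y, c' ≠ 0 ∧ D1 ι t c' y := by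
  have c1 : c = 1 := Subtype.ext ((H80.k01 h2 (mem_K0.1 c.2)).resolve_left fun k => hc (Subtype.ext k))
  subst c1
  obtain ⟨nP, nQ⟩ := H24.nv h e k
  have cZ : Cn ι (ZZ n F) g := fun x hx => by
    obtain ⟨a, rfl⟩ := mem_ZZ.1 hx
    obtain ⟨y, hy, e1⟩ := (mem_normalizer_iff.1 k _).1 (mem_map_of_mem ι hx)
    obtain ⟨b, rfl⟩ := mem_ZZ.1 hy
    rcases H80.k01 h2 (mem_K0.1 a.2) with k1 | k1
    · rw [show a = 0 from Subtype.ext k1, zz_zero, map_one, mul_one, one_mul]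
    rcases H80.k01 h2 (mem_K0.1 b.2) with k2 | k2
    · rw [show b = 0 from Subtype.ext k2, zz_zero, map_one, eq_comm, conj_eq_one_iff] at e1
      rw [e1, mul_one, one_mul]
    · rw [show b = a from Subtype.ext (k2.trans k1.symm)] at e1
      exact mul_inv_eq_iff_eq_mul.1 e1.symm
  have z : Nz ι g := ⟨nP, nQ, cZ⟩
  obtain ⟨δ, φ, d⟩ := H80.exDl h.em h2 z
  obtain ⟨x, α, hα, az⟩ := ofDl h.em h2 z d
  obtain ⟨y, h1, h3⟩ := H18.partB h α (g := g * ι x) (by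
    rw [az, ← e, mul_assoc g, ← h.tc]; group) hα 1
  obtain ⟨y', hy⟩ := H78.partC h h1 h3
  exact ⟨1, y', one_ne_zero, hy⟩

end H9

end UMS
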