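import Cfsg.Agent.Lib.UMS.BKb
import Cfsg.Agent.Lib.UMS.CE

set_option autoImplicit false
set_option linter.unusedSectionVars false

namespace UMS

open Subgroup H69 Cfsg Matrix U4S
open LMS (XX GX iL kk MM au tw Sg)
open scoped MatrixGroups commutatorElement

universe u
variable {G : Type*} [Group G] [Finite G] {F : Type u} [Field F] [CharP F 2] [Fintype F] [Hs F] {n : ℕ} [Ok n F]
  {ι ψ χ : XU n F →* G} {t : G} {E : Subgroup G}

local notation "X" => XU n F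

theorem yy_par (h : C1 ι t) (e' : Em ψ) (k : ψ.range = ι.range) : YY ψ t = YY ι t := H57.yy_par h e' k

theorem yy_cj (g : G) : YY (cι ι g) (g * t * g⁻¹) = YY ι t ^ᶜ g := H57.yy_cj g

theorem cM (h : C1 ι t) {c : G} (k : c * t = t * c) : c ∈ 𝐍(YY ι t) := H57.cM h k

theorem bk (h : C4 ι t) {g : G} (e : Em ψ) (c : ∀ x, g * t * g⁻¹ * ψ x = ψ x * (g * t * g⁻¹)) {H : Subgroup G}
    (le : ψ.range ≤ H) (k : ∀ c, ∃ u ∈ H, u * u = 1 ∧ D0 ψ (g * t * g⁻¹) (ee 0) c u) : YY ι t ^ᶜ g ≤ H :=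
  H57.bk0 h.toC2 e c (fun _ ha => cP e ha H57.is0) le k

end UMS
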