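import Cfsg.Agent.Lib.UMS.Aut62
import Cfsg.Agent.Lib.UMS.HY

set_option autoImplicit false
set_option linter.unusedSectionVars false

namespace UMS.H57

open Subgroup H69 Cfsg Matrix U4S
open LMS (XX GX iL kk MM au tw Sg)
open scoped MatrixGroups commutatorElement

universe u
variable {G : Type*} [Group G] [Finite G] {F : Type u} [Field F] [CharP F 2] [Fintype F] [Hs F] {n : ℕ} [Ok n F]
  {ι ψ χ : XU n F →* G} {t : G} {E : Subgroup G}

theorem is0 : Is (ee 0 : VV n F) := H76.is_ee fun e => by simpa using congrArg Fin.val e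

theorem mem_PP {x : XU n F} : x ∈ PP n F ↔ ac x (ee 0) = ee 0 :=
  ⟨fun h => h _ rfl, fun h _ e => e ▸ h⟩

theorem au_zz {α : XU n F →* XU n F} {φ : RingAut F} (h : Au α φ) : ∃ u, Is u ∧ ∃ β : K0 F → K0 F,
    Function.Bijective β ∧ (∀ c, α (zz c) = tc u (β c)) ∧ ∀ x ∈ PP n F, ac (α x) u = u := by
  obtain ⟨g, hg⟩ := h
  have val : ∀ x, (α x).1.1 = g.1 * x.1.1.map φ * (g⁻¹).1 := fun x => congrArg Subtype.val (hg x)
  have gi : ∀ v : VV n F, (g⁻¹).1 *ᵥ (g.1 *ᵥ v) = v := fun v => by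
    rw [mulVec_mulVec, Units.inv_mul, one_mulVec]
  obtain ⟨u, hu⟩ : ∃ u, g.1 *ᵥ (ee 0 : VV n F) = u := ⟨_, rfl⟩
  obtain ⟨w, hw⟩ : ∃ w, H12.ad (g⁻¹).1 *ᵥ (ee 0 : VV n F) = w := ⟨_, rfl⟩
  have bw : ∀ v, bt (g.1 *ᵥ v) w = bt v (ee 0) := fun v => by rw [← hw, ← H12.bt_ad, gi]
  have v1 : ∀ c : K0 F, (α (zz c)).1.1 = 1 + φ c • hm u w := fun c => by
    have e : (zz c : XU n F).1.1.map φ = 1 + φ c • hm (ee 0) (ee 0) := by
      rw [zz, H12.tc_val is0.1, H12.hm_ee]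
      ext i j
      simp only [map_apply, Matrix.add_apply, Matrix.smul_apply, map_add, one_apply, single, of_apply, smul_eq_mul, map_mul]
      split_ifs <;> simp
    rw [val, e, mul_add, add_mul, mul_one, Units.mul_inv, mul_smul_comm, smul_mul_assoc, H12.mul_hm, hu,
      ← H12.ad_ad (g⁻¹).1, H12.hm_mul_ad, hw]
  have sym : ∀ c : K0 F, σ (φ c) • hm w u = φ c • hm u w := fun c => by
    have e : (α (zz c))⁻¹ = α (zz c) :=
      inv_eq_of_mul_eq_one_left (by rw [← map_mul, zz, H12.tc_sq is0.1, map_one])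
    have := H12.inv_val (α (zz c))
    rw [e, v1, H12.ad_add, H12.ad_one, H12.ad_smul, H12.ad_hm] at this
    exact (add_left_cancel this).symm
  have u0 : u ≠ 0 := fun e => H76.ee_ne 0 (by rw [← gi (ee 0), hu, e, mulVec_zero])
  obtain ⟨x0, hx⟩ : ∃ x0, bt x0 u ≠ 0 := by
    by_contra k
    push Not at k
    exact u0 (H76.bt_nd' k)
  obtain ⟨l, rfl⟩ : ∃ l : F, w = l • u := by
    have := congrArg (· *ᵥ x0) (sym 1)
    simp only [OneMemClass.coe_one, map_one, one_smul, H12.hm_mulVec] at this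
    exact ⟨(bt x0 u)⁻¹ * bt x0 w, by rw [mul_smul, ← this, smul_smul, inv_mul_cancel₀ hx, one_smul]⟩
  have l0 : σ l ≠ 0 := fun e => by
    have := bw (ee iL)
    rw [H12.bt_smul_r, e, zero_mul, H76.bt_ee, if_pos (by simp)] at this
    exact zero_ne_one this
  have iu : bt u u = 0 := by
    have := bw (ee 0)
    rw [hu, H12.bt_smul_r, is0.1] at this
    exact (mul_eq_zero.1 this).resolve_left l0
  have m : ∀ c : K0 F, φ c * σ l ∈ K0 F := fun c => by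
    have := congrArg (· *ᵥ x0) (sym c)
    simp only [H12.hm_smul_l, H12.hm_smul_r, smul_mulVec, H12.hm_mulVec, smul_smul] at this
    have := smul_left_injective F u0 this
    rw [mem_K0, map_mul, H12.ss]
    exact mul_right_cancel₀ hx this
  refine ⟨u, ⟨iu, u0⟩, fun c => ⟨_, m c⟩, Finite.injective_iff_bijective.1 fun c c' e => ?_, fun c => ?_,
    fun x hx => ?_⟩
  · exact Subtype.ext (φ.injective (mul_right_cancel₀ l0 (congrArg Subtype.val e)))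
  · exact H12.xext (by rw [v1, H12.tc_val iu, H12.hm_smul_r, smul_smul])
  · have e : x.1.1.map φ *ᵥ (ee 0 : VV n F) = ee 0 := by
      ext i
      have := congrFun (mem_PP.1 hx) i
      simp only [ac, ee, mulVec_single_one, col, transpose_apply, map_apply] at this ⊢
      rw [this, Pi.single_apply]
      split_ifs <;> simp
    rw [ac, val, ← mulVec_mulVec, ← mulVec_mulVec, ← hu, gi, e]

theorem tr_par (e : Em ι) (h : ψ.range = ι.range) : ∃ (l : XU n F) (β : K0 F → K0 F), Function.Bijective β ∧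
    (PP n F).map ψ = (PP n F).map ι ^ᶜ ι l ∧ ∀ c, ψ (zz c) = ι l * ι (zz (β c)) * (ι l)⁻¹ := by
  choose b hb using fun x => (h.le ⟨x, rfl⟩ : ψ x ∈ ι.range)
  obtain ⟨α, φ, au, hα⟩ := H62.aut_psu e b (fun x y => by rw [hb, hb, hb, map_mul]) fun y => by
    obtain ⟨x, hx⟩ := h.ge ⟨y, rfl⟩
    exact ⟨x, (hb x).trans hx⟩
  simp only [hb] at hα
  obtain ⟨u, iu, β, hβ, h1, h2⟩ := au_zz au
  obtain ⟨l, hl⟩ := H76.tr_Is (is0 (n := n) (F := F)) iu
  have k : (PP n F).map α = PP n F ^ᶜ l := by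
    refine eq_of_le_of_card_ge ?_ (by rw [card_cj, card_map_of_injective (H62.Au.inj au).1])
    rintro _ ⟨x, hx, rfl⟩
    refine mem_cj.2 (mem_PP.2 ?_)
    rw [H12.ac_mul, H12.ac_mul, hl, h2 x hx, ← hl, H12.ac_inv]
  refine ⟨l, β, hβ, ?_, fun c => ?_⟩
  · rw [show ψ = ι.comp α from MonoidHom.ext hα, ← Subgroup.map_map, k, Subgroup.map_map, Subgroup.map_map]
    congr 1
    exact MonoidHom.ext fun x => by simp
  · rw [hα, h1, ← map_inv, ← map_mul, ← map_mul, zz, H12.cj_tc l is0.1, hl]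

theorem yy_le (h : C1 ι t) (k : ψ.range = ι.range) : YY ψ t ≤ YY ι t := by
  obtain ⟨l, β, hβ, hQ, hx⟩ := tr_par h.em k
  simp only [zz] at hx
  refine (closure_le _).2 ?_
  rintro _ ⟨x, c, w, ⟨⟨w1, w2⟩, w3, w4, w5⟩, rfl⟩
  obtain ⟨x', hx'⟩ := k.le ⟨x, rfl⟩
  have lt : (ι l)⁻¹ * t * ι l = t := by rw [mul_assoc, h.tc, inv_mul_cancel_left]
  refine subset_closure ⟨x' * l, β c, (ι l)⁻¹ * w * ι l, ⟨⟨fun y hy => ?_, ?_⟩, fun o ho => ?_, ?_,
    fun a ea => ?_⟩, by rw [map_mul, hx']; group⟩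
  · obtain ⟨y', hy', ey⟩ := hQ.ge (cj_mem (ι l) (mem_map_of_mem ι hy))
    have := w1 y' hy'
    rw [ey] at this
    calc _ = (ι l)⁻¹ * (w * (ι l * ι y * (ι l)⁻¹)) * ι l := by group
      _ = _ := by rw [this]; group
  · calc _ = (ι l)⁻¹ * (w * (ι l * t * (ι l)⁻¹) * w⁻¹) * ι l := by group
      _ = (ι l)⁻¹ * t * ι l * ι (tc (ee 0) (β c)) := by
        rw [← h.tc, mul_inv_cancel_right, w2, hx]; group
      _ = _ := by rw [lt]
  · have c1 : Commute (ι l) o := ho.1 _ ⟨l, rfl⟩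
    exact ((c1.inv_left.mul_left (w3 o ⟨k ▸ ho.1, ho.2⟩)).mul_left c1).eq
  · calc _ = (ι l)⁻¹ * (w * w) * ι l := by group
      _ = 1 := by rw [w4]; group
  · obtain ⟨a, rfl⟩ := hβ.2 a
    refine w5 a ?_
    calc w = ι l * ((ι l)⁻¹ * w * ι l) * (ι l)⁻¹ := by group
      _ = ι l * ((ι l)⁻¹ * t * ι l * ι (tc (ee 0) (β a))) * (ι l)⁻¹ := by rw [ea, lt]
      _ = _ := by rw [hx]; group

theorem cj_le' (g : G) : YY ι t ^ᶜ g ≤ YY (cι ι g) (g * t * g⁻¹) := by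
  refine map_le_iff_le_comap.2 ((closure_le _).2 ?_)
  rintro _ ⟨x, c, w, ⟨⟨w1, w2⟩, w3, w4, w5⟩, rfl⟩
  refine subset_closure ⟨x, c, g * w * g⁻¹, ⟨⟨fun y hy => cj_comm_iff.2 (w1 y hy), ?_⟩, fun o ho => ?_, ?_,
    fun a ea => w5 a ?_⟩, ?_⟩
  · rw [cι_apply, conj_mul (b := g) (a := t), ← w2]; group
  · obtain ⟨o, rfl⟩ := exists_cj g o
    refine cj_comm_iff.2 (w3 o ⟨?_, cj_comm_iff.1 ho.2.1, ?_⟩)
    · rintro _ ⟨y, rfl⟩
      exact cj_comm_iff.1 (ho.1 _ ⟨y, rfl⟩)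
    · exact (MulAut.conj g).orderOf_eq o ▸ ho.2.2
  · rw [conj_mul, w4]; group
  · rw [cι_apply, conj_mul] at ea
    exact (MulAut.conj g).injective ea
  · change g * _ * g⁻¹ = _
    rw [cι_apply]; group

theorem c1_range (h : C1 ι t) (e' : Em ψ) (k : ψ.range = ι.range) : C1 ψ t :=
  ⟨e', h.t2, h.t1, fun x => by obtain ⟨y, e⟩ := k.le ⟨x, rfl⟩; rw [← e, h.tc], k ▸ h.CN, k ▸ h.uq⟩

theorem yy_par (h : C1 ι t) (e' : Em ψ) (k : ψ.range = ι.range) : YY ψ t = YY ι t :=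
  le_antisymm (yy_le h k) (yy_le (c1_range h e' k) k.symm)

theorem yy_cj (g : G) : YY (cι ι g) (g * t * g⁻¹) = YY ι t ^ᶜ g := by
  refine le_antisymm (fun y hy => mem_cj.2 ?_) (cj_le' g)
  have := cj_le' g⁻¹ (cj_mem g⁻¹ hy)
  rwa [show cι (cι ι g) g⁻¹ = ι from MonoidHom.ext fun x => by rw [cι_apply, cι_apply]; group,
    show g⁻¹ * (g * t * g⁻¹) * g⁻¹⁻¹ = t by group, inv_inv] at this

theorem cM (h : C1 ι t) {c : G} (k : c * t = t * c) : c ∈ 𝐍(YY ι t) := by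
  have := yy_cj (ι := ι) (t := t) c
  have e : Em (cι ι c) := fun x hx => h.em ((MulAut.conj c).injective (hx.trans (map_one _).symm))
  have r : (cι ι c).range = ι.range ^ᶜ c := MonoidHom.range_comp _ _
  rw [k, mul_inv_cancel_right, yy_par h e (r.trans (cj_eq_of_mem_normalizer (h.CN c k)))] at this
  exact cj_eq_self_iff.1 this.symm

end UMS.H57
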