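import Cfsg.Agent.Lib.UMS.Au77
import Cfsg.Agent.Lib.UMS.Aut62
import Cfsg.Agent.Lib.LMS.B7

/-! Parametrisations with central kernel. -/

set_option autoImplicit false
set_option linter.unusedSectionVars false
set_option linter.unusedVariables false

namespace UMS.H77

open Subgroup H69 Cfsg Matrix U4S
open LMS (XX GX iL kk MM au tw Sg)
open scoped MatrixGroups commutatorElement

universe u
variable {G : Type*} [Group G] [Finite G] {F : Type u} [Field F] [CharP F 2] [Fintype F] [Hs F] {n : ℕ} [Ok n F]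
  {ι ψ χ : XU n F →* G} {t : G} {E : Subgroup G}

local notation "X" => XU n F

theorem pf_X : commutator X = ⊤ := H62.pf_XU

theorem Em.inj2 (e : Em ι) {x y : X} (hx : P2 x) (hy : P2 y) (h : ι x = ι y) : x = y := by
  have z : x * y⁻¹ ∈ center X := e (by rw [MonoidHom.mem_ker, map_mul, map_inv, h, mul_inv_cancel])
  have c : Commute x y⁻¹ := by
    have := mem_center_iff.1 z y⁻¹
    exact (mul_right_cancel (b := y⁻¹) (by rw [mul_assoc y⁻¹, this])).symm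
  obtain ⟨a, ha⟩ := hx
  obtain ⟨b, hb⟩ := hy
  refine mul_inv_eq_one.1 (cen_two z ⟨a + b, ?_⟩)
  rw [c.mul_pow, inv_pow, pow_add, pow_mul, ha, mul_comm (2 ^ a), pow_mul, hb, one_pow, one_pow, inv_one,
    mul_one]

theorem Act.uniq (e : Em ι) {a : G} {α β : X →* X} (h : Act ι a α) (k : Act ι a β) : α = β :=
  LMS.B5b.triv pf_X α β fun x => e (by
    rw [MonoidHom.mem_ker, map_mul, map_inv, ← h, ← k, mul_inv_cancel])

theorem Act.self (u : X) : Act ι (ι u) (cn u) := fun x => by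
  rw [cn_apply, map_mul, map_mul, map_inv]

theorem Em.cen (e : Em ι) {x : X} : ι x ∈ 𝐂(ι.range) ↔ x ∈ center _ := by
  constructor
  · intro h
    have k : Act ι (ι x) (MonoidHom.id _) := fun y => by
      rw [← h (ι y) ⟨y, rfl⟩, mul_inv_cancel_right]; rfl
    refine mem_center_iff.2 fun y => ?_
    have := DFunLike.congr_fun (Act.uniq e (Act.self x) k) y
    exact (mul_inv_eq_iff_eq_mul.1 this).symm
  · rintro h _ ⟨y, rfl⟩
    rw [← map_mul, ← map_mul, mem_center_iff.1 h y]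

theorem Em.lift2 (e : Em ι) {a : G} (h : a ∈ ι.range) (p : P2 a) : ∃ y, P2 y ∧ ι y = a := by
  obtain ⟨x, rfl⟩ := h
  exact LMS.B5.odd_lift ι x p

theorem Em.lifti (e : Em ι) {a : G} (h : a ∈ ι.range) (p : a * a = 1) : ∃ y, y * y = 1 ∧ ι y = a := by
  obtain ⟨y, ⟨j, hj⟩, rfl⟩ := (Em.lift2 e) h (P2.of_sq p)
  refine ⟨y, (Em.inj2 e) ⟨j, ?_⟩ ⟨0, one_pow _⟩ (by rw [map_mul, p, map_one]), rfl⟩
  rw [← sq, ← pow_mul, mul_comm, pow_mul, hj, one_pow]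

theorem Em.card2 (e : Em ι) {W : Subgroup X} (h : IsPGroup 2 W) : Nat.card (W.map ι) = Nat.card W :=
  Nat.card_image_of_injOn (f := ι) (s := (W : Set X)) fun _ hx _ hy k =>
    (Em.inj2 e) (P2.of_mem h hx) (P2.of_mem h hy) k

theorem Em.comm2 (e : Em ι) {x y : X} (hx : P2 x) (h : ι x * ι y = ι y * ι x) : x * y = y * x :=
  (mul_inv_eq_iff_eq_mul.1 ((Em.inj2 e) (hx.cjg y) hx (by
    rw [map_mul, map_mul, map_inv, ← h, mul_inv_cancel_right]))).symm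

theorem Em.cc (e : Em ι) {a : G} (h : a ∈ ι.range) (c : a ∈ 𝐂(ι.range)) : Odd (orderOf a) := by
  obtain ⟨x, rfl⟩ := h
  exact cen_odd.of_dvd_nat ((orderOf_map_dvd ι x).trans (orderOf_dvd_natCard _ ((Em.cen e).1 c)))

theorem Em.cj (e : Em ι) (g : G) : Em (cι ι g) := fun x hx => e (by
  have : g * ι x * g⁻¹ = 1 := hx
  rw [MonoidHom.mem_ker]
  simpa using this)

theorem range_cι (g : G) : (cι ι g).range = ι.range ^ᶜ g := range_cj g

theorem Em.comp (e : Em ι) {α : X →* X} (h : Function.Bijective α) : Em (ι.comp α) ∧ (ι.comp α).range = ι.range := by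
  refine ⟨fun x hx => mem_center_iff.2 fun y => h.1 ?_, le_antisymm ?_ ?_⟩
  · rw [map_mul, map_mul]
    exact mem_center_iff.1 (e (show α x ∈ ι.ker from hx)) _
  · rintro _ ⟨x, rfl⟩
    exact ⟨α x, rfl⟩
  · rintro _ ⟨y, rfl⟩
    obtain ⟨x, rfl⟩ := h.2 y
    exact ⟨x, rfl⟩

theorem Em.range_eq (e : Em ι) (e' : Em ψ) (h : ψ.range ≤ ι.range) : ψ.range = ι.range := by
  choose β hβ using fun x : X => h ⟨x, rfl⟩
  let θ : X →* X ⧸ center X := MonoidHom.mk' (fun x => (β x : X ⧸ center X)) fun x y => by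
    rw [← QuotientGroup.mk_mul, QuotientGroup.eq]
    refine e ?_
    rw [MonoidHom.mem_ker, map_mul, map_inv, map_mul, hβ, hβ, hβ, map_mul, inv_mul_cancel]
  have hk : θ.ker ≤ center X := fun x hx => (Em.cen e').1 (by
    rw [← hβ]
    exact centralizer_le h ((Em.cen e).2 ((QuotientGroup.eq_one_iff _).1 hx)))
  have ht : θ.range = ⊤ := by
    refine eq_top_of_le_card _ ?_
    rw [← index_ker]
    exact Nat.le_of_dvd (Nat.pos_of_ne_zero index_ne_zero_of_finite) (index_dvd_of_le hk)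
  have hs : ∀ y : X, ∃ x, ∃ z ∈ center X, y = β x * z := fun y => by
    obtain ⟨x, hx⟩ := ht.ge (mem_top (y : X ⧸ center X))
    exact ⟨x, _, QuotientGroup.eq.1 hx, (mul_inv_cancel_left _ _).symm⟩
  have hc : ∀ a b z : X, z ∈ center X → ⁅a * z, b⁆ = ⁅a, b⁆ := fun a b z hz => by
    rw [commutatorElement_def, commutatorElement_def, _root_.mul_inv_rev, mul_assoc a z b,
      ← mem_center_iff.1 hz b]
    group
  have hp : commutator X ≤ ψ.range.comap ι := commutator_le.2 fun a _ b _ => by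
    obtain ⟨x, z, hz, rfl⟩ := hs a
    obtain ⟨y, w, hw, rfl⟩ := hs b
    rw [hc _ _ _ hz, ← commutatorElement_inv, hc _ _ _ hw, commutatorElement_inv]
    exact ⟨⁅x, y⁆, by rw [map_commutatorElement, map_commutatorElement, hβ, hβ]⟩
  refine le_antisymm h ?_
  rintro _ ⟨y, rfl⟩
  exact hp (pf_X.ge (mem_top y))

theorem Em.act (e : Em ι) {a : G} (h : a ∈ 𝐍(ι.range)) : ∃ α φ, Act ι a α ∧ Au α φ := H62.act e h

theorem Act.mul {a b : G} {α β : X →* X} (h : Act ι a α) (k : Act ι b β) : Act ι (a * b) (α.comp β) :=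
  fun x => by rw [MonoidHom.comp_apply, ← h, ← k]; group

theorem Act.mem {a : G} {α : X →* X} (h : Act ι a α) : a ∈ 𝐍(ι.range) :=
  mem_normalizer_fintype (by
    rintro _ ⟨x, rfl⟩
    exact ⟨_, (h x).symm⟩)

theorem Act.fix {a : G} {α : X →* X} (h : Act ι a α) {x : X} (k : α x = x) : a * ι x = ι x * a :=
  mul_inv_eq_iff_eq_mul.1 (by rw [h, k])

theorem Act.fix' (e : Em ι) {a : G} {α : X →* X} (h : Act ι a α) {x : X} (p : P2 x) (k : a * ι x = ι x * a) : α x = x := by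
  obtain ⟨j, hj⟩ := p
  exact (Em.inj2 e) ⟨j, by rw [← map_pow, hj, map_one]⟩ ⟨j, hj⟩ (by rw [← h, k, mul_inv_cancel_right])

theorem Act.tw {a : G} {α : X →* X} (h : Act ι a α) {y : X} (k : Tw α y) : ∃ x, ι x * a * (ι x)⁻¹ = ι y * a := by
  obtain ⟨x, rfl⟩ := k
  exact ⟨x, by rw [map_mul, map_inv, ← h]; group⟩


namespace B6b

theorem typ (e : Em ι) {a : G} {α β : X →* X} {φ φ' : RingAut F} (h : Act ι a α) (h' : Au α φ)
    (k : Act ι a β) (k' : Au β φ') : φ = φ' := au_uniq h' (Act.uniq e h k ▸ k')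

theorem aid : Act ι 1 (MonoidHom.id X) := fun x => by simp

theorem aone : Dg ι 1 := ⟨_, aid, id_au⟩

theorem ainv (e : Em ι) {a : G} {α : X →* X} {φ : RingAut F} (h : Act ι a α) (h' : Au α φ) :
    ∃ β, Act ι a⁻¹ β ∧ Au β φ⁻¹ := by
  obtain ⟨β, φ', k, k'⟩ := Em.act e (inv_mem (Act.mem h))
  have h1 := Act.mul h k
  rw [mul_inv_cancel] at h1
  exact ⟨β, k, by rwa [← eq_inv_of_mul_eq_one_right (typ e h1 (au_comp h' k') aid id_au)]⟩

theorem apow {a : G} {α : X →* X} (h : Act ι a α) (m : ℕ) :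
    ∃ β : X →* X, Act ι (a ^ m) β ∧ ∀ x, β x = α^[m] x := by
  induction m with
  | zero => exact ⟨MonoidHom.id _, by rw [pow_zero]; exact aid, fun x => rfl⟩
  | succ m ih =>
    obtain ⟨β, h1, h2⟩ := ih
    exact ⟨β.comp α, by rw [pow_succ]; exact Act.mul h1 h, fun x => by
      rw [MonoidHom.comp_apply, h2, Function.iterate_succ_apply]⟩

theorem dec (e : Em ι) {a : G} (h : Inn ι.range a) {j : ℕ} (p : a ^ 2 ^ j = 1) :
    ∃ u k, u ^ 2 ^ j = 1 ∧ k ^ 2 ^ j = 1 ∧ k ∈ 𝐂(ι.range) ∧ a = k * ι u := by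
  obtain ⟨_, ⟨u, rfl⟩, k, hk, rfl⟩ := h
  have c : Commute k (ι u) := (hk _ ⟨u, rfl⟩).symm
  have hc : u ^ 2 ^ j ∈ center X := by
    refine (Em.cen e).1 ?_
    rw [c.mul_pow] at p
    rw [map_pow, eq_inv_of_mul_eq_one_right p]
    exact inv_mem (pow_mem hk _)
  have h1 : (u ^ 2 ^ j) ^ Nat.card (center X) = 1 := by
    have := pow_card_eq_one' (x := (⟨_, hc⟩ : center X))
    exact congrArg Subtype.val this
  have h2 : (Nat.card (center X)).Coprime (orderOf (k * ι u)) :=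
    Nat.Coprime.coprime_dvd_right (orderOf_dvd_of_pow_eq_one p)
      (Nat.Coprime.pow_right j (Nat.coprime_two_right.2 cen_odd))
  obtain ⟨m, hm⟩ := exists_pow_eq_self_of_coprime h2
  have h3 : ((u ^ Nat.card (center X)) ^ m) ^ 2 ^ j = 1 := by
    rw [← pow_mul, ← pow_mul, mul_comm, mul_comm m, pow_mul, pow_mul, ← pow_mul u, ← pow_mul u,
      show 2 ^ j * m * Nat.card (center X) = 2 ^ j * Nat.card (center X) * m by ring, pow_mul, pow_mul, h1,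
      one_pow]
  have h4 : k * ι u = (k ^ Nat.card (center X)) ^ m * ι ((u ^ Nat.card (center X)) ^ m) := by
    rw [map_pow, map_pow, ← ((c.pow_pow _ _)).mul_pow, ← c.mul_pow, hm]
  refine ⟨_, _, h3, ?_, pow_mem (pow_mem hk _) _, h4⟩
  have c' : Commute ((k ^ Nat.card (center X)) ^ m) (ι ((u ^ Nat.card (center X)) ^ m)) := by
    rw [map_pow, map_pow]; exact (c.pow_pow _ _).pow_pow _ _
  rwa [h4, c'.mul_pow, ← map_pow, h3, map_one, mul_one] at p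

end B6b

open B6b

theorem inn_act {a : G} : Inn ι.range a ↔ ∃ u, Act ι a (cn u) := by
  constructor
  · rintro ⟨_, ⟨u, rfl⟩, k, hk, rfl⟩
    refine ⟨u, fun x => ?_⟩
    have := hk (ι (cn u x)) ⟨_, rfl⟩
    calc _ = k * ι (cn u x) * k⁻¹ := by rw [cn_apply, map_mul, map_mul, map_inv]; group
      _ = _ := by rw [← this, mul_inv_cancel_right]
  · rintro ⟨u, h⟩
    refine ⟨ι u, ⟨u, rfl⟩, a * (ι u)⁻¹, ?_, by group⟩
    rintro _ ⟨x, rfl⟩
    have := h (u⁻¹ * x * u)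
    rw [cn_apply, show u * (u⁻¹ * x * u) * u⁻¹ = x by group, map_mul, map_mul, map_inv] at this
    calc _ = a * ((ι u)⁻¹ * ι x * ι u) * a⁻¹ * (a * (ι u)⁻¹) := by rw [this]
      _ = _ := by group

theorem Em.dg_comm (e : Em ι) {a b : G} (ha : a ∈ 𝐍(ι.range)) (hb : b ∈ 𝐍(ι.range)) : Dg ι ⁅a, b⁆ := by
  obtain ⟨α, φ, h, h'⟩ := Em.act e ha
  obtain ⟨β, φ', k, k'⟩ := Em.act e hb
  obtain ⟨α1, h1, h1'⟩ := ainv e h h'
  obtain ⟨β1, k1, k1'⟩ := ainv e k k'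
  have e1 : φ * φ' * φ⁻¹ * φ'⁻¹ = 1 := by rw [LMS.aut_comm' φ φ']; group
  exact ⟨_, Act.mul (Act.mul (Act.mul h k) h1) k1, e1 ▸ au_comp (au_comp (au_comp h' k') h1') k1'⟩

theorem Em.sub_dg (e : Em ι) : ∃ K : Subgroup G, (∀ a, a ∈ K ↔ Dg ι a) ∧ ⁅𝐍(ι.range), 𝐍(ι.range)⁆ ≤ K := by
  refine ⟨⟨⟨⟨{a | Dg ι a}, ?_⟩, aone⟩, ?_⟩, fun a => Iff.rfl, commutator_le.2 fun a ha b hb => Em.dg_comm e ha hb⟩
  · rintro a b ⟨α, h, h'⟩ ⟨β, k, k'⟩
    exact ⟨_, Act.mul h k, mul_one (1 : RingAut F) ▸ au_comp h' k'⟩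
  · rintro a ⟨α, h, h'⟩
    obtain ⟨β, h1, h2⟩ := ainv e h h'
    rw [inv_one] at h2
    exact ⟨β, h1, h2⟩

theorem Dg.comm {a b : G} (ha : Dg ι a) (hb : Dg ι b) : Inn ι.range ⁅a, b⁆ := by
  obtain ⟨α, h, h'⟩ := ha
  obtain ⟨β, k, k'⟩ := hb
  obtain ⟨u, hu⟩ := au_comm h' k'
  refine inn_act.2 ⟨u, fun y => ?_⟩
  obtain ⟨x, rfl⟩ := ((au_bij k').comp (au_bij h')).2 y
  have e1 := (Act.mul h k) x
  have e2 := (Act.mul k h) x
  rw [MonoidHom.comp_apply] at e1 e2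
  rw [Function.comp_apply, cn_apply, ← hu, ← e1, ← e2, commutatorElement_def]
  group

theorem Dg.inn (e : Em ι) {a : G} (ha : Dg ι a) (p : P2 a) : Inn ι.range a := by
  obtain ⟨α, h, h'⟩ := ha
  obtain ⟨j, p⟩ := p
  obtain ⟨β, h1, h2⟩ := apow h (2 ^ j)
  rw [p] at h1
  have e1 := Act.uniq e h1 aid
  obtain ⟨u, hu⟩ := au_two h' (k := j) fun x => by rw [← h2, e1]; rfl
  exact inn_act.2 ⟨u, hu ▸ h⟩

theorem Dg.of_inn {a : G} (h : Inn ι.range a) : Dg ι a := by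
  obtain ⟨u, h⟩ := inn_act.1 h
  exact ⟨_, h, cn_au u⟩

theorem Em.dec2 (e : Em ι) {a : G} (h : Inn ι.range a) (p : P2 a) :
    ∃ u k, P2 u ∧ P2 k ∧ k ∈ 𝐂(ι.range) ∧ a = k * ι u := by
  obtain ⟨j, p⟩ := p
  obtain ⟨u, k, h1, h2, h3, h4⟩ := dec e h p
  exact ⟨u, k, ⟨j, h1⟩, ⟨j, h2⟩, h3, h4⟩

theorem Em.deci (e : Em ι) {a : G} (h : Inn ι.range a) (p : a * a = 1) :
    ∃ u k, u * u = 1 ∧ k * k = 1 ∧ k ∈ 𝐂(ι.range) ∧ a = k * ι u := by
  obtain ⟨u, k, h1, h2, h3, h4⟩ := dec e h (j := 1) (by rwa [pow_one, sq])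
  rw [pow_one, sq] at h1 h2
  exact ⟨u, k, h1, h2, h3, h4⟩

theorem Em.comm_inn (e : Em ι) {P : Subgroup G} (h : P ≤ 𝐍(ι.range)) {a : G} (ha : a ∈ ⁅P, P⁆) (p : P2 a) :
    Inn ι.range a := by
  obtain ⟨K, h1, h2⟩ := (Em.sub_dg e)
  exact Dg.inn e ((h1 a).1 (h2 (commutator_mono h h ha))) p

theorem Em.ou (e : Em ι) {a : G} (ha : a ∈ 𝐍(ι.range)) (p : a * a = 1) (o : ¬ Inn ι.range a) :
    ∃ α, Act ι a α ∧ Ou α := by
  obtain ⟨α, φ, h, h'⟩ := Em.act e ha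
  have h1 := Act.mul h h
  rw [p] at h1
  have e1 : φ = σ := LMS.aut_inv ⟨by rintro rfl; exact o (Dg.inn e ⟨α, h, h'⟩ (P2.of_sq p)),
    fun c => DFunLike.congr_fun (typ e h1 (au_comp h' h') aid id_au) c⟩ Hs.sg
  exact ⟨α, h, e1 ▸ h', fun x => DFunLike.congr_fun (Act.uniq e h1 aid) x⟩

theorem Em.ou_mul (e : Em ι) {a b : G} {α β : X →* X} (h : Act ι a α) (h' : Au α σ) (k : Act ι b β) (k' : Au β σ) :
    Dg ι (a * b) := ⟨_, Act.mul h k, (show (σ : RingAut F) * σ = 1 from RingEquiv.ext Hs.sg.2) ▸ au_comp h' k'⟩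

theorem Act.cj {a : G} {α : X →* X} (h : Act ι a α) (g : G) : Act (cι ι g) (g * a * g⁻¹) α := fun x => by
  rw [cι_apply, cι_apply, ← h x]; group


theorem C1.cj (h : C1 ι t) (g : G) : C1 (cι ι g) (g * t * g⁻¹) where
  em := (Em.cj h.em) g
  t2 := by rw [conj_mul, h.t2, mul_one, mul_inv_cancel]
  t1 := fun e => h.t1 (conj_eq_one_iff.1 e)
  tc x := cj_comm_iff.2 (h.tc x)
  CN c e := by
    obtain ⟨d, rfl⟩ := exists_cj g c
    rw [range_cι, ← cj_normalizer]; exact cj_mem g (h.CN d (cj_comm_iff.1 e))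
  uq c hc c2 e := by
    obtain ⟨d, rfl⟩ := exists_cj g c
    rw [range_cι, ← cj_centralizer, cj_mem_iff] at hc
    rw [conj_mul, conj_eq_one_iff] at c2
    rcases h.uq d hc c2 (cj_comm_iff.1 e) with rfl | rfl <;> simp

theorem C2.cj (h : C2 ι t) (g : G) : C2 (cι ι g) (g * t * g⁻¹) where
  toC1 := C1.cj h.toC1 g
  two c hc e p := by
    obtain ⟨d, rfl⟩ := exists_cj g c
    rw [range_cι, ← cj_centralizer, cj_mem_iff] at hc
    have := p.cjg g⁻¹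
    rw [show g⁻¹ * (g * d * g⁻¹) * g⁻¹⁻¹ = d by group] at this
    rcases h.two d hc (cj_comm_iff.1 e) this with rfl | rfl <;> simp

theorem C1.of_range (h : C1 ι t) (e : Em ψ) (k : ψ.range = ι.range) : C1 ψ t where
  em := e
  t2 := h.t2
  t1 := h.t1
  tc x := by
    obtain ⟨y, hy⟩ := k.le ⟨x, rfl⟩
    rw [← hy]; exact h.tc y
  CN := k ▸ h.CN
  uq := k ▸ h.uq

theorem C2.of_range (h : C2 ι t) (e : Em ψ) (k : ψ.range = ι.range) : C2 ψ t :=
  ⟨C1.of_range h.toC1 e k, k ▸ h.two⟩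

theorem C1.tC (h : C1 ι t) : t ∈ 𝐂(ι.range) := by
  rintro _ ⟨x, rfl⟩; exact (h.tc x).symm

theorem C1.t_not (h : C1 ι t) : t ∉ ι.range := fun k =>
  h.t1 ((P2.of_sq h.t2).eq_one ((Em.cc h.em) k (C1.tC h)))

theorem B7.kc (h : C1 ι t) {k : G} {u : X} (c : k * ι u * t = t * (k * ι u)) : k * t = t * k := by
  rw [mul_assoc, ← h.tc, ← mul_assoc, ← mul_assoc] at c
  exact mul_right_cancel c

theorem C1.inn (h : C1 ι t) {a : G} (i : Inn ι.range a) (p : a * a = 1) (c : a * t = t * a) :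
    ∃ u, u * u = 1 ∧ (a = ι u ∨ a = t * ι u) := by
  obtain ⟨u, k, u2, k2, hk, rfl⟩ := (Em.deci h.em) i p
  refine ⟨u, u2, ?_⟩
  rcases h.uq k hk k2 (B7.kc h c) with e | e
  · exact Or.inl (by rw [e, one_mul])
  · exact Or.inr (by rw [e])

theorem C2.inn2 (h : C2 ι t) {a : G} (i : Inn ι.range a) (p : P2 a) (c : a * t = t * a) :
    ∃ u, P2 u ∧ (a = ι u ∨ a = t * ι u) := by
  obtain ⟨u, k, u2, k2, hk, rfl⟩ := (Em.dec2 h.em) i p
  refine ⟨u, u2, ?_⟩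
  rcases h.two k hk (B7.kc h.toC1 c) k2 with e | e
  · exact Or.inl (by rw [e, one_mul])
  · exact Or.inr (by rw [e])

theorem B7.od (h : C2 ι t) : ∃ O, Od ι.range t O ∧ Odd (Nat.card O) := by
  have hS : IsSylowIn 2 (zpowers t) (𝐂(ι.range) ⊓ centralizer {t}) :=
    ⟨(zpowers_le).2 (mem_inf.2 ⟨(C1.tC h.toC1), mem_centralizer_singleton_iff.2 rfl⟩),
      (P2.of_sq h.t2).isP, fun R h1 h2 h3 => le_antisymm (fun r hr => by
        rcases h.two r (h2 hr).1 (mem_centralizer_singleton_iff.1 (h2 hr).2) (P2.of_mem h3 hr) with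
          e | e
        · exact e ▸ one_mem _
        · exact e ▸ mem_zpowers t) h1⟩
  obtain ⟨O, o1, o2, o3⟩ := cent_split hS ((zpowers_le).2 (mem_centralizer_iff_commute.2
    fun a ha => mem_centralizer_singleton_iff.1 ha.2))
  refine ⟨O, ⟨fun c => ?_, fun c hc ht => ?_⟩, o2⟩
  · rw [o1, mem_inf, mem_centralizer_singleton_iff, and_assoc]
  · obtain ⟨p, hp, o, ho, e⟩ := o3 c (mem_inf.2 ⟨hc, mem_centralizer_singleton_iff.2 ht⟩)
    rcases (mem_zp h.t2).1 hp with rfl | rfl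
    · exact ⟨o, ho, Or.inl (by simpa using e)⟩
    · exact ⟨o, ho, Or.inr e⟩

theorem C2.od (h : C2 ι t) : ∃ O : Subgroup G, (∀ o, o ∈ O ↔ Oo ι t o) ∧ Odd (Nat.card O) ∧
    ∀ c ∈ 𝐂(ι.range), c * t = t * c → ∃ o, Oo ι t o ∧ (c = o ∨ c = t * o) := by
  obtain ⟨O, hO, oO⟩ := B7.od h
  refine ⟨O, hO.mem, oO, fun c hc e => ?_⟩
  obtain ⟨o, ho, k⟩ := hO.dec c hc e
  exact ⟨o, (hO.mem o).1 ho, k⟩

theorem C2.perf (h : C2 ι t) {Y : Subgroup G} (hY : ⁅Y, Y⁆ = Y) (c : ∀ y ∈ Y, y * t = t * y) : Y ≤ ι.range := by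
  obtain ⟨O, hO, oO⟩ := B7.od h
  obtain ⟨K, hK, k1⟩ := (Em.sub_dg h.em)
  have OC : O ≤ 𝐂(ι.range) := fun x hx => ((hO.mem x).1 hx).1
  have yN : Y ≤ 𝐍(ι.range) := fun y hy => h.CN y (c y hy)
  have h0 : Y ≤ K := by
    rw [← hY]; exact (commutator_mono yN yN).trans k1
  have h1 : Y ≤ ι.range ⊔ 𝐂(ι.range) := by
    rw [← hY, Subgroup.commutator_le]
    intro a ha b hb
    exact inn_iff.1 (Dg.comm ((hK a).1 (h0 ha)) ((hK b).1 (h0 hb)))
  have h2 : Y ≤ ι.range ⊔ (𝐂(ι.range) ⊓ centralizer {t}) := fun y hy => by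
    obtain ⟨_, ⟨x, rfl⟩, k, hk, e⟩ := inn_iff.2 (h1 hy)
    have : k * t = t * k := B7.kc h.toC1 (e ▸ c y hy)
    rw [e]
    exact mul_mem (mem_sup_right (mem_inf.2 ⟨hk, mem_centralizer_singleton_iff.2 this⟩))
      (mem_sup_left ⟨x, rfl⟩)
  have h3 : ⁅𝐂(ι.range) ⊓ centralizer {t}, 𝐂(ι.range) ⊓ centralizer {t}⁆ ≤ O := by
    rw [Subgroup.commutator_le]
    intro a ha b hb
    have ta := mem_centralizer_singleton_iff.1 ha.2
    obtain ⟨u, hu, eu⟩ := hO.dec a ha.1 ta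
    obtain ⟨w, hw, ew⟩ := hO.dec b hb.1 (mem_centralizer_singleton_iff.1 hb.2)
    have tw := ((hO.mem w).1 hw).2.1
    have tu := ((hO.mem u).1 hu).2.1
    have m : u * w * u⁻¹ * w⁻¹ ∈ O := mul_mem (mul_mem (mul_mem hu hw) (inv_mem hu)) (inv_mem hw)
    have k1 : a * w * a⁻¹ = u * w * u⁻¹ := by
      rcases eu with rfl | rfl
      · rfl
      · rw [← tu]
        calc u * t * w * (u * t)⁻¹ = u * (t * w) * t⁻¹ * u⁻¹ := by group
          _ = _ := by rw [← tw]; group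
    rw [commutatorElement_def]
    rcases ew with rfl | rfl
    · rwa [k1]
    · rw [← tw]
      have : a * (w * t) * a⁻¹ * (w * t)⁻¹ = a * w * a⁻¹ * w⁻¹ := by
        calc a * (w * t) * a⁻¹ * (w * t)⁻¹ = a * w * a⁻¹ * (a * t) * a⁻¹ * t⁻¹ * w⁻¹ := by group
          _ = _ := by rw [ta]; group
      rwa [this, k1]
  have h4 : ∀ n, Y ≤ ι.range ⊔ (derivedSeries O n).map O.subtype := fun n => by
    induction n with
    | zero =>
      rw [derivedSeries_zero, map_subtype_top]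
      exact (GB_step inf_le_left hY h2).trans (sup_le_sup_left h3 _)
    | succ n ih =>
      rw [derivedSeries_succ, map_commutator]
      exact GB_step ((map_subtype_le _).trans OC) hY ih
  obtain ⟨m, hn⟩ := (Cfsg.Agent.S0205.result oO).solvable
  have := h4 m
  rwa [hn, Subgroup.map_bot, sup_bot_eq] at this

theorem C2.par (h : C2 ι t) (e : Em ψ) (c : ∀ x, t * ψ x = ψ x * t) : ψ.range = ι.range :=
  (Em.range_eq h.em) e (C2.perf h (range_pf pf_X ψ) (by rintro _ ⟨x, rfl⟩; exact (c x).symm))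

end UMS.H77
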