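import Cfsg.Agent.Lib.UMS.BK57
import Cfsg.Agent.Lib.UMS.Em77
import Cfsg.Agent.Lib.UMS.B33b
import Cfsg.Agent.Lib.UMS.Rk70

set_option autoImplicit false
set_option linter.unusedSectionVars false

namespace UMS.H57

open Subgroup H69 Cfsg Matrix U4S
open LMS (XX GX iL kk MM au tw Sg)
open scoped MatrixGroups commutatorElement

universe u
variable {G : Type*} [Group G] [Finite G] {F : Type u} [Field F] [CharP F 2] [Fintype F] [Hs F] {n : ℕ} [Ok n F]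
  {ι ψ χ : XU n F →* G} {t : G} {E : Subgroup G}

theorem tc_St {v : VV n F} (hv : Is v) (a : K0 F) : tc v a ∈ St {v} := by
  rintro _ rfl
  rw [H12.ac_tc hv.1, hv.1, mul_zero, zero_smul, add_zero]

theorem tc_cen {v : VV n F} (hv : Is v) {c : K0 F} (h : tc v c ∈ center (XU n F)) : c = 0 := by
  by_contra k
  exact H70.tc_ne hv k (B33.cen_two h (P2.of_sq (H12.tc_sq hv.1 c)))

theorem d0_mul {v : VV n F} (hv : Is v) {c c' : K0 F} {d e : G} (h : D0 ι t v c d) (k : D0 ι t v c' e) :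
    D0 ι t v (c + c') (d * e) := by
  refine ⟨fun x hx => by rw [mul_assoc, k.1 x hx, ← mul_assoc, h.1 x hx, mul_assoc], ?_⟩
  calc _ = d * (e * t * e⁻¹) * d⁻¹ := by group
    _ = d * t * d⁻¹ * (d * ι (tc v c') * d⁻¹) := by rw [k.2]; group
    _ = _ := by rw [h.2, h.1 _ (tc_St hv c'), mul_inv_cancel_right, mul_assoc, ← map_mul, H12.tc_mul hv.1]

theorem d0_ker (h : C2 ι t) {v : VV n F} (hv : Is v)
    (hP : ∀ a ∈ 𝐍(ι.range), Cn ι (St {v}) a → ∃ c, ∃ k ∈ 𝐂(ι.range), a = k * ι (tc v c)) {d : G}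
    (k : D0 ι t v 0 d) : ∃ a o, Oo ι t o ∧ (d = ι (tc v a) * o ∨ d = t * ι (tc v a) * o) := by
  have c : d * t = t * d := by
    have := k.2
    rwa [H12.tc_zero hv.1, map_one, mul_one, mul_inv_eq_iff_eq_mul] at this
  obtain ⟨a, z, hz, rfl⟩ := hP d (h.CN d c) k.1
  obtain ⟨O, -, -, hO⟩ := H77.C2.od h
  obtain ⟨o, ho, e⟩ := hO z hz (by
    rw [mul_assoc, ← h.tc, ← mul_assoc, ← mul_assoc] at c
    exact mul_right_cancel c)
  have c1 : ι (tc v a) * o = o * ι (tc v a) := ho.1 _ ⟨_, rfl⟩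
  exact ⟨a, o, ho, e.imp (fun e => by rw [e, c1]) fun e => by rw [e, mul_assoc, mul_assoc, c1]⟩

theorem bk0 (h : C2 ι t) {g : G} (e : Em ψ) (c : ∀ x, g * t * g⁻¹ * ψ x = ψ x * (g * t * g⁻¹)) {H : Subgroup G}
    (hP : ∀ a ∈ 𝐍(ψ.range), Cn ψ (St {ee 0}) a → ∃ c, ∃ k ∈ 𝐂(ψ.range), a = k * ψ (tc (ee 0) c))
    (le : ψ.range ≤ H) (k : ∀ c, ∃ u ∈ H, u * u = 1 ∧ D0 ψ (g * t * g⁻¹) (ee 0) c u) : YY ι t ^ᶜ g ≤ H := by
  have h1 := H77.C2.cj h g
  have r := H77.C2.par h1 e c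
  have h2 := H77.C2.of_range h1 e r
  rw [← yy_cj, ← yy_par h1.toC1 e r]
  generalize g * t * g⁻¹ = s at h2 k
  refine (closure_le _).2 ?_
  rintro _ ⟨x, c, w, hw, rfl⟩
  refine mul_mem (mul_mem (le ⟨x, rfl⟩) ?_) (inv_mem (le ⟨x, rfl⟩))
  have x2 : ∀ a, ψ (tc (ee 0) a) * ψ (tc (ee 0) a) = 1 := fun a => by rw [← map_mul, H12.tc_sq is0.1, map_one]
  have xo : ∀ {o}, Oo ψ s o → ∀ y, Commute (ψ y) o := fun ho y => ho.1 _ ⟨y, rfl⟩
  have w2 := hw.2.2.1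
  by_cases c0 : c = 0
  · subst c0
    obtain ⟨a, o, ho, eo⟩ := d0_ker h2 is0 hP hw.1
    have key : ∀ v, v * v = 1 → Commute v o → w = v * o → w = v := fun v v2 cv ev => by
      rw [ev, cv.symm.mul_mul_mul_comm, v2, one_mul] at w2
      rw [ev, (P2.of_sq w2).eq_one ho.2.2, mul_one]
    rcases eo with eo | eo
    · rw [key _ (x2 a) (xo ho _) eo]
      exact le ⟨_, rfl⟩
    · refine absurd (key _ ?_ (Commute.mul_left ho.2.1.symm (xo ho _)) eo) (hw.2.2.2 a)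
      rw [mul_assoc, ← mul_assoc (ψ _), ← h2.tc, mul_assoc, x2, mul_one, h2.t2]
  obtain ⟨u, hu, u2, d⟩ := k c
  obtain ⟨a, o, ho, eo⟩ := d0_ker h2 is0 hP (CharTwo.add_self_eq_zero c ▸ d0_mul is0 hw.1 d)
  have wo : Commute w o := hw.2.1 o ho
  have wx : Commute w (ψ (tc (ee 0) a)) := hw.1.1 _ (tc_St is0 a)
  have so : Commute s o := Eq.symm ho.2.1
  have sx : Commute s (ψ (tc (ee 0) a)) := h2.tc _
  have key : ∀ v, Commute v o → Commute v (ψ (tc (ee 0) a)) → u = v * ψ (tc (ee 0) a) * o →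
      v * v * (o * o) = 1 := fun v h1 h2 h3 => by
    rw [← u2, h3, (h1.mul_left (xo ho _)).symm.mul_mul_mul_comm, h2.symm.mul_mul_mul_comm, x2, mul_one]
  rcases eo with eo | eo
  · have := key w wo wx (by rw [mul_assoc, ← eo, ← mul_assoc, w2, one_mul])
    rw [w2, one_mul] at this
    rw [(P2.of_sq this).eq_one ho.2.2, mul_one] at eo
    rw [eq_mul_inv_of_mul_eq eo]
    exact mul_mem (le ⟨_, rfl⟩) (inv_mem hu)
  · have := key (w * s) (wo.mul_left so) (wx.mul_left sx) (by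
      rw [mul_assoc w, mul_assoc w, ← eo, ← mul_assoc, w2, one_mul])
    have ws : w * s * (w * s) = ψ (tc (ee 0) c) := by
      rw [← mul_assoc, ← congrArg (w * s * · * s) (inv_eq_of_mul_eq_one_left w2), hw.1.2, h2.tc, mul_assoc,
        h2.t2, mul_one]
    rw [ws] at this
    have o4 : o ^ 2 ^ 2 = 1 := by
      have e4 := x2 c
      rw [eq_inv_of_mul_eq_one_left this, ← _root_.mul_inv_rev, inv_eq_one] at e4
      rw [← e4]; simp [pow_succ, mul_assoc]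
    rw [P2.eq_one ⟨2, o4⟩ ho.2.2, mul_one, mul_one] at this
    exact absurd (tc_cen is0 (e this)) c0

end UMS.H57
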