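import Cfsg.Agent.Lib.UMS.W2h87
import Cfsg.Agent.Lib.UMS.WIT
import Cfsg.Agent.Lib.G2S.UB

/-! The commutator of two doubled short root elements. -/

set_option autoImplicit false
set_option linter.unusedSectionVars false

namespace UMS
namespace H87

open Subgroup H69 Cfsg Matrix U4S
open LMS (XX GX iL kk MM au tw Sg)
open scoped MatrixGroups commutatorElement

universe u
variable {G : Type*} [Group G] [Finite G] {F : Type u} [Field F] [CharP F 2] [Fintype F] [Hs F] {n : ℕ} [Ok n F]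
  {ι : XU n F →* G} {t : G} {W : VV n F → G}

theorem D_iff (h : C4 ι t) (k : Wt ι t W) {S : Submodule F (VV n F)} (hS : ∀ x ∈ S, ∀ y ∈ S, bt x y = 0)
    {u v w : VV n F} (hu : u ∈ S) (hv : v ∈ S) (hw : w ∈ S) (e : SS W u (v + w) = SS W u v * SS W u w) :
    SS W v (u + w) = SS W v u * SS W v w := by
  have h1 := (D_all h k hS hu hv hw).2.2.2.2.2
  have h2 := (D_all h k hS hv hu hw).2.2.2.2.2
  rw [e, right_eq_mul] at h1
  rw [h2, (D_all h k hS hu hv hw).1, h1, one_mul]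

theorem ot_of {u v : VV n F} (hu : bt u u = 0) (hv : bt v v = 0) (e : bt u v = 0) (u0 : u ≠ 0)
    (h : ¬ ∃ a : F, v = a • u) : Ot u v := by
  refine ⟨hu, hv, e, LinearIndependent.pair_iff.2 fun a b k => ?_⟩
  by_cases b0 : b = 0
  · rw [b0, zero_smul, add_zero] at k
    exact ⟨(smul_eq_zero.1 k).resolve_right u0, b0⟩
  · exact absurd ⟨b⁻¹ * a, by rw [mul_smul, veq k, smul_smul, inv_mul_cancel₀ b0, one_smul]⟩ h

theorem gadd1 (h : C4 ι t) (k : Wt ι t W) {u w : VV n F} (o : Ot u w) (a : F) :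
    SS W u (a • u + w) = SS W u (a • u) * SS W u w := by
  have hS := span_ti o.1 o.1 o.2.1 o.1 o.2.2.1 o.2.2.1
  have hu : u ∈ Submodule.span F {u, u, w} := Submodule.subset_span (by simp)
  have hw : w ∈ Submodule.span F {u, u, w} := Submodule.subset_span (by simp)
  have ha := Submodule.smul_mem _ a hu
  have := badd h k (Ot_symm o) 1 1 a
  rw [add_smul, one_smul, one_smul] at this
  have := D_iff h k hS hw hu ha this
  rw [add_comm, this]
  obtain ⟨A, f, c, e, -⟩ := lift h k hS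
  unfold SS
  rw [e _ (add_mem hu hw), e _ (add_mem hu ha), e _ hu, e _ hw, e _ ha]
  simp only [← Subgroup.coe_mul]
  rw [c]

theorem gadd (h : C4 ι t) (k : Wt ι t W) {S : Submodule F (VV n F)} (hS : ∀ x ∈ S, ∀ y ∈ S, bt x y = 0)
    {u v w : VV n F} (hu : u ∈ S) (hv : v ∈ S) (hw : w ∈ S) : SS W u (v + w) = SS W u v * SS W u w := by
  have uu := hS u hu u hu
  by_cases u0 : u = 0
  · rw [u0, SS_zero_l k (hS _ hv _ hv), SS_zero_l k (hS _ hw _ hw), SS_zero_l k (hS _ (add_mem hv hw) _ (add_mem hv hw)),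
      one_mul]
  have cm : ∀ x ∈ S, ∀ y ∈ S, SS W u x * SS W u y = SS W u y * SS W u x := fun x hx y hy => by
    obtain ⟨A, f, c, e, -⟩ := lift h k hS
    unfold SS
    rw [e _ (add_mem hu hx), e _ (add_mem hu hy), e _ hu, e _ hx, e _ hy]
    simp only [← Subgroup.coe_mul]
    rw [c]
  have ot : ∀ x ∈ S, (¬ ∃ a : F, x = a • u) → Ot u x := fun x hx => ot_of uu (hS x hx x hx) (hS u hu x hx) u0
  by_cases h1 : ∃ a : F, v = a • u
  · obtain ⟨a, rfl⟩ := h1
    by_cases h2 : ∃ b : F, w = b • u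
    · obtain ⟨b, rfl⟩ := h2
      obtain ⟨x, o⟩ := ext2 (u := u) ⟨uu, u0⟩
      have o' : Ot u (b • u + x) := ot_of uu
        (by simp [H12.bt_add_l, H12.bt_add_r, H12.bt_smul_l, H12.bt_smul_r, uu, o.2.1, o.2.2.1, H12.bt_sw o.2.2.1])
        (by simp [H12.bt_add_r, H12.bt_smul_r, uu, o.2.2.1]) u0 (by
          rintro ⟨c, e⟩
          exact one_ne_zero (LinearIndependent.pair_iff.1 o.2.2.2 (b - c) 1 (by linear_combination (norm := module) e)).2)
      have k1 := gadd1 h k o (a + b)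
      rw [add_smul, add_assoc, gadd1 h k o', gadd1 h k o, ← mul_assoc] at k1
      exact (mul_right_cancel k1).symm
    · exact gadd1 h k (ot w hw h2) a
  by_cases h2 : ∃ b : F, w = b • u
  · obtain ⟨b, rfl⟩ := h2
    rw [add_comm, gadd1 h k (ot v hv h1) b, cm _ hw _ hv]
  by_cases h3 : ∃ c : F, v + w = c • u
  · obtain ⟨c, e⟩ := h3
    have e' : w = c • u + v := by rw [← e, add_right_comm, vv, zero_add]
    have := gadd1 h k (ot v hv h1) c
    rw [← e', ← e] at this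
    rw [this, cm _ (add_mem hv hw) _ hv, ← mul_assoc, SS_sq h k uu (hS _ hv _ hv) (hS _ hu _ hv), one_mul]
  · exact sadd h k u v w (ot v hv h1) (ot w hw h2) (hS _ hv _ hw) (ot _ (add_mem hv hw) h3)

theorem gaddl (h : C4 ι t) (k : Wt ι t W) {S : Submodule F (VV n F)} (hS : ∀ x ∈ S, ∀ y ∈ S, bt x y = 0)
    {u v w : VV n F} (hu : u ∈ S) (hv : v ∈ S) (hw : w ∈ S) : SS W (v + w) u = SS W v u * SS W w u := by
  have sy : ∀ x ∈ S, SS W x u = SS W u x := fun x hx => SS_symm h k (hS _ hx _ hx) (hS _ hu _ hu) (hS _ hx _ hu)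
  rw [sy _ (add_mem hv hw), sy _ hv, sy _ hw, gadd h k hS hu hv hw]

theorem SS_cj (k : Wt ι t W) {u v : VV n F} (hu : bt u u = 0) (hv : bt v v = 0) (e : bt u v = 0) (g : XU n F) :
    ι g * SS W u v * (ι g)⁻¹ = SS W (ac g u) (ac g v) := by
  have s : bt (u + v) (u + v) = 0 := by simp [H12.bt_add_l, H12.bt_add_r, hu, hv, e, H12.bt_sw e]
  unfold SS
  rw [← H12.ac_add, ← k.eqv g _ s, ← k.eqv g _ hu, ← k.eqv g _ hv]; group

theorem SS_fix (k : Wt ι t W) {u v : VV n F} (hu : bt u u = 0) (hv : bt v v = 0) (e : bt u v = 0) {g : XU n F}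
    (g1 : ac g u = u) (g2 : ac g v = v) : Commute (ι g) (SS W u v) := by
  have := SS_cj k hu hv e g
  rw [g1, g2, mul_inv_eq_iff_eq_mul] at this
  exact this

theorem SS_cm (h : C4 ι t) (k : Wt ι t W) {S : Submodule F (VV n F)} (hS : ∀ x ∈ S, ∀ y ∈ S, bt x y = 0)
    {u v x y : VV n F} (hu : u ∈ S) (hv : v ∈ S) (hx : x ∈ S) (hy : y ∈ S) : Commute (SS W u v) (SS W x y) := by
  obtain ⟨A, f, c, e, -⟩ := lift h k hS
  unfold SS
  rw [e _ (add_mem hu hv), e _ (add_mem hx hy), e _ hu, e _ hv, e _ hx, e _ hy]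
  simp only [← Subgroup.coe_mul]
  exact congrArg Subtype.val (c _ _)

theorem SS_t (h : C4 ι t) (k : Wt ι t W) {u v : VV n F} (hu : bt u u = 0) (hv : bt v v = 0) (e : bt u v = 0) :
    SS W u v * t * (SS W u v)⁻¹ = t * ι (sh u v) := by
  have hS := span_ti hu hu hv hu e e
  have h1 : u ∈ Submodule.span F {u, u, v} := Submodule.subset_span (by simp)
  have h2 : v ∈ Submodule.span F {u, u, v} := Submodule.subset_span (by simp)
  have s0 : ∃ x : XU n F, (1 : G) * t * 1⁻¹ = t * ι x ∧ (∀ p, ac x p = p + (fun _ => 0 : VV n F → VV n F) p) ∧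
      (∀ p, (fun _ => 0 : VV n F → VV n F) p ∈ Submodule.span F {u, u, v}) ∧
      ∀ p ∈ Submodule.span F {u, u, v}, (fun _ => 0 : VV n F → VV n F) p = 0 :=
    ⟨1, by simp, fun p => by simp [H12.ac_one], fun _ => Submodule.zero_mem _, fun _ _ => rfl⟩
  obtain ⟨x, a1, a2, -⟩ := stp k hS (add_mem h1 h2) (stp k hS h1 (stp k hS h2 s0))
  have : x = sh u v := H12.ac_ext fun p => by
    rw [a2, H12.ac_sh hu hv e]
    ext i
    simp only [H12.bt_add_r, Pi.add_apply, Pi.smul_apply, smul_eq_mul, Pi.zero_apply]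
    have two : (2 : F) = 0 := CharTwo.two_eq_zero
    linear_combination (u i * bt p u + v i * bt p v) * two
  rw [this, mul_one, ← mul_assoc] at a1
  exact a1

theorem SS_co (k : Wt ι t W) {u v : VV n F} (hu : bt u u = 0) (hv : bt v v = 0) (e : bt u v = 0) {o : G}
    (ho : Oo ι t o) : Commute (SS W u v) o := by
  have s : bt (u + v) (u + v) = 0 := by simp [H12.bt_add_l, H12.bt_add_r, hu, hv, e, H12.bt_sw e]
  have c : ∀ x, bt x x = 0 → Commute (W x) o := fun x hx => by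
    by_cases x0 : x = 0
    · rw [x0, k.zero]; exact Commute.one_left _
    · exact (k.xs x ⟨hx, x0⟩).2.1 o ho
  exact ((c _ s).mul_left (c _ hu)).mul_left (c _ hv)

theorem ac_jj {u f : VV n F} (o : Ot u f) (c d : K0 F) (m : F) (x : VV n F) :
    ac (tc u c * tc f d * sh (m • u) f) x =
      x + ((c : F) * bt x u + m * bt x f) • u + ((d : F) * bt x f + σ m * bt x u) • f := by
  have e := o.2.2.1
  rw [H12.ac_mul, H12.ac_mul, H12.ac_sh (by rw [H12.bt_smul_l, H12.bt_smul_r, o.1]; simp) o.2.1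
    (by rw [H12.bt_smul_l, e, mul_zero]), H12.ac_tc o.2.1, H12.ac_tc o.1]
  simp only [H12.bt_add_l, H12.bt_smul_l, H12.bt_smul_r, o.1, o.2.1, e, H12.bt_sw e, mul_zero, add_zero]
  module

theorem jj_mul {u f : VV n F} (o : Ot u f) (c d c' d' : K0 F) (m m' : F) :
    tc u c * tc f d * sh (m • u) f * (tc u c' * tc f d' * sh (m' • u) f) =
      tc u (c + c') * tc f (d + d') * sh ((m + m') • u) f := by
  refine H12.ac_ext fun x => ?_
  have e := o.2.2.1
  rw [H12.ac_mul, ac_jj o, ac_jj o, ac_jj o]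
  simp only [H12.bt_add_l, H12.bt_smul_l, o.1, o.2.1, e, H12.bt_sw e, mul_zero, add_zero, map_add]
  push_cast
  module

theorem jj_sq {u f : VV n F} (o : Ot u f) (c d : K0 F) (m : F) :
    tc u c * tc f d * sh (m • u) f * (tc u c * tc f d * sh (m • u) f) = 1 := by
  rw [jj_mul o, cc, cc, CharTwo.add_self_eq_zero]
  refine H12.ac_ext fun x => ?_
  rw [ac_jj o, H12.ac_one]; simp

theorem trivJ {α : XU n F →* XU n F} {φ : RingAut F} (h : Au α φ) {u f a b : VV n F} (o : Ot u f) (aa : bt a a = 0)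
    (au : bt a u = 0) (af : bt a f = 0) (bb : bt b b = 0) (bu : bt b u = 0) (bf : bt b f = 0) (ba : bt b a = 1)
    (h1 : ∀ x y : F, α (tc (x • u + y • f) 1) = tc (x • u + y • f) 1)
    (h2 : ∀ z, bt z z = 0 → bt z u = 0 → bt z f = 0 → α (sh u z) = sh u z ∧ α (sh f z) = sh f z) :
    ∃ (c d : K0 F) (m : F), α = cn (tc u c * tc f d * sh (m • u) f) := by
  obtain ⟨g, g1, hg⟩ := H77.au_unit h
  obtain ⟨s, s1, s2, s3, s4, s5⟩ : ∃ s : VV n F → VV n F, (∀ x y, s (x + y) = s x + s y) ∧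
      (∀ (a : F) x, s (a • x) = φ a • s x) ∧ (∀ x, s x = 0 → x = 0) ∧ (∀ x y, ac (α x) (s y) = s (ac x y)) ∧
      ((∀ a, φ a = a) → ∀ x y, bt (s x) (s y) = bt x y) := by
    refine ⟨fun x => g.1 *ᵥ fun i => φ (x i), fun x y => ?_, fun a x => ?_, fun x hx => ?_, fun x y => ?_,
      fun e x y => ?_⟩
    · rw [← mulVec_add]; exact congrArg _ (funext fun i => by simp)
    · rw [← mulVec_smul]; exact congrArg _ (funext fun i => by simp)
    · have : (g⁻¹).1 *ᵥ (g.1 *ᵥ fun i => φ (x i)) = 0 := by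
        rw [show (g.1 *ᵥ fun i => φ (x i)) = 0 from hx, mulVec_zero]
      rw [mulVec_mulVec, ← Units.val_mul, inv_mul_cancel, Units.val_one, one_mulVec] at this
      ext i
      exact (map_eq_zero_iff _ φ.injective).1 (congrFun this i)
    · unfold ac
      rw [hg, LMS.au_false, gc_val, fr_val, mulVec_mulVec, mul_assoc, ← Units.val_mul, inv_mul_cancel, Units.val_one,
        mul_one, ← mulVec_mulVec]
      congr 1; ext i
      simp [mulVec, dotProduct]
    · simp only [e]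
      rw [H12.bt_ad, mulVec_mulVec, g1, one_mulVec]
  have two : (2 : F) = 0 := CharTwo.two_eq_zero
  have uu := o.1
  have ff := o.2.1
  have uf := o.2.2.1
  have fu := H12.bt_sw uf
  have hl := LinearIndependent.pair_iff.1 o.2.2.2
  have l1 : ∀ x y : F, x • u + y • f ≠ 0 → ∃ l : F, s (x • u + y • f) = l • (x • u + y • f) ∧
      ∀ p, bt (s p) (x • u + y • f) = φ (bt p (x • u + y • f)) * l := by
    intro x' y' y0
    have yy : bt (x' • u + y' • f) (x' • u + y' • f) = 0 := by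
      simp [H12.bt_add_l, H12.bt_add_r, H12.bt_smul_l, H12.bt_smul_r, uu, ff, uf, fu]
    have h1 := h1 x' y'
    generalize x' • u + y' • f = y at *
    have e : ∀ x, bt (s x) y • y = φ (bt x y) • s y := fun x => by
      have := s4 (tc y 1) x
      rw [h1, H12.ac_tc yy, H12.ac_tc yy, s1, s2] at this
      simpa using add_left_cancel this
    obtain ⟨p, -, hp⟩ := H76.ex_hyp (v := y) ⟨yy, y0⟩
    have e1 := e p
    rw [hp, map_one, one_smul] at e1
    refine ⟨_, e1.symm, fun x => ?_⟩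
    have := e x
    rw [← e1, smul_smul] at this
    exact smul_left_injective F y0 this
  have u0 : u ≠ 0 := fun e => one_ne_zero (hl 1 0 (by simp [e])).1
  have f0 : f ≠ 0 := fun e => one_ne_zero (hl 0 1 (by simp [e])).2
  obtain ⟨l, a1, a2⟩ := l1 1 0 (by simpa using u0)
  obtain ⟨l', b1, b2⟩ := l1 0 1 (by simpa using f0)
  simp only [one_smul, zero_smul, add_zero, zero_add] at a1 a2 b1 b2
  have l0 : l ≠ 0 := fun e => u0 (s3 u (by rw [a1, e, zero_smul]))
  have key : ∀ a : F, φ a * l' = l * a := fun a => by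
    obtain ⟨m, m1, -⟩ := l1 1 a fun e => one_ne_zero (hl 1 a e).1
    rw [s1, s2, s2, a1, b1, map_one] at m1
    obtain ⟨k1, k2⟩ := hl (l - m) (φ a * l' - m * a) (by linear_combination (norm := module) m1)
    rw [sub_eq_zero] at k1 k2
    rw [k2, k1]
  have e1 : l' = l := by simpa using key 1
  subst e1
  have φ1 : ∀ a, φ a = a := fun a => mul_right_cancel₀ l0 (by rw [key a, mul_comm])
  have s5 := s5 φ1
  simp only [φ1] at s2 a2 b2
  have l2 : ∀ a, bt a a = 0 → a ≠ 0 → s a = l' • a → (∀ x, bt (s x) a = bt x a * l') → ∀ z, bt z z = 0 → bt z a = 0 →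
      α (sh a z) = sh a z → ∃ k : F, s z + l' • z = k • a := by
    intro a ha a0 k1 k2 z z1 z2 z3
    obtain ⟨p, -, hp⟩ := H76.ex_hyp (v := a) ⟨ha, a0⟩
    have := s4 (sh a z) p
    rw [z3, H12.ac_sh ha z1 (H12.bt_sw z2), H12.ac_sh ha z1 (H12.bt_sw z2), s1, s1, s2, s2, k1, k2, hp] at this
    refine ⟨bt (s p) z - bt p z * l', ?_⟩
    ext i
    have := congrFun this i
    simp only [Pi.add_apply, Pi.smul_apply, smul_eq_mul] at this ⊢
    linear_combination -this + l' * z i * two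
  have fz : ∀ z, bt z z = 0 → bt z u = 0 → bt z f = 0 → s z = l' • z := fun z z1 z2 z3 => by
    obtain ⟨k, hk⟩ := l2 u uu u0 a1 a2 z z1 z2 (h2 z z1 z2 z3).1
    obtain ⟨k', hk'⟩ := l2 f ff f0 b1 b2 z z1 z3 (h2 z z1 z2 z3).2
    rw [(hl k k' (by rw [← hk, ← hk', vv])).1, zero_smul] at hk
    exact veq hk
  have perp : ∀ y, bt y u = 0 → bt y f = 0 → s y = l' • y := fun y y1 y2 => by
    obtain ⟨c, hc⟩ := iso_fix (z := y + (1 + bt y a) • b) aa (by
      rw [H12.bt_add_l, H12.bt_smul_l, ba]; linear_combination bt y a * two)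
    have := fz _ hc (by simp [H12.bt_add_l, H12.bt_smul_l, y1, bu, au]) (by simp [H12.bt_add_l, H12.bt_smul_l, y2, bf, af])
    rw [s1, s1, s2, s2, fz a aa au af, fz b bb bu bf, smul_add, smul_add, smul_comm c, smul_comm (1 + bt y a)] at this
    exact add_right_cancel (add_right_cancel this)
  have nl : l' * σ l' = 1 := by
    have := s5 b a
    rwa [fz a aa au af, fz b bb bu bf, H12.bt_smul_l, H12.bt_smul_r, ba, mul_one] at this
  have inT : ∀ x, ∃ p q : F, σ l' • s x = x + p • u + q • f := fun x => by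
    have : σ l' • s x + x ∈ H12.pp (H12.pp (Submodule.span F {u, f})) := by
      rw [H12.mem_pp]
      intro z hz
      rw [H12.mem_pp_span] at hz
      have := s5 x z
      rw [perp z (hz u (by simp)) (hz f (by simp)), H12.bt_smul_r] at this
      rw [H12.bt_add_l, H12.bt_smul_l, this, CharTwo.add_self_eq_zero]
    rw [H12.pp_pp, Submodule.mem_span_pair] at this
    obtain ⟨p, q, e⟩ := this
    exact ⟨p, q, by rw [add_assoc, e, add_comm (σ l' • s x), ← add_assoc, vv, zero_add]⟩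
  have un : ∀ x y, bt (σ l' • s x) (σ l' • s y) = bt x y := fun x y => by
    rw [H12.bt_smul_l, H12.bt_smul_r, H12.ss, s5, ← mul_assoc, mul_comm (σ l'), nl, one_mul]
  have h3 : ∀ x y z : F, x • f + y • u + z • a = 0 → x = 0 ∧ y = 0 ∧ z = 0 := fun x y z e => by
    have k := congrArg (bt · b) e
    simp only [H12.bt_add_l, H12.bt_smul_l, H12.bt_sw bu, H12.bt_sw bf, H12.bt_symm b a, ba, map_one,
      H12.bt_zero_l, mul_zero, zero_add, mul_one] at k
    rw [k, zero_smul, add_zero, add_comm] at e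
    exact ⟨(hl _ _ e).2, (hl _ _ e).1, k⟩
  obtain ⟨p, p1, p2, -, p4⟩ := dual (u := f) (v := u) (w := a) uu uf (H12.bt_sw au) h3
  obtain ⟨q, q1, q2, -, q4⟩ := dual (u := u) (v := f) (w := a) ff fu (H12.bt_sw af) fun x y z e => by
    obtain ⟨k1, k2, k3⟩ := h3 y x z (by rw [← e, add_comm (y • f)]); exact ⟨k2, k1, k3⟩
  obtain ⟨c1, c2, hc⟩ := inT p
  obtain ⟨d1, d2, hd⟩ := inT q
  have up : bt u p = 1 := by rw [H12.bt_symm, p4, map_one]
  have fq : bt f q = 1 := by rw [H12.bt_symm, q4, map_one]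
  have r1 := un p p
  have r2 := un q q
  have r3 := un p q
  simp only [hc, hd, H12.bt_add_l, H12.bt_add_r, H12.bt_smul_l, H12.bt_smul_r, uu, ff, uf, fu, p1, q1, p2, p4, q2, q4,
    up, fq, H12.bt_sw p2, H12.bt_sw q2, mul_zero, mul_one, add_zero, zero_add] at r1 r2 r3
  have k1 : σ c1 = c1 := by linear_combination r1 - c1 * two
  have k2 : σ d2 = d2 := by linear_combination r2 - d2 * two
  have k3 : c2 = σ d1 := by linear_combination r3 - σ d1 * two
  refine ⟨⟨c1, k1⟩, ⟨d2, k2⟩, d1, ?_⟩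
  have all : ∀ y, ac (tc u ⟨c1, k1⟩ * tc f ⟨d2, k2⟩ * sh (d1 • u) f) y = σ l' • s y := fun y => by
    have := perp (y + (bt y u • p + bt y f • q))
      (by simp [H12.bt_add_l, H12.bt_smul_l, p4, q2, CharTwo.add_self_eq_zero])
      (by simp [H12.bt_add_l, H12.bt_smul_l, p2, q4, CharTwo.add_self_eq_zero])
    have := congrArg (σ l' • ·) this
    simp only [s1, s2, smul_add] at this
    rw [smul_comm (σ l') (bt y u), smul_comm (σ l') (bt y f), hc, hd] at this
    simp only [smul_smul, ← mul_assoc, mul_comm (σ l') l', nl, one_mul, one_smul] at this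
    rw [ac_jj o]
    ext i
    have := congrFun this i
    simp only [Pi.add_apply, Pi.smul_apply, smul_eq_mul, k3] at this ⊢
    linear_combination -this + ((c1 * bt y u + d1 * bt y f) * u i + (d2 * bt y f + σ d1 * bt y u) * f i) * two
  refine MonoidHom.ext fun x => ?_
  rw [cn_apply, eq_mul_inv_iff_mul_eq]
  refine H12.ac_ext fun y => ?_
  rw [H12.ac_mul (α x), H12.ac_mul _ x, all, all, H12.ac_smul, s4]

theorem grp1 {H : Type*} [Group H] {A B e e' : H} (h1 : Commute e A) (h2 : Commute e B) (h3 : Commute e' A)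
    (h4 : Commute e' B) (h5 : Commute e e') : ⁅A * e, B * e'⁆ = ⁅A, B⁆ := by
  have a : A * e * (B * e') = A * B * (e * e') := by
    rw [mul_assoc, ← mul_assoc e, h2.eq]; group
  have b : B * e' * (A * e) = B * A * (e * e') := by
    rw [mul_assoc, ← mul_assoc e', h3.eq, h5.eq]; group
  calc ⁅A * e, B * e'⁆ = A * e * (B * e') * (B * e' * (A * e))⁻¹ := by rw [commutatorElement_def]; group
    _ = ⁅A, B⁆ := by rw [a, b, commutatorElement_def]; group

theorem grp2 {H : Type*} [Group H] {A B C a b c t : H} (CC : C * C = 1) (cc : c * c = 1)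
    (tA : A * t * A⁻¹ = t * a) (tB : B * t * B⁻¹ = t * b) (tC : C * t * C⁻¹ = t * c) (AA : A * A = 1) (BB : B * B = 1)
    (aa : a * a = 1) (bb : b * b = 1) (Bb : Commute b B) (aB : a * B * a⁻¹ = B * C) (bA : b * A * b⁻¹ = A * C)
    (Aa : Commute a A) (ab : a * b * a⁻¹ = b * c) (CA : Commute C A) (CB : Commute C B) (Ca : Commute a C)
    (Cb : Commute b C) (cA : Commute c A) (cB : Commute c B) (cb : Commute c b) :
    ⁅A, B⁆ * C * t = t * (⁅A, B⁆ * C) := by
  have iA : A⁻¹ = A := inv_eq_of_mul_eq_one_right AA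
  have iB : B⁻¹ = B := inv_eq_of_mul_eq_one_right BB
  have ia : a⁻¹ = a := inv_eq_of_mul_eq_one_right aa
  have ib : b⁻¹ = b := inv_eq_of_mul_eq_one_right bb
  have r1 : ∀ x, A * (t * x) = t * (a * (A * x)) := fun x => by
    rw [← mul_assoc, mul_inv_eq_iff_eq_mul.1 tA]; group
  have r2 : ∀ x, B * (t * x) = t * (b * (B * x)) := fun x => by
    rw [← mul_assoc, mul_inv_eq_iff_eq_mul.1 tB]; group
  have r3 : C * t = t * (c * C) := by rw [mul_inv_eq_iff_eq_mul.1 tC]; group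
  have r4 : ∀ x, A * (b * x) = b * (A * (C * x)) := fun x => by
    have : A * b = b * (A * C) := by rw [← bA, ib, ← mul_assoc, ← mul_assoc, bb, one_mul]
    rw [← mul_assoc, this]; group
  have r5 : ∀ x, B * (a * x) = a * (B * (C * x)) := fun x => by
    have : B * a = a * (B * C) := by rw [← aB, ia, ← mul_assoc, ← mul_assoc, aa, one_mul]
    rw [← mul_assoc, this]; group
  have r6 : ∀ x, a * (b * (a * (b * x))) = c * x := fun x => by
    have : a * b * a * b = c := by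
      rw [ia] at ab
      rw [ab, ← cb.eq, mul_assoc, bb, mul_one]
    rw [← this]; group
  have l : ∀ {p q : H}, Commute p q → ∀ x, q * (p * x) = p * (q * x) := fun h x => by
    rw [← mul_assoc, ← h.eq, mul_assoc]
  have r7 : ∀ x, C * (C * x) = x := fun x => by rw [← mul_assoc, CC, one_mul]
  have r8 : ∀ x, c * (c * x) = x := fun x => by rw [← mul_assoc, cc, one_mul]
  rw [commutatorElement_def, iA, iB]
  simp only [mul_assoc, r3, r1, r2]
  congr 1
  simp only [r4, r5, l Aa, l Bb, l Ca, l Cb, l CA.symm, l CB.symm, r7]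
  rw [r6]
  simp only [l cA, l cB, r8]

section core
variable (h : C4 ι t) (k : W2 ι t W) {u f a b : VV n F} (o : Ot u f) (aa : bt a a = 0)
    (au : bt a u = 0) (af : bt a f = 0) (bb : bt b b = 0) (bu : bt b u = 0) (bf : bt b f = 0) (ba : bt b a = 1)
include h k o aa au af bb bu bf ba

theorem c1a (y z : F) : ∃ (c d : K0 F) (m : F), ⁅SS W (y • u) a, SS W (z • b) f⁆ =
    ι (tc u c * tc f d * sh (m • u) f) * SS W ((y * z) • u) f := by
  have h1 : C1 ι t := h.toC1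
  have k' : Wt ι t W := k.toWt
  have uu := o.1
  have ff := o.2.1
  have uf := o.2.2.1
  have fu := H12.bt_sw uf
  have ua := H12.bt_sw au
  have fa := H12.bt_sw af
  have ub := H12.bt_sw bu
  have fb := H12.bt_sw bf
  have ab : bt a b = 1 := by rw [H12.bt_symm, ba, map_one]
  by_cases y0 : y = 0
  · refine ⟨0, 0, 0, ?_⟩
    have : tc u 0 * tc f 0 * sh ((0 : F) • u) f = 1 := H12.ac_ext fun x => by rw [ac_jj o, H12.ac_one]; simp
    rw [this, y0, zero_mul, zero_smul, SS_zero_l k' aa, SS_zero_l k' ff]; simp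
  have S1 := span_ti uu ff aa uf ua fa
  have S2 := span_ti uu ff bb uf ub fb
  have u1 : u ∈ Submodule.span F {u, f, a} := Submodule.subset_span (by simp)
  have f1 : f ∈ Submodule.span F {u, f, a} := Submodule.subset_span (by simp)
  have a1 : a ∈ Submodule.span F {u, f, a} := Submodule.subset_span (by simp)
  have u2 : u ∈ Submodule.span F {u, f, b} := Submodule.subset_span (by simp)
  have f2 : f ∈ Submodule.span F {u, f, b} := Submodule.subset_span (by simp)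
  have b2 : b ∈ Submodule.span F {u, f, b} := Submodule.subset_span (by simp)
  have T1 : ∀ p q : F, p • u + q • f ∈ Submodule.span F {u, f, a} := fun p q =>
    add_mem (Submodule.smul_mem _ _ u1) (Submodule.smul_mem _ _ f1)
  have T2 : ∀ p q : F, p • u + q • f ∈ Submodule.span F {u, f, b} := fun p q =>
    add_mem (Submodule.smul_mem _ _ u2) (Submodule.smul_mem _ _ f2)
  have p1 := Submodule.smul_mem _ y u1
  have p2 := Submodule.smul_mem _ y u2
  have q2 := Submodule.smul_mem _ z b2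
  have c1 := Submodule.smul_mem _ (y * z) u1
  have c2 := Submodule.smul_mem _ (y * z) u2
  have cjA := SS_cj k' (S1 _ p1 _ p1) aa (S1 _ p1 _ a1)
  have cjB := SS_cj k' (S2 _ q2 _ q2) ff (S2 _ q2 _ f2)
  have fxC := fun g => SS_fix (g := g) k' (S1 _ c1 _ c1) ff (S1 _ c1 _ f1)
  have AA := SS_sq h k' (S1 _ p1 _ p1) aa (S1 _ p1 _ a1)
  have BB := SS_sq h k' (S2 _ q2 _ q2) ff (S2 _ q2 _ f2)
  have CC := SS_sq h k' (S1 _ c1 _ c1) ff (S1 _ c1 _ f1)
  have CA := SS_cm h k' S1 c1 f1 p1 a1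
  have CB := SS_cm h k' S2 c2 f2 q2 f2
  have tA := SS_t h k' (S1 _ p1 _ p1) aa (S1 _ p1 _ a1)
  have acA := H12.ac_sh (S1 _ p1 _ p1) aa (S1 _ p1 _ a1)
  have acB := H12.ac_sh (S2 _ q2 _ q2) ff (S2 _ q2 _ f2)
  have acC := H12.ac_sh (S1 _ c1 _ c1) ff (S1 _ c1 _ f1)
  have sq : ∀ {x : XU n F}, x * x = 1 → ι x * ι x = 1 := fun e => by rw [← map_mul, e, map_one]
  have inv : ∀ g : XU n F, ac g u = u → ac g f = f → (∃ p q : F, ac g a = a + (p • u + q • f)) →
      (∃ p q : F, ac g b = b + (p • u + q • f)) →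
      ⁅SS W (y • u) a, SS W (z • b) f⁆ * SS W ((y * z) • u) f * ι g =
        ι g * (⁅SS W (y • u) a, SS W (z • b) f⁆ * SS W ((y * z) • u) f) := by
    rintro g g1 g2 ⟨p, q, g3⟩ ⟨p', q', g4⟩
    have e1 := cjA g
    have e2 := cjB g
    rw [H12.ac_smul, g1, g3, gadd h k' S1 p1 a1 (T1 p q)] at e1
    rw [H12.ac_smul, g2, g4, smul_add, smul_add, smul_smul, smul_smul, gaddl h k' S2 f2 q2 (T2 _ _)] at e2
    have e3 : ι g * ⁅SS W (y • u) a, SS W (z • b) f⁆ * (ι g)⁻¹ = ⁅SS W (y • u) a, SS W (z • b) f⁆ := by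
      rw [conjugate_commutatorElement, e1, e2]
      exact grp1 (SS_cm h k' S1 p1 (T1 _ _) p1 a1) (SS_cm h k' S2 p2 (T2 _ _) q2 f2) (SS_cm h k' S1 (T1 _ _) f1 p1 a1)
        (SS_cm h k' S2 (T2 _ _) f2 q2 f2) (SS_cm h k' S1 p1 (T1 _ _) (T1 _ _) f1)
    rw [mul_inv_eq_iff_eq_mul] at e3
    rw [← mul_assoc, e3, mul_assoc, mul_assoc, (fxC g (by rw [H12.ac_smul, g1]) g2).eq]
  have kt : ⁅SS W (y • u) a, SS W (z • b) f⁆ * SS W ((y * z) • u) f * t =
      t * (⁅SS W (y • u) a, SS W (z • b) f⁆ * SS W ((y * z) • u) f) := by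
    have v1 : ac (sh (y • u) a) (z • b) = z • b + (y * z) • u := by
      rw [acA]; simp [H12.bt_smul_l, H12.bt_smul_r, ba, bu, smul_smul, mul_comm]
    have v2 : ac (sh (y • u) a) f = f := by rw [acA]; simp [H12.bt_smul_r, fa, fu]
    refine grp2 (a := ι (sh (y • u) a)) (b := ι (sh (z • b) f)) (c := ι (sh ((y * z) • u) f)) CC
      (sq (H12.sh_sq (S1 _ c1 _ c1) ff (S1 _ c1 _ f1))) tA (SS_t h k' (S2 _ q2 _ q2) ff (S2 _ q2 _ f2))
      (SS_t h k' (S1 _ c1 _ c1) ff (S1 _ c1 _ f1)) AA BB (sq (H12.sh_sq (S1 _ p1 _ p1) aa (S1 _ p1 _ a1)))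
      (sq (H12.sh_sq (S2 _ q2 _ q2) ff (S2 _ q2 _ f2))) ?_ ?_ ?_ ?_ ?_ CA CB ?_ ?_ ?_ ?_ ?_
    · refine SS_fix k' (S2 _ q2 _ q2) ff (S2 _ q2 _ f2) ?_ ?_ <;> rw [acB] <;>
        simp [H12.bt_smul_l, H12.bt_smul_r, bb, bf, ff, fb]
    · rw [cjB, v1, v2, gaddl h k' S2 f2 q2 c2]
    · rw [cjA, acB, acB]
      have : SS W (y • u) (σ z • f) = SS W ((y * z) • u) f := by
        have := bsc h k' o (σ z) y 1
        rw [H12.ss, one_smul, mul_one, mul_comm] at this
        exact this.symm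
      rw [← this, ← gadd h k' S1 p1 a1 (Submodule.smul_mem _ _ f1)]
      simp [H12.bt_smul_l, H12.bt_smul_r, uf, ub, af, ab]
    · refine SS_fix k' (S1 _ p1 _ p1) aa (S1 _ p1 _ a1) ?_ ?_ <;> rw [acA] <;>
        simp [H12.bt_smul_l, H12.bt_smul_r, uu, ua, aa, au]
    · rw [← map_inv, ← map_mul, ← map_mul, ← map_mul, H12.cj_sh _ (S2 _ q2 _ q2) ff (S2 _ q2 _ f2), v1, v2, sh_symm,
        sh_add ff (S2 _ q2 _ q2) (S2 _ c2 _ c2) (S2 _ f2 _ q2) (S2 _ f2 _ c2) (S2 _ q2 _ c2), sh_symm f, sh_symm f]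
    · refine fxC _ ?_ v2
      rw [acA]; simp [H12.bt_smul_l, H12.bt_smul_r, uu, ua]
    · refine fxC _ ?_ ?_ <;> rw [acB] <;> simp [H12.bt_smul_l, H12.bt_smul_r, uf, ub, ff, fb]
    · refine SS_fix k' (S1 _ p1 _ p1) aa (S1 _ p1 _ a1) ?_ ?_ <;> rw [acC] <;>
        simp [H12.bt_smul_l, H12.bt_smul_r, uu, uf, af, au]
    · refine SS_fix k' (S2 _ q2 _ q2) ff (S2 _ q2 _ f2) ?_ ?_ <;> rw [acC] <;>
        simp [H12.bt_smul_l, H12.bt_smul_r, bu, bf, ff, fu]
    · refine Commute.map ?_ ι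
      have := H12.cj_sh (sh ((y * z) • u) f) (S2 _ q2 _ q2) ff (S2 _ q2 _ f2)
      rw [acC, acC] at this
      simp only [H12.bt_smul_l, H12.bt_smul_r, bu, bf, ff, fu, mul_zero, zero_smul, add_zero] at this
      exact mul_inv_eq_iff_eq_mul.1 this
  obtain ⟨α, φ, a1', a2'⟩ := H77.Em.act h1.em (h1.CN _ kt)
  obtain ⟨c, d, m, e⟩ := trivJ a2' o aa au af bb bu bf ba
    (fun p q => by
      have yy := S1 _ (T1 p q) _ (T1 p q)
      refine H77.Act.fix' h1.em a1' (P2.of_sq (H12.tc_sq yy 1)) (inv _ ?_ ?_ ⟨0, 0, ?_⟩ ⟨0, 0, ?_⟩) <;>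
        rw [H12.ac_tc yy] <;> simp [H12.bt_add_r, H12.bt_smul_r, uu, uf, fu, ff, au, af, bu, bf])
    (fun x x1 x2 x3 => by
      have ux := H12.bt_sw x2
      have fx := H12.bt_sw x3
      constructor
      · refine H77.Act.fix' h1.em a1' (P2.of_sq (H12.sh_sq uu x1 ux)) (inv _ ?_ ?_ ⟨bt a x, 0, ?_⟩ ⟨bt b x, 0, ?_⟩) <;>
          rw [H12.ac_sh uu x1 ux] <;> simp [uu, fu, au, bu, ux, fx]
      · refine H77.Act.fix' h1.em a1' (P2.of_sq (H12.sh_sq ff x1 fx)) (inv _ ?_ ?_ ⟨0, bt a x, ?_⟩ ⟨0, bt b x, ?_⟩) <;>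
          rw [H12.ac_sh ff x1 fx] <;> simp [uf, ff, af, bf, ux, fx])
  refine ⟨c, d, m, ?_⟩
  have jj := jj_sq o c d m
  have jA : Commute (ι (tc u c * tc f d * sh (m • u) f)) (SS W (y • u) a) := by
    refine SS_fix k' (S1 _ p1 _ p1) aa (S1 _ p1 _ a1) ?_ ?_ <;> rw [ac_jj o] <;>
      simp [H12.bt_smul_l, uu, uf, au, af]
  generalize tc u c * tc f d * sh (m • u) f = j at *
  have Ao : ∀ o, Oo ι t o → Commute (SS W (y • u) a) o := fun o ho =>
    SS_co k' (S1 _ p1 _ p1) aa (S1 _ p1 _ a1) ho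
  have a2 := sq (H12.sh_sq (S1 _ p1 _ p1) aa (S1 _ p1 _ a1))
  have an : ι (sh (y • u) a) ≠ 1 := fun e => by
    rw [← map_one ι] at e
    have := H77.Em.inj2 h1.em (P2.of_sq (H12.sh_sq (S1 _ p1 _ p1) aa (S1 _ p1 _ a1))) (P2.of_sq (mul_one 1)) e
    have e2 := acA b
    rw [this, H12.ac_one, ba, H12.bt_smul_r, bu] at e2
    have : y • u = 0 := by simpa using e2
    exact y0 (LinearIndependent.pair_iff.1 o.2.2.2 y 0 (by simpa using this)).1
  generalize SS W (y • u) a = A at *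
  generalize SS W (z • b) f = B at *
  generalize SS W ((y * z) • u) f = C at *
  have iA : A⁻¹ = A := inv_eq_of_mul_eq_one_right AA
  have iB : B⁻¹ = B := inv_eq_of_mul_eq_one_right BB
  have iC : C⁻¹ = C := inv_eq_of_mul_eq_one_right CC
  have ij : (ι j)⁻¹ = ι j := inv_eq_of_mul_eq_one_right (sq jj)
  have Ak : A * (⁅A, B⁆ * C) * A⁻¹ = (⁅A, B⁆ * C)⁻¹ := by
    rw [_root_.mul_inv_rev, iC, commutatorElement_inv, commutatorElement_def, commutatorElement_def, iA, iB,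
      (((CB.mul_right CA).mul_right CB).mul_right CA).eq]
    calc A * (A * B * A * B * C) * A = A * A * B * A * B * (C * A) := by group
      _ = _ := by rw [AA, CA.eq]; group
  suffices ⁅A, B⁆ * C = ι j by rw [← this, mul_assoc, CC, mul_one]
  generalize ⁅A, B⁆ * C = κ at *
  have kc : κ * (ι j)⁻¹ ∈ 𝐂(ι.range) := by
    rw [mem_centralizer_iff]
    rintro _ ⟨x, rfl⟩
    have := a1' (j⁻¹ * x * j)
    rw [e, cn_apply, show j * (j⁻¹ * x * j) * j⁻¹ = x by group, map_mul, map_mul, map_inv] at this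
    conv_lhs => rw [← this]
    group
  obtain ⟨O, -, -, hO⟩ := H77.C2.od h.toC2
  obtain ⟨o', ho, e'⟩ := hO _ kc (by rw [mul_assoc, ← map_inv, ← h1.tc, ← mul_assoc, kt, mul_assoc])
  have oj : Commute (ι j) o' := mem_centralizer_iff.1 ho.1 _ ⟨j, rfl⟩
  have o1 : ∀ i : ℕ, o' ^ 2 ^ i = 1 → o' = 1 := fun i e => P2.eq_one ⟨i, e⟩ ho.2.2
  have Ao := Ao o' ho
  rw [mul_inv_eq_iff_eq_mul, mul_inv_eq_iff_eq_mul] at e'
  rcases e' with rfl | rfl
  · rw [(Ao.mul_right jA.symm).eq, mul_inv_cancel_right, eq_inv_iff_mul_eq_one, ← pow_two, oj.symm.mul_pow, pow_two (ι j),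
      sq jj, mul_one] at Ak
    rw [o1 1 Ak, one_mul]
  · exfalso
    have ot : Commute o' t := ho.2.1
    have tj : Commute t (ι j) := h1.tc j
    have it : t⁻¹ = t := inv_eq_of_mul_eq_one_right h1.t2
    have e1 : A * (t * o' * ι j) * A⁻¹ = t * ι (sh (y • u) a) * o' * ι j := by
      rw [← tA]
      calc A * (t * o' * ι j) * A⁻¹ = A * t * (o' * ι j * A⁻¹) := by group
        _ = _ := by rw [← ((Ao.mul_right jA.symm).inv_left).eq]; group
    rw [e1, _root_.mul_inv_rev, _root_.mul_inv_rev, ij, it, (oj.inv_right.mul_right tj.symm).eq, ot.inv_left.eq,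
      mul_left_inj, mul_assoc, mul_right_inj, ← eq_mul_inv_iff_mul_eq] at Ak
    have : o' = 1 := o1 2 (by
      rw [Ak] at a2
      rw [← inv_eq_one, ← a2]; group)
    rw [this] at Ak
    exact an (by simpa using Ak)

theorem c1b : ∃ (c d : F → F → K0 F) (m : F → F → F), (∀ y z, ⁅SS W (y • u) a, SS W (z • b) f⁆ =
    ι (tc u (c y z) * tc f (d y z) * sh (m y z • u) f) * SS W ((y * z) • u) f) ∧
    (∀ y y' z, c (y + y') z = c y z + c y' z ∧ d (y + y') z = d y z + d y' z ∧ m (y + y') z = m y z + m y' z) ∧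
    ∀ y z z', c y (z + z') = c y z + c y z' ∧ d y (z + z') = d y z + d y z' ∧ m y (z + z') = m y z + m y z' := by
  choose c d m e using c1a h k o aa au af bb bu bf ba
  have h1 : C1 ι t := h.toC1
  have k' : Wt ι t W := k.toWt
  have uu := o.1
  have ff := o.2.1
  have uf := o.2.2.1
  have S1 := span_ti uu ff aa uf (H12.bt_sw au) (H12.bt_sw af)
  have S2 := span_ti uu ff bb uf (H12.bt_sw bu) (H12.bt_sw bf)
  have u1 : ∀ y : F, y • u ∈ Submodule.span F {u, f, a} := fun y =>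
    Submodule.smul_mem _ _ (Submodule.subset_span (by simp))
  have f1 : f ∈ Submodule.span F {u, f, a} := Submodule.subset_span (by simp)
  have a1 : a ∈ Submodule.span F {u, f, a} := Submodule.subset_span (by simp)
  have u2 : ∀ y : F, y • u ∈ Submodule.span F {u, f, b} := fun y =>
    Submodule.smul_mem _ _ (Submodule.subset_span (by simp))
  have f2 : f ∈ Submodule.span F {u, f, b} := Submodule.subset_span (by simp)
  have b2 : ∀ y : F, y • b ∈ Submodule.span F {u, f, b} := fun y =>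
    Submodule.smul_mem _ _ (Submodule.subset_span (by simp))
  have fu := H12.bt_sw uf
  have jC : ∀ c d m (y : F), Commute (ι (tc u c * tc f d * sh (m • u) f)) (SS W (y • u) f) := fun c d m y => by
    refine SS_fix k' (S1 _ (u1 _) _ (u1 _)) ff (S1 _ (u1 _) _ f1) ?_ ?_ <;> rw [ac_jj o] <;>
      simp [H12.bt_smul_l, uu, uf, fu, ff]
  have dA : ∀ y z y', Commute ⁅SS W (y • u) a, SS W (z • b) f⁆ (SS W (y' • u) a) := fun y z y' => by
    rw [e]
    refine Commute.mul_left ?_ (SS_cm h k' S1 (u1 _) f1 (u1 _) a1)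
    refine SS_fix k' (S1 _ (u1 _) _ (u1 _)) aa (S1 _ (u1 _) _ a1) ?_ ?_ <;> rw [ac_jj o] <;>
      simp [H12.bt_smul_l, uu, uf, au, af]
  have dB : ∀ y z z', Commute ⁅SS W (y • u) a, SS W (z • b) f⁆ (SS W (z' • b) f) := fun y z z' => by
    rw [e]
    refine Commute.mul_left ?_ (SS_cm h k' S2 (u2 _) f2 (b2 _) f2)
    refine SS_fix k' (S2 _ (b2 _) _ (b2 _)) ff (S2 _ (b2 _) _ f2) ?_ ?_ <;> rw [ac_jj o] <;>
      simp [H12.bt_smul_l, bu, bf, fu, ff]
  have fin : ∀ (c d c' d' c'' d'' : K0 F) (m m' m'' x x' : F),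
      ι (tc u c'' * tc f d'' * sh (m'' • u) f) * SS W ((x + x') • u) f =
        ι (tc u c * tc f d * sh (m • u) f) * SS W (x • u) f * (ι (tc u c' * tc f d' * sh (m' • u) f) * SS W (x' • u) f) →
      c'' = c + c' ∧ d'' = d + d' ∧ m'' = m + m' := fun c d c' d' c'' d'' m m' m'' x x' q => by
    rw [add_smul, gaddl h k' S1 f1 (u1 _) (u1 _), ← mul_assoc, ← mul_assoc, mul_left_inj, mul_assoc _ (SS W (x • u) f),
      ← (jC _ _ _ _).eq, ← mul_assoc, mul_left_inj, ← map_mul, jj_mul o] at q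
    exact herm_inj o (H77.Em.inj2 h1.em (P2.of_sq (jj_sq o _ _ _)) (P2.of_sq (jj_sq o _ _ _)) q)
  refine ⟨c, d, m, e, fun y y' z => fin _ _ _ _ _ _ _ _ _ (y * z) (y' * z) ?_,
    fun y z z' => fin _ _ _ _ _ _ _ _ _ (y * z) (y * z') ?_⟩
  · rw [← add_mul, ← e, ← e, ← e, add_comm y, add_smul, gaddl h k' S1 a1 (u1 _) (u1 _)]
    have := (dA y z y').eq
    generalize SS W (y • u) a = A at *
    generalize SS W (y' • u) a = A' at *
    generalize SS W (z • b) f = B at *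
    calc ⁅A' * A, B⁆ = A' * ⁅A, B⁆ * A'⁻¹ * ⁅A', B⁆ := by simp only [commutatorElement_def]; group
      _ = _ := by rw [← this]; group
  · rw [← mul_add, ← e, ← e, ← e, add_smul, gaddl h k' S2 f2 (b2 _) (b2 _)]
    have := (dB y z' z).eq
    generalize SS W (y • u) a = A at *
    generalize SS W (z' • b) f = B' at *
    generalize SS W (z • b) f = B at *
    calc ⁅A, B * B'⁆ = ⁅A, B⁆ * (B * ⁅A, B'⁆ * B⁻¹) := by simp only [commutatorElement_def]; group
      _ = _ := by rw [← this]; group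

end core

theorem ex_e : ∃ e : F, e ≠ 0 ∧ e ≠ 1 ∧ (4 ≤ n ∨ e ∈ K0 F) := by
  by_cases h4 : 4 ≤ n
  · obtain ⟨e, he⟩ := H12.ex_tr (F := F)
    refine ⟨e, ?_, ?_, Or.inl h4⟩
    · rintro rfl; simp at he
    · rintro rfl; simp [CharTwo.add_self_eq_zero] at he
  · have h3 : 3 ≤ n := Ok.h3 F
    have q := q_four (F := F) (n := n) (by omega)
    by_contra hc
    have : (Set.univ : Set (K0 F)) ⊆ {0, 1} := fun e _ => by
      by_contra k
      simp only [Set.mem_insert_iff, Set.mem_singleton_iff, not_or] at k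
      exact hc ⟨e, fun x => k.1 (Subtype.ext x), fun x => k.2 (Subtype.ext x), Or.inr e.2⟩
    have := (Set.ncard_le_ncard this).trans (Set.ncard_insert_le _ _)
    rw [Set.ncard_univ, Set.ncard_singleton] at this
    omega

theorem c1core (h : C4 ι t) (k : W2 ι t W) : ∃ α : K0 F, ∀ i j l : Fin (n + 3), Sh i j → Sh j l → Sh i l →
    ∀ y y2 : F, ⁅SS W (y • ee i) (ee j.rev), SS W (y2 • ee j) (ee l.rev)⁆ =
      ι (sr i l (α * (y * y2))) * SS W ((y * y2) • ee i) (ee l.rev) := by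
  have hn : 3 ≤ n := Ok.h3 F
  have h1 : C1 ι t := h.toC1
  have k' : Wt ι t W := k.toWt
  have v0 : (0 : Fin (n + 3)).1 = 0 := rfl
  have v1 : (1 : Fin (n + 3)).1 = 1 := rfl
  have v2 : (2 : Fin (n + 3)).1 = 2 := rfl
  have s01 : Sh (0 : Fin (n + 3)) 1 := by simp only [Sh, ne_eq, Fin.ext_iff, Fin.val_rev, v0, v1]; omega
  have s12 : Sh (1 : Fin (n + 3)) (Fin.rev 2) := by simp only [Sh, ne_eq, Fin.ext_iff, Fin.val_rev, v2, v1]; omega
  have s02 : Sh (0 : Fin (n + 3)) (Fin.rev 2) := by simp only [Sh, ne_eq, Fin.ext_iff, Fin.val_rev, v0, v2]; omega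
  have s21 : Sh (2 : Fin (n + 3)) (Fin.rev 1) := by simp only [Sh, ne_eq, Fin.ext_iff, Fin.val_rev, v2, v1]; omega
  have s10 : Sh (Fin.rev 1 : Fin (n + 3)) (Fin.rev 0) := by
    simp only [Sh, ne_eq, Fin.ext_iff, Fin.val_rev, v0, v1]; omega
  have s20 : Sh (2 : Fin (n + 3)) (Fin.rev 0) := by simp only [Sh, ne_eq, Fin.ext_iff, Fin.val_rev, v2, v0]; omega
  have z : ∀ i j : Fin (n + 3), i.1 + j.1 ≠ n + 2 → bt (ee i : VV n F) (ee j) = 0 := fun i j e => by
    rw [H76.bt_ee, if_neg]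
    intro e'
    have := congrArg Fin.val e'
    rw [Fin.val_rev] at this
    omega
  have o : Ot (ee 0 : VV n F) (ee 2) := by simpa using ot_ee (F := F) s02
  have aa := z (Fin.rev 1) (Fin.rev 1) (by simp only [Fin.val_rev, v1]; omega)
  have au := z (Fin.rev 1) 0 (by simp only [Fin.val_rev, v1, v0]; omega)
  have af := z (Fin.rev 1) 2 (by simp only [Fin.val_rev, v1, v2]; omega)
  have bb := z 1 1 (by simp only [v1]; omega)
  have bu := z 1 0 (by simp only [v1, v0]; omega)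
  have bf := z 1 2 (by simp only [v1, v2]; omega)
  have ba : bt (ee 1 : VV n F) (ee (Fin.rev 1)) = 1 := by rw [H76.bt_ee, Fin.rev_rev, if_pos rfl]
  have oa : Ot (ee 0 : VV n F) (ee (Fin.rev 1)) := ot_ee s01
  have ob : Ot (ee 1 : VV n F) (ee 2) := by simpa using ot_ee (F := F) s12
  obtain ⟨c, d, m, e, ad1, ad2⟩ := c1b h k o aa au af bb bu bf ba
  have sc : ∀ {p q : VV n F}, Ot p q → ∀ (x : F) (g : XU n F),
      ι g * SS W (x • p) q * (ι g)⁻¹ = SS W (x • ac g p) (ac g q) := fun {p q} o x g => by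
    rw [SS_cj k' (by rw [H12.bt_smul_l, H12.bt_smul_r, o.1]; simp) o.2.1 (by rw [H12.bt_smul_l, o.2.2.1, mul_zero]),
      H12.ac_smul]
  have jc : ∀ (c d : K0 F) (m : F) (g : XU n F), g * (tc (ee 0) c * tc (ee 2) d * sh (m • ee 0) (ee 2)) * g⁻¹ =
      tc (ac g (ee 0)) c * tc (ac g (ee 2)) d * sh (m • ac g (ee 0)) (ac g (ee 2)) := fun c d m g => by
    rw [← H12.cj_tc g o.1, ← H12.cj_tc g o.2.1, ← H12.ac_smul,
      ← H12.cj_sh g (by rw [H12.bt_smul_l, H12.bt_smul_r, o.1]; simp) o.2.1 (by rw [H12.bt_smul_l, o.2.2.1, mul_zero])]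
    group
  have cj : ∀ (g : XU n F) (y x : F), ⁅SS W (y • ac g (ee 0)) (ac g (ee (Fin.rev 1))), SS W (x • ac g (ee 1)) (ac g (ee 2))⁆ =
      ι (tc (ac g (ee 0)) (c y x) * tc (ac g (ee 2)) (d y x) * sh (m y x • ac g (ee 0)) (ac g (ee 2))) *
        SS W ((y * x) • ac g (ee 0)) (ac g (ee 2)) := fun g y x => by
    rw [← sc oa, ← sc ob, ← sc o, ← jc, ← conjugate_commutatorElement, e]
    simp only [map_mul, map_inv]; group
  have bs : ∀ {p q : VV n F}, Ot p q → ∀ x r : F, SS W (x • p) (r • q) = SS W ((σ r * x) • p) q := fun o x r => by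
    have := bsc h k' o r x 1
    rw [one_smul, mul_one] at this
    exact this.symm
  have eqv : ∀ p r : F, p ≠ 0 → r ≠ 0 → (4 ≤ n ∨ p * 1 * r ∈ K0 F) → ∀ y x, c (y * p) (σ r * x) = c y x * nm p ∧
      d (y * p) (σ r * x) = d y x * nm r ∧ m (y * p) (σ r * x) = σ r * (m y x * p) := fun p r p0 r0 hp y x => by
    obtain ⟨D, hD, d0, d1, d2⟩ := exD3 (n := n) p0 one_ne_zero r0 hp
    have d3 : D (Fin.rev 1) = 1 := by
      have := hD.1 (Fin.rev 1)
      rwa [Fin.rev_rev, d1, map_one, mul_one] at this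
    have := cj (dgu D) y x
    simp only [ac_dgu hD, d0, d1, d2, d3, one_smul, smul_smul] at this
    rw [bs ob, e, bs o, H12.tc_smul o.1, H12.tc_smul o.2.1, ← H12.ss r, ← sh_smul, smul_smul, H12.ss,
      show σ r * (y * x * p) = y * p * (σ r * x) by ring, mul_left_inj] at this
    simp only [H12.ss] at this
    exact herm_inj o (H77.Em.inj2 h1.em (P2.of_sq (jj_sq o _ _ _)) (P2.of_sq (jj_sq o _ _ _)) this)
  obtain ⟨ε, e0, e1, e2⟩ := ex_e (F := F) (n := n)
  have e3 : ε + 1 ≠ 0 := fun q => e1 (CharTwo.add_eq_zero.1 q)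
  have c0 : ∀ y x, c y x = 0 := fun y x => by
    have e4 : σ ε + 1 ≠ 0 := by
      rw [← map_one σ, ← map_add]; exact (map_ne_zero_iff _ (σ : RingAut F).injective).2 e3
    have q := (eqv 1 ε one_ne_zero e0 (by simpa using e2) y ((σ ε + 1)⁻¹ * x)).1
    have q2 := (ad2 y (σ ε * ((σ ε + 1)⁻¹ * x)) ((σ ε + 1)⁻¹ * x)).1
    rw [mul_one, nm_one, mul_one] at q
    rwa [q, cc, ← add_one_mul, mul_inv_cancel_left₀ e4] at q2
  have d0 : ∀ y x, d y x = 0 := fun y x => by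
    have q := (eqv ε 1 e0 one_ne_zero (by simpa using e2) (y * (ε + 1)⁻¹) x).2.1
    have q2 := (ad1 (y * (ε + 1)⁻¹ * ε) (y * (ε + 1)⁻¹) x).2.1
    rw [map_one, one_mul, nm_one, mul_one] at q
    rwa [q, cc, ← mul_add_one, inv_mul_cancel_right₀ e3] at q2
  have m0 : ∀ y x, m y x = y * x * m 1 1 := H89.G2S.hua (fun _ _ _ => (ad1 _ _ _).2.2) (fun _ _ _ => (ad2 _ _ _).2.2)
    fun p y x => by
      by_cases p0 : p = 0
      · have := (ad1 0 0 0).2.2
        rw [add_zero, CharTwo.add_self_eq_zero] at this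
        simp [p0, this]
      · have := (eqv p (σ p) p0 ((map_ne_zero_iff _ (σ : RingAut F).injective).2 p0)
          (Or.inr (by rw [mul_one]; exact (nm p).2)) y x).2.2
        rw [H12.ss, mul_comm y] at this
        rw [this]; ring
  simp only [c0, d0, tc_zero, one_mul] at cj
  have fx : σ (m 1 1) = m 1 1 := by
    obtain ⟨π, hπ, p0, p1, p2⟩ := ex_pm3 s01 s12 s02 s21 s10 s20
    have p3 : π 2 = 0 := by rw [← Fin.rev_rev 2, hπ, p2, Fin.rev_rev]
    have q := cj (pmU π) 1 1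
    have q' := cj 1 1 1
    simp only [ac_pmU hπ, hπ, p0, p1, p3, Fin.rev_rev, one_smul, mul_one] at q
    simp only [H12.ac_one, one_smul, mul_one] at q'
    have i1 : bt (m 1 1 • ee 0 : VV n F) (m 1 1 • ee 0) = 0 := by rw [H12.bt_smul_l, H12.bt_smul_r, o.1]; simp
    have i2 : bt (m 1 1 • ee 0 : VV n F) (ee 2) = 0 := by rw [H12.bt_smul_l, o.2.2.1, mul_zero]
    have cm : Commute (ι (sh (m 1 1 • ee 0) (ee 2))) (SS W (ee 0) (ee 2)) := by
      refine SS_fix k' o.1 o.2.1 o.2.2.1 ?_ ?_ <;> rw [H12.ac_sh i1 o.2.1 i2] <;>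
        simp [H12.bt_smul_r, o.1, o.2.1, o.2.2.1, H12.bt_sw o.2.2.1]
    rw [SS_symm h k' o.2.1 bb (H12.bt_sw bf), SS_symm h k' aa o.1 au, ← commutatorElement_inv, q',
      SS_symm h k' o.2.1 o.1 (H12.bt_sw o.2.2.1), _root_.mul_inv_rev,
      inv_eq_of_mul_eq_one_right (SS_sq h k' o.1 o.2.1 o.2.2.1), ← map_inv,
      inv_eq_of_mul_eq_one_right (H12.sh_sq i1 o.2.1 i2), ← cm.eq, mul_left_inj, sh_smul (m 1 1) (ee 2), sh_symm (ee 2)] at q
    have q2 : ι (tc (ee 0) 0 * tc (ee 2) 0 * sh (m 1 1 • ee 0) (ee 2)) =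
        ι (tc (ee 0) 0 * tc (ee 2) 0 * sh (σ (m 1 1) • ee 0) (ee 2)) := by simpa only [tc_zero, one_mul] using q
    exact (herm_inj o (H77.Em.inj2 h1.em (P2.of_sq (jj_sq o _ _ _)) (P2.of_sq (jj_sq o _ _ _)) q2)).2.2.symm
  refine ⟨⟨m 1 1, fx⟩, fun i j l s1 s2 s3 y x => ?_⟩
  obtain ⟨π, hπ, p0, p1, p2⟩ := ex_pm3 s01 s12 s02 s1 s2 s3
  have p3 : π 2 = l.rev := by rw [← Fin.rev_rev 2, hπ, p2]
  have q := cj (pmU π) y x
  simp only [ac_pmU hπ, hπ, p0, p1, p3] at q
  rw [q, m0, mul_comm (y * x)]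
  rfl

end H87
end UMS
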