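import Cfsg.Agent.Lib.UMS.B7
import Cfsg.Agent.Lib.UMS.B1b
import Cfsg.Agent.Lib.UMS.CE

/-! Standard subgroups of type `U_m(2^n)`: the translations of `t` along a root group. -/

set_option autoImplicit false
set_option linter.unusedSectionVars false

namespace UMS.H71

open Subgroup H69 Cfsg Matrix U4S
open LMS (XX GX iL kk MM au tw Sg)
open scoped MatrixGroups commutatorElement

universe u
variable {G : Type*} [Group G] [Finite G] {F : Type u} [Field F] [CharP F 2] [Fintype F] [Hs F] {n : ℕ} [Ok n F]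
  {ι ψ χ : XU n F →* G} {t : G} {E : Subgroup G}

local notation "X" => XU n F
local notation "V" => VV n F

theorem odd_kill {u o : G} (hu : u * u = 1) (c : Commute u o) (ho : Odd (orderOf o))
    (h : Odd (orderOf (u * o))) : u = 1 := by
  obtain ⟨m, hm⟩ := h.mul ho
  have e : (u * o) ^ (orderOf (u * o) * orderOf o) = 1 := by rw [pow_mul, pow_orderOf_eq_one, one_pow]
  rwa [c.mul_pow, mul_comm (orderOf _) (orderOf o), pow_mul o, pow_orderOf_eq_one, one_pow, mul_one, mul_comm,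
    hm, pow_succ, pow_mul, sq, hu, one_pow, one_mul] at e

theorem xS {v : V} (hv : Is v) (a : K0 F) : (tc v a : X) ∈ St {v} := tc_St hv.1 hv.1 a

theorem St_cen {v : V} (hv : Is v) {x : X} (hx : x ∈ St {v}) (a : K0 F) : x * tc v a = tc v a * x := by
  have := tc_cj hv.1 a x
  rwa [mem_St.1 hx v rfl, mul_inv_eq_iff_eq_mul] at this

theorem co_cj {d : G} (k : CO ι t d) (x : X) : CO ι t (ι x * d * (ι x)⁻¹) := fun o ho =>
  have c : Commute (ι x) o := ho.1 _ ⟨x, rfl⟩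
  ((c.mul_left (k o ho)).mul_left c.inv_left).eq

theorem co_x (x : X) : CO ι t (ι x) := fun _ ho => ho.1 _ ⟨_, rfl⟩

theorem co_t : CO ι t t := fun _ ho => ho.2.1.symm

theorem co_mul {d e : G} (k : CO ι t d) (k' : CO ι t e) : CO ι t (d * e) :=
  fun o ho => (Commute.mul_left (k o ho) (k' o ho)).eq

theorem co_inv {d : G} (k : CO ι t d) : CO ι t d⁻¹ := fun o ho => (Commute.inv_left (k o ho)).eq

theorem xsq {v : V} (hv : Is v) (a : K0 F) : ι (tc v a) * ι (tc v a) = 1 := by rw [← map_mul, tc_sq hv.1, map_one]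

theorem txsq (h : C1 ι t) {v : V} (hv : Is v) (a : K0 F) : t * ι (tc v a) * (t * ι (tc v a)) = 1 := by
  rw [mul_assoc, ← mul_assoc (ι _), ← h.tc, mul_assoc, xsq hv, mul_one, h.t2]

theorem d0_mul {v : V} (hv : Is v) {c c' : K0 F} {d e : G} (h : D0 ι t v c d) (k : D0 ι t v c' e) :
    D0 ι t v (c + c') (d * e) := by
  refine ⟨fun x hx => by rw [mul_assoc, k.1 x hx, ← mul_assoc, h.1 x hx, mul_assoc], ?_⟩
  calc _ = d * (e * t * e⁻¹) * d⁻¹ := by group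
    _ = d * t * d⁻¹ * (d * ι (tc v c') * d⁻¹) := by rw [k.2]; group
    _ = _ := by rw [h.2, h.1 _ (xS hv c'), mul_inv_cancel_right, mul_assoc, ← map_mul, tc_mul hv.1]

theorem d0_inv {v : V} (hv : Is v) {c : K0 F} {d : G} (h : D0 ι t v c d) : D0 ι t v c d⁻¹ := by
  refine ⟨fun x hx => (Commute.inv_left (h.1 x hx)).eq, ?_⟩
  calc _ = d⁻¹ * (t * ι (tc v c)) * (ι (tc v c) * d) := by
        rw [inv_inv, mul_assoc, mul_assoc, mul_assoc, ← mul_assoc (ι _), xsq hv, one_mul]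
    _ = d⁻¹ * (d * t * d⁻¹) * (d * ι (tc v c)) := by rw [h.2, h.1 _ (xS hv c)]
    _ = _ := by group

theorem d0_uniq (h : C1 ι t) {v : V} (hv : Is v) {c c' : K0 F} {d : G} (k : D0 ι t v c d) (k' : D0 ι t v c' d) :
    c = c' := by
  have e : ι (tc v (c + c')) = 1 := by
    rw [← tc_mul hv.1, map_mul, mul_left_cancel (k.2.symm.trans k'.2), xsq hv]
  have e2 := tc_cen hv (h.em e)
  rw [← add_zero c, ← k0_add c', ← add_assoc, e2, zero_add]

theorem sv_inv {v : V} (hv : Is v) {c : K0 F} {d : G} (k : SV ι t v c d) : SV ι t v c d⁻¹ :=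
  ⟨d0_inv hv k.1, co_inv k.2.1, k.2.2.imp fun j e => by rw [inv_pow, e, inv_one]⟩

theorem sv_x (h : C1 ι t) {v : V} (hv : Is v) (a : K0 F) : SV ι t v 0 (ι (tc v a)) ∧ Xs ι t v 0 (ι (tc v a)) := by
  have d0 : D0 ι t v 0 (ι (tc v a)) := ⟨fun x hx => by
    rw [← map_mul, ← map_mul, St_cen hv hx], by
    rw [← h.tc, mul_inv_cancel_right, tc_zero, map_one, mul_one]⟩
  exact ⟨⟨d0, co_x _, P2.of_sq (xsq hv a)⟩, d0, co_x _, xsq hv a, fun b e => h.t_not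
    ⟨tc v a * (tc v b)⁻¹, by rw [map_mul, map_inv, e, mul_inv_cancel_right]⟩⟩

theorem sv_t (h : C1 ι t) (v : V) : SV ι t v 0 t :=
  ⟨⟨fun x _ => h.tc x, by rw [mul_inv_cancel_right, tc_zero, map_one, mul_one]⟩, co_t, P2.of_sq h.t2⟩

theorem xs_sv {v : V} {c : K0 F} {d : G} (k : Xs ι t v c d) : SV ι t v c d :=
  ⟨k.1, k.2.1, P2.of_sq k.2.2.1⟩

theorem d0_tr (h : C1 ι t) {v : V} (hv : Is v) {c : K0 F} {d : G} (k : D0 ι t v c d) (x : X) :
    D0 ι t (ac x v) c (ι x * d * (ι x)⁻¹) := by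
  refine ⟨fun y hy => ?_, ?_⟩
  · obtain ⟨z, hz, rfl⟩ := mem_cj'.1 (St_cj v x ▸ hy : y ∈ St {v} ^ᶜ x)
    rw [map_mul, map_mul, map_inv, conj_mul, conj_mul, k.1 z hz]
  · have c : (ι x)⁻¹ * t * ι x = t := by rw [mul_assoc, h.tc, inv_mul_cancel_left]
    calc _ = ι x * (d * ((ι x)⁻¹ * t * ι x) * d⁻¹) * (ι x)⁻¹ := by group
      _ = _ := by rw [c, k.2, ← tc_cj hv.1, map_mul, map_mul, map_inv, ← mul_assoc, ← h.tc]; group

theorem sv_tr (h : C1 ι t) {v : V} (hv : Is v) {c : K0 F} {d : G} (k : SV ι t v c d) (x : X) :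
    SV ι t (ac x v) c (ι x * d * (ι x)⁻¹) :=
  ⟨d0_tr h hv k.1 x, co_cj k.2.1 x, k.2.2.cjg _⟩

theorem xs_tr (h : C1 ι t) {v : V} (hv : Is v) {c : K0 F} {d : G} (k : Xs ι t v c d) (x : X) :
    Xs ι t (ac x v) c (ι x * d * (ι x)⁻¹) :=
  ⟨d0_tr h hv k.1 x, co_cj k.2.1 x, by rw [conj_mul, k.2.2.1, mul_one, mul_inv_cancel], fun a e1 => by
    rw [← tc_cj hv.1, map_mul, map_mul, map_inv, ← mul_assoc, ← mul_assoc, h.tc x, mul_left_inj, mul_assoc,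
      mul_right_inj] at e1
    exact k.2.2.2 a e1⟩

theorem d0_smul {v : V} {a : F} (ha : a ≠ 0) {c : K0 F} {d : G} : D0 ι t (a • v) c d ↔ D0 ι t v (nm a * c) d := by
  rw [D0, D0, St_smul v ha, tc_smul]

theorem sv_smul {v : V} {a : F} (ha : a ≠ 0) {c : K0 F} {d : G} : SV ι t (a • v) c d ↔ SV ι t v (nm a * c) d := by
  rw [SV, SV, d0_smul ha]

theorem xs_smul {v : V} {a : F} (ha : a ≠ 0) {c : K0 F} {d : G} : Xs ι t (a • v) c d ↔ Xs ι t v (nm a * c) d := by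
  have n0 : nm a ≠ 0 := fun e => ha (nm_zero.1 e)
  rw [Xs, Xs, d0_smul ha]
  refine and_congr_right' (and_congr_right' (and_congr_right' ⟨fun k b => ?_, fun k b => ?_⟩))
  · have := k ((nm a)⁻¹ * b)
    rwa [tc_smul, mul_inv_cancel_left₀ n0] at this
  · rw [tc_smul]; exact k _

theorem oo_d0 {v : V} {o : G} (ho : Oo ι t o) : D0 ι t v 0 o :=
  ⟨fun x _ => (ho.1 _ ⟨x, rfl⟩).symm, by rw [ho.2.1, mul_inv_cancel_right, tc_zero, map_one, mul_one]⟩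

theorem zero {v : V} {c : K0 F} {d : G} (k : D0 ι t v (c + c) d) : D0 ι t v 0 d := k0_add c ▸ k

theorem d0_ker (h : C2 ι t) {v : V} (hv : Is v) {d : G} (k : D0 ι t v 0 d) :
    ∃ a o, Oo ι t o ∧ (d = ι (tc v a) * o ∨ d = t * ι (tc v a) * o) := by
  have c : d * t = t * d := by
    have := k.2
    rwa [tc_zero, map_one, mul_one, mul_inv_eq_iff_eq_mul] at this
  obtain ⟨a, z, hz, rfl⟩ := cP h.em (h.CN d c) hv k.1
  obtain ⟨O, -, -, hO⟩ := h.od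
  obtain ⟨o, ho, e⟩ := hO z hz (by
    rw [mul_assoc, ← h.tc, ← mul_assoc, ← mul_assoc] at c
    exact mul_right_cancel c)
  have c1 : ι (tc v a) * o = o * ι (tc v a) := ho.1 _ ⟨_, rfl⟩
  exact ⟨a, o, ho, e.imp (fun e => by rw [e, c1]) fun e => by rw [e, mul_assoc, mul_assoc, c1]⟩

theorem ker' (h : C2 ι t) {v : V} (hv : Is v) {d : G} (k : D0 ι t v 0 d) :
    ∃ u o, Oo ι t o ∧ u * u = 1 ∧ Commute u o ∧ d = u * o ∧ ∃ a, u = ι (tc v a) ∨ u = t * ι (tc v a) := by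
  obtain ⟨a, o, ho, e | e⟩ := d0_ker h hv k
  · exact ⟨_, o, ho, xsq hv a, ho.1 _ ⟨_, rfl⟩, e, a, Or.inl rfl⟩
  · exact ⟨_, o, ho, txsq h.toC1 hv a, Commute.mul_left ho.2.1.symm (ho.1 _ ⟨_, rfl⟩), e, a, Or.inr rfl⟩

theorem d0_nO (h : C2 ι t) {v : V} (hv : Is v) {c : K0 F} {d o : G} (k : D0 ι t v c d) (ho : Oo ι t o) :
    Oo ι t (d * o * d⁻¹) := by
  obtain ⟨u, o', ho', u2, c, e, -⟩ := ker' h hv
    (zero (d0_mul hv (add_zero c ▸ d0_mul hv k (oo_d0 ho) : D0 ι t v c (d * o)) (d0_inv hv k)))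
  have : Odd (orderOf (u * o')) := by
    rw [← e]
    exact (orderOf_injective (MulAut.conj d).toMonoidHom (MulAut.conj d).injective o).symm ▸ ho.2.2
  rwa [e, odd_kill u2 c ho'.2.2 this, one_mul]

theorem two (h : C2 ι t) {v : V} (hv : Is v) :
    (∀ {a b : G} {c c' : K0 F}, D0 ι t v c a → CO ι t a → D0 ι t v c' b → CO ι t b → P2 a → P2 b → P2 (a * b)) ∧
    ∀ {d : G} {c : K0 F}, D0 ι t v c d → CO ι t d → ∃ z, Oo ι t z ∧ CO ι t z ∧ P2 (d * z⁻¹) := by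
  obtain ⟨O, hO, oO, -⟩ := h.od
  let D : Subgroup G :=
    { carrier := {d | (∃ c, D0 ι t v c d) ∧ CO ι t d}
      one_mem' := ⟨⟨0, by simpa [tc_zero] using (sv_x h.toC1 hv 0).1.1⟩, fun o _ => by simp⟩
      mul_mem' := fun ⟨⟨_, a1⟩, a2⟩ ⟨⟨_, b1⟩, b2⟩ => ⟨⟨_, d0_mul hv a1 b1⟩, co_mul a2 b2⟩
      inv_mem' := fun ⟨⟨_, a1⟩, a2⟩ => ⟨⟨_, d0_inv hv a1⟩, co_inv a2⟩ }
  obtain ⟨k1, k2⟩ := LMS.two_sub (D := D) (Z := O ⊓ D) (fun z hz d hd => hd.2 z ((hO z).1 hz.1))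
    (Odd.of_dvd_nat oO (card_dvd_of_le inf_le_left)) fun d hd => ⟨2, by
      obtain ⟨c, hc⟩ := hd.1
      obtain ⟨u, o, ho, u2, cm, e, -⟩ := ker' h hv (zero (d0_mul hv hc hc))
      rw [show 2 ^ 2 = 2 * 2 from rfl, pow_mul, sq d, e, cm.mul_pow, sq u, u2, one_mul]
      exact pow_mem ((hO o).2 ho) 2, pow_mem hd _⟩
  exact ⟨fun a1 a2 b1 b2 => k1 _ ⟨⟨_, a1⟩, a2⟩ _ ⟨⟨_, b1⟩, b2⟩, fun d1 d2 =>
    let ⟨z, hz, _, p⟩ := k2 _ ⟨⟨_, d1⟩, d2⟩; ⟨z, (hO z).1 hz.1, hz.2.2, p⟩⟩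

theorem d0_sv (h : C2 ι t) {v : V} (hv : Is v) {c : K0 F} {d : G} (k : D0 ι t v c d) (k' : CO ι t d) :
    ∃ w o, SV ι t v c w ∧ Oo ι t o ∧ d = w * o := by
  obtain ⟨z, hz, cz, p⟩ := (two h hv).2 k k'
  exact ⟨d * z⁻¹, z, ⟨add_zero c ▸ d0_mul hv k (d0_inv hv (oo_d0 hz)), co_mul k' (co_inv cz), p⟩, hz, by simp⟩

theorem sv_mul (h : C2 ι t) {v : V} (hv : Is v) {c c' : K0 F} {d e : G} (k : SV ι t v c d) (k' : SV ι t v c' e) :
    SV ι t v (c + c') (d * e) :=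
  ⟨d0_mul hv k.1 k'.1, co_mul k.2.1 k'.2.1, (two h hv).1 k.1 k.2.1 k'.1 k'.2.1 k.2.2 k'.2.2⟩

theorem sv_ker (h : C2 ι t) {v : V} (hv : Is v) {d : G} (k : SV ι t v 0 d) :
    ∃ a, d = ι (tc v a) ∨ d = t * ι (tc v a) := by
  obtain ⟨u, o, ho, u2, c, rfl, e⟩ := ker' h hv k.1
  obtain ⟨m, hm⟩ := k.2.2
  have : P2 o := ⟨m + 1, by
    have := congrArg (· ^ 2) hm
    simp only [one_pow] at this
    rwa [← pow_mul, mul_comm, pow_mul, c.mul_pow, sq u, u2, one_mul, ← pow_mul, ← pow_succ'] at this⟩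
  rwa [this.eq_one ho.2.2, mul_one]

theorem sv_sq (h : C2 ι t) {v : V} (hv : Is v) {c : K0 F} {d : G} (k : SV ι t v c d) : ∃ a, d * d = ι (tc v a) := by
  have k2 := sv_mul h hv k k
  rw [k0_add] at k2
  obtain ⟨a, e | e⟩ := sv_ker h hv k2
  · exact ⟨a, e⟩
  have c1 : d * t = t * d := by
    have : d * (t * ι (tc v a)) = t * ι (tc v a) * d := by rw [← e, mul_assoc]
    rw [mul_assoc, ← k.1.1 _ (xS hv a), ← mul_assoc, ← mul_assoc] at this
    exact mul_right_cancel this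
  have k3 : SV ι t v 0 d := ⟨⟨k.1.1, by rw [c1, mul_inv_cancel_right, tc_zero, map_one, mul_one]⟩, k.2⟩
  refine ⟨0, ?_⟩
  rw [tc_zero, map_one]
  obtain ⟨b, rfl | rfl⟩ := sv_ker h hv k3
  exacts [xsq hv b, txsq h.toC1 hv b]

theorem xs_ker (h : C2 ι t) {v : V} (hv : Is v) {d : G} (k : Xs ι t v 0 d) : ∃ a, d = ι (tc v a) :=
  let ⟨a, e⟩ := sv_ker h hv (xs_sv k); ⟨a, e.resolve_right (k.2.2.2 a)⟩

/-- an element of odd order with `x v = a v`, `N a = 1` centralises the translations -/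
theorem sv_odd (h : C2 ι t) {v : V} (hv : Is v) {c : K0 F} {d : G} (k : SV ι t v c d) {x : X} {a : F}
    (ha : nm a = 1) (e : ac x v = a • v) (o : Odd (orderOf x)) : ι x * d = d * ι x := by
  have a0 : a ≠ 0 := fun e => by simp [nm_zero.2 e] at ha
  have k0 := sv_tr h.toC1 hv k x
  rw [e, sv_smul a0, ha, one_mul] at k0
  have k1 := sv_mul h hv k0 (sv_inv hv k)
  rw [k0_add] at k1
  have cx : ∀ b, Commute (ι x) (ι (tc v b)) := fun b => by
    have := tc_cj hv.1 b x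
    rw [e, tc_smul, ha, one_mul, mul_inv_eq_iff_eq_mul] at this
    exact (show Commute _ _ from this).map ι
  have pw : ι x ^ orderOf x = 1 := by rw [← map_pow, pow_orderOf_eq_one, map_one]
  have ct : Commute (ι x) t := (h.tc _).symm
  generalize ι x = g at *
  obtain ⟨κ, hκ⟩ : ∃ κ, g * d * g⁻¹ * d⁻¹ = κ := ⟨_, rfl⟩
  rw [hκ] at k1
  have ⟨c1, c2⟩ : Commute g κ ∧ κ * κ = 1 := by
    obtain ⟨b, rfl | rfl⟩ := sv_ker h hv k1
    exacts [⟨cx b, xsq hv b⟩, ⟨ct.mul_right (cx b), txsq h.toC1 hv b⟩]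
  have it : ∀ m : ℕ, g ^ m * d = κ ^ m * d * g ^ m := fun m => by
    induction m with
    | zero => simp
    | succ m ih =>
      rw [pow_succ' g, mul_assoc, ih, ← mul_assoc, ← mul_assoc, (c1.pow_right m).eq, pow_succ κ]
      nth_rw 3 [← hκ]
      group
  obtain ⟨m, hm⟩ := o
  have := it (orderOf x)
  rw [pw, one_mul, mul_one, hm, pow_succ, pow_mul, pow_two, c2, one_pow, one_mul, right_eq_mul] at this
  rw [this, mul_inv_eq_one, mul_inv_eq_iff_eq_mul] at hκ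
  exact hκ

/-- uniqueness of the involutions with a non-zero translation -/
theorem uniq' (h : C2 ι t) {v : V} (hv : Is v) {c : K0 F} (hc : c ≠ 0) (ex : ∃ w, Xs ι t v c w)
    (mul : ∀ c c' w w', Xs ι t v c w → Xs ι t v c' w' → Xs ι t v (c + c') (w * w')) {u : G} (u2 : u * u = 1)
    (k : D0 ι t v c u) : Xs ι t v c u := by
  obtain ⟨w, hw⟩ := ex
  obtain ⟨a, o, ho, e⟩ := d0_ker h hv (zero (d0_mul hv hw.1 k))
  have hw' := mul _ _ _ _ hw (sv_x h.toC1 hv a).2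
  rw [add_zero] at hw'
  have wi : w⁻¹ = w := inv_eq_of_mul_eq_one_right hw.2.2.1
  rcases e with e | e
  · rw [← eq_inv_mul_iff_mul_eq, wi, ← mul_assoc] at e
    have c1 : Commute (w * ι (tc v a)) o := hw'.2.1 o ho
    rw [e, ← pow_two, c1.mul_pow, pow_two, hw'.2.2.1, one_mul, pow_two] at u2
    rwa [e, (P2.of_sq u2).eq_one ho.2.2, mul_one]
  · rw [← eq_inv_mul_iff_mul_eq, wi, ← mul_assoc, ← mul_assoc] at e
    have c0 : Commute (w * t) (ι (tc v a)) := Commute.mul_left (hw.1.1 _ (xS hv a)) (h.tc _)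
    have c1 : Commute (w * t * ι (tc v a)) o :=
      (Commute.mul_left (hw.2.1 o ho) ho.2.1.symm).mul_left (ho.1 _ ⟨_, rfl⟩)
    have e2 : (w * t) ^ 2 = ι (tc v c) := by
      rw [pow_two, ← mul_assoc]
      nth_rw 2 [← wi]
      rw [hw.1.2, h.tc, mul_assoc, h.t2, mul_one]
    rw [e, ← pow_two, c1.mul_pow, c0.mul_pow, pow_two (ι _), xsq hv, mul_one, e2, mul_eq_one_iff_eq_inv] at u2
    exact absurd (tc_cen hv (h.em.cen.1 (u2 ▸ inv_mem (pow_mem ho.1 2)))) hc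

theorem uniq (h : C4 ι t) {v : V} (hv : Is v) {c : K0 F} (hc : c ≠ 0) {u : G} (u2 : u * u = 1)
    (k : D0 ι t v c u) : Xs ι t v c u :=
  uniq' h.toC2 hv hc (h.xe v hv c) (h.mul v hv) u2 k

end UMS.H71
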