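import Cfsg.Agent.Lib.UMS.S6D24
import Cfsg.Agent.Lib.UMS.SA71

set_option autoImplicit false
set_option linter.unusedSectionVars false

namespace UMS.C24

open Subgroup H69 Cfsg Matrix U4S
open LMS (XX GX iL kk MM au tw Sg)
open scoped MatrixGroups commutatorElement

universe u
variable {G : Type*} [Group G] [Finite G] {F : Type u} [Field F] [CharP F 2] [Fintype F] [Hs F] {n : ℕ} [Ok n F]
  {ι ψ χ : XU n F →* G} {t : G} {E : Subgroup G}

local notation "X" => XU n F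
local notation "V" => VV n F
local notation "I" => Fin (n + 3)

/-- vectors of the isotropic three-space -/
def vc (a b c : F) : V := a • ee 0 + b • ee 1 + c • ee 2

theorem idx (_h3 : 3 ≤ n) : ((0 : I) : ℕ) = 0 ∧ ((1 : I) : ℕ) = 1 ∧ ((2 : I) : ℕ) = 2 ∧ ((0 : I).rev : ℕ) = n + 2 ∧
    ((1 : I).rev : ℕ) = n + 1 ∧ ((2 : I).rev : ℕ) = n := by
  have v2 : ((2 : I) : ℕ) = 2 := rfl
  have v1 : ((1 : I) : ℕ) = 1 := rfl
  have v0 : ((0 : I) : ℕ) = 0 := rfl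
  refine ⟨rfl, rfl, v2, ?_, ?_, ?_⟩ <;> rw [Fin.val_rev] <;> omega

theorem bee (i j : I) : bt (ee i : V) (ee j) = if i = j.rev then 1 else 0 := by
  rw [bt_ee, ee, Pi.single_apply]; simp only [eq_comm]

theorem b0 {i j : I} (h : (i : ℕ) + j ≠ n + 2) : bt (ee i : V) (ee j) = 0 := by
  rw [bee, if_neg]
  intro e
  have := congrArg Fin.val e
  rw [Fin.val_rev] at this
  omega

theorem b1 {i j : I} (h : (i : ℕ) + j = n + 2) : bt (ee i : V) (ee j) = 1 := by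
  rw [bee, if_pos]
  ext
  rw [Fin.val_rev]
  omega

theorem bt_vc (x : V) (a b c : F) : bt x (vc a b c) = σ a * bt x (ee 0) + σ b * bt x (ee 1) + σ c * bt x (ee 2) := by
  simp only [vc, bt_add_right, bt_smul_right]

theorem vc_bt (x : V) (a b c : F) : bt (vc a b c) x = a * bt (ee 0) x + b * bt (ee 1) x + c * bt (ee 2) x := by
  simp only [vc, bt_add_left, bt_smul_left]

theorem ee_vc {i : I} (h : (i : ℕ) < n) (a b c : F) : bt (ee i : V) (vc a b c) = 0 := by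
  obtain ⟨v0, v1, v2, -⟩ := idx (Ok.h3 (n := n) (F := F))
  rw [bt_vc, b0 (by omega), b0 (by omega), b0 (by omega)]; ring

theorem vv (a b c a' b' c' : F) : bt (vc a b c : V) (vc a' b' c') = 0 := by
  have h3 := Ok.h3 (n := n) (F := F)
  obtain ⟨v0, v1, v2, -⟩ := idx h3
  rw [vc_bt, ee_vc (by omega), ee_vc (by omega), ee_vc (by omega)]; ring

theorem f0_vc (a b c : F) : bt (ee (0 : I).rev : V) (vc a b c) = σ a := by
  have h3 := Ok.h3 (n := n) (F := F)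
  obtain ⟨v0, v1, v2, r0, r1, r2⟩ := idx h3
  rw [bt_vc, b1 (by omega), b0 (by omega), b0 (by omega)]; ring

theorem vc_f1 (a b c : F) : bt (vc a b c : V) (ee (1 : I).rev) = b := by
  have h3 := Ok.h3 (n := n) (F := F)
  obtain ⟨v0, v1, v2, r0, r1, r2⟩ := idx h3
  rw [vc_bt, b0 (by omega), b1 (by omega), b0 (by omega)]; ring

theorem vc_f2 (a b c : F) : bt (vc a b c : V) (ee (2 : I).rev) = c := by
  have h3 := Ok.h3 (n := n) (F := F)
  obtain ⟨v0, v1, v2, r0, r1, r2⟩ := idx h3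
  rw [vc_bt, b0 (by omega), b0 (by omega), b1 (by omega)]; ring

theorem is_vc {a b c : F} (h : a ≠ 0 ∨ b ≠ 0 ∨ c ≠ 0) : Is (vc a b c : V) := by
  refine ⟨vv .., fun e => ?_⟩
  have z : ∀ x : V, bt (vc a b c) x = 0 := fun x => by
    rw [e, ← zero_smul F (0 : V), bt_smul_left, zero_mul]
  have h1 := z (ee (1 : I).rev)
  have h2 := z (ee (2 : I).rev)
  have h0 := z (ee (0 : I).rev)
  rw [vc_f1] at h1
  rw [vc_f2] at h2
  rw [bt_symm, f0_vc, sg_sg] at h0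
  tauto

/-- the root elements moving the second basis vector -/
noncomputable def rr (a c : F) : X := sh (vc a 0 c) (ee (1 : I).rev)

theorem f11 : bt (ee (1 : I).rev : V) (ee (1 : I).rev) = 0 := by
  have h3 := Ok.h3 (n := n) (F := F)
  obtain ⟨v0, v1, v2, r0, r1, r2⟩ := idx h3
  exact b0 (by omega)

theorem ac_rr (a c : F) (x : V) :
    ac (rr a c) x = x + bt x (ee (1 : I).rev) • vc a 0 c + bt x (vc a 0 c) • ee (1 : I).rev :=
  ac_sh (vv ..) f11 (vc_f1 ..) x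

theorem rr_vc (a c x y z : F) : ac (rr a c : X) (vc x y z) = vc (x + y * a) y (z + y * c) := by
  rw [ac_rr, vv, vc_f1, zero_smul, add_zero]
  simp only [vc]
  module

theorem rr_sq (a c : F) : (rr a c : X) * rr a c = 1 := sh_sq (vv ..) f11 (vc_f1 ..)

theorem rr_mul (a b c : F) : (rr a 0 : X) * rr b c = rr (a + b) c := by
  have k : ∀ a c : F, bt (ee (1 : I).rev : V) (vc a 0 c) = 0 := fun a c => by rw [bt_symm, vc_f1, map_zero]
  have e : (vc (a + b) 0 c : V) = vc a 0 0 + vc b 0 c := by simp only [vc]; module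
  rw [rr, rr, rr, sh_symm (vc a 0 0), sh_symm (vc b 0 c), sh_symm (vc (a + b) 0 c), e,
    sh_add f11 (vv ..) (vv ..) (k ..) (k ..) (vv ..)]

theorem e0 : (vc 1 0 0 : V) = ee 0 := by simp [vc]
theorem e1 : (vc 0 1 0 : V) = ee 1 := by simp [vc]
theorem e2 : (vc 0 0 1 : V) = ee 2 := by simp [vc]

theorem rr_PP (a c : F) : (rr a c : X) ∈ PP n F := by
  rw [mem_PP, ← e0, rr_vc]; simp

theorem tc_S (a b c : F) (k : K0 F) : (tc (vc a b c) k : X) ∈ St {ee 0, ee 1, ee 2} := by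
  refine mem_St.2 ?_
  rintro w (rfl | rfl | rfl) <;> rw [ac_tc (vv ..)]
  · rw [← e0, vv]; simp
  · rw [← e1, vv]; simp
  · rw [← e2, vv]; simp

theorem S_le (a b c : F) : (St {ee 0, ee 1, ee 2} : Subgroup X) ≤ St {vc a b c} := fun y hy => mem_St.2 (by
  rintro w rfl
  rw [vc, ac_add, ac_add, ac_smul, ac_smul, ac_smul, mem_St.1 hy _ (Or.inl rfl), mem_St.1 hy _ (Or.inr (Or.inl rfl)),
    mem_St.1 hy _ (Or.inr (Or.inr rfl))])

theorem S_PP : (St {ee 0, ee 1, ee 2} : Subgroup X) ≤ PP n F := fun _ hy => mem_PP.2 (mem_St.1 hy _ (Or.inl rfl))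

theorem injP (e : Em ι) {x y : X} (hx : x ∈ PP n F) (hy : y ∈ PP n F) (h : ι x = ι y) : x = y :=
  mul_inv_eq_one.1 (PP_cc (mul_mem hx (inv_mem hy)) (e (by rw [MonoidHom.mem_ker, map_mul, map_inv, h, mul_inv_cancel])))

/-- the entry that is tested -/
def en (x : X) : F := bt (ac x (ee (0 : I).rev)) (ee (2 : I).rev)

theorem mv_inv {x : X} (h : x * x = 1) (u v : V) : bt (ac x u) v = bt u (ac x v) := by
  rw [← bt_ac x, ← ac_mul, h, ac_one]

theorem en_cm (a : F) {j : X} (h : j * j = 1) (k : j ∈ PP n F) :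
    en (rr a 0 * j * (rr a 0)⁻¹ * j⁻¹) = σ a * bt (ee (1 : I).rev) (ac j (ee (2 : I).rev)) := by
  have h3 := Ok.h3 (n := n) (F := F)
  obtain ⟨v0, v1, v2, r0, r1, r2⟩ := idx h3
  have k0 : ac j (vc a 0 0) = vc a 0 0 := by
    simp only [vc, zero_smul, add_zero, ac_smul, mem_PP.1 k]
  have k2 : ac (rr a 0 : X) (ee (2 : I).rev) = ee (2 : I).rev := by
    rw [ac_rr, b0 (by omega), bt_symm, vc_f2]; simp
  rw [inv_eq_of_mul_eq_one_right h, inv_eq_of_mul_eq_one_right (rr_sq a 0), en, ac_mul, ac_mul, ac_mul,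
    mv_inv (rr_sq a 0), k2, mv_inv h, ac_rr, bt_add_left, bt_add_left, bt_ac, b0 (by omega), bt_smul_left,
    bt_smul_left, ← mv_inv h (vc a 0 0), k0, vc_f2, mv_inv h _ (vc a 0 0), k0, f0_vc]
  ring

theorem tc_inv (a b c : F) (k : K0 F) : (tc (vc a b c) k : X)⁻¹ = tc (vc a b c) k :=
  inv_eq_of_mul_eq_one_right (tc_sq (vv ..) k)

theorem en_four (b : F) (k : K0 F) :
    en (tc (vc 0 1 1) k * tc (vc 0 1 0) k * (tc (vc b 1 1) k * tc (vc b 1 0) k)⁻¹ : X) = σ b * k := by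
  rw [_root_.mul_inv_rev, tc_inv, tc_inv]
  have h3 := Ok.h3 (n := n) (F := F)
  obtain ⟨v0, v1, v2, r0, r1, r2⟩ := idx h3
  have f : bt (ee (0 : I).rev : V) (ee (2 : I).rev) = 0 := b0 (by omega)
  simp only [en, ac_mul, ac_tc (vv ..), bt_add_left, bt_smul_left, vv, f0_vc, vc_f2, f, map_zero]
  ring

theorem seven (b : F) : (tc (vc b 1 1) 1 * tc (vc b 1 0) 1 * (tc (vc 0 1 1) 1 * tc (vc 0 1 0) 1) *
    (tc (vc b 0 1) 1 * tc (vc b 0 0) 1 * tc (vc 0 0 1) 1) : X) = 1 := by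
  refine ac_ext fun x => ?_
  simp only [ac_mul, ac_one, ac_tc (vv ..), bt_add_left, bt_smul_left, vv, mul_zero, add_zero]
  simp only [bt_vc, map_zero, map_one, OneMemClass.coe_one]
  simp only [vc]
  have two : (2 : F) = 0 := CharTwo.two_eq_zero
  ext i
  simp only [Pi.add_apply, Pi.smul_apply, smul_eq_mul]
  generalize bt x (ee 0) = p0; generalize bt x (ee 1) = p1; generalize bt x (ee 2) = p2
  generalize (ee 0 : V) i = x0; generalize (ee 1 : V) i = x1; generalize (ee 2 : V) i = x2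
  linear_combination (2 * σ b * b * p0 * x0 + σ b * p0 * x1 + σ b * p0 * x2 + b * p1 * x0 + 2 * p1 * x1 + p1 * x2 +
    b * p2 * x0 + p2 * x1 + 2 * p2 * x2) * two

/-- translation data -/
def Tr (ι : X →* G) (t d : G) (y : X) : Prop :=
  Cn ι (St {ee 0, ee 1, ee 2}) d ∧ d * t * d⁻¹ = t * ι y ∧ y ∈ St {ee 0, ee 1, ee 2}

theorem Tr.mul {d e : G} {y z : X} (h : Tr ι t d y) (k : Tr ι t e z) : Tr ι t (d * e) (y * z) := by
  refine ⟨fun x hx => (Commute.mul_left (h.1 x hx) (k.1 x hx)).eq, ?_, mul_mem h.2.2 k.2.2⟩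
  calc d * e * t * (d * e)⁻¹ = d * (e * t * e⁻¹) * d⁻¹ := by group
    _ = d * t * d⁻¹ * (d * ι z * d⁻¹) := by rw [k.2.1]; group
    _ = _ := by rw [h.2.1, h.1 z k.2.2, map_mul]; group

theorem Tr.of {a b c : F} {k : K0 F} {d : G} (h : D0 ι t (vc a b c) k d) : Tr ι t d (tc (vc a b c) k) :=
  ⟨fun x hx => h.1 x (S_le a b c hx), h.2, tc_S _ _ _ _⟩

theorem kap (h : C3 ι t) {Z : V → K0 F → G → Prop} (z : Zf ι t Z) :
    ∀ v, Is v → ∀ c w, Z v c w → w * w = 1 := by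
  obtain ⟨κ, hκ⟩ := z.sq
  suffices k0 : κ = 0 by
    intro v hv c w hw
    rw [hκ v hv c w hw, k0, zero_mul, tc_zero, map_one]
  have i1 : ∀ b c : F, Is (vc b 1 c : V) := fun b c => is_vc (Or.inr (Or.inl one_ne_zero))
  obtain ⟨w, hw⟩ := z.ex _ (i1 0 0) 1
  obtain ⟨ω, hω⟩ : ∃ ω : F → F → G, ∀ b c, ω b c = ι (rr b c) * w * (ι (rr b c))⁻¹ := ⟨_, fun _ _ => rfl⟩
  have zω : ∀ b c, Z (vc b 1 c) 1 (ω b c) := fun b c => by
    have := z.tr _ (i1 0 0) _ _ (rr b c) hw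
    rwa [rr_vc, one_mul, one_mul, zero_add, zero_add, ← hω] at this
  have cj : ∀ a b c, ι (rr a 0) * ω b c * (ι (rr a 0))⁻¹ = ω (a + b) c := fun a b c => by
    rw [hω, hω, ← rr_mul, map_mul]; group
  have cm : ∀ b c b' c', Commute (ω b c) (ω b' c') := fun b c b' c' =>
    z.cm _ _ (i1 ..) (i1 ..) (vv ..) _ _ _ _ (zω b c) (zω b' c')
  obtain ⟨u, hu⟩ : ∃ u : F → G, ∀ b, u b = ω b 1 * (ω b 0)⁻¹ := ⟨_, fun _ => rfl⟩
  have cu : ∀ a b, Commute (u a) (u b) := fun a b => by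
    rw [hu, hu]
    exact ((cm ..).mul_right (cm ..).inv_right).mul_left ((cm ..).mul_right (cm ..).inv_right).inv_left
  have ju : ∀ a b, ι (rr a 0) * u b * (ι (rr a 0))⁻¹ = u (a + b) := fun a b => by
    rw [hu, hu, ← cj, ← cj]; group
  have tu : ∀ b, Tr ι t (u b) (tc (vc b 1 1) 1 * tc (vc b 1 0) 1) ∧
      Tr ι t (u b)⁻¹ (tc (vc b 1 1) 1 * tc (vc b 1 0) 1) := fun b => by
    have d1 := (z.sv _ (i1 ..) _ _ (zω b 1)).1
    have d0 := (z.sv _ (i1 ..) _ _ (zω b 0)).1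
    refine ⟨hu b ▸ (Tr.of d1).mul (Tr.of (D24.dinv (i1 ..) d0)), ?_⟩
    rw [hu, _root_.mul_inv_rev, inv_inv, ((cm ..).inv_right).eq]
    exact (Tr.of (D24.dinv (i1 ..) d1)).mul (Tr.of d0)
  have su : ∀ b, u b * u b = ι (tc (vc b 1 1) κ * tc (vc b 1 0) κ) := fun b => by
    have s1 := hκ _ (i1 ..) _ _ (zω b 1)
    have s0 := hκ _ (i1 ..) _ _ (zω b 0)
    rw [mul_one] at s1 s0
    rw [hu, map_mul, ← tc_inv b 1 0, map_inv, ← s1, ← s0, mul_assoc, ← mul_assoc (ω b 0)⁻¹,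
      ((cm b 0 b 1).inv_left).eq]
    group
  have key : ∀ b : F, b ≠ 0 → ∃ j : X, j * j = 1 ∧ j ∈ PP n F ∧
      ∀ a, u (a + b) * (u a)⁻¹ * (u b * (u 0)⁻¹)⁻¹ = ι (rr a 0 * j * (rr a 0)⁻¹ * j⁻¹) := fun b hb => by
    have i2 : Is (vc b 0 1 : V) := is_vc (Or.inl hb)
    have i3 : Is (vc b 0 0 : V) := is_vc (Or.inl hb)
    have i4 : Is (vc 0 0 1 : V) := is_vc (Or.inr (Or.inr one_ne_zero))
    obtain ⟨z2, h2⟩ := z.ex _ i2 1
    obtain ⟨z3, h3⟩ := z.ex _ i3 1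
    obtain ⟨z4, h4⟩ := z.ex _ i4 1
    have d2 := (z.sv _ i2 _ _ h2).1
    have d3 := (z.sv _ i3 _ _ h3).1
    have d4 := (z.sv _ i4 _ _ h4).1
    have T := ((tu b).1.mul (tu 0).2).mul (((Tr.of d2).mul (Tr.of d3)).mul (Tr.of d4))
    rw [seven] at T
    have ct := T.2.1
    rw [map_one, mul_one, mul_inv_eq_iff_eq_mul] at ct
    obtain ⟨j, hj, k, hk, e⟩ := cP3 h.em (h.CN _ ct) T.1
    refine ⟨j, el_JD 3 j hj, UU_le (JD_le 3 hj), fun a => ?_⟩
    have fx : ∀ x y : F, (rr a 0 : X) ∈ St {vc x 0 y} := fun x y => mem_St.2 (by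
      rintro _ rfl
      rw [rr_vc]; simp)
    have c0 : Commute (z2 * z3 * z4) (ι (rr a 0)) :=
      ((show Commute _ _ from d2.1 _ (fx _ _)).mul_left (d3.1 _ (fx _ _))).mul_left (d4.1 _ (fx _ _))
    have e1 : u (a + b) * (u a)⁻¹ = ι (rr a 0) * (u b * (u 0)⁻¹) * (ι (rr a 0))⁻¹ := by
      have j0 := ju a 0
      rw [add_zero] at j0
      rw [← ju a b, ← j0]; group
    have k1 : ∀ x, ι x * k = k * ι x := fun x => hk _ ⟨x, rfl⟩
    rw [e1, eq_mul_inv_iff_mul_eq.2 e]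
    generalize z2 * z3 * z4 = a0 at c0
    calc ι (rr a 0) * (k * ι j * a0⁻¹) * (ι (rr a 0))⁻¹ * (k * ι j * a0⁻¹)⁻¹
        = ι (rr a 0) * k * ι j * (a0⁻¹ * (ι (rr a 0))⁻¹ * a0) * (ι j)⁻¹ * k⁻¹ := by group
      _ = k * ι (rr a 0 * j * (rr a 0)⁻¹ * j⁻¹) * k⁻¹ := by
        rw [k1, c0.inv_inv.eq, map_mul, map_mul, map_mul, map_inv, map_inv]; group
      _ = _ := by rw [← k1, mul_inv_cancel_right]
  have mP : ∀ (a : F) (j : X), j ∈ PP n F → rr a 0 * j * (rr a 0)⁻¹ * j⁻¹ ∈ PP n F := fun a j hj =>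
    mul_mem (mul_mem (mul_mem (rr_PP _ _) hj) (inv_mem (rr_PP _ _))) (inv_mem hj)
  have key2 : ∀ b : F, b ≠ 0 → ∀ a, ∃ x ∈ PP n F, u (a + b) * (u a)⁻¹ * (u b * (u 0)⁻¹)⁻¹ = ι x ∧ en x = σ a * κ :=
    fun b hb a => by
    obtain ⟨j, j2, jP, e⟩ := key b hb
    refine ⟨_, mP a j jP, e a, ?_⟩
    have e' := e b
    have e2 : u (b + b) * (u b)⁻¹ * (u b * (u 0)⁻¹)⁻¹ = u 0 * u 0 * (u b * u b)⁻¹ := by
      rw [CharTwo.add_self_eq_zero, _root_.mul_inv_rev, inv_inv, mul_assoc, ← mul_assoc (u b)⁻¹,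
        ((cu b 0).inv_left).eq]
      group
    rw [e2, su, su, ← map_inv, ← map_mul] at e'
    have e3 := congrArg en (injP h.em (mul_mem (mul_mem (S_PP (tc_S _ _ _ _)) (S_PP (tc_S _ _ _ _)))
      (inv_mem (mul_mem (S_PP (tc_S _ _ _ _)) (S_PP (tc_S _ _ _ _))))) (mP b j jP) e')
    rw [en_four, en_cm b j2 jP] at e3
    rw [en_cm a j2 jP, ← mul_left_cancel₀ ((map_ne_zero _).2 hb) e3]
  obtain ⟨a, an, a1, -⟩ := ex_n1 (F := F)
  have a0 : a ≠ 0 := fun e => one_ne_zero (an ▸ nm_zero.2 e)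
  obtain ⟨x, hx, e1, f1⟩ := key2 1 one_ne_zero a
  obtain ⟨y, hy, e2, f2⟩ := key2 a a0 1
  have e3 : ι x = ι y := by
    rw [← e1, ← e2, add_comm a 1, _root_.mul_inv_rev, _root_.mul_inv_rev, inv_inv, mul_assoc, mul_assoc (u _),
      ← mul_assoc (u a)⁻¹, ← mul_assoc (u 1)⁻¹, ((cu a 0).inv_left).eq, ((cu 1 0).inv_left).eq, mul_assoc, mul_assoc,
      (cu a 1).inv_inv.eq]
  rw [injP h.em hx hy e3, f2, map_one, one_mul] at f1
  by_contra k0
  have k1 : (κ : F) ≠ 0 := fun e => k0 (Subtype.ext e)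
  have : σ a = 1 := (mul_eq_right₀ k1).1 f1.symm
  exact a1 (by rw [← sg_sg a, this, map_one])

theorem c4 (h : C3 ι t) {Z : V → K0 F → G → Prop} (z : Zf ι t Z) : C4 ι t := by
  have k := kap h z
  have f1 : ∀ v, Is v → ∀ c w, Z v c w → Xs ι t v c w := fun v hv c w hw =>
    ⟨(z.sv v hv c w hw).1, (z.sv v hv c w hw).2.1, k v hv c w hw, z.nt v hv c w hw⟩
  have f2 : ∀ v, Is v → ∀ c w, Xs ι t v c w → Z v c w := fun v hv c w hw => by
    obtain ⟨y, hy⟩ := z.ex v hv c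
    have s := H71.sv_mul h.toC2 hv (H71.xs_sv hw) (z.sv v hv c y hy)
    rw [k0_add] at s
    have y2 := k v hv c y hy
    have yi : y⁻¹ = y := inv_eq_of_mul_eq_one_right y2
    obtain ⟨a, e | e⟩ := H71.sv_ker h.toC2 hv s
    · have := z.mul v hv _ _ _ _ (z.z v hv a) hy
      rwa [zero_add, ← e, mul_assoc, y2, mul_one] at this
    · exfalso
      have d := (z.sv v hv c y hy).1
      have c1 : y * ι (tc v a) = ι (tc v a) * y := d.1 _ (D24.tS hv a)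
      have e1 : w = t * ι (tc v a) * y := by rw [← e, mul_assoc, y2, mul_one]
      have e2 : ι (tc v c) = 1 := by
        have w2 := hw.2.2.1
        calc ι (tc v c) = t * (y * t * y⁻¹) := by rw [d.2, ← mul_assoc, h.t2, one_mul]
          _ = t * (ι (tc v a) * ι (tc v a)) * y * t * y := by rw [D24.xsq hv, yi]; group
          _ = t * ι (tc v a) * y * (ι (tc v a) * t) * y := by
            rw [mul_assoc (t * ι (tc v a)), mul_assoc (t * ι (tc v a)), ← mul_assoc y, c1]; group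
          _ = 1 := by rw [← h.tc, ← w2, e1]; group
      have c0 : c = 0 := tc_cen hv (h.em e2)
      subst c0
      obtain ⟨b, e3 | e3⟩ := H71.sv_ker h.toC2 hv (z.sv v hv _ y hy)
      · exact hw.2.2.2 (a + b) (by rw [e1, e3, mul_assoc, ← map_mul, tc_mul hv.1])
      · exact z.nt v hv _ y hy b e3
  exact ⟨h, fun v hv c => (z.ex v hv c).imp fun w hw => f1 v hv c w hw,
    fun v hv c c' w w' hw hw' => f1 v hv _ _ (z.mul v hv _ _ _ _ (f2 v hv c w hw) (f2 v hv c' w' hw')),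
    fun u v hu hv b c c' w w' hw hw' => z.cm u v hu hv b _ _ _ _ (f2 u hu c w hw) (f2 v hv c' w' hw')⟩

theorem eqns : True := by
  have := @vc.eq_1.{0}; have := @rr.eq_1.{0}; have := @en.eq_1.{0}; have := @Tr.eq_1.{0, 0}; trivial

end UMS.C24
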