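import Cfsg.Agent.Lib.UMS.CE
import Cfsg.Agent.Lib.UMS.WIT
import Cfsg.Agent.Lib.UMS.Em77

set_option autoImplicit false
set_option linter.unusedSectionVars false

namespace UMS

open Subgroup H69 Cfsg Matrix U4S
open LMS (XX GX iL kk MM au tw Sg)
open scoped MatrixGroups commutatorElement

universe u
variable {G : Type*} [Group G] [Finite G] {F : Type u} [Field F] [CharP F 2] [Fintype F] [Hs F] {n : ℕ} [Ok n F]
  {ι ψ χ : XU n F →* G} {t : G} {E : Subgroup G}

local notation "X" => XU n F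
local notation "V" => VV n F
local notation "𝐪" => Nat.card (K0 F)
local notation "I" => Fin (n + 3)
local notation "Mx" => Matrix (Fin (n + 3)) (Fin (n + 3)) F

namespace CL
open H12 (ad)

theorem hm_map (φ : RingAut F) (u v : V) : (hm u v).map φ = hm (fun i => φ (u i)) (fun i => φ (v i)) :=
  Matrix.ext fun i j => by
    simp only [hm, map_apply, vecMulVec_apply, map_mul]
    exact congrArg _ (DFunLike.congr_fun (LMS.aut_comm' φ σ) _)

theorem ee_map (φ : RingAut F) (i : I) : (fun j => φ ((ee i : V) j)) = ee i := funext fun j => by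
  by_cases h : j = i
  · subst h; simp [ee]
  · simp [ee, Pi.single_eq_of_ne h]

theorem k3 (F : Type*) [h : Ok n F] : 3 ≤ kk n := by
  have := h.h3
  unfold kk; omega

theorem e00 : bt (ee 0 : V) (ee 0) = 0 := by rw [H76.bt_ee, if_neg H77.i0]

theorem eL0 : bt (ee (0 : I).rev : V) (ee 0) = 1 := by rw [H76.bt_ee, if_pos rfl]

/-- elements of the radical of the stabiliser of `e 0` -/
theorem ex_q {w : V} (h : bt w (ee 0) = 0) :
    ∃ (x : X) (c : F), P2 x ∧ x.1.1 = 1 + hm (ee 0) w + hm w (ee 0) + c • hm (ee 0) (ee 0) := by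
  obtain ⟨o, ho⟩ := H12.ex_tr (F := F)
  have h' : bt (ee 0) w = 0 := by rw [H12.bt_symm, h, map_zero]
  have hb : σ (bt w w) = bt w w := (H12.bt_symm w w).symm
  have two : ∀ M : Mx, (2 : Mx) * M = 0 := fun M => by rw [two_mul, H12.mm]
  generalize hA : hm (ee 0 : V) w = A
  generalize hB : hm w (ee 0 : V) = B
  generalize hE : hm (ee 0 : V) (ee 0 : V) = Z
  have AA : A * A = 0 := by rw [← hA, H12.hm_mul, h', zero_smul]
  have AB : A * B = bt w w • Z := by rw [← hA, ← hB, ← hE, H12.hm_mul]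
  have AZ : A * Z = 0 := by rw [← hA, ← hE, H12.hm_mul, h', zero_smul]
  have BA : B * A = 0 := by rw [← hA, ← hB, H12.hm_mul, e00, zero_smul]
  have BB : B * B = 0 := by rw [← hB, H12.hm_mul, h, zero_smul]
  have BZ : B * Z = 0 := by rw [← hB, ← hE, H12.hm_mul, e00, zero_smul]
  have ZA : Z * A = 0 := by rw [← hA, ← hE, H12.hm_mul, e00, zero_smul]
  have ZB : Z * B = 0 := by rw [← hB, ← hE, H12.hm_mul, h, zero_smul]
  have ZZ : Z * Z = 0 := by rw [← hE, H12.hm_mul, e00, zero_smul]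
  have pr : ∀ c c' : F, (1 + A + B + c • Z) * (1 + A + B + c' • Z) = 1 + (c + c' + bt w w) • Z := fun c c' => by
    simp only [add_mul, mul_add, one_mul, mul_one, Matrix.mul_smul, Matrix.smul_mul, AA, AB, AZ, BA, BB, BZ, ZA, ZB, ZZ,
      smul_zero, add_zero, add_smul]
    have a := H12.mm A
    have b := H12.mm B
    calc _ = 1 + (c • Z + c' • Z + bt w w • Z) + (A + A) + (B + B) := by abel
      _ = _ := by rw [a, b, add_zero, add_zero]
  have d : (1 + A + B + (o * bt w w) • Z).det = 1 := by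
    have e : 1 + A + B + (o * bt w w) • Z = (1 + A) * (1 + B) * (1 + (σ o * bt w w) • Z) := by
      simp only [add_mul, mul_add, one_mul, mul_one, Matrix.mul_smul, Matrix.smul_mul, AB, AZ, BZ, ZZ,
        smul_zero, add_zero]
      have : o * bt w w = bt w w + σ o * bt w w := by
        linear_combination bt w w * ho - σ o * bt w w * CharTwo.two_eq_zero (R := F)
      rw [this, add_smul]; abel
    rw [e, det_mul, det_mul, ← hA, ← hB, ← hE, ← H12.hm_smul_l, H12.det_hm, H12.det_hm, H12.det_hm, h, h',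
      H12.bt_smul_l, e00]
    simp
  have u : ad (1 + A + B + (o * bt w w) • Z) * (1 + A + B + (o * bt w w) • Z) = 1 := by
    have e : ad (1 + A + B + (o * bt w w) • Z) = 1 + A + B + (σ o * bt w w) • Z := by
      rw [H12.ad_add, H12.ad_add, H12.ad_add, H12.ad_one, H12.ad_smul, map_mul, hb, ← hA, ← hB, ← hE, H12.ad_hm,
        H12.ad_hm, H12.ad_hm, add_right_comm 1]
    rw [e, pr, show σ o * bt w w + o * bt w w + bt w w = 0 by
      linear_combination bt w w * ho + bt w w * CharTwo.two_eq_zero (R := F), zero_smul, add_zero]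
  refine ⟨⟨⟨_, d⟩, H12.mem_XU.2 u⟩, _, ⟨2, H12.xext ?_⟩, rfl⟩
  rw [show 2 ^ 2 = 1 + 1 + (1 + 1) by norm_num, pow_add, pow_add, pow_one, H12.mul_val, H12.mul_val, H12.one_val]
  change (1 + A + B + (o * bt w w) • Z) * (1 + A + B + (o * bt w w) • Z) *
    ((1 + A + B + (o * bt w w) • Z) * (1 + A + B + (o * bt w w) • Z)) = 1
  rw [pr]
  simp only [add_mul, mul_add, one_mul, mul_one, Matrix.mul_smul, Matrix.smul_mul, ZZ, smul_zero, add_zero]
  rw [add_assoc, H12.mm, add_zero]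

theorem core {d : ℕ} (h2 : 2 ≤ d) (hd : d ≤ kk n) {α : X →* X} {φ : RingAut F} (h : Au α φ)
    (k : ∀ x : X, P2 x → (∀ i : I, i.1 < d → ac x (ee i) = ee i) → α x = x) : ∃ x ∈ JD n F d, α = cn x := by
  have hk : 2 * kk n ≤ n + 3 := by unfold kk; omega
  have rv : ∀ i j : I, i.1 < d → j.1 < d → bt (ee i : V) (ee j) = 0 := fun i j hi hj => by
    rw [H76.bt_ee, if_neg]
    intro e
    have := congrArg Fin.val e
    rw [Fin.val_rev] at this
    omega
  have d0 : (0 : I).1 < d := by simp; omega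
  have d1 : (1 : I).1 < d := by simp; omega
  obtain ⟨g, g1, h⟩ := H77.au_unit h
  have hv : ∀ x, (α x).1.1 = g.1 * x.1.1.map φ * ad g.1 := fun x => by
    rw [h, LMS.au_false, gc_val, H77.ad_inv g1, fr_val]
  generalize g.1 = M at g1 hv
  have cj : ∀ (M : Mx) (u v : V), M * (hm u v).map φ * ad M = hm (M *ᵥ fun i => φ (u i)) (M *ᵥ fun i => φ (v i)) :=
    fun M u v => by rw [hm_map, H12.mul_hm, H12.hm_mul_ad]
  have one : ∀ M : Mx, ad M * M = 1 → M * (1 : Mx).map φ * ad M = 1 := fun M m => by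
    rw [Matrix.map_one _ (map_zero φ) (map_one φ), mul_one, mul_eq_one_comm.1 m]
  have z : hm (M *ᵥ ee 0) (M *ᵥ ee 0) = hm (ee 0 : V) (ee 0) := by
    have := hv (tc (ee 0) 1)
    rw [k _ (P2.of_sq (H12.tc_sq e00 1)) fun i hi => by rw [H12.ac_tc e00, rv i 0 hi d0, mul_zero, zero_smul, add_zero],
      H12.tc_val e00, OneMemClass.coe_one, one_smul, Matrix.map_add _ (map_add φ), mul_add, add_mul, one M g1, cj,
      ee_map] at this
    exact (add_left_cancel this).symm
  obtain ⟨b, b1, b2⟩ : ∃ b : F, σ b * b = 1 ∧ (b • M) *ᵥ ee 0 = ee 0 := by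
    have := congrArg (· *ᵥ ee (0 : I).rev) z
    simp only [H12.hm_mulVec, eL0, one_smul] at this
    refine ⟨bt (ee (0 : I).rev) (M *ᵥ ee 0), ?_, by rw [smul_mulVec, this]⟩
    have e := congrArg (bt (ee (0 : I).rev)) this
    rwa [H12.bt_smul_r, eL0] at e
  have g2 : ad (b • M) * (b • M) = 1 := by
    rw [H12.ad_smul, Matrix.smul_mul, Matrix.mul_smul, smul_smul, b1, one_smul, g1]
  have hv2 : ∀ x, (α x).1.1 = (b • M) * x.1.1.map φ * ad (b • M) := fun x => by
    rw [hv, H12.ad_smul, Matrix.smul_mul, Matrix.smul_mul, Matrix.mul_smul, smul_smul, mul_comm b, b1, one_smul]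
  generalize b • M = N at g2 hv2 b2
  have key : ∀ w : V, (∀ i : I, i.1 < d → bt w (ee i) = 0) → ∃ c : F, (N *ᵥ fun i => φ (w i)) + w =
      (bt (ee (0 : I).rev) ((N *ᵥ fun i => φ (w i)) + w) + (φ c + c)) • ee 0 := fun w hw => by
    obtain ⟨x, c, p, hx⟩ := ex_q (hw 0 d0)
    have := hv2 x
    rw [k x p fun i hi => by
      rw [ac, hx, add_mulVec, add_mulVec, add_mulVec, one_mulVec, smul_mulVec, H12.hm_mulVec, H12.hm_mulVec,
        H12.hm_mulVec, rv i 0 hi d0, H12.bt_symm, hw i hi, map_zero]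
      simp, hx, ← H12.hm_smul_l] at this
    simp only [Matrix.map_add _ (map_add φ), mul_add, add_mul, one N g2, cj, ee_map, b2] at this
    have e1 : (N *ᵥ fun i => φ ((c • ee 0 : V) i)) = φ c • ee 0 := by
      conv_rhs => rw [← b2, ← mulVec_smul, ← ee_map φ 0]
      congr 1
      funext i
      simp
    have e := congrArg (· *ᵥ ee (0 : I).rev) this
    simp only [add_mulVec, one_mulVec, H12.hm_mulVec, eL0, one_smul, e1] at e
    refine ⟨c, funext fun i => ?_⟩
    have := congrFun e i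
    simp only [Pi.add_apply, Pi.smul_apply, smul_eq_mul, H12.bt_add_r] at this ⊢
    have two := CharTwo.two_eq_zero (R := F)
    grind
  have n10 : (1 : I) ≠ 0 := by simp
  have f1 : φ = 1 := by
    have k1 : ∀ a : F, φ a * (N *ᵥ ee 1) 1 + a = 0 := fun a => by
      obtain ⟨c, hc⟩ := key (a • ee 1) fun i hi => by rw [H12.bt_smul_l, rv 1 i d1 hi, mul_zero]
      have e1 : (N *ᵥ fun i => φ ((a • ee 1 : V) i)) = φ a • (N *ᵥ ee 1) := by
        conv_rhs => rw [← mulVec_smul, ← ee_map φ 1]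
        congr 1
        funext i
        simp
      have := congrFun hc 1
      rw [e1] at this
      simpa [ee, Pi.single_eq_of_ne n10] using this
    refine RingEquiv.ext fun a => ?_
    have a1 := k1 1
    have a2 := k1 a
    rw [map_one] at a1
    have two := CharTwo.two_eq_zero (R := F)
    change φ a = a
    grind
  subst f1
  have fx : ∀ w : V, (∀ i : I, i.1 < d → bt w (ee i) = 0) → N *ᵥ w = w := fun w hw => by
    obtain ⟨o, ho⟩ := H12.ex_tr (F := F)
    obtain ⟨c, hc⟩ := key w hw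
    obtain ⟨c', hc'⟩ := key (o • w) fun i hi => by rw [H12.bt_smul_l, hw i hi, mul_zero]
    change N *ᵥ w + w = (_ + (c + c)) • _ at hc
    change N *ᵥ (o • w) + o • w = (bt _ (N *ᵥ (o • w) + o • w) + (c' + c')) • _ at hc'
    rw [mulVec_smul, ← smul_add, H12.bt_smul_r] at hc'
    rw [CharTwo.add_self_eq_zero, add_zero] at hc hc'
    change N *ᵥ w + w = bt _ (N *ᵥ w + w) • _ at hc
    funext i
    have a1 := congrFun hc i
    have a2 := congrFun hc' i
    simp only [Pi.add_apply, Pi.smul_apply, smul_eq_mul] at a1 a2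
    have two := CharTwo.two_eq_zero (R := F)
    grind
  have pe : ∀ j : I, d ≤ j.rev.1 → N *ᵥ ee j = ee j := fun j hj => fx _ fun i hi => by
    rw [H76.bt_ee, if_neg]
    rintro rfl
    rw [Fin.rev_rev] at hj
    omega
  have en : ∀ i j : I, ¬ (i.1 < d ∧ j.rev.1 < d) → N i j = (1 : Mx) i j := fun i j hij => by
    have e1 : ∀ A : Mx, (A *ᵥ (ee j : V)) i = A i j := fun A => by simp [ee]
    rw [← e1 N, ← e1 1, one_mulVec]
    by_cases hj : d ≤ j.rev.1
    · rw [pe j hj]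
    · have := pe i.rev (by rw [Fin.rev_rev]; omega)
      calc _ = bt (N *ᵥ ee j) (N *ᵥ ee i.rev) := by rw [this, H12.bt_ee_r, Fin.rev_rev]
        _ = _ := by rw [H12.bt_ad, mulVec_mulVec, g2, one_mulVec, H12.bt_ee_r, Fin.rev_rev]
  have dt : N.det = 1 := by
    rw [det_of_isUpperTriangular]
    · exact Finset.prod_eq_one fun i _ => by rw [en i i (by rw [Fin.val_rev]; omega), one_apply_eq]
    · intro i j hij
      have k' : j < i := hij
      have k'' : j.1 < i.1 := hij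
      rw [en i j (by rw [Fin.val_rev]; omega), one_apply_ne k'.ne']
  refine ⟨⟨⟨N, dt⟩, H12.mem_XU.2 g2⟩, (mem_JD' hd).2 en, MonoidHom.ext fun x => H12.xext ?_⟩
  rw [hv2, cn_apply, H12.mul_val, H12.mul_val, H12.inv_val]
  rfl

theorem core' {d : ℕ} (h2 : 2 ≤ d) (hd : d ≤ kk n) (e : Em ι) {a : G} (ha : a ∈ 𝐍(ι.range))
    (k : ∀ x : X, (∀ i : I, i.1 < d → ac x (ee i) = ee i) → a * ι x = ι x * a) :
    ∃ x ∈ JD n F d, ∃ k ∈ 𝐂(ι.range), a = k * ι x := by
  obtain ⟨α, φ, h, h'⟩ := H77.Em.act e ha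
  obtain ⟨u, hu, rfl⟩ := core h2 hd h' fun x p hx => H77.Act.fix' e h p (k x hx)
  refine ⟨u, hu, a * (ι u)⁻¹, ?_, by group⟩
  rintro _ ⟨x, rfl⟩
  have := h (u⁻¹ * x * u)
  rw [cn_apply, show u * (u⁻¹ * x * u) * u⁻¹ = x by group, map_mul, map_mul, map_inv] at this
  calc _ = a * ((ι u)⁻¹ * ι x * ι u) * a⁻¹ * (a * (ι u)⁻¹) := by rw [this]
    _ = _ := by group

end CL

theorem cP2 (e : Em ι) {a : G} (ha : a ∈ 𝐍(ι.range)) {u v : V} (o : Ot u v) (h : Cn ι (St {u, v}) a) :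
    ∃ (x y : K0 F) (c : F), ∃ k ∈ 𝐂(ι.range), a = k * ι (tc u x * tc v y * sh (c • u) v) := by
  obtain ⟨z, z0, z1⟩ := wit2 o
  have h3 := CL.k3 (n := n) F
  have zN : ι z ∈ 𝐍(ι.range) := le_normalizer ⟨z, rfl⟩
  obtain ⟨j, hj, k, hk, hjk⟩ := CL.core' (d := 2) le_rfl (by omega) e (mul_mem (mul_mem (inv_mem zN) ha) zN)
    fun x hx => by
      have := h (z * x * z⁻¹) (by
        rintro w (rfl | rfl)
        · rw [← z0, H12.ac_mul, H12.ac_mul, H12.ac_inv, hx 0 (by simp)]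
        · rw [← z1, H12.ac_mul, H12.ac_mul, H12.ac_inv, hx 1 (by simp)])
      rw [map_mul, map_mul, map_inv] at this
      calc _ = (ι z)⁻¹ * (a * (ι z * ι x * (ι z)⁻¹)) * ι z := by group
        _ = _ := by rw [this]; group
  obtain ⟨x, y, c, rfl⟩ := mem_JD2.1 hj
  refine ⟨x, y, c, k, hk, ?_⟩
  have o' : bt (ee 1 : V) (ee 1) = 0 := by rw [← H12.bt_ac z, z1, o.2.1]
  have o1 : bt (ee 0 : V) (ee 1) = 0 := by rw [← H12.bt_ac z, z0, z1, o.2.2.1]
  have e1 : tc u x * tc v y * sh (c • u) v = z * (tc (ee 0) x * tc (ee 1) y * sh (c • ee 0) (ee 1)) * z⁻¹ := by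
    rw [← z0, ← z1, ← H12.ac_smul, ← H12.cj_tc z CL.e00, ← H12.cj_tc z o', ← H12.cj_sh z
      (by rw [H12.bt_smul_l, H12.bt_smul_r, CL.e00, mul_zero, mul_zero]) o' (by rw [H12.bt_smul_l, o1, mul_zero])]
    group
  rw [e1, map_mul, map_mul, map_inv, ← mul_assoc, ← mul_assoc, ← hk _ ⟨z, rfl⟩, mul_assoc (ι z) k, ← hjk]
  group

theorem cP3 (e : Em ι) {a : G} (ha : a ∈ 𝐍(ι.range)) (h : Cn ι (St {ee 0, ee 1, ee 2}) a) :
    ∃ x ∈ JD n F 3, ∃ k ∈ 𝐂(ι.range), a = k * ι x :=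
  CL.core' (d := 3) (by omega) (CL.k3 F) e ha fun x hx => h x (by
    have h3 := Ok.h3 (n := n) (F := F)
    rintro w (rfl | rfl | rfl)
    · exact hx 0 (by simp)
    · exact hx 1 (by simp)
    · exact hx 2 (by
        change 2 % (n + 3) < 3
        rw [Nat.mod_eq_of_lt (by omega)]; omega))

end UMS
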