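import Cfsg.Agent.Lib.UMS.Defs
import Cfsg.Agent.Lib.LMS.NFa
import Cfsg.Agent.Lib.LMS.B5
import Cfsg.Agent.Lib.LMS.COV
import Cfsg.Agent.Lib.Schur.Main
import Cfsg.Agent.Lib.Unitary.Simple
import Cfsg.Agent.Lib.Unitary.Order
import Cfsg.Agent.S2089

/-! The group `XU` is conjugate to the standard special unitary group; covers. -/

set_option autoImplicit false
set_option linter.unusedSectionVars false

namespace UMS

open Subgroup H69 Cfsg Matrix U4S
open LMS (XX GX iL kk MM au tw Sg)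
open scoped MatrixGroups commutatorElement

universe u
variable {G : Type*} [Group G] [Finite G] {F : Type u} [Field F] [CharP F 2] [Fintype F] [Hs F] {n : ℕ} [Ok n F]

namespace Iso77

theorem sg_cj {q : ℕ} [H11.U.IsSq F q] (a : F) : (σ : RingAut F) a = H11.U.cj q a := by
  let s : RingAut F := RingEquiv.ofBijective (H11.U.cj q)
    (Finite.injective_iff_bijective.1 (H11.U.cj q : F →+* F).injective)
  have h : (σ : RingAut F) = s := LMS.aut_inv Hs.sg ⟨fun e1 => H11.U.cj_ne_id (F := F) (q := q)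
    (RingHom.ext fun a => DFunLike.congr_fun e1 a), fun a => H11.U.cj_cj a⟩
  rw [h]; rfl

theorem mem_su {q : ℕ} [H11.U.IsSq F q] {x : XX n F} : fr σ (LMS.it x) = x ↔ x ∈ SU (n + 3) F q := by
  have hm : ∀ A : Matrix (Fin (n + 3)) (Fin (n + 3)) F, A.map (H11.U.cj q) = A.map (σ : RingAut F) := fun A =>
    Matrix.ext fun i j => (sg_cj _).symm
  have e1 : x.1 * (x⁻¹).1 = 1 := by
    rw [← Matrix.SpecialLinearGroup.coe_mul, mul_inv_cancel, Matrix.SpecialLinearGroup.coe_one]
  rw [H11.U.mem_SU, H11.U.isIso_iff, hm]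
  refine (⟨fun h => congrArg Subtype.val h, fun h => Subtype.ext h⟩ :
    fr σ (LMS.it x) = x ↔ ((x⁻¹).1ᵀ).map (σ : RingAut F) = x.1).trans ?_
  constructor
  · intro h
    have : x.1.map (σ : RingAut F) = (x⁻¹).1ᵀ := by
      conv_lhs => rw [← h]
      exact LMS.NFa.map_map' Hs.sg.2 _
    rw [this, ← transpose_mul, mul_eq_one_comm.1 e1, transpose_one]
  · intro h
    have h2 := congrArg transpose h
    rw [transpose_mul, transpose_transpose, transpose_one] at h2
    have : (x⁻¹).1 = (x.1.map (σ : RingAut F))ᵀ := by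
      rw [← Matrix.one_mul (x⁻¹).1, ← h2, Matrix.mul_assoc, e1, Matrix.mul_one]
    rw [this, transpose_transpose]
    exact LMS.NFa.map_map' Hs.sg.2 _

theorem cj_su {q : ℕ} [H11.U.IsSq F q] : ∃ C : GX n F, ∀ x : XX n F, x ∈ XU n F ↔ gc C x ∈ SU (n + 3) F q := by
  have a1 : ∀ x : XX n F, au 1 σ true x = fr σ (LMS.it x) := fun x => by rw [LMS.au_true, gc_one]
  have o : LMS.Ou (1 : GX n F) σ true := ⟨fun x => by
    rw [a1, a1, LMS.NFa.it_fr]
    refine Subtype.ext ?_
    rw [fr_val, fr_val, LMS.it_val, ← map_inv, LMS.it_val, inv_inv, transpose_transpose]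
    exact LMS.NFa.map_map' Hs.sg.2 _, Hs.sg.2, Or.inr rfl⟩
  obtain ⟨C, hC⟩ := LMS.nfB o Hs.sg.1
  refine ⟨C, fun x => ?_⟩
  rw [← mem_su, ← a1, hC, (gc C).injective.eq_iff]
  rfl

end Iso77

/-- `XU` is conjugate in `GL` to the standard special unitary group -/
theorem iso_su {q : ℕ} (hF : Fintype.card F = q ^ 2) :
    ∃ (C : GX n F) (e : XU n F ≃* SU (n + 3) F q), ∀ x, (e x).1 = gc C x.1 := by
  have : H11.U.IsSq F q := ⟨hF⟩
  obtain ⟨C, hC⟩ := Iso77.cj_su (n := n) (F := F) (q := q)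
  refine ⟨C, ⟨⟨fun x => ⟨gc C x.1, (hC _).1 x.2⟩, fun y => ⟨(gc C).symm y.1, (hC _).2 (by
    rw [MulEquiv.apply_symm_apply]; exact y.2)⟩, fun x => Subtype.ext ((gc C).symm_apply_apply _),
    fun y => Subtype.ext ((gc C).apply_symm_apply _)⟩, fun x y => Subtype.ext (map_mul (gc C) _ _)⟩, fun _ => rfl⟩

theorem pf_XU77 {q : ℕ} (hF : Fintype.card F = q ^ 2) : commutator (XU n F) = ⊤ := by
  have : H11.U.IsSq F q := ⟨hF⟩
  have h3 := Ok.h3 (n := n) (F := F)
  obtain ⟨-, e, -⟩ := iso_su (n := n) hF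
  have h := H11.U.commutator_SU_eq_top (F := F) (q := q) (n := n + 3) (by omega) (by omega)
  have h1 : (⊤ : Subgroup (SU (n + 3) F q)).map e.symm.toMonoidHom = ⊤ :=
    map_top_of_surjective _ e.symm.surjective
  rw [_root_.commutator_def, ← h1, ← Subgroup.map_commutator, ← _root_.commutator_def, h]

/-- central covers of `PSU` are images of `XU` -/
theorem cov77 {q : ℕ} (hF : Fintype.card F = q ^ 2) {Γ : Type*} [Group Γ] [Finite Γ] (hp : commutator Γ = ⊤)
    (π : Γ →* PSU (n + 3) F q) (s : Function.Surjective π) (k : π.ker ≤ center Γ) :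
    ∃ ι : XU n F →* Γ, Em ι ∧ Function.Surjective ι := by
  have : H11.U.IsSq F q := ⟨hF⟩
  have h3 := Ok.h3 (n := n) (F := F)
  have h4 := Ok.h (n := n) (F := F)
  rw [Nat.card_eq_fintype_card, hF] at h4
  obtain ⟨-, e, -⟩ := iso_su (n := n) hF
  have hq : commutator (SU (n + 3) F q) = ⊤ := H11.U.commutator_SU_eq_top (by omega) (by omega)
  have hm : HasCyclicSchurMultiplier (PSU (n + 3) F q) (Nat.card (center (SU (n + 3) F q))) := by
    rw [H11.U.card_center_SU (by omega)]
    refine Cfsg.Agent.S2089.result (n + 3) q hF (by omega) (by omega) ?_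
    simp only [Set.mem_insert_iff, Set.mem_singleton_iff, Prod.mk.injEq]
    rintro (h | h | ⟨h, rfl⟩) <;> omega
  obtain ⟨η, h1, h2⟩ := H78.Schur.exists_hom_commutator hm
    (σ := QuotientGroup.mk' (center (SU (n + 3) F q))) ⟨QuotientGroup.mk'_surjective _, by simp, by simp [hq]⟩
    (by rw [QuotientGroup.ker_mk', Nat.card_congr Multiplicative.toAdd, Nat.card_zmod]) π s k
  let j : SU (n + 3) F q →* commutator (SU (n + 3) F q) := (MonoidHom.id _).codRestrict _ fun x => hq ▸ mem_top x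
  refine ⟨(η.comp j).comp e.toMonoidHom, fun x hx => ?_, fun x => ?_⟩
  · have h3 : π (η (j (e x))) = QuotientGroup.mk' _ (e x) := DFunLike.congr_fun h1 (j (e x))
    rw [show η (j (e x)) = 1 from hx, map_one] at h3
    have h5 := (QuotientGroup.eq_one_iff (e x)).1 h3.symm
    exact mem_center_iff.2 fun y => e.injective (by rw [map_mul, map_mul, mem_center_iff.1 h5])
  · obtain ⟨y, hy⟩ : x ∈ η.range := by rw [h2, hp]; exact mem_top x
    exact ⟨e.symm y, by rw [← hy]; exact congrArg η (Subtype.ext (e.apply_symm_apply _))⟩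

theorem exists_c177 {q : ℕ} (hF : Fintype.card F = q ^ 2) (L : Subgroup G) (hL : IsStandardSubgroup L)
    (hR : ∀ R : Sylow 2 ↥(centralizer (L : Set G)), IsCyclic ↥(R : Subgroup ↥(centralizer (L : Set G))))
    (hX : Nonempty ((↥L ⧸ oddCore ↥L) ≃* PSU (n + 3) F q)) :
    ∃ (ι : XU n F →* G) (t : G), ι.range = L ∧ C1 ι t := by
  have : H11.U.IsSq F q := ⟨hF⟩
  have h3 := Ok.h3 (n := n) (F := F)
  obtain ⟨e⟩ := hX
  have hN : oddCore ↥L ≤ center ↥L := by
    refine (qs_normal hL.1 _).resolve_right fun h => ?_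
    have : Subsingleton (↥L ⧸ oddCore ↥L) := by rw [h]; exact QuotientGroup.subsingleton_quotient_top
    have s := H11.U.isSimpleGroup_PSU (F := F) (q := q) (n := n + 3) (by omega) (by omega)
    exact not_subsingleton (PSU (n + 3) F q) e.symm.injective.subsingleton
  obtain ⟨ι, em, hs⟩ := cov77 (n := n) hF hL.1.1.commutator_eq_top (e.toMonoidHom.comp (QuotientGroup.mk' _))
    (e.surjective.comp (QuotientGroup.mk'_surjective _))
    (fun x hx => hN ((QuotientGroup.eq_one_iff x).1 (e.map_eq_one_iff.1 hx)))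
  have hr : (L.subtype.comp ι).range = L := by
    rw [MonoidHom.range_comp, MonoidHom.range_eq_top.2 hs, ← MonoidHom.range_eq_map, range_subtype]
  obtain ⟨⟨t, ht⟩, ho⟩ := exists_prime_orderOf_dvd_card' (G := centralizer (L : Set G)) 2
    (even_iff_two_dvd.1 hL.2.1.1)
  rw [← Subgroup.orderOf_coe] at ho
  have hn := (Cfsg.Agent.S1754.result _ hL t ho ht).1
  have t2 : t * t = 1 := by rw [← sq, ← ho]; exact pow_orderOf_eq_one t
  have t1 : t ≠ 1 := by rintro rfl; simp at ho
  refine ⟨L.subtype.comp ι, t, hr, fun y hy => em (Subtype.ext hy), t2, t1,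
    fun y => (mem_centralizer_iff.1 ht _ (ι y).2).symm, fun g hg => ?_, fun c hc c2 ct => ?_⟩
  · rw [hr]; exact hn (mem_centralizer_singleton_iff.2 hg)
  · rw [hr] at hc
    have hB : El (zpowers c ⊔ zpowers t) := (el_zpowers c2).sup (el_zpowers t2) (by
      rintro _ ⟨a, rfl⟩ _ ⟨b, rfl⟩
      exact (Commute.zpow_zpow (show Commute c t from ct) a b).eq)
    have hle : zpowers c ⊔ zpowers t ≤ centralizer (L : Set G) := sup_le (zpowers_le.2 hc) (zpowers_le.2 ht)
    obtain ⟨T, hT⟩ := (hB.isP.comap_subtype :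
      IsPGroup 2 ((zpowers c ⊔ zpowers t).subgroupOf (centralizer (L : Set G)))).exists_le_sylow
    have := hR T
    have : IsCyclic ((zpowers c ⊔ zpowers t).subgroupOf (centralizer (L : Set G))) :=
      isCyclic_of_injective _ (inclusion_injective hT)
    exact LMS.COV.cyc_uq hB (isCyclic_of_surjective _ (subgroupOfEquivOfLe hle).surjective)
      (mem_sup_left (mem_zpowers c)) (mem_sup_right (mem_zpowers t)) t1

end UMS
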