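import Cfsg.Agent.Lib.UMS.B7
import Cfsg.Agent.Lib.UMS.ISO
import Cfsg.Agent.S2089
import Cfsg.Agent.Lib.UMS.Iso77

set_option autoImplicit false
set_option linter.unusedSectionVars false

namespace UMS

open Subgroup H69 Cfsg Matrix U4S
open LMS (XX GX iL kk MM au tw Sg)
open scoped MatrixGroups commutatorElement

universe u
variable {G : Type*} [Group G] [Finite G] {F : Type u} [Field F] [CharP F 2] [Fintype F] [Hs F] {n : ℕ} [Ok n F]
  {ι ψ χ : XU n F →* G} {t : G} {E : Subgroup G}

local notation "X" => XU n F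
local notation "V" => VV n F
local notation "𝐪" => Nat.card (K0 F)
local notation "I" => Fin (n + 3)
local notation "Mx" => Matrix (Fin (n + 3)) (Fin (n + 3)) F

theorem cov {Γ : Type*} [Group Γ] [Finite Γ] (hp : commutator Γ = ⊤) (N : Subgroup Γ) [N.Normal]
    (hN : N ≤ center Γ) (e : (Γ ⧸ N) ≃* X ⧸ center X) : ∃ ι : X →* Γ, Em ι ∧ Function.Surjective ι ∧
      ∀ x, e (QuotientGroup.mk (ι x)) = QuotientGroup.mk x := by
  have hF : Fintype.card F = 𝐪 ^ 2 := by rw [← Nat.card_eq_fintype_card, card_F]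
  generalize 𝐪 = q at hF
  have : H11.U.IsSq F q := ⟨hF⟩
  have h3 := Ok.h3 (n := n) (F := F)
  have h4 := Ok.h (n := n) (F := F)
  rw [Nat.card_eq_fintype_card, hF] at h4
  obtain ⟨-, f, -⟩ := iso_su (n := n) hF
  have hq : commutator (SU (n + 3) F q) = ⊤ := H11.U.commutator_SU_eq_top (by omega) (by omega)
  have hm : HasCyclicSchurMultiplier (PSU (n + 3) F q) (Nat.card (center (SU (n + 3) F q))) := by
    rw [H11.U.card_center_SU (by omega)]
    refine Cfsg.Agent.S2089.result (n + 3) q hF (by omega) (by omega) ?_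
    simp only [Set.mem_insert_iff, Set.mem_singleton_iff, Prod.mk.injEq]
    rintro (h | h | ⟨h, rfl⟩) <;> omega
  have hc : (center X).map (f : X →* SU (n + 3) F q) = center _ := by
    ext y
    constructor
    · rintro ⟨x, hx, rfl⟩
      refine mem_center_iff.2 fun y => ?_
      obtain ⟨y, rfl⟩ := f.surjective y
      exact ((map_mul f y x).symm.trans (congrArg f (mem_center_iff.1 hx y))).trans (map_mul f x y)
    · intro hy
      obtain ⟨x, rfl⟩ := f.surjective y
      exact ⟨x, mem_center_iff.2 fun y => f.injective (by rw [map_mul, map_mul, mem_center_iff.1 hy]), rfl⟩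
  let b : (X ⧸ center X) ≃* (SU (n + 3) F q ⧸ center (SU (n + 3) F q)) := QuotientGroup.congr _ _ f hc
  let π : Γ →* PSU (n + 3) F q := (b.toMonoidHom.comp e.toMonoidHom).comp (QuotientGroup.mk' N)
  have s : Function.Surjective π := (b.surjective.comp e.surjective).comp (QuotientGroup.mk'_surjective _)
  have k : π.ker ≤ center Γ := fun x hx =>
    hN ((QuotientGroup.eq_one_iff x).1 (e.map_eq_one_iff.1 (b.map_eq_one_iff.1 hx)))
  obtain ⟨η, h1, h2⟩ := H78.Schur.exists_hom_commutator hm
    (σ := QuotientGroup.mk' (center (SU (n + 3) F q))) ⟨QuotientGroup.mk'_surjective _, by simp, by simp [hq]⟩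
    (by rw [QuotientGroup.ker_mk', Nat.card_congr Multiplicative.toAdd, Nat.card_zmod]) π s k
  let j : SU (n + 3) F q →* commutator (SU (n + 3) F q) := (MonoidHom.id _).codRestrict _ fun x => hq ▸ mem_top x
  have key : ∀ x : X, e (QuotientGroup.mk (η (j (f x)))) = QuotientGroup.mk x := fun x =>
    b.injective (DFunLike.congr_fun h1 (j (f x)))
  refine ⟨(η.comp j).comp f.toMonoidHom, fun x hx => ?_, fun x => ?_, key⟩
  · have h5 := key x
    rw [show η (j (f x)) = 1 from hx, QuotientGroup.mk_one, map_one] at h5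
    exact (QuotientGroup.eq_one_iff x).1 h5.symm
  · obtain ⟨y, hy⟩ : x ∈ η.range := by rw [h2, hp]; exact mem_top x
    exact ⟨f.symm y, by rw [← hy]; exact congrArg η (Subtype.ext (f.apply_symm_apply _))⟩

theorem exists_c1 (L : Subgroup G) (hL : IsStandardSubgroup L)
    (hR : ∀ R : Sylow 2 ↥(centralizer (L : Set G)), IsCyclic ↥(R : Subgroup ↥(centralizer (L : Set G))))
    (hX : Nonempty ((↥L ⧸ oddCore ↥L) ≃* PSU (n + 3) F 𝐪)) : ∃ (ι : X →* G) (t : G), ι.range = L ∧ C1 ι t := by
  exact exists_c177 (by rw [← Nat.card_eq_fintype_card, card_F]) L hL hR hX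

end UMS
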