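import Cfsg.Agent.Lib.UMS.RKG
import Cfsg.Agent.Lib.UMS.GD
import Cfsg.Agent.Lib.UMS.B4b
import Cfsg.Agent.Lib.UMS.B2b
import Cfsg.Agent.Lib.UMS.CE
import Cfsg.Agent.Lib.UMS.ISO
import Cfsg.Agent.Lib.LMS.S4
import Cfsg.Agent.Lib.LMS.S5

set_option autoImplicit false
set_option linter.unusedSectionVars false

namespace UMS.H24

open Subgroup H69 Cfsg Matrix U4S
open LMS (XX GX iL kk MM au tw Sg)
open scoped MatrixGroups commutatorElement

universe u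
variable {G : Type*} [Group G] [Finite G] {F : Type u} [Field F] [CharP F 2] [Fintype F] [Hs F] {n : ℕ} [Ok n F]
  {ι ψ χ : XU n F →* G} {t : G} {E : Subgroup G}

local notation "X" => XU n F
local notation "V" => VV n F
local notation "I" => Fin (n + 3)


theorem s2 (h : C1 ι t) (k : NI t) : ∃ w, w * w = 1 ∧ w ≠ 1 ∧ (IsConj t (ι w) ∨ IsConj t (t * ι w)) := by
  obtain ⟨g, c, n1⟩ := k
  have hg := h.cj g
  have ct : IsConj t (g * t * g⁻¹) := isConj_iff.2 ⟨g, rfl⟩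
  have sN : g * t * g⁻¹ ∈ 𝐍(ι.range) := h.CN _ c.symm
  by_cases i : Inn ι.range (g * t * g⁻¹)
  · obtain ⟨u, u2, e | e⟩ := h.inn i hg.t2 c.symm
    · exact ⟨u, u2, fun d => hg.t1 (by rw [e, d, map_one]), Or.inl (e ▸ ct)⟩
    · exact ⟨u, u2, fun d => n1 (by rw [e, d, map_one, mul_one]), Or.inr (e ▸ ct)⟩
  obtain ⟨a, ha, o⟩ := h.em.ou sN hg.t2 i
  obtain ⟨P, -, hP, y, yP, y2, y1, tw⟩ := gd_out o
  obtain ⟨x, hx⟩ := ha.tw tw
  have cP : ∀ p ∈ P, ι p * (g * t * g⁻¹) = g * t * g⁻¹ * ι p := fun p hp => (ha.fix (hP p hp)).symm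
  have yP' : y ∈ P := (commutator_le.2 fun a ha b hb =>
    mul_mem (mul_mem (mul_mem ha hb) (inv_mem ha)) (inv_mem hb)) yP
  have Y2 : ι y * ι y = 1 := by rw [← map_mul, y2, map_one]
  have i2 : Inn (cι ι g).range (ι y) := hg.em.comm_inn (P := P.map ι)
    (by rintro _ ⟨p, hp, rfl⟩; exact hg.CN _ (cP p hp))
    (by rw [← map_commutator]; exact mem_map_of_mem ι yP) (P2.of_sq Y2)
  have c2 : IsConj t (ι y * (g * t * g⁻¹)) := ct.trans (isConj_iff.2 ⟨ι x, hx⟩)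
  obtain ⟨u, u2, e | e⟩ := hg.inn i2 Y2 (cP y yP')
  · refine ⟨u, u2, fun d => y1 (h.em.inj2 (P2.of_sq y2) (P2.of_sq (mul_one 1))
      (by rw [e, d, map_one, map_one])), Or.inr (c2.trans (isConj_iff.2 ⟨g⁻¹, ?_⟩))⟩
    rw [e, cι_apply, h.tc u]
    group
  · refine ⟨u, u2, fun d => i ?_, Or.inl (c2.trans (isConj_iff.2 ⟨g⁻¹, ?_⟩))⟩
    · rw [d, map_one, mul_one] at e
      exact ⟨ι y, ⟨y, rfl⟩, 1, one_mem _, by rw [one_mul, e]⟩
    · rw [e, hg.tc u, mul_assoc (cι ι g u), hg.t2, mul_one, cι_apply]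
      group

theorem r0 : (0 : I).rev = iL := by ext; simp [Fin.rev, iL]

theorem is0 : Is (ee 0 : V) := is_ee (by rw [r0]; exact Fin.last_pos.ne)

theorem zz_sq (c : K0 F) : (zz c : X) * zz c = 1 := tc_sq is0.1 c

theorem zz_mem (c : K0 F) : (zz c : X) ∈ ZZ n F := mem_ZZ.2 ⟨c, rfl⟩

theorem ex_ju : ∃ J : Subgroup X, IsJ J ∧ (zz 1 : X) ∈ J ∧ ∃ j ∈ J, ∃ u : X, u * zz 1 = zz 1 * u ∧
    j * (u * j * u⁻¹) = zz 1 := by
  have h3 := Ok.h3 (n := n) (F := F)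
  have v1 : ((1 : I) : ℕ) = 1 := rfl
  have vr : ((1 : I).rev : ℕ) = n + 1 := by rw [Fin.val_rev, v1]; omega
  have vL : ((iL : I) : ℕ) = n + 2 := rfl
  have n1 : (1 : I) ≠ (1 : I).rev := fun e => by have := congrArg Fin.val e; omega
  have a0 : (0 : I) ≠ 1 := fun e => by have := congrArg Fin.val e; simp at this
  have a1 : (iL : I) ≠ 1 := fun e => by have := congrArg Fin.val e; omega
  have a2 : (0 : I) ≠ (1 : I).rev := fun e => by have := congrArg Fin.val e; rw [vr] at this; simp at this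
  have a3 : (iL : I) ≠ (1 : I).rev := fun e => by have := congrArg Fin.val e; omega
  have i1 : Is (ee 1 : V) := is_ee n1
  have ir : Is (ee (1 : I).rev : V) := is_ee (by rw [Fin.rev_rev]; exact n1.symm)
  obtain ⟨ω, hω⟩ := ex_om (F := F)
  have b01 : bt (ee 0 : V) (ee 1) = 0 := by rw [bt_ee]; exact Pi.single_eq_of_ne a2.symm _
  obtain ⟨J, hJ, J1, -, J3⟩ := tc_J is0.1 i1.1 b01
  have m1 : Mi (ee 1 : V) := ⟨Pi.single_eq_of_ne a0 _, Pi.single_eq_of_ne a1 _⟩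
  have m2 : Mi (ω • ee (1 : I).rev : V) := ⟨by
    rw [Pi.smul_apply, show (ee (1 : I).rev : V) 0 = 0 from Pi.single_eq_of_ne a2 _, smul_zero], by
    rw [Pi.smul_apply, show (ee (1 : I).rev : V) iL = 0 from Pi.single_eq_of_ne a3 _, smul_zero]⟩
  have i2 : bt (ω • ee (1 : I).rev : V) (ω • ee (1 : I).rev) = 0 := by
    rw [bt_smul_left, bt_smul_right, ir.1, mul_zero, mul_zero]
  obtain ⟨q1, c1⟩ := sh_QQ m1 i1.1
  obtain ⟨q2, c2⟩ := sh_QQ m2 i2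
  obtain ⟨c, hc, e⟩ := comm_QQ q1 q2
  have c1' : c = 1 := by
    apply Subtype.ext
    rw [hc, c1, c2, bt_smul_right, bt_ee, Fin.rev_rev, show (ee 1 : V) 1 = 1 from Pi.single_eq_same _ _, mul_one,
      sg_sg, add_comm, hω]
    rfl
  subst c1'
  have jJ := J3 1
  rw [one_smul] at jJ
  have uc := PP_cen (QQ_le q2) (1 : K0 F)
  refine ⟨J, hJ, J1 1, _, jJ, _, uc, ?_⟩
  have j2 := hJ.el _ jJ
  generalize sh (ee 0 : V) (ee 1) = x at *
  generalize sh (ee 0 : V) (ω • ee (1 : I).rev) = y at *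
  have e' : y * x = x * y * zz 1 := by rw [e, mul_assoc, zz_sq, mul_one]
  rw [e', ← mul_assoc, ← mul_assoc, ← mul_assoc, j2, one_mul, uc, mul_inv_cancel_right]

theorem s3 (h : C1 ι t) {w : X} (hw : rk w ≤ 1) : ¬ IsConj t (ι w) := by
  intro c
  rcases Nat.le_one_iff_eq_zero_or_eq_one.1 hw with h0 | h1
  · rw [rk_zero.1 h0, map_one] at c
    exact h.t1 (isConj_one_left.1 c)
  obtain ⟨z, hz⟩ := inv_cj (rk_sq hw) (zz_sq 1) (h1.trans (rk_zz one_ne_zero).symm)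
  have c' : IsConj t (ι (zz 1)) :=
    c.trans (isConj_iff.2 ⟨ι z, by rw [← hz, map_mul, map_mul, map_inv]⟩)
  obtain ⟨g, hg⟩ := isConj_iff.1 c'
  have h' := h.cj g
  rw [hg] at h'
  obtain ⟨J, hJ, J2, j, J1, u, uc0, es0⟩ := ex_ju (n := n) (F := F)
  obtain ⟨eB, cB⟩ := h.cardJ hJ
  have sB : ι (zz 1) ∈ zpowers t ⊔ J.map ι := mem_sup_right (mem_map_of_mem ι J2)
  have jB : ι j ∈ zpowers t ⊔ J.map ι := mem_sup_right (mem_map_of_mem ι J1)
  have cj := eB.comm sB jB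
  obtain ⟨J', -, e⟩ := (h'.rk eB fun b hb => eB.comm hb sB).2 cB.ge
  rw [e, mem_zp_sup h'.t2 (by rintro _ ⟨x, -, rfl⟩; exact h'.tc x)] at jB
  have uc : ι u * ι (zz 1) = ι (zz 1) * ι u := by rw [← map_mul, ← map_mul, uc0]
  have uN := h'.CN _ uc
  have es : ι j * (ι u * ι j * (ι u)⁻¹) = ι (zz 1) := by
    rw [← map_inv, ← map_mul, ← map_mul, ← map_mul, es0]
  have le : J'.map (cι ι g) ≤ (cι ι g).range := map_le_range _ _
  refine h'.t_not ?_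
  rcases jB with m | m
  · rw [← es]
    exact mul_mem (le m) (conj_mem_of_mem_normalizer uN (le m))
  · have := mul_mem (le m) (conj_mem_of_mem_normalizer uN (le m))
    rwa [← mul_assoc (ι u), uc, cj, mul_assoc (ι j), mul_assoc (ι (zz 1)),
      mul_assoc (ι (zz 1)), ← mul_assoc (ι (zz 1)), h'.t2, one_mul, es] at this

namespace S4

open LMS.S4 (nE prod_fix)

theorem nmap {W : Subgroup X} {x : X} (hx : x ∈ 𝐍(W)) : ι x ∈ 𝐍(W.map ι) :=
  le_normalizer_map ι (mem_map_of_mem ι hx)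

theorem tW (h : C1 ι t) (W : Subgroup X) : ∀ v ∈ W.map ι, t * v = v * t := by
  rintro _ ⟨x, -, rfl⟩
  exact h.tc x

theorem fixE (h : C1 ι t) {J : Subgroup X} (hJ : IsJ J) {p : G} (hp : p ∈ zpowers t ⊔ J.map ι) (p1 : p ≠ 1)
    (f : ∀ m ∈ 𝐍(zpowers t ⊔ J.map ι), m * p * m⁻¹ = p) : p = t := by
  have f' : ∀ y ∈ 𝐍(J), ι y * p = p * ι y := fun y hy =>
    mul_inv_eq_iff_eq_mul.1 (f _ (nE (h.tc y).symm (nmap hy)))
  have k : ∀ w ∈ J, (∀ y ∈ 𝐍(J), ι w * ι y = ι y * ι w) → ι w = 1 := fun w hw c => by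
    rw [hJ.nofix hw fun y hy => (h.em.comm2 (P2.of_sq (hJ.el w hw)) (c y hy)).symm, map_one]
  rcases (mem_zp_sup h.t2 (tW h J)).1 hp with ⟨w, hw, e⟩ | ⟨w, hw, e⟩
  · exact absurd (e ▸ k w hw fun y hy => by rw [e, f' y hy]) p1
  · have := k w hw fun y hy => by rw [e, mul_assoc, ← f' y hy, ← mul_assoc, h.tc, mul_assoc]
    rw [e, ← h.t2] at this
    exact mul_left_cancel this

end S4

open S4
open LMS.S4 (nE prod_fix)

theorem s4 (h : C1 ι t) (k : NI t) : ∃ g c, c ≠ 0 ∧ g * t * g⁻¹ = t * ι (zz c) := by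
  by_contra hn
  have hJ : IsJ (JD n F (kk n)) := isJ_kk
  obtain ⟨eE, cE⟩ := h.cardJ hJ
  have tE : t ∈ zpowers t ⊔ (JD n F (kk n)).map ι := mem_sup_left (mem_zpowers t)
  let S : Set G := {x | x ∈ zpowers t ⊔ (JD n F (kk n)).map ι ∧ ∃ g, g * t * g⁻¹ = x}
  have i1 : ∀ m ∈ 𝐍(zpowers t ⊔ (JD n F (kk n)).map ι), ∀ x ∈ S, m * x * m⁻¹ ∈ S := by
    rintro m hm _ ⟨a, g, rfl⟩
    exact ⟨conj_mem_of_mem_normalizer hm a, m * g, by group⟩
  have i2 : ∀ m ∈ 𝐍(zpowers t ⊔ (JD n F (kk n)).map ι), ∀ x, m * x * m⁻¹ ∈ S ↔ x ∈ S := fun m hm x =>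
    ⟨fun d => by simpa [mul_assoc] using i1 _ (inv_mem hm) _ d, i1 m hm x⟩
  have o : Odd {x | x ∈ S ∧ t * x ∈ (JD n F (kk n)).map ι}.ncard := by
    refine @odd_fix G _ _ ((UU n F).map ι) G (MulAction.compHom G (MulAut.conj : G →* MulAut G))
      (sylU.isP.map ι) _ (Set.toFinite _) ?_ t ⟨⟨tE, 1, by simp⟩, h.t2.symm ▸ one_mem _⟩
      fun d hd => ⟨fun f => ?_, ?_⟩
    · rintro _ ⟨x, hx, rfl⟩ d hd
      refine ⟨i1 _ (nE (h.tc x).symm (nmap (UU_nJ _ hx))) d hd.1, ?_⟩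
      change t * (ι x * d * (ι x)⁻¹) ∈ _
      rw [← mul_assoc, ← mul_assoc, h.tc, mul_assoc (ι x)]
      exact conj_mem_of_mem_normalizer (nmap (UU_nJ _ hx)) hd.2
    · obtain ⟨w, hw, e⟩ := hd.2
      have wz : w ∈ ZZ n F := cen_U (JD_le _ hw) fun u hu => by
        have : ι u * d * (ι u)⁻¹ = d := f _ (mem_map_of_mem ι hu)
        refine (h.em.comm2 (P2.of_sq (hJ.el w hw)) ?_).symm
        rw [e, ← mul_assoc, ← h.tc, mul_assoc, mul_assoc, mul_inv_eq_iff_eq_mul.1 this]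
      obtain ⟨c, rfl⟩ := mem_ZZ.1 wz
      obtain ⟨-, g, rfl⟩ := hd.1
      by_contra n1
      refine hn ⟨g, c, fun d => n1 ?_, by rw [e, ← mul_assoc, h.t2, one_mul]⟩
      rw [d, zz, tc_zero, map_one, ← h.t2] at e
      exact (mul_left_cancel e).symm
    · rintro rfl _ ⟨x, -, rfl⟩
      change ι x * d * (ι x)⁻¹ = d
      rw [← h.tc, mul_inv_cancel_right]
  obtain ⟨p, hp, p1, f⟩ := prod_fix eE tE (fun d => h.t_not (map_le_range _ _ d)) S (fun x hx => hx.1) o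
    fun x hx => (mem_zp_sup h.t2 (tW h _)).1 hx.1
  have f' := fun m hm => f m hm (i2 m hm)
  have pt : p = t := fixE h hJ hp p1 f'
  have ex : ∃ g, g * t * g⁻¹ ∈ zpowers t ⊔ (JD n F (kk n)).map ι ∧ g * t * g⁻¹ ≠ t := by
    obtain ⟨w, w2, w1, c⟩ := s2 h k
    obtain ⟨z, hz⟩ := inv_J w2
    have m := mem_sup_right (S := zpowers t) (mem_map_of_mem ι hz)
    rcases c with c | c
    · obtain ⟨g, e⟩ := isConj_iff.1 c
      have e' : ι z * g * t * (ι z * g)⁻¹ = ι (z * w * z⁻¹) := by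
        rw [map_mul, map_mul, map_inv, ← e]
        group
      exact ⟨ι z * g, e' ▸ m, fun d => h.t_not (d ▸ e' ▸ ⟨_, rfl⟩)⟩
    · obtain ⟨g, e⟩ := isConj_iff.1 c
      have e' : ι z * g * t * (ι z * g)⁻¹ = t * ι (z * w * z⁻¹) := by
        rw [map_mul, map_mul, map_inv, ← mul_assoc, ← mul_assoc, h.tc z, mul_assoc (ι z) t, ← e]
        group
      refine ⟨ι z * g, e' ▸ mul_mem tE m, fun d => w1 ?_⟩
      rw [e', mul_eq_left] at d
      have := h.em.inj2 (P2.of_sq (hJ.el _ hz)) (P2.of_sq (mul_one 1)) (d.trans (map_one ι).symm)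
      simpa using this
  obtain ⟨g, m, n1⟩ := ex
  obtain ⟨J', hJ', e⟩ := ((h.cj g).rk eE fun b hb => eE.comm hb m).2 cE.ge
  rw [e] at hp f'
  exact n1 ((fixE (h.cj g) hJ' hp p1 f').symm.trans pt)


namespace S5

open LMS.S5 (adj adj_comm)

theorem xe_UU (c : K0 F) : (zz c : X) ∈ UU n F := QQ_le_UU (ZZ_le_QQ (zz_mem c))

theorem gen5 (h : C1 ι t) {g : G} {c : K0 F} (e : g * t * g⁻¹ = t * ι (zz c)) {v : V} (h1 : Is v)
    (h2 : v iL = 0) (d : K0 F) :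
      ι (tc v d) ∈ adj (cι ι g).range (g * t * g⁻¹) (h.cj g).t2 (h.cj g).tC := by
  obtain ⟨J, hJ, r1, r2, -⟩ := tc_J h1.1 is0.1 (by rw [bt_ee, r0, h2])
  obtain ⟨hB, hc⟩ := h.cardJ hJ
  have hs : g * t * g⁻¹ ∈ zpowers t ⊔ J.map ι := by
    rw [e]
    exact mul_mem (mem_sup_left (mem_zpowers t)) (mem_sup_right (mem_map_of_mem ι (r2 _)))
  obtain ⟨J', -, e'⟩ := ((h.cj g).rk hB fun b hb => hB.comm hb hs).2 hc.ge
  have hx : ι (tc v d) ∈ zpowers t ⊔ J.map ι := mem_sup_right (mem_map_of_mem ι (r1 _))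
  rw [e'] at hx
  refine (sup_le (zpowers_le.2 (Or.inr ?_)) fun y hy => Or.inl (map_le_range _ _ hy)) hx
  rw [(h.cj g).t2]
  exact one_mem _

theorem two_of (h : C1 ι t) (k : ∀ ρ ∈ 𝐂(ι.range), ρ * ρ ≠ t) : Two ι.range t := by
  rintro c hc ct ⟨j, hj⟩
  induction j generalizing c with
  | zero => left; rwa [pow_zero, pow_one] at hj
  | succ j ih =>
    rcases ih (c * c) (mul_mem hc hc) (by rw [mul_assoc, ct, ← mul_assoc, ct, mul_assoc])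
      (by rw [← sq, ← pow_mul, ← pow_succ', hj]) with h1 | h1
    · exact h.uq c hc h1 ct
    · exact absurd h1 (k c hc)

theorem p2_U {u : X} (hu : u ∈ UU n F) : P2 u := by
  obtain ⟨k, hk⟩ := (sylU (n := n) (F := F)).isP ⟨u, hu⟩
  exact ⟨k, congrArg Subtype.val hk⟩

end S5

open S5
open LMS.S5 (adj adj_comm)

theorem pp_le (h : C1 ι t) {g : G} {c : K0 F} (e : g * t * g⁻¹ = t * ι (zz c)) :
    (PP n F).map ι ≤ ι.range ^ᶜ g := by
  rw [← range_cι]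
  have h3 : (PP n F).map ι ≤ adj (cι ι g).range (g * t * g⁻¹) (h.cj g).t2 (h.cj g).tC := by
    rw [map_le_iff_le_comap, ← PP_gen, closure_le]
    rintro _ ⟨v, d, h1, h2, rfl⟩
    exact gen5 h e h1 h2 d
  rw [← PP_pf, map_commutator]
  exact (commutator_mono h3 h3).trans (adj_comm _ _)

theorem nv (h : C1 ι t) {g : G} {c : K0 F} (e : g * t * g⁻¹ = t * ι (zz c)) (k : g ∈ 𝐍((ZZ n F).map ι)) :
    g ∈ 𝐍((PP n F).map ι) ∧ g ∈ 𝐍((QQ n F).map ι) := by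
  have e' := h.em.cj g
  have h1 : (PP n F).map ι ≤ (PP n F).map ι ^ᶜ g := by
    rw [map_le_iff_le_comap]
    refine PP_gen.symm.le.trans ((closure_le _).2 ?_)
    rintro _ ⟨v, d, h1, h2, rfl⟩
    have hx : (tc v d : X) ∈ PP n F := PP_gen.le (subset_closure ⟨v, d, h1, h2, rfl⟩)
    have h3 := pp_le h e (mem_map_of_mem ι hx)
    rw [← range_cι] at h3
    obtain ⟨x', x2, hx'⟩ := e'.lifti h3 (by rw [← map_mul, tc_sq h1.1, map_one])
    obtain ⟨y, hy, hy'⟩ := (mem_normalizer_iff.1 k _).1 (mem_map_of_mem ι (zz_mem (1 : K0 F)))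
    obtain ⟨c', rfl⟩ := mem_ZZ.1 hy
    have p2 : P2 x' := ⟨1, by rw [pow_one, sq, x2]⟩
    have h4 : x' * zz 1 = zz 1 * x' := e'.comm2 p2 (by
      rw [hx', cι_apply, ← hy', ← map_mul, ← map_mul, PP_cen hx])
    change ι (tc v d) ∈ (PP n F).map ι ^ᶜ g
    rw [← hx', cι_apply]
    exact cj_mem g (mem_map_of_mem ι (inv_PP p2 h4))
  have h2 : (PP n F).map ι ^ᶜ g = (PP n F).map ι :=
    (eq_of_le_of_card_ge h1 (card_cj _ _).le).symm
  refine ⟨cj_eq_self_iff.1 h2, mem_normalizer_of_cj_le ?_⟩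
  have h3 : (QQ n F).map ι ^ᶜ g ≤ (PP n F).map ι := h2 ▸ cj_mono g (map_mono QQ_le)
  have h4 : (PP n F).map ι ≤ 𝐍((QQ n F).map ι ^ᶜ g) := by
    rw [← cj_normalizer, ← h2]
    exact cj_mono g ((map_mono PP_nQ).trans (le_normalizer_map ι))
  have h5 : IsPGroup 2 ((QQ n F).map ι ^ᶜ g) := isPGroup_cj (isP_QQ.map ι) g
  have h6 : ((QQ n F).map ι ^ᶜ g).comap ι ⊓ PP n F ≤ QQ n F := by
    refine core_PP ?_ inf_le_right fun x hx => mem_normalizer_of_cj_le fun y hy => ?_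
    · rintro ⟨x, hx1, hx2⟩
      obtain ⟨j, hj⟩ := h5 ⟨ι x, hx1⟩
      refine ⟨j, Subtype.ext (PP_cc (pow_mem (show x ∈ PP n F from hx2) _) (h.em ?_))⟩
      change ι (x ^ 2 ^ j) = 1
      rw [map_pow]
      exact congrArg Subtype.val hj
    · obtain ⟨w, hw, rfl⟩ := mem_cj'.1 hy
      refine ⟨?_, (PP n F).mul_mem ((PP n F).mul_mem hx hw.2) ((PP n F).inv_mem hx)⟩
      change ι (x * w * x⁻¹) ∈ (QQ n F).map ι ^ᶜ g
      rw [map_mul, map_mul, map_inv]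
      exact (mem_normalizer_iff.1 (h4 (mem_map_of_mem ι hx)) _).1 hw.1
  intro y hy
  obtain ⟨x, hx, rfl⟩ := h3 hy
  exact mem_map_of_mem ι (h6 ⟨hy, hx⟩)

theorem s5 (h : C1 ι t) {g : G} {c : K0 F} (hc : c ≠ 0) (e : g * t * g⁻¹ = t * ι (zz c)) :
    C2 ι t ∧ ∃ g', g' * t * g'⁻¹ = t * ι (zz c) ∧ g' ∈ 𝐍((ZZ n F).map ι) := by
  haveI : Fact (Nat.Prime 2) := ⟨Nat.prime_two⟩
  obtain ⟨l, hl, h1⟩ := (h.em.sylU.cj g).exists_cj_le h.em.sylU.isP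
    ((map_mono UU_le).trans (pp_le h e))
  have h2 : l⁻¹ * g ∈ 𝐍((UU n F).map ι) := by
    have h3 : (UU n F).map ι ^ᶜ (g⁻¹ * l) ≤ (UU n F).map ι := by
      rw [← cj_cj, cj_le_iff, inv_inv]
      exact h1
    have := inv_mem (mem_normalizer_of_cj_le h3)
    rwa [_root_.mul_inv_rev, inv_inv] at this
  have h3 : l⁻¹ * g * t * (l⁻¹ * g)⁻¹ = t * ι (zz c) := by
    rw [← range_cι] at hl
    have := mem_centralizer_iff.1 (h.cj g).tC l hl
    calc l⁻¹ * g * t * (l⁻¹ * g)⁻¹ = l⁻¹ * (g * t * g⁻¹ * l) := by group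
      _ = t * ι (zz c) := by rw [← this, inv_mul_cancel_left, e]
  generalize l⁻¹ * g = k at h2 h3
  have key : ∀ y : G, (∀ u ∈ UU n F, ι u * y = y * ι u) → ∀ u ∈ UU n F,
      ι u * (k * y * k⁻¹) = k * y * k⁻¹ * ι u := by
    intro y hy u hu
    obtain ⟨v, hv, hv'⟩ := (mem_normalizer_iff.1 (inv_mem h2) _).1 (mem_map_of_mem ι hu)
    calc ι u * (k * y * k⁻¹) = k * (k⁻¹ * ι u * k⁻¹⁻¹ * y) * k⁻¹ := by group
      _ = k * (y * (k⁻¹ * ι u * k⁻¹⁻¹)) * k⁻¹ := by rw [← hv', hy v hv]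
      _ = k * y * k⁻¹ * ι u := by group
  refine ⟨⟨h, two_of h fun ρ hρ r2 => hc ?_⟩, k, h3, mem_normalizer_of_cj_le fun y hy => ?_⟩
  · have c1 := key ρ fun u _ => mem_centralizer_iff.1 hρ _ ⟨u, rfl⟩
    have c2 : k * ρ * k⁻¹ * (k * ρ * k⁻¹) = t * ι (zz c) := by rw [← h3, ← r2]; group
    generalize k * ρ * k⁻¹ = ϑ at c1 c2
    have c3 : ϑ * t = t * ϑ := by
      apply mul_right_cancel (b := ι (zz c))
      rw [mul_assoc, mul_assoc, ← c1 _ (xe_UU c), ← mul_assoc t, ← c2, mul_assoc]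
    obtain ⟨a, κ, hκ, rfl⟩ := cQ h.em (h.CN ϑ c3) fun x hx => (c1 x (QQ_le_UU hx)).symm
    have c4 : κ * κ = t * ι (zz c) := by
      rw [← c2]
      calc κ * κ = κ * κ * ι (zz a * zz a) := by rw [zz_sq, map_one, mul_one]
        _ = κ * (κ * ι (zz a)) * ι (zz a) := by rw [map_mul]; group
        _ = κ * (ι (zz a) * κ) * ι (zz a) := by
          rw [mem_centralizer_iff.1 hκ _ ⟨zz a, rfl⟩]
        _ = κ * ι (zz a) * (κ * ι (zz a)) := by group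
    refine tc_cen is0 (h.em.cen.1 ?_)
    have := mul_mem (inv_mem h.tC) (mul_mem hκ hκ)
    rwa [c4, inv_mul_cancel_left] at this
  · obtain ⟨_, ⟨x, hx, rfl⟩, rfl⟩ := mem_cj'.1 hy
    obtain ⟨a, rfl⟩ := mem_ZZ.1 hx
    obtain ⟨u, hu, hu'⟩ := (mem_normalizer_iff.1 h2 _).1 (mem_map_of_mem ι (xe_UU a))
    have c1 := key (ι (zz a)) fun v hv => by rw [← map_mul, ← map_mul, RR_cen hx hv]
    rw [← hu'] at c1 ⊢
    exact mem_map_of_mem ι (cen_U hu fun v hv => h.em.comm2 (p2_U hv) (c1 v hv))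

end UMS.H24
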