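import Cfsg.Agent.Lib.LMS.FC2
import Cfsg.Agent.Lib.UMS.Defs

/-! The field case: the unitriangular group of the big group is a Sylow subgroup of `E`. -/

set_option autoImplicit false
set_option linter.unusedSectionVars false

namespace UMS.H56

open Subgroup H69 Cfsg Matrix U4S
open LMS (XX GX iL kk MM au tw Sg nU sylU cn_au aut_comm' tw_xe)
open LMS.FC2
open scoped MatrixGroups commutatorElement

universe u
variable {G : Type*} [Group G] [Finite G] {F : Type u} [Field F] [CharP F 2] [Fintype F] [Hs F] {n : ℕ} [LMS.Ok n F]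
  {ψ : XX n F →* G} {t : G} {E : Subgroup G}

theorem τ_xe (i j : Fin (n + 3)) (c : F) : τ (xe i j c : XX n F) = xe j.rev i.rev (σ c) := by
  change tw (fr σ (xe i j c : XX n F)) = _
  rw [LMS.fr_xe, tw_xe]

theorem τ_UU {x : XX n F} (hx : x ∈ LMS.UU n F) : τ x ∈ LMS.UU n F := by
  induction hx using closure_induction with
  | mem x hx =>
    obtain ⟨i, j, c, ij, rfl⟩ := hx
    exact subset_closure ⟨_, _, _, Fin.rev_lt_rev.2 ij, τ_xe i j c⟩
  | one => rw [map_one]; exact one_mem _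
  | mul x y _ _ a b => rw [map_mul]; exact mul_mem a b
  | inv x _ a => rw [map_inv]; exact inv_mem a

theorem step (e : LMS.Em ψ) (ac : LMS.Act ψ t τ) (o : Odd (Nat.card ↥𝐂(ψ.range)))
    (c : Ct 𝐍(ψ.range) t) (m : Am ψ.range E t) {y : G} (yM : y ∈ 𝐍(ψ.range)) (yE : y ∈ E) (yU : y ∈ 𝐍((LMS.UU n F).map ψ)) (k : LMS.Dg ψ (y * y)) :
    LMS.Dg ψ y := by
  obtain ⟨g, φ, ε, i⟩ := e.act yM
  have i' : Ty ψ y φ ε := ⟨g, i⟩
  have p2 : φ * φ = 1 := ((i'.mul i').uniq e k).1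
  obtain ⟨u, -, d, hd⟩ := nU (g := g) (φ := φ) (ε := ε) fun x hx => by
    obtain ⟨v, hv, ev⟩ := conj_mem_of_mem_normalizer yU (⟨x, hx, rfl⟩ : ψ x ∈ (LMS.UU n F).map ψ)
    obtain ⟨j, hj⟩ := P2.of_mem sylU.isP hx
    rwa [← e.inj2 (P2.of_mem sylU.isP hv) ⟨j, by rw [← map_pow, hj, map_one]⟩ (ev.trans (i x))]
  obtain ⟨g0, e0⟩ := cn_au u
  have j0 : Ty ψ (ψ u) 1 false := ⟨g0, by rw [← e0]; exact LMS.Act.self u⟩
  have j : Ty ψ (ψ u * y) φ ε := by
    have := j0.mul i'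
    rwa [one_mul, Bool.false_xor] at this
  have jP : Pg ψ (ψ u * y) φ ε := ⟨fun p => d p.1 * ((d p.2)⁻¹ : F),
    fun p => mul_ne_zero (d _).ne_zero (inv_ne_zero (d _).ne_zero), fun p x => by
      rw [((LMS.Act.self u).mul i) _, hd]
      cases ε <;> simp [rr]⟩
  have tP : Pg ψ t σ true := ⟨fun _ => 1, fun _ => one_ne_zero, fun p x => by rw [ac, τ_xe, one_mul]; rfl⟩
  have jM : ψ u * y ∈ 𝐍(ψ.range) := mul_mem (le_normalizer ⟨u, rfl⟩) yM
  have jE : ψ u * y ∈ E := mul_mem (m.le ⟨u, rfl⟩) yE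
  generalize ψ u * y = z at j jP jM jE
  obtain ⟨N, oN, hN, nN⟩ := exN e o
  have NE : ∀ x ∈ N, x ∈ E := fun x hx => m.odd_mem (oN.of_dvd_nat (orderOf_dvd_natCard _ hx))
  obtain ⟨x, hx, x2, xt⟩ := lift4 oN (nN z jM _ _ jP) (nN t c.tM _ _ tP) c.t2
    ((hN _).2 ⟨show Ty ψ _ 1 false by simpa [p2] using j.mul j, by simpa [p2] using jP.mul jP⟩)
    ((hN _).2 ⟨e.dg_comm jM c.tM, by
      have := ((jP.mul tP).mul jP.inv).mul tP.inv
      rw [aut_comm' φ σ] at this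
      cases ε <;> simpa using this⟩)
  obtain ⟨g1, h1⟩ := ((hN x).1 hx).1
  have := (j.mul ⟨g1, h1⟩).uniq e (inv e c m (mul_mem jM h1.mem) (mul_mem jE (NE x hx)) x2 xt)
  rw [mul_one, Bool.xor_false] at this
  obtain ⟨rfl, rfl⟩ := this
  exact i'

theorem fc2 (e : LMS.Em ψ) (a : LMS.Act ψ t τ) (o : Odd (Nat.card ↥𝐂(ψ.range)))
    (c : Ct 𝐍(ψ.range) t) (m : Am ψ.range E t) : IsSylowIn 2 ((LMS.UU n F).map ψ) E := by
  have hT := e.sylU
  obtain ⟨S, hS, le⟩ := exists_isSylowIn_le (L := ⊤) (isPGroup_sup_of_le_normalizer_left hT.isP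
    (el_zpowers c.t2).isP (zpowers_le.2 (mem_normalizer_of_cj_le fun x hx => by
      obtain ⟨_, ⟨M, hM, rfl⟩, rfl⟩ := mem_cj'.1 hx
      exact ⟨τ M, τ_UU hM, (a M).symm⟩))) le_top
  have h1 := hS.inf_normal le_top (normal_iff_top_le_normalizer.1 m.nE)
  have h2 := c.two_le hS.isP (le (mem_sup_right (mem_zpowers t)))
  have h3 : S ⊓ ψ.range = (LMS.UU n F).map ψ :=
    hT.max _ (le_inf (le_sup_left.trans le) hT.le) inf_le_right (hS.isP.to_le inf_le_left)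
  have h4 : ∀ y ∈ S, y ∈ 𝐍((LMS.UU n F).map ψ) := fun y hy => mem_normalizer_of_cj_le fun x hx => by
    rw [← h3] at hx ⊢
    obtain ⟨z, hz, rfl⟩ := mem_cj'.1 hx
    exact ⟨S.mul_mem (S.mul_mem hy hz.1) (S.inv_mem hy), conj_mem_of_mem_normalizer (h2 hy) hz.2⟩
  have all : ∀ j : ℕ, ∀ y ∈ S ⊓ E, y ^ 2 ^ j = 1 → LMS.Dg ψ y := by
    intro j
    induction j with
    | zero => exact fun y _ k => LMS.Dg.of_inn ⟨1, one_mem _, 1, one_mem _, by simpa using k⟩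
    | succ j ih =>
      exact fun y hy k => step e a o c m (h2 hy.1) hy.2 (h4 y hy.1) (ih _ (mul_mem hy hy)
        (by rw [← sq, ← pow_mul, ← pow_succ', k]))
  rwa [hT.max _ (le_inf (le_sup_left.trans le) (hT.le.trans m.le)) (fun y hy => by
    have p := P2.of_mem hS.isP hy.1
    obtain ⟨j, hj⟩ := id p
    obtain ⟨u, k, -, pk, hk, rfl⟩ := e.dec2 ((all j y hy hj).inn e p) p
    rw [pk.eq_one (o.of_dvd_nat (orderOf_dvd_natCard _ hk)), one_mul]
    exact ⟨u, rfl⟩) h1.isP] at h1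

end UMS.H56
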