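import Cfsg.Agent.Lib.UMS.BKb
import Cfsg.Agent.Lib.UMS.CE

set_option autoImplicit false
set_option linter.unusedSectionVars false

namespace UMS.H57

open Subgroup H69 Cfsg Matrix U4S
open LMS (XX GX iL kk MM au tw Sg)
open scoped MatrixGroups commutatorElement

universe u
variable {G : Type*} [Group G] [Finite G] {F : Type u} [Field F] [CharP F 2] [Fintype F] [Hs F] {n : ℕ} [Ok n F]
  {ι : XU n F →* G} {t : G} {E : Subgroup G}

local notation "V" => VV n F
local notation "I" => Fin (n + 3)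

theorem e_add_r {a b b' : V} (h : bt a b = 0) (h' : bt a b' = 0) :
    (mx (1 + hm a (b + b')) : XX n F) = mx (1 + hm a b) * mx (1 + hm a b') := Subtype.ext (by
  rw [Matrix.SpecialLinearGroup.coe_mul, mx_hm h, mx_hm h', mx_hm (by rw [bt_add_right, h, h', add_zero]),
    hm_add_right, add_mul, mul_add, mul_add, hm_mul, h]
  simp; abel)

theorem e_add_l {a a' b : V} (h : bt a b = 0) (h' : bt a' b = 0) :
    (mx (1 + hm (a + a') b) : XX n F) = mx (1 + hm a b) * mx (1 + hm a' b) := Subtype.ext (by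
  rw [Matrix.SpecialLinearGroup.coe_mul, mx_hm h, mx_hm h', mx_hm (by rw [bt_add_left, h, h', add_zero]),
    hm_add_left, add_mul, mul_add, mul_add, hm_mul, h']
  simp; abel)

theorem xe_e {i j : I} (h : i ≠ j) (c : F) : (xe i j c : XX n F) = mx (1 + hm (c • ee i) (ee j.rev)) := Subtype.ext (by
  rw [LMS.xe_val h, mx_hm (by rw [bt_smul_left, bt_ee, Fin.rev_rev]; simp [ee, h.symm]), hm_smul_left, hm_ee,
    Fin.rev_rev, smul_single, smul_eq_mul, mul_one])

theorem tau_e {a b : V} (h : bt a b = 0) : τ (mx (1 + hm a b) : XX n F) = mx (1 + hm b a) := by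
  have e : (mx (1 + hm a b) : XX n F)⁻¹ = mx (1 + hm a b) := inv_eq_of_mul_eq_one_left (by
    rw [← e_add_r h h]
    refine Subtype.ext ?_
    rw [mx_hm (by rw [bt_add_right, h, add_zero]), hm_add_right, H12.mm, add_zero]; rfl)
  refine Subtype.ext ?_
  rw [H12.tau_val, e, mx_hm h, mx_hm (by rw [bt_symm, h, map_zero]), H12.ad_add, H12.ad_one, H12.ad_hm]

theorem ex_k (h3 : 3 ≤ n) (i : I) : ∃ k : I, k ≠ i ∧ k ≠ i.rev ∧ k ≠ k.rev := by
  by_cases a : i = 0 ∨ i = iL
  · refine ⟨1, ?_, ?_, ?_⟩ <;> rcases a with rfl | rfl <;> intro e <;> have := congrArg Fin.val e <;>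
      simp at this <;> omega
  · push Not at a
    refine ⟨0, a.1.symm, fun e => a.2 ?_, fun e => by simpa using congrArg Fin.val e⟩
    rw [← Fin.rev_rev i, ← e]; rfl

theorem mid (P : V → Prop) {i m : I} (hi : i ≠ i.rev) (hm : m = m.rev)
    (add : ∀ b b', bt (ee i) b = 0 → bt (ee i) b' = 0 → P b → P b' → P (b + b')) (base : ∀ b, Ot (ee i) b → P b) :
    P (ee m) := by
  obtain ⟨k, k1, k2, k3⟩ := ex_k (Ok.h3 F) i
  obtain ⟨s, hs⟩ := H12.ex_tr (F := F)
  have s0 : s ≠ 0 := fun e => by simp [e] at hs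
  have k4 : k.rev ≠ i := fun e => k2 (by rw [← e, Fin.rev_rev])
  have k5 : k.rev ≠ i.rev := fun e => k1 (Fin.rev_injective e)
  have m1 : m ≠ i := fun e => hi (e ▸ hm)
  have m2 : m ≠ i.rev := fun e => m1 (by rw [hm, e, Fin.rev_rev])
  have m3 : m ≠ k := fun e => k3 (e ▸ hm)
  have m4 : m ≠ k.rev := fun e => m3 (by rw [hm, e, Fin.rev_rev])
  have o1 : Ot (ee i : V) (s • ee k) := by
    have := (ot_ee (F := F) (i := i) (j := k.rev) ⟨k4.symm, k5, hi, by rw [Fin.rev_rev]; exact k3.symm⟩).smul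
      one_ne_zero s0
    rwa [one_smul, Fin.rev_rev] at this
  have o2 : Ot (ee i : V) (ee k.rev) := ot_ee ⟨k1.symm, k2, hi, k3⟩
  have b0 : bt (ee i : V) (ee m) = 0 := by rw [bt_ee, ← hm]; simp [ee, m1]
  have o3 : Ot (ee i : V) (ee m + (s • ee k + ee k.rev)) := by
    refine ⟨o1.1, ?_, by rw [bt_add_right, bt_add_right, b0, o1.2.2.1, o2.2.2.1]; simp,
      LinearIndependent.pair_iff.2 fun x y e => ?_⟩
    · simp only [bt_add_right, bt_smul_right, bt_ee, Fin.rev_rev, ← hm]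
      simp [ee, m3, m4, m3.symm, m4.symm, k3, k3.symm]
      linear_combination hs + CharTwo.two_eq_zero (R := F)
    · have e1 := congrFun e m
      have e2 := congrFun e i
      simp [ee, m1, m3, m4, m1.symm, k1.symm, k4.symm] at e1 e2
      exact ⟨e2, e1⟩
  have := add _ _ o3.2.2.1 (by rw [bt_add_right, o1.2.2.1, o2.2.2.1, add_zero]) (base _ o3)
    (add _ _ o1.2.2.1 o2.2.2.1 (base _ o1) (base _ o2))
  rwa [add_assoc, CharTwo.add_self_eq_zero, add_zero] at this

theorem gen_e {H : Subgroup (XX n F)} (h : ∀ a b : V, Ot a b → mx (1 + hm a b) ∈ H) : H = ⊤ := by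
  have z : ∀ {a b : V}, Ot a b → ∀ c : F, mx (1 + hm (c • a) b) ∈ H := fun {a b} o c => by
    by_cases c0 : c = 0
    · rw [c0, hm_smul_left, zero_smul, add_zero, show (mx 1 : XX n F) = 1 from Subtype.ext (mx_val det_one)]
      exact one_mem _
    · have := o.smul c0 one_ne_zero
      rw [one_smul] at this
      exact h _ _ this
  have s : ∀ {i j : I}, Sh i j → ∀ c, xe i j c ∈ H := fun k c => by rw [xe_e k.1]; exact z (ot_ee k) c
  refine top_unique (LMS.top_xe.ge.trans ((closure_le H).2 ?_))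
  rintro _ ⟨i, j, c, rfl⟩
  change xe i j c ∈ H
  by_cases e : i = j
  · rw [e, LMS.xe_self]; exact one_mem _
  by_cases hj : j = j.rev
  · have hi : i ≠ i.rev := fun k => e (Fin.ext (by
      have := congrArg Fin.val k; have := congrArg Fin.val hj; simp at *; omega))
    rw [xe_e e, ← hj]
    refine mid (fun b => mx (1 + hm (c • ee i) b) ∈ H) hi hj (fun b b' h1 h2 p1 p2 => ?_) fun b o => z o c
    rw [e_add_r (by rw [bt_smul_left, h1, mul_zero]) (by rw [bt_smul_left, h2, mul_zero])]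
    exact mul_mem p1 p2
  by_cases hi : i = i.rev
  · rw [xe_e e]
    refine mid (fun b => mx (1 + hm (c • b) (ee j.rev)) ∈ H) (i := j.rev) (by rw [Fin.rev_rev]; exact Ne.symm hj) hi
      (fun b b' h1 h2 p1 p2 => ?_) fun b o => z o.symm c
    rw [smul_add, e_add_l (by rw [bt_smul_left, bt_symm, h1, map_zero, mul_zero])
      (by rw [bt_smul_left, bt_symm, h2, map_zero, mul_zero])]
    exact mul_mem p1 p2
  by_cases k : j = i.rev
  · obtain ⟨l, l1, l2, l3⟩ := ex_k (Ok.h3 F) i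
    have s1 := s (i := i) (j := l) ⟨l1.symm, l2, hi, l3⟩ c
    have s2 := s (i := l) (j := j) ⟨k ▸ l2, fun e => l1 (Fin.rev_injective (e.symm.trans k)), l3, hj⟩ 1
    rw [← mul_one c, ← LMS.xe_c1 l1.symm (k ▸ l2) e]
    exact mul_mem (mul_mem (mul_mem s1 s2) s1) s2
  · exact s ⟨e, k, hi, hj⟩ c

theorem yy_ι (h : C1 ι t) (x : XU n F) : ι x ∈ YY ι t := by
  refine (B33.top_tc (H := (YY ι t).comap ι) fun v hv a => ?_).ge (mem_top x)
  obtain ⟨l, rfl⟩ := H76.tr_Is (is0 (n := n) (F := F)) hv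
  refine subset_closure ⟨l, 0, ι (tc (ee 0) a), ⟨⟨fun y hy => ?_, ?_⟩, fun o ho => ho.1 _ ⟨_, rfl⟩, ?_, fun b e => ?_⟩, ?_⟩
  · rw [← map_mul, ← map_mul, ← mul_inv_eq_iff_eq_mul.1 ((H12.cj_tc y is0.1 a).trans (by rw [hy _ rfl]))]
  · rw [← h.tc, mul_inv_cancel_right, H12.tc_zero is0.1, map_one, mul_one]
  · rw [← map_mul, H12.tc_sq is0.1, map_one]
  · exact H77.C1.t_not h ⟨tc (ee 0) a * (tc (ee 0) b)⁻¹, by rw [map_mul, map_inv, e, mul_inv_cancel_right]⟩
  · rw [← map_inv, ← map_mul, ← map_mul, H12.cj_tc l is0.1]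

theorem w_yy {W : V → G} (k : Wt ι t W) {v : V} (hv : Is v) : W v ∈ YY ι t := by
  obtain ⟨l, rfl⟩ := H76.tr_Is (is0 (n := n) (F := F)) hv
  exact subset_closure ⟨l, 1, _, k.xs _ is0, (k.eqv l _ is0.1).symm⟩

theorem xr_yy (h : C1 ι t) {W : V → G} (k : Wt ι t W) (r : F) {a b : V} (o : Ot a b) : XR ι W r a b ∈ YY ι t := by
  have h1 := o.is (a := 1) (b := 1) (Or.inl one_ne_zero)
  have h2 := o.is (a := 1) (b := 0) (Or.inl one_ne_zero)
  have h3 := o.is (a := 0) (b := 1) (Or.inr one_ne_zero)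
  simp only [one_smul, zero_smul, add_zero, zero_add] at h1 h2 h3
  exact mul_mem (yy_ι h _) (mul_mem (mul_mem (w_yy k h1) (w_yy k h2)) (w_yy k h3))

theorem fc_of (h : C4 ι t) {W : V → G} {α : K0 F} (s : Stb ι t W α) {r : F} (hr : σ r = r + 1) (a : Am ι.range E t)
    {ψ : XX n F →* G} (res : ∀ x : XU n F, ψ x.1 = ι x)
    (xr : ∀ a b, Ot a b → ψ (mx (1 + hm a b)) = XR ι W r a b) : Fc ι ψ t E := by
  have le : ι.range ≤ ψ.range := by
    rintro _ ⟨x, rfl⟩
    exact ⟨_, res x⟩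
  have nc : ∀ N : Subgroup (XX n F), (zz 1 : XU n F).1 ∈ N → ¬ N ≤ center _ := fun N hN k =>
    one_ne_zero (LMS.xe_cen (fun e => by simpa using congrArg Fin.val e) (zz_val (n := n) (1 : K0 F) ▸ k hN))
  have tw : LMS.Act ψ t τ := fun x => by
    refine (gen_e (H := (LMS.cι ψ t).eqLocus (ψ.comp τ)) fun a b o => ?_).ge (mem_top x)
    change t * ψ _ * t⁻¹ = ψ (τ _)
    rw [tau_e o.2.2.1, xr a b o, xr b a o.symm, inv_eq_of_mul_eq_one_left h.t2, s.tw a b r o, s.xsym b a r o.symm, hr]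
  refine ⟨h, (LMS.normal_X ψ.ker).resolve_right fun e => ?_, res, tw, le_antisymm ?_ ?_, a.nE, a.simple, ?_, a.idx⟩
  · refine one_ne_zero (tc_cen (is0 (n := n) (F := F)) (h.em (x := zz 1) ?_))
    rw [MonoidHom.mem_ker, ← res]
    exact e.ge (mem_top _)
  · have := bk0 (g := 1) (H := ψ.range) h.toC2 h.em (fun x => by simpa using h.tc x)
      (fun _ ha => cP h.em ha is0) le fun c => ?_
    · exact fun y hy => by simpa using this (cj_mem 1 hy)
    obtain ⟨w, hw⟩ := H12.ex_tr (F := F)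
    refine ⟨ψ (xe 0 iL (w * c)), ⟨_, rfl⟩, by rw [← map_mul, LMS.xe_sq, map_one], fun x hx => ?_, ?_⟩
    · rw [← res, ← map_mul, ← map_mul]
      congr 1
      have b : bt ((w * c) • ee 0 : V) (ee 0) = 0 := by rw [bt_smul_left, is0.1, mul_zero]
      refine Subtype.ext ?_
      have := cj_hm x ((w * c) • ee 0) (ee 0)
      rw [ac_smul, hx _ rfl] at this
      rw [xe_e (fun e => by simpa using congrArg Fin.val e), show (iL : I).rev = 0 by simp,
        Matrix.SpecialLinearGroup.coe_mul, Matrix.SpecialLinearGroup.coe_mul, mx_hm b, add_mul, mul_add, one_mul,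
        mul_one]
      congr 1
      conv_lhs => rw [← this]
      rw [mul_assoc, ← H12.mul_val, inv_mul_cancel, H12.one_val, mul_one]
    · have e1 := tw (xe 0 iL (w * c))
      have e2 : (τ (xe 0 iL (w * c)) : XX n F) = xe 0 iL (σ w * c) := by
        rw [τ, MonoidHom.comp_apply, LMS.fr_xe, LMS.tw_xe, map_mul, show σ (c : F) = c from c.2]
        simp
      have e3 : (tc (ee 0) c : XU n F).1 = xe 0 iL (σ w * c) * xe 0 iL (w * c) := by
        rw [LMS.xe_mul, ← add_mul, add_comm (σ w), hw, one_mul]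
        exact zz_val c
      rw [e2, inv_eq_of_mul_eq_one_left h.t2] at e1
      rw [inv_one, one_mul, mul_one, ← res, e3, ← map_inv, LMS.xe_inv, map_mul, ← e1]
      simp only [← mul_assoc, h.t2, one_mul]
  · rintro _ ⟨x, rfl⟩
    refine (gen_e (H := (YY ι t).comap ψ) fun a b o => ?_).ge (mem_top x)
    rw [mem_comap, xr a b o]
    exact xr_yy h.toC1 s.toWt r o
  · rintro _ ⟨x, rfl⟩
    have := a.nE
    refine ((LMS.normal_X (E.comap ψ)).resolve_left (nc _ ?_)).ge (mem_top x)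
    rw [mem_comap, res]
    exact a.le ⟨_, rfl⟩

end UMS.H57
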