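import Cfsg.Agent.Lib.UMS.CL
import Cfsg.Agent.Lib.UMS.B7
import Cfsg.Agent.Lib.UMS.WIT
import Cfsg.Agent.Lib.LMS.SA

set_option autoImplicit false
set_option linter.unusedSectionVars false

namespace UMS.D24

open Subgroup H69 Cfsg Matrix U4S
open LMS (XX GX iL kk MM au tw Sg)
open scoped MatrixGroups commutatorElement

universe u
variable {G : Type*} [Group G] [Finite G] {F : Type u} [Field F] [CharP F 2] [Fintype F] [Hs F] {n : ℕ} [Ok n F]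
  {ι ψ χ : XU n F →* G} {t : G} {E : Subgroup G}

local notation "X" => XU n F
local notation "V" => VV n F
local notation "I" => Fin (n + 3)

theorem tS {v : V} (hv : Is v) (a : K0 F) : tc v a ∈ St {v} := tc_St hv.1 hv.1 a

theorem dmul {v : V} (hv : Is v) {c c' : K0 F} {d e : G} (h : D0 ι t v c d) (k : D0 ι t v c' e) :
    D0 ι t v (c + c') (d * e) := by
  refine ⟨fun x hx => by rw [mul_assoc, k.1 x hx, ← mul_assoc, h.1 x hx, mul_assoc], ?_⟩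
  calc d * e * t * (d * e)⁻¹ = d * (e * t * e⁻¹) * d⁻¹ := by group
    _ = d * t * (ι (tc v c') * d⁻¹) := by rw [k.2]; group
    _ = d * t * d⁻¹ * ι (tc v c') := by
      rw [(Commute.inv_left (h.1 _ (tS hv c'))).eq.symm]; group
    _ = _ := by rw [h.2, mul_assoc, ← map_mul, tc_mul hv.1]

theorem xsq {v : V} (hv : Is v) (a : K0 F) : ι (tc v a) * ι (tc v a) = 1 := by rw [← map_mul, tc_sq hv.1, map_one]

theorem dinv {v : V} (hv : Is v) {c : K0 F} {d : G} (h : D0 ι t v c d) : D0 ι t v c d⁻¹ := by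
  refine ⟨fun x hx => (Commute.inv_left (h.1 x hx)).eq, ?_⟩
  have c1 : d * ι (tc v c) = ι (tc v c) * d := h.1 _ (tS hv c)
  have e : d * (t * ι (tc v c)) * d⁻¹ = t := by
    calc d * (t * ι (tc v c)) * d⁻¹ = d * t * d⁻¹ * (d * ι (tc v c) * d⁻¹) := by group
      _ = t := by rw [h.2, c1, mul_inv_cancel_right, mul_assoc, xsq hv, mul_one]
  calc d⁻¹ * t * d⁻¹⁻¹ = d⁻¹ * (d * (t * ι (tc v c)) * d⁻¹) * d⁻¹⁻¹ := by rw [e]
    _ = _ := by group

theorem dtr (h : C1 ι t) {v : V} (hv : Is v) {c : K0 F} {d : G} (k : D0 ι t v c d) (x : X) :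
    D0 ι t (ac x v) c (ι x * d * (ι x)⁻¹) := by
  refine ⟨fun y hy => ?_, ?_⟩
  · have m : x⁻¹ * y * x ∈ St {v} := mem_St.2 fun w hw => by
      obtain rfl : w = v := hw
      rw [ac_mul, ac_mul, mem_St.1 hy _ rfl, ← ac_mul, inv_mul_cancel, ac_one]
    have := k.1 _ m
    rw [map_mul, map_mul, map_inv] at this
    calc ι x * d * (ι x)⁻¹ * ι y = ι x * (d * ((ι x)⁻¹ * ι y * ι x)) * (ι x)⁻¹ := by group
      _ = _ := by rw [this]; group
  · rw [← tc_cj hv.1, map_mul, map_mul, map_inv]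
    calc ι x * d * (ι x)⁻¹ * t * (ι x * d * (ι x)⁻¹)⁻¹ = ι x * d * ((ι x)⁻¹ * (t * ι x)) * d⁻¹ * (ι x)⁻¹ := by group
      _ = ι x * (d * t * d⁻¹) * (ι x)⁻¹ := by rw [h.tc]; group
      _ = _ := by rw [k.2, ← mul_assoc, ← h.tc]; group

theorem dsm {v : V} {a : F} (ha : a ≠ 0) {c : K0 F} {d : G} (k : D0 ι t v (nm a * c) d) : D0 ι t (a • v) c d :=
  ⟨by rw [St_smul v ha]; exact k.1, by rw [tc_smul]; exact k.2⟩

theorem dsm' {v : V} {a : F} (ha : a ≠ 0) {c : K0 F} {d : G} (k : D0 ι t (a • v) c d) : D0 ι t v (nm a * c) d :=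
  ⟨by rw [← St_smul v ha]; exact k.1, by rw [← tc_smul]; exact k.2⟩

theorem oo_d0 {v : V} {o : G} (ho : Oo ι t o) : D0 ι t v 0 o :=
  ⟨fun x _ => (ho.1 _ ⟨x, rfl⟩).symm, by rw [ho.2.1, mul_inv_cancel_right, tc_zero, map_one, mul_one]⟩

theorem txsq (h : C1 ι t) {v : V} (hv : Is v) (a : K0 F) : t * ι (tc v a) * (t * ι (tc v a)) = 1 := by
  rw [mul_assoc, ← mul_assoc (ι _), ← h.tc, mul_assoc, xsq hv, mul_one, h.t2]

theorem zero {v : V} {c : K0 F} {d : G} (k : D0 ι t v (c + c) d) : D0 ι t v 0 d := k0_add c ▸ k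

theorem ker (h : C2 ι t) {v : V} (hv : Is v) {d : G} (k : D0 ι t v 0 d) :
    ∃ a o, Oo ι t o ∧ (d = ι (tc v a) * o ∨ d = t * ι (tc v a) * o) := by
  have c : d * t = t * d := by
    have := k.2
    rwa [tc_zero, map_one, mul_one, mul_inv_eq_iff_eq_mul] at this
  obtain ⟨a, z, hz, rfl⟩ := cP h.em (h.CN d c) hv k.1
  obtain ⟨O, -, -, hO⟩ := h.od
  obtain ⟨o, ho, e⟩ := hO z hz (by
    rw [mul_assoc, ← h.tc, ← mul_assoc, ← mul_assoc] at c
    exact mul_right_cancel c)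
  have c1 : ι (tc v a) * o = o * ι (tc v a) := ho.1 _ ⟨_, rfl⟩
  exact ⟨a, o, ho, e.imp (fun e => by rw [e, c1]) fun e => by rw [e, mul_assoc, mul_assoc, c1]⟩

theorem ker' (h : C2 ι t) {v : V} (hv : Is v) {d : G} (k : D0 ι t v 0 d) :
    ∃ u o, Oo ι t o ∧ u * u = 1 ∧ Commute u o ∧ d = u * o ∧ ∃ a, u = ι (tc v a) ∨ u = t * ι (tc v a) := by
  obtain ⟨a, o, ho, e | e⟩ := ker h hv k
  · exact ⟨_, o, ho, xsq hv a, ho.1 _ ⟨_, rfl⟩, e, a, Or.inl rfl⟩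
  · exact ⟨_, o, ho, txsq h.toC1 hv a, Commute.mul_left ho.2.1.symm (ho.1 _ ⟨_, rfl⟩), e, a, Or.inr rfl⟩

theorem nO (h : C2 ι t) {v : V} (hv : Is v) {c : K0 F} {d o : G} (k : D0 ι t v c d) (ho : Oo ι t o) :
    Oo ι t (d * o * d⁻¹) := by
  obtain ⟨u, o', ho', u2, c, e, -⟩ := ker' h hv
    (zero (dmul hv (add_zero c ▸ dmul hv k (oo_d0 ho) : D0 ι t v c (d * o)) (dinv hv k)))
  have : Odd (orderOf (u * o')) := by
    rw [← e]
    exact (orderOf_injective (MulAut.conj d).toMonoidHom (MulAut.conj d).injective o).symm ▸ ho.2.2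
  rwa [e, LMS.SA.odd_kill u2 c ho'.2.2 this, one_mul]

theorem sv (h : C2 ι t) {v : V} (hv : Is v) {c : K0 F} {d : G} (k : D0 ι t v c d) (k' : CO ι t d) :
    ∃ w, SV ι t v c w := by
  obtain ⟨O, hO, oO, -⟩ := h.od
  let D : Subgroup G :=
    { carrier := {d | (∃ c, D0 ι t v c d) ∧ CO ι t d}
      one_mem' := ⟨⟨0, fun _ _ => by simp, by simp [tc_zero]⟩, fun o _ => by simp⟩
      mul_mem' := fun ⟨⟨_, a1⟩, a2⟩ ⟨⟨_, b1⟩, b2⟩ =>
        ⟨⟨_, dmul hv a1 b1⟩, fun o ho => (Commute.mul_left (a2 o ho) (b2 o ho)).eq⟩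
      inv_mem' := fun ⟨⟨_, a1⟩, a2⟩ => ⟨⟨_, dinv hv a1⟩, fun o ho => (Commute.inv_left (a2 o ho)).eq⟩ }
  obtain ⟨-, k2⟩ := LMS.two_sub (D := D) (Z := O ⊓ D) (fun z hz d hd => hd.2 z ((hO z).1 hz.1))
    (Odd.of_dvd_nat oO (card_dvd_of_le inf_le_left)) fun d hd => ⟨2, by
      obtain ⟨c, hc⟩ := hd.1
      obtain ⟨u, o, ho, u2, cm, e, -⟩ := ker' h hv (zero (dmul hv hc hc))
      rw [show 2 ^ 2 = 2 * 2 from rfl, pow_mul, sq d, e, cm.mul_pow, sq u, u2, one_mul]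
      exact pow_mem ((hO o).2 ho) 2, pow_mem hd _⟩
  obtain ⟨z, hz, -, p⟩ := k2 d ⟨⟨_, k⟩, k'⟩
  exact ⟨d * z⁻¹, add_zero c ▸ dmul hv k (dinv hv (oo_d0 ((hO z).1 hz.1))),
    fun o ho => (Commute.mul_left (k' o ho) (Commute.inv_left (hz.2.2 o ho))).eq, p⟩

/-- five transvections with product one -/
theorem five {u v : V} (o : Ot u v) {ω : F} (hω : ω + σ ω = 1) (c : K0 F) :
    tc u c * tc (u + v) c * tc (u + ω • v) c * tc (u + (ω + 1) • v) c = tc v c := by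
  have b : ∀ a a' : F, bt (u + a • v) (u + a' • v) = 0 := fun a a' => by
    have h3 : bt v u = 0 := by rw [bt_symm, o.2.2.1, map_zero]
    simp only [bt_add_left, bt_add_right, bt_smul_left, bt_smul_right, o.1, o.2.1, o.2.2.1, h3, mul_zero, add_zero]
  have b0 := b 0 0; have b1 := b 1 1
  have b01 := b 0 1; have b1' := fun a => b a 1; have b0' := fun a => b a 0
  simp only [zero_smul, add_zero, one_smul] at b0 b1 b01 b1' b0'
  have b10 := b1' 0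
  refine ac_ext fun x => ?_
  simp only [ac_mul]
  rw [ac_tc (b _ _), ac_tc (b _ _), ac_tc b1, ac_tc b0, ac_tc o.2.1]
  simp only [bt_add_left (u := x), bt_add_left (u := x + _), bt_add_left (u := x + _ + _), bt_smul_left, b, b1', b0',
    mul_zero, add_zero]
  have e1 : bt (u + v) u = 0 := by have := b0' 1; rwa [one_smul] at this
  rw [e1]
  simp only [bt_add_right, bt_smul_right, map_add, map_one]
  have hs : σ ω = ω + 1 := by rw [← hω]; linear_combination (exp := 1) (-ω) * (CharTwo.two_eq_zero (R := F))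
  rw [hs]
  have two : (2 : F) = 0 := CharTwo.two_eq_zero
  ext i
  simp only [Pi.add_apply, Pi.smul_apply, smul_eq_mul]
  generalize bt x u = p; generalize bt x v = r
  linear_combination ((c : F) * (2 * p * u i + (ω + 2) * r * u i + (ω + 1) * p * v i + (ω ^ 2 + 2 * ω + 1) * r * v i)) * two

theorem pair (h : C2 ι t) {v : V} (hv : Is v) {c : K0 F} {d : G} (k : D0 ι t v c d) (x y : X) :
    CO ι t (ι x * d * (ι x)⁻¹ * (ι y * d * (ι y)⁻¹)⁻¹) := by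
  have A : ∀ (z : X) o, Oo ι t o → ι z * d * (ι z)⁻¹ * o * (ι z * d * (ι z)⁻¹)⁻¹ = d * o * d⁻¹ := fun z o ho => by
    have c1 : ι z * o = o * ι z := ho.1 _ ⟨z, rfl⟩
    have c2 : ι z * (d * o * d⁻¹) = d * o * d⁻¹ * ι z := (nO h hv k ho).1 _ ⟨z, rfl⟩
    calc ι z * d * (ι z)⁻¹ * o * (ι z * d * (ι z)⁻¹)⁻¹ = ι z * d * ((ι z)⁻¹ * (o * ι z)) * d⁻¹ * (ι z)⁻¹ := by group
      _ = ι z * (d * o * d⁻¹) * (ι z)⁻¹ := by rw [← c1]; group
      _ = _ := by rw [c2, mul_inv_cancel_right]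
  intro o ho
  have o' := nO h hv (dinv hv k) ho
  have a1 := A x _ o'
  have a2 := A y _ o'
  have e : d * (d⁻¹ * o * d⁻¹⁻¹) * d⁻¹ = o := by group
  rw [e] at a1 a2
  generalize ι x * d * (ι x)⁻¹ = a at *
  generalize ι y * d * (ι y)⁻¹ = b at *
  generalize d⁻¹ * o * d⁻¹⁻¹ = p at *
  calc a * b⁻¹ * o = a * b⁻¹ * (b * p * b⁻¹) := by rw [a2]
    _ = a * p * a⁻¹ * (a * b⁻¹) := by group
    _ = _ := by rw [a1]

theorem step (h : C2 ι t) {c : K0 F} {d : G} (k : D0 ι t (ee 0) c d) {v : V} (hv : Is v) : ∃ w, SV ι t v c w := by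
  have i0 : Is (ee 0 : V) := by
    obtain ⟨x, hx⟩ := wit1 hv
    have := hv.ac x⁻¹
    rwa [← hx, ← ac_mul, inv_mul_cancel, ac_one] at this
  obtain ⟨u, o⟩ := ext2 hv
  replace o := o.symm
  obtain ⟨ω, hω⟩ := ex_om (F := F)
  have h3 : bt v u = 0 := by rw [bt_symm, o.2.2.1, map_zero]
  have key : ∀ a b : F, a ≠ 0 ∨ b ≠ 0 → ∃ x : X, ac x (ee 0) = a • u + b • v ∧ tc (a • u + b • v) c ∈ St {u, v} ∧
      ∀ e, D0 ι t (a • u + b • v) c e → Cn ι (St {u, v}) e := fun a b ab => by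
    have i := o.is ab
    obtain ⟨x, hx⟩ := wit1 i
    refine ⟨x, hx, mem_St.2 ?_, fun e he y hy => he.1 y (mem_St.2 ?_)⟩
    · rintro w (rfl | rfl) <;> rw [ac_tc i.1] <;>
        simp only [bt_add_right, bt_smul_right, o.1, o.2.1, o.2.2.1, h3, mul_zero, add_zero, zero_smul]
    · rintro w rfl
      rw [ac_add, ac_smul, ac_smul, mem_St.1 hy u (Or.inl rfl), mem_St.1 hy v (Or.inr rfl)]
  have mul : ∀ {a b : G} {y z : X}, Cn ι (St {u, v}) a → a * t * a⁻¹ = t * ι y → z ∈ St {u, v} →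
      b * t * b⁻¹ = t * ι z → a * b * t * (a * b)⁻¹ = t * ι (y * z) := fun {a b y z} h1 h2 h3 h4 => by
    calc a * b * t * (a * b)⁻¹ = a * (b * t * b⁻¹) * a⁻¹ := by group
      _ = a * t * a⁻¹ * (a * ι z * a⁻¹) := by rw [h4]; group
      _ = _ := by rw [h2, h1 z h3, map_mul]; group
  have cm : ∀ {a b : G}, Cn ι (St {u, v}) a → Cn ι (St {u, v}) b → Cn ι (St {u, v}) (a * b) :=
    fun h1 h2 y hy => (Commute.mul_left (h1 y hy) (h2 y hy)).eq
  obtain ⟨x1, e1, s1, f1⟩ := key 1 0 (Or.inl one_ne_zero)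
  obtain ⟨x2, e2, s2, f2⟩ := key 1 1 (Or.inl one_ne_zero)
  obtain ⟨x3, e3, s3, f3⟩ := key 1 ω (Or.inl one_ne_zero)
  obtain ⟨x4, e4, s4, f4⟩ := key 1 (ω + 1) (Or.inl one_ne_zero)
  obtain ⟨x5, e5, s5, f5⟩ := key 0 1 (Or.inr one_ne_zero)
  have d1 := dtr h.toC1 i0 k x1
  have d2 := dinv (i0.ac x2) (dtr h.toC1 i0 k x2)
  have d3 := dtr h.toC1 i0 k x3
  have d4 := dinv (i0.ac x4) (dtr h.toC1 i0 k x4)
  have d5 := dtr h.toC1 i0 k x5
  have d5' := dinv (i0.ac x5) d5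
  have p1 := pair h i0 k x1 x2
  have p2 := pair h i0 k x3 x4
  rw [e1] at d1; rw [e2] at d2; rw [e3] at d3; rw [e4] at d4; rw [e5] at d5 d5'
  generalize ι x1 * d * (ι x1)⁻¹ = a1 at *
  generalize (ι x2 * d * (ι x2)⁻¹)⁻¹ = a2 at *
  generalize ι x3 * d * (ι x3)⁻¹ = a3 at *
  generalize (ι x4 * d * (ι x4)⁻¹)⁻¹ = a4 at *
  generalize ι x5 * d * (ι x5)⁻¹ = a5 at *
  have g1 := f1 _ d1; have g2 := f2 _ d2; have g3 := f3 _ d3; have g4 := f4 _ d4; have g5 := f5 _ d5'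
  have t1 := mul (cm (cm g1 g2) g3) (mul (cm g1 g2) (mul g1 d1.2 s2 d2.2) s3 d3.2) s4 d4.2
  simp only [one_smul, zero_smul, add_zero, zero_add] at t1 s5 d5 d5'
  rw [five o hω] at t1
  have t2 := mul g5 d5'.2 s5 t1
  rw [tc_sq hv.1, map_one, mul_one, mul_inv_eq_iff_eq_mul] at t2
  obtain ⟨x, y, a, z, hz, e⟩ := cP2 h.em (h.CN _ t2) o (cm g5 (cm (cm (cm g1 g2) g3) g4))
  generalize tc u x * tc v y * sh (a • u) v = j at e
  have zt : z * t = t * z := by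
    rw [e, mul_assoc, ← h.tc, ← mul_assoc, ← mul_assoc] at t2
    exact mul_right_cancel t2
  have z0 : D0 ι t v 0 z :=
    ⟨fun x _ => (hz _ ⟨x, rfl⟩).symm, by rw [zt, mul_inv_cancel_right, tc_zero, map_one, mul_one]⟩
  have dz := dmul hv d5 z0
  rw [add_zero] at dz
  refine sv h hv dz fun o ho => ?_
  have e' : a5 * z = a1 * a2 * (a3 * a4) * (ι j)⁻¹ := by
    rw [eq_mul_inv_iff_mul_eq, mul_assoc, ← e]; group
  rw [e']
  exact (Commute.mul_left (Commute.mul_left (p1 o ho) (p2 o ho)) (Commute.inv_left (ho.1 _ ⟨j, rfl⟩))).eq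

theorem s6d (h : C2 ι t) {c : K0 F} (hc : c ≠ 0) {d : G} (k : D0 ι t (ee 0) c d) : C3 ι t := by
  refine ⟨h, fun v hv c' => ?_⟩
  by_cases h0 : c' = 0
  · subst h0
    exact ⟨1, ⟨fun _ _ => by simp, by simp [tc_zero]⟩, fun o _ => by simp, P2.of_sq (mul_one 1)⟩
  obtain ⟨a, ha⟩ := nm_surj (c' * c⁻¹)
  have a0 : a ≠ 0 := fun e => mul_ne_zero h0 (inv_ne_zero hc) (ha ▸ nm_zero.2 e)
  obtain ⟨w, hw⟩ := step h k (hv.smul a0)
  have := dsm' a0 hw.1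
  rw [ha, inv_mul_cancel_right₀ hc] at this
  exact ⟨w, this, hw.2⟩

end UMS.D24
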