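import Cfsg.Agent.Lib.UMS.W1A
import Cfsg.Agent.Lib.UMS.W0
import Cfsg.Agent.Lib.UMS.BKb
import Cfsg.Agent.Lib.UMS.CE

set_option autoImplicit false
set_option linter.unusedSectionVars false

namespace UMS

open Subgroup H69 Cfsg Matrix U4S
open LMS (XX GX iL kk MM au tw Sg)
open scoped MatrixGroups commutatorElement

universe u
variable {G : Type*} [Group G] [Finite G] {F : Type u} [Field F] [CharP F 2] [Fintype F] [Hs F] {n : ℕ} [Ok n F]
  {ι ψ χ : XU n F →* G} {t : G} {E : Subgroup G}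

local notation "X" => XU n F
local notation "V" => VV n F
local notation "𝐪" => Nat.card (K0 F)
local notation "I" => Fin (n + 3)
local notation "Mx" => Matrix (Fin (n + 3)) (Fin (n + 3)) F


namespace W1C

theorem noMo (p : Pa ψ χ) (h : C2 ι t) (hm : t ∈ Mo ψ χ) : False := by
  by_cases i : Inn ψ.range t
  · exact w1a p h hm i
  by_cases i' : Inn χ.range t
  · exact w1a p.symm h ⟨hm.2, hm.1⟩ i'
  exact w1b p h hm i i'

theorem diag (p : Pa ψ χ) {s : G} (s2 : s * s = 1) (e : ψ.range ^ᶜ s = χ.range) :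
    ∃ κ : X →* G, Em κ ∧ (∀ x, s * κ x = κ x * s) ∧ κ.range ≤ ψ.range ⊔ χ.range ∧
      ∀ c, ∃ u ∈ ψ.range ⊔ χ.range, u * u = 1 ∧ D0 κ s (ee 0) c u := by
  have si : s⁻¹ = s := inv_eq_of_mul_eq_one_right s2
  have m : ∀ x, s * ψ x * s⁻¹ ∈ χ.range := fun x => e ▸ cj_mem s ⟨x, rfl⟩
  have cm : ∀ x y, Commute (ψ x) (s * ψ y * s⁻¹) := fun x y => by
    obtain ⟨z, hz⟩ := m y
    rw [← hz]; exact p.comm x z
  have z2 : ∀ c : K0 F, (tc (ee 0) c : X) * tc (ee 0) c = 1 := H12.tc_sq H57.is0.1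
  let κ : X →* G := MonoidHom.mk' (fun x => ψ x * (s * ψ x * s⁻¹)) fun x y => by
    rw [map_mul, ← conj_mul, mul_assoc, ← mul_assoc (ψ y), (cm y x).eq]
    simp only [mul_assoc]
  have hk : ∀ x, κ x = ψ x * (s * ψ x * s⁻¹) := fun _ => rfl
  refine ⟨κ, fun x hx => p.e1.cen.1 ?_, fun x => ?_, ?_, fun c => ⟨ψ (tc (ee 0) c), mem_sup_left ⟨_, rfl⟩, ?_, ?_, ?_⟩⟩
  · rintro _ ⟨y, rfl⟩
    rw [MonoidHom.mem_ker, hk] at hx
    rw [eq_inv_of_mul_eq_one_left hx]
    exact (cm y x).inv_right.eq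
  · conv_lhs => rw [hk, (cm x x).eq]
    rw [hk, si]
    calc _ = s * s * ψ x * s * ψ x := by group
      _ = ψ x * s * ψ x * (s * s) := by rw [s2, one_mul, mul_one]
      _ = _ := by group
  · rintro _ ⟨x, rfl⟩
    exact mul_mem (mem_sup_left ⟨x, rfl⟩) (mem_sup_right (m x))
  · rw [← map_mul, z2, map_one]
  · intro x hx
    have c1 : Commute (ψ (tc (ee 0) c)) (ψ x) := by
      change _ * _ = _ * _
      rw [← map_mul, ← map_mul]
      exact congrArg ψ (PP_cen hx c).symm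
    rw [hk]
    exact (c1.mul_right (cm _ x)).eq
  · rw [hk, (cm _ _).eq, si, ← map_inv, inv_eq_of_mul_eq_one_right (z2 c)]
    calc _ = s * s * ψ (tc (ee 0) c) * s * ψ (tc (ee 0) c) := by rw [s2, one_mul]
      _ = _ := by group

end W1C

theorem Wc.wk (h : Wc ι ψ t E) : Wk ι ψ (cι ψ t) t := by
  refine ⟨h.toC4.toC3.toC2, h.pa, fun x => by rw [cι_apply, inv_eq_of_mul_eq_one_right h.t2], h.res,
    h.t2, h.yy ▸ H57.cM h.toC4.toC3.toC2.toC1 rfl, fun g hg => ?_⟩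
  have h' := h.toC4.toC3.toC2.cj g
  rcases h.pa.perm _ hg with k | k
  · exact (W1C.noMo h.pa h' k).elim
  · obtain ⟨κ, e, c, le, k'⟩ := W1C.diag h.pa h'.t2 k.1
    have := H57.bk0 h.toC4.toC3.toC2 e c (fun a ha => cP e ha H57.is0) le k'
    rw [h.yy] at this
    exact mem_normalizer_of_cj_le this

end UMS
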