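import Cfsg.Agent.Lib.UMS.Wt87
import Cfsg.Agent.Lib.UMS.H12b
import Cfsg.Agent.Lib.UMS.Em77

/-! Sesquilinearity of the doubled short root elements. -/

set_option autoImplicit false
set_option linter.unusedSectionVars false

namespace UMS
namespace H87

open Subgroup H69 Cfsg Matrix U4S
open LMS (XX GX iL kk MM au tw Sg)
open scoped MatrixGroups commutatorElement

universe u
variable {G : Type*} [Group G] [Finite G] {F : Type u} [Field F] [CharP F 2] [Fintype F] [Hs F] {n : ℕ} [Ok n F]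
  {ι : XU n F →* G} {t : G} {W : VV n F → G}

local notation "X" => XU n F
local notation "V" => VV n F

theorem vv (x : V) : x + x = 0 := by ext i; exact CharTwo.add_self_eq_zero _

theorem veq {x y : V} (h : x + y = 0) : x = y := by
  rw [← add_zero x, ← vv y, ← add_assoc, h, zero_add]

theorem iso_fix {z v : V} (hv : bt v v = 0) (h : bt z v = 1) : ∃ c : F, bt (z + c • v) (z + c • v) = 0 := by
  obtain ⟨e, he⟩ := H12.ex_tr (F := F)
  have k : σ (bt z z) = bt z z := (H12.bt_symm z z).symm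
  have h' : bt v z = 1 := by rw [H12.bt_symm, h, map_one]
  refine ⟨bt z z * e, ?_⟩
  simp only [H12.bt_add_l, H12.bt_add_r, H12.bt_smul_l, H12.bt_smul_r, hv, h, h', map_mul, k]
  have : (2 : F) = 0 := CharTwo.two_eq_zero
  linear_combination bt z z * he + bt z z * this

theorem dual {u v w : V} (hv : bt v v = 0) (hu : bt v u = 0) (hw : bt v w = 0)
    (hl : ∀ a b c : F, a • u + b • v + c • w = 0 → a = 0 ∧ b = 0 ∧ c = 0) :
    ∃ z, bt z z = 0 ∧ bt z u = 0 ∧ bt z w = 0 ∧ bt z v = 1 := by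
  have k : v ∉ H12.pp (H12.pp (Submodule.span F {u, w})) := by
    rw [H12.pp_pp, Submodule.mem_span_pair]
    rintro ⟨a, c, e⟩
    exact one_ne_zero (hl a 1 c (by rw [one_smul, add_right_comm, e, vv])).2.1
  rw [H12.mem_pp] at k
  push Not at k
  obtain ⟨x, hx, k⟩ := k
  rw [H12.mem_pp_span] at hx
  have k' : bt x v ≠ 0 := fun e => k (H12.bt_sw e)
  obtain ⟨c, hc⟩ := iso_fix (z := (bt x v)⁻¹ • x) hv (by rw [H12.bt_smul_l, inv_mul_cancel₀ k'])
  refine ⟨_, hc, ?_, ?_, ?_⟩ <;> rw [H12.bt_add_l, H12.bt_smul_l, H12.bt_smul_l]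
  · rw [hx u (by simp), hu]; simp
  · rw [hx w (by simp), hw]; simp
  · rw [hv, inv_mul_cancel₀ k']; simp

theorem semi {α : X →* X} {φ : RingAut F} (h : Au α φ) : ∃ s : V → V, (∀ x y, s (x + y) = s x + s y) ∧
    (∀ (a : F) x, s (a • x) = φ a • s x) ∧ (∀ x, s x = 0 → x = 0) ∧ ∀ x y, ac (α x) (s y) = s (ac x y) := by
  obtain ⟨g, hg⟩ := h
  refine ⟨fun x => g.1 *ᵥ fun i => φ (x i), fun x y => ?_, fun a x => ?_, fun x hx => ?_, fun x y => ?_⟩
  · rw [← mulVec_add]; exact congrArg _ (funext fun i => by simp)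
  · rw [← mulVec_smul]; exact congrArg _ (funext fun i => by simp)
  · have : (g⁻¹).1 *ᵥ (g.1 *ᵥ fun i => φ (x i)) = 0 := by
      change (g⁻¹).1 *ᵥ (g.1 *ᵥ fun i => φ (x i)) = 0
      rw [show (g.1 *ᵥ fun i => φ (x i)) = 0 from hx, mulVec_zero]
    rw [mulVec_mulVec, ← Units.val_mul, inv_mul_cancel, Units.val_one, one_mulVec] at this
    ext i
    exact (map_eq_zero_iff _ φ.injective).1 (congrFun this i)
  · unfold ac
    rw [hg, LMS.au_false, gc_val, fr_val, mulVec_mulVec, mul_assoc, ← Units.val_mul, inv_mul_cancel, Units.val_one,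
      mul_one, ← mulVec_mulVec]
    congr 1; ext i
    simp [mulVec, dotProduct]

theorem triv {α : X →* X} {φ : RingAut F} (h : Au α φ) {S : Submodule F V} (hS : ∀ x ∈ S, ∀ y ∈ S, bt x y = 0)
    {u v w : V} (hu : u ∈ S) (hv : v ∈ S) (hw : w ∈ S)
    (hl : ∀ a b c : F, a • u + b • v + c • w = 0 → a = 0 ∧ b = 0 ∧ c = 0)
    (h1 : ∀ y ∈ S, α (tc y 1) = tc y 1)
    (h2 : ∀ a b c : V, (a = u ∧ b = v ∧ c = w) ∨ (a = u ∧ b = w ∧ c = v) ∨ (a = v ∧ b = u ∧ c = w) ∨
      (a = v ∧ b = w ∧ c = u) ∨ (a = w ∧ b = u ∧ c = v) ∨ (a = w ∧ b = v ∧ c = u) →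
      ∀ z, bt z z = 0 → bt z a = 0 → bt z c = 0 → bt z b = 1 → α (sh a z) = sh a z) (x : X) : α x = x := by
  obtain ⟨s, s1, s2, s3, s4⟩ := semi h
  have two : (2 : F) = 0 := CharTwo.two_eq_zero
  have l1 : ∀ y ∈ S, y ≠ 0 → ∃ l : F, s y = l • y ∧ ∀ x, bt (s x) y = φ (bt x y) * l := by
    intro y hy y0
    have e : ∀ x, bt (s x) y • y = φ (bt x y) • s y := fun x => by
      have := s4 (tc y 1) x
      rw [h1 y hy, H12.ac_tc (hS y hy y hy), H12.ac_tc (hS y hy y hy), s1, s2] at this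
      simpa using add_left_cancel this
    obtain ⟨p, -, hp⟩ := H76.ex_hyp (v := y) ⟨hS y hy y hy, y0⟩
    have e1 := e p
    rw [hp, map_one, one_smul] at e1
    refine ⟨_, e1.symm, fun x => ?_⟩
    have := e x
    rw [← e1, smul_smul] at this
    exact smul_left_injective F y0 this
  have u0 : u ≠ 0 := fun e => one_ne_zero (hl 1 0 0 (by simp [e])).1
  have v0 : v ≠ 0 := fun e => one_ne_zero (hl 0 1 0 (by simp [e])).2.1
  have w0 : w ≠ 0 := fun e => one_ne_zero (hl 0 0 1 (by simp [e])).2.2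
  obtain ⟨l, a1, a2⟩ := l1 u hu u0
  obtain ⟨l', b1, b2⟩ := l1 v hv v0
  obtain ⟨l'', c1, c2⟩ := l1 w hw w0
  have l0 : l ≠ 0 := fun e => u0 (s3 u (by rw [a1, e, zero_smul]))
  have key : ∀ a : F, φ a * l' = l * a ∧ l'' = l := fun a => by
    obtain ⟨m, m1, -⟩ := l1 (u + a • v + w) (add_mem (add_mem hu (S.smul_mem a hv)) hw)
      fun e => one_ne_zero (hl 1 a 1 (by simpa using e)).1
    rw [s1, s1, s2, a1, b1, c1] at m1
    obtain ⟨k1, k2, k3⟩ := hl (l - m) (φ a * l' - m * a) (l'' - m) (by linear_combination (norm := module) m1)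
    rw [sub_eq_zero] at k1 k2 k3
    exact ⟨by rw [k2, k1], by rw [k3, k1]⟩
  have e1 : l' = l := by simpa using (key 1).1
  have e2 : l'' = l := (key 1).2
  subst e1 e2
  have φ1 : ∀ a, φ a = a := fun a => mul_right_cancel₀ l0 (by rw [(key a).1, mul_comm])
  simp only [φ1] at s2 a2 b2 c2
  have l2 : ∀ a ∈ S, a ≠ 0 → s a = l'' • a → (∀ x, bt (s x) a = bt x a * l'') → ∀ z, bt z z = 0 → bt z a = 0 →
      α (sh a z) = sh a z → ∃ k : F, s z + l'' • z = k • a := by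
    intro a ha a0 k1 k2 z z1 z2 z3
    obtain ⟨p, -, hp⟩ := H76.ex_hyp (v := a) ⟨hS a ha a ha, a0⟩
    have := s4 (sh a z) p
    rw [z3, H12.ac_sh (hS a ha a ha) z1 (H12.bt_sw z2), H12.ac_sh (hS a ha a ha) z1 (H12.bt_sw z2), s1, s1, s2, s2,
      k1, k2, hp] at this
    refine ⟨bt (s p) z - bt p z * l'', ?_⟩
    ext i
    have := congrFun this i
    simp only [Pi.add_apply, Pi.smul_apply, smul_eq_mul] at this ⊢
    linear_combination -this + l'' * z i * two
  have l3 : ∀ a c : V, (∀ k k' : F, k • a = k' • c → k = 0) → ∀ z, (∃ k : F, s z + l'' • z = k • a) →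
      (∃ k : F, s z + l'' • z = k • c) → s z = l'' • z := by
    rintro a c hac z ⟨k, hk⟩ ⟨k', hk'⟩
    rw [hac k k' (hk.symm.trans hk'), zero_smul] at hk
    exact veq hk
  have fu : ∀ z, bt z z = 0 → bt z v = 0 → bt z w = 0 → bt z u = 1 → s z = l'' • z := fun z z1 z2 z3 z4 =>
    l3 v w (fun k k' e => (hl 0 k k' (by rw [e, zero_smul, zero_add, vv])).2.1) z
      (l2 v hv v0 b1 b2 z z1 z2 (h2 v u w (by simp) z z1 z2 z3 z4))
      (l2 w hw w0 c1 c2 z z1 z3 (h2 w u v (by simp) z z1 z3 z2 z4))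
  have fv : ∀ z, bt z z = 0 → bt z u = 0 → bt z w = 0 → bt z v = 1 → s z = l'' • z := fun z z1 z2 z3 z4 =>
    l3 u w (fun k k' e => (hl k 0 k' (by rw [e, zero_smul, add_zero, vv])).1) z
      (l2 u hu u0 a1 a2 z z1 z2 (h2 u v w (by simp) z z1 z2 z3 z4))
      (l2 w hw w0 c1 c2 z z1 z3 (h2 w v u (by simp) z z1 z3 z2 z4))
  have fw : ∀ z, bt z z = 0 → bt z u = 0 → bt z v = 0 → bt z w = 1 → s z = l'' • z := fun z z1 z2 z3 z4 =>
    l3 u v (fun k k' e => (hl k k' 0 (by rw [e, zero_smul, add_zero, vv])).1) z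
      (l2 u hu u0 a1 a2 z z1 z2 (h2 u w v (by simp) z z1 z2 z3 z4))
      (l2 v hv v0 b1 b2 z z1 z3 (h2 v w u (by simp) z z1 z3 z2 z4))
  obtain ⟨p, p1, p2, p3, p4⟩ := dual (u := v) (v := u) (w := w) (hS u hu u hu) (hS u hu v hv) (hS u hu w hw)
    fun a b c e => by
      obtain ⟨k1, k2, k3⟩ := hl b a c (by rw [← e, add_comm (b • u)]); exact ⟨k2, k1, k3⟩
  obtain ⟨q, q1, q2, q3, q4⟩ := dual (hS v hv v hv) (hS v hv u hu) (hS v hv w hw) hl
  obtain ⟨r, r1, r2, r3, r4⟩ := dual (u := u) (v := w) (w := v) (hS w hw w hw) (hS w hw u hu) (hS w hw v hv)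
    fun a b c e => by
      obtain ⟨k1, k2, k3⟩ := hl a c b (by rw [← e, add_right_comm]); exact ⟨k1, k3, k2⟩
  have perp : ∀ y, bt y u = 0 → bt y v = 0 → bt y w = 0 → s y = l'' • y := fun y y1 y2 y3 => by
    obtain ⟨c, hc⟩ := iso_fix (z := q + y) (hS v hv v hv) (by rw [H12.bt_add_l, q4, y2, add_zero])
    have := fv _ hc (by rw [H12.bt_add_l, H12.bt_add_l, H12.bt_smul_l, q2, y1, hS v hv u hu]; simp)
      (by rw [H12.bt_add_l, H12.bt_add_l, H12.bt_smul_l, q3, y3, hS v hv w hw]; simp)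
      (by rw [H12.bt_add_l, H12.bt_add_l, H12.bt_smul_l, q4, y2, hS v hv v hv]; simp)
    rw [s1, s1, s2, b1, fv q q1 q2 q3 q4, smul_add, smul_add, smul_comm c] at this
    exact add_left_cancel (add_right_cancel this)
  have all : ∀ y, s y = l'' • y := fun y => by
    have := perp (y + (bt y u • p + bt y v • q + bt y w • r))
      (by simp only [H12.bt_add_l, H12.bt_smul_l, p4, q2, r2]; simp [CharTwo.add_self_eq_zero])
      (by simp only [H12.bt_add_l, H12.bt_smul_l, p2, q4, r3]; simp [CharTwo.add_self_eq_zero])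
      (by simp only [H12.bt_add_l, H12.bt_smul_l, p3, q3, r4]; simp [CharTwo.add_self_eq_zero])
    rw [s1, s1, s1, s2, s2, s2, fu p p1 p2 p3 p4, fv q q1 q2 q3 q4, fw r r1 r2 r3 r4, smul_add l'' y, smul_add,
      smul_add, smul_comm l'', smul_comm l'', smul_comm l''] at this
    exact add_right_cancel this
  refine H12.ac_ext fun y => ?_
  have := s4 x y
  rw [all, all, H12.ac_smul] at this
  exact smul_right_injective _ l0 this

local notation "DD[" W "," u "," v "," w "]" =>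
  W (u + v + w) * (W (u + v) * (W (u + w) * (W (v + w) * (W u * (W v * W w)))))

theorem cmW (h : C4 ι t) (k : Wt ι t W) {x y : V} (hx : bt x x = 0) (hy : bt y y = 0) (e : bt x y = 0) :
    W x * W y = W y * W x := by
  by_cases x0 : x = 0
  · rw [x0, k.zero, one_mul, mul_one]
  by_cases y0 : y = 0
  · rw [y0, k.zero, one_mul, mul_one]
  exact h.cm x y ⟨hx, x0⟩ ⟨hy, y0⟩ e _ _ _ _ (k.xs x ⟨hx, x0⟩) (k.xs y ⟨hy, y0⟩)

theorem sqW (k : Wt ι t W) {x : V} (hx : bt x x = 0) : W x * W x = 1 := by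
  by_cases x0 : x = 0
  · rw [x0, k.zero, one_mul]
  exact (k.xs x ⟨hx, x0⟩).2.2.1

theorem tW (k : Wt ι t W) {x : V} (hx : bt x x = 0) : W x * t * (W x)⁻¹ = t * ι (tc x 1) := by
  by_cases x0 : x = 0
  · have : tc (0 : V) 1 = 1 := H12.ac_ext fun y => by rw [H12.ac_tc (H12.bt_zero_l _), H12.ac_one]; simp
    rw [x0, k.zero, this]; simp
  exact (k.xs x ⟨hx, x0⟩).1.2

theorem lift (h : C4 ι t) (k : Wt ι t W) {S : Submodule F V} (hS : ∀ x ∈ S, ∀ y ∈ S, bt x y = 0) :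
    ∃ (A : Subgroup G) (f : V → A), (∀ a b : A, a * b = b * a) ∧ (∀ y ∈ S, W y = f y) ∧ ∀ y, f y * f y = 1 := by
  classical
  have hk : ∀ a ∈ W '' S, ∀ b ∈ W '' S, a * b = b * a := by
    rintro _ ⟨x, hx, rfl⟩ _ ⟨y, hy, rfl⟩
    exact cmW h k (hS x hx x hx) (hS y hy y hy) (hS x hx y hy)
  refine ⟨closure (W '' S), fun y => if hy : y ∈ S then ⟨W y, subset_closure ⟨y, hy, rfl⟩⟩ else 1,
    (closureCommGroupOfComm hk).mul_comm, fun y hy => by simp [hy], fun y => ?_⟩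
  by_cases hy : y ∈ S
  · simp only [hy, dif_pos]; exact Subtype.ext (sqW k (hS y hy y hy))
  · simp [hy]

theorem stp (k : Wt ι t W) {S : Submodule F V} (hS : ∀ x ∈ S, ∀ y ∈ S, bt x y = 0) {y : V} (hy : y ∈ S) {a : G}
    {f : V → V} (h : ∃ x : X, a * t * a⁻¹ = t * ι x ∧ (∀ p, ac x p = p + f p) ∧ (∀ p, f p ∈ S) ∧ ∀ p ∈ S, f p = 0) :
    ∃ x : X, W y * a * t * (W y * a)⁻¹ = t * ι x ∧ (∀ p, ac x p = p + (bt p y • y + f p)) ∧
      (∀ p, bt p y • y + f p ∈ S) ∧ ∀ p ∈ S, bt p y • y + f p = 0 := by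
  obtain ⟨x, h1, h2, h3, h4⟩ := h
  have yy := hS y hy y hy
  have c := k.eqv x y yy
  rw [h2, h4 y hy, add_zero, mul_inv_eq_iff_eq_mul] at c
  refine ⟨tc y 1 * x, ?_, fun p => ?_, fun p => add_mem (S.smul_mem _ hy) (h3 p), fun p hp => ?_⟩
  · calc W y * a * t * (W y * a)⁻¹ = W y * (a * t * a⁻¹) * (W y)⁻¹ := by group
      _ = W y * t * (W y)⁻¹ * (W y * ι x) * (W y)⁻¹ := by rw [h1]; group
      _ = t * ι (tc y 1 * x) := by rw [← c, tW k yy, map_mul]; group
  · rw [H12.ac_mul, h2, H12.ac_tc yy, H12.bt_add_l, hS _ (h3 p) y hy]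
    simp only [OneMemClass.coe_one, one_mul, add_zero]
    abel
  · rw [hS p hp y hy, h4 p hp, zero_smul, add_zero]

section D
variable (h : C4 ι t) (k : Wt ι t W) {S : Submodule F (VV n F)} (hS : ∀ x ∈ S, ∀ y ∈ S, bt x y = 0)
  {u v w : VV n F} (hu : u ∈ S) (hv : v ∈ S) (hw : w ∈ S)
include h k hS hu hv hw

theorem D_t : DD[W, u, v, w] * t = t * DD[W, u, v, w] := by
  have s0 : ∃ x : X, (1 : G) * t * 1⁻¹ = t * ι x ∧ (∀ p, ac x p = p + (fun _ => 0 : V → V) p) ∧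
      (∀ p, (fun _ => 0 : V → V) p ∈ S) ∧ ∀ p ∈ S, (fun _ => 0 : V → V) p = 0 :=
    ⟨1, by simp, fun p => by simp [H12.ac_one], fun _ => S.zero_mem, fun _ _ => rfl⟩
  obtain ⟨x, h1, h2, -⟩ := stp k hS (add_mem (add_mem hu hv) hw) (stp k hS (add_mem hu hv) (stp k hS (add_mem hu hw)
    (stp k hS (add_mem hv hw) (stp k hS hu (stp k hS hv (stp k hS hw s0))))))
  have : x = 1 := H12.ac_ext fun p => by
    rw [h2, H12.ac_one]
    ext i
    simp only [H12.bt_add_r, Pi.add_apply, Pi.smul_apply, smul_eq_mul, Pi.zero_apply]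
    have two : (2 : F) = 0 := CharTwo.two_eq_zero
    linear_combination (u i * (2 * bt p u + bt p v + bt p w) + v i * (bt p u + 2 * bt p v + bt p w) +
      w i * (bt p u + bt p v + 2 * bt p w)) * two
  rw [this, map_one, mul_one, mul_one, mul_inv_eq_iff_eq_mul] at h1
  exact h1

theorem D_cj (g : X) : ι g * DD[W, u, v, w] * (ι g)⁻¹ = DD[W, ac g u, ac g v, ac g w] := by
  have e : ∀ y ∈ S, MulAut.conj (ι g) (W y) = W (ac g y) := fun y hy => k.eqv g y (hS y hy y hy)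
  change MulAut.conj (ι g) _ = _
  simp only [map_mul]
  rw [e _ (add_mem (add_mem hu hv) hw), e _ (add_mem hu hv), e _ (add_mem hu hw), e _ (add_mem hv hw), e _ hu, e _ hv,
    e _ hw]
  simp only [H12.ac_add]

theorem D_all : DD[W, v, u, w] = DD[W, u, v, w] ∧ DD[W, u, w, v] = DD[W, u, v, w] ∧
    DD[W, u, v + u, w] = DD[W, u, v, w] ∧ DD[W, u, v, w] * DD[W, u, v, w] = 1 ∧
    DD[W, u, v, w] * W u = W u * DD[W, u, v, w] ∧ SS W u (v + w) = DD[W, u, v, w] * (SS W u v * SS W u w) := by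
  obtain ⟨A, f, c, e, q⟩ := lift h k hS
  letI : CommGroup A := { (inferInstance : Group A) with mul_comm := c }
  have e1 : u + (v + u) + w = v + w := by rw [add_comm v u, ← add_assoc, vv, zero_add]
  have e2 : u + (v + u) = v := by rw [add_comm v u, ← add_assoc, vv, zero_add]
  unfold SS
  rw [e1, e2, add_right_comm u w v, add_comm w v, add_comm v u, ← add_assoc u v w,
    e _ (add_mem (add_mem hu hv) hw), e _ (add_mem hu hv), e _ (add_mem hu hw), e _ (add_mem hv hw), e _ hu, e _ hv,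
    e _ hw]
  simp only [← Subgroup.coe_mul, ← OneMemClass.coe_one A, Subtype.coe_inj]
  have q1 := q (u + v + w); have q2 := q (u + v); have q3 := q (u + w); have q4 := q (v + w)
  have q5 := q u; have q6 := q v; have q7 := q w
  generalize f (u + v + w) = a at *
  generalize f (u + v) = b at *
  generalize f (u + w) = c' at *
  generalize f (v + w) = d at *
  generalize f u = x at *
  generalize f v = y at *
  generalize f w = z at *
  refine ⟨by ac_rfl, by ac_rfl, by ac_rfl, ?_, by ac_rfl, ?_⟩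
  · calc _ = (a * a) * (b * b) * (c' * c') * (d * d) * (x * x) * (y * y) * (z * z) := by ac_rfl
      _ = 1 := by rw [q1, q2, q3, q4, q5, q6, q7]; simp
  · symm
    calc _ = a * x * d * ((b * b) * (c' * c') * (x * x) * (y * y) * (z * z)) := by ac_rfl
      _ = _ := by rw [q2, q3, q5, q6, q7]; simp

theorem D_sh {z : V} (z1 : bt z z = 0) (z2 : bt z u = 0) (z3 : bt z w = 0) (z4 : bt z v = 1) :
    DD[W, u, v, w] * ι (sh u z) = ι (sh u z) * DD[W, u, v, w] := by
  have := D_cj h k hS hu hv hw (sh u z)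
  have uu := hS u hu u hu
  rw [H12.ac_sh uu z1 (H12.bt_sw z2), H12.ac_sh uu z1 (H12.bt_sw z2), H12.ac_sh uu z1 (H12.bt_sw z2), uu,
    H12.bt_sw z2, H12.bt_sw z3, hS v hv u hu, hS w hw u hu, H12.bt_symm z v, z4, map_one] at this
  simp only [zero_smul, add_zero, one_smul] at this
  rw [(D_all h k hS hu hv hw).2.2.1, mul_inv_eq_iff_eq_mul] at this
  exact this.symm

theorem sadd3 (hl : ∀ a b c : F, a • u + b • v + c • w = 0 → a = 0 ∧ b = 0 ∧ c = 0) :
    SS W u (v + w) = SS W u v * SS W u w := by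
  have h1 : C1 ι t := h.toC1
  obtain ⟨-, -, -, d2, du, ds⟩ := D_all h k hS hu hv hw
  have dt := D_t h k hS hu hv hw
  obtain ⟨α, φ, a1, a2⟩ := H77.Em.act h1.em (h1.CN _ dt)
  have p2 : ∀ a ∈ S, ∀ z, bt z z = 0 → bt z a = 0 → P2 (sh a z) := fun a ha z z1 z2 =>
    P2.of_sq (H12.sh_sq (hS a ha a ha) z1 (H12.bt_sw z2))
  have e1 := (D_all h k hS hu hv hw).1
  have e2 := (D_all h k hS hu hv hw).2.1
  have e3 := ((D_all h k hS hv hu hw).2.1).trans e1
  have e4 := ((D_all h k hS hu hw hv).1).trans e2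
  have e5 := ((D_all h k hS hw hu hv).2.1).trans e4
  have tr := triv a2 hS hu hv hw hl
    (fun y hy => H77.Act.fix' h1.em a1 (P2.of_sq (H12.tc_sq (hS y hy y hy) 1)) (by
      have := D_cj h k hS hu hv hw (tc y 1)
      have yy := hS y hy y hy
      rw [H12.ac_tc yy, H12.ac_tc yy, H12.ac_tc yy, hS u hu y hy, hS v hv y hy, hS w hw y hy] at this
      simp only [mul_zero, zero_smul, add_zero] at this
      rw [mul_inv_eq_iff_eq_mul] at this
      exact this.symm))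
    (by
      rintro a b c (⟨rfl, rfl, rfl⟩ | ⟨rfl, rfl, rfl⟩ | ⟨rfl, rfl, rfl⟩ | ⟨rfl, rfl, rfl⟩ | ⟨rfl, rfl, rfl⟩ |
        ⟨rfl, rfl, rfl⟩) z z1 z2 z3 z4
      · exact H77.Act.fix' h1.em a1 (p2 _ hu z z1 z2) (D_sh h k hS hu hv hw z1 z2 z3 z4)
      · exact H77.Act.fix' h1.em a1 (p2 _ hu z z1 z2) (e2 ▸ D_sh h k hS hu hw hv z1 z2 z3 z4)
      · exact H77.Act.fix' h1.em a1 (p2 _ hv z z1 z2) (e1 ▸ D_sh h k hS hv hu hw z1 z2 z3 z4)
      · exact H77.Act.fix' h1.em a1 (p2 _ hv z z1 z2) (e3 ▸ D_sh h k hS hv hw hu z1 z2 z3 z4)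
      · exact H77.Act.fix' h1.em a1 (p2 _ hw z z1 z2) (e4 ▸ D_sh h k hS hw hu hv z1 z2 z3 z4)
      · exact H77.Act.fix' h1.em a1 (p2 _ hw z z1 z2) (e5 ▸ D_sh h k hS hw hv hu z1 z2 z3 z4))
  have dc : DD[W, u, v, w] ∈ 𝐂(ι.range) := by
    rw [mem_centralizer_iff]
    rintro _ ⟨x, rfl⟩
    exact (H77.Act.fix a1 (tr x)).symm
  rcases h1.uq _ dc d2 dt with e | e
  · rw [ds, e, one_mul]
  · exfalso
    have uu := hS u hu u hu
    have := tW k uu
    rw [e] at du
    rw [← du, mul_inv_cancel_right, left_eq_mul, ← map_one ι] at this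
    have := H77.Em.inj2 h1.em (P2.of_sq (H12.tc_sq uu 1)) (P2.of_sq (mul_one 1)) this
    have u0 : u ≠ 0 := fun e => one_ne_zero (hl 1 0 0 (by simp [e])).1
    obtain ⟨p, -, hp⟩ := H76.ex_hyp (v := u) ⟨uu, u0⟩
    have k2 := H12.ac_tc uu 1 p
    rw [this, H12.ac_one, hp] at k2
    exact u0 (by simpa using k2)

end D

theorem span_ti {u v w : V} (h1 : bt u u = 0) (h2 : bt v v = 0) (h3 : bt w w = 0) (h4 : bt u v = 0) (h5 : bt u w = 0)
    (h6 : bt v w = 0) : ∀ x ∈ Submodule.span F {u, v, w}, ∀ y ∈ Submodule.span F {u, v, w}, bt x y = 0 := by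
  intro x hx y hy
  obtain ⟨a, b, c, rfl⟩ := Submodule.mem_span_triple.1 hx
  obtain ⟨a', b', c', rfl⟩ := Submodule.mem_span_triple.1 hy
  simp only [H12.bt_add_l, H12.bt_add_r, H12.bt_smul_l, H12.bt_smul_r, h1, h2, h3, h4, h5, h6, H12.bt_sw h4,
    H12.bt_sw h5, H12.bt_sw h6, mul_zero, add_zero]

theorem ext3 {u v : V} (o : Ot u v) : ∃ w, bt w w = 0 ∧ bt u w = 0 ∧ bt v w = 0 ∧
    ∀ a b c : F, a • u + b • v + c • w = 0 → a = 0 ∧ b = 0 ∧ c = 0 := by
  have hn : 3 ≤ n := Ok.h3 F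
  let i0 : Fin (n + 3) := ⟨0, by omega⟩
  let i1 : Fin (n + 3) := ⟨1, by omega⟩
  let i2 : Fin (n + 3) := ⟨2, by omega⟩
  have ne : ∀ i j : Fin (n + 3), i.1 ≤ 2 → j.1 ≤ 2 → i ≠ j.rev := fun i j hi hj e => by
    have := congrArg Fin.val e
    rw [Fin.val_rev] at this
    omega
  have o' : Ot (ee i0 : V) (ee i1) := H76.ot_ee (by simp [i0, i1]) (ne _ _ (by simp [i0]) (by simp [i0]))
    (ne _ _ (by simp [i1]) (by simp [i1])) (ne _ _ (by simp [i0]) (by simp [i1]))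
  obtain ⟨x, rfl, rfl⟩ := H76.tr_Ot (by omega) o' o
  refine ⟨ac x (ee i2), ?_, ?_, ?_, fun a b c e => ?_⟩
  · rw [H12.bt_ac, H76.bt_ee, if_neg (ne _ _ (by simp [i2]) (by simp [i2]))]
  · rw [H12.bt_ac, H76.bt_ee, if_neg (ne _ _ (by simp [i0]) (by simp [i2]))]
  · rw [H12.bt_ac, H76.bt_ee, if_neg (ne _ _ (by simp [i1]) (by simp [i2]))]
  · rw [← H12.ac_smul, ← H12.ac_smul, ← H12.ac_smul, ← H12.ac_add, ← H12.ac_add, ← H12.ac_zero x] at e
    have e := H12.ac_inj x e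
    refine ⟨?_, ?_, ?_⟩
    · simpa [ee, i0, i1, i2, Pi.single_apply, Fin.ext_iff] using congrFun e i0
    · simpa [ee, i0, i1, i2, Pi.single_apply, Fin.ext_iff] using congrFun e i1
    · simpa [ee, i0, i1, i2, Pi.single_apply, Fin.ext_iff] using congrFun e i2

theorem sadd (h : C4 ι t) (k : Wt ι t W) (u v v' : V) (o : Ot u v) (o' : Ot u v') (e : bt v v' = 0)
    (o'' : Ot u (v + v')) : SS W u (v + v') = SS W u v * SS W u v' := by
  by_cases hl : ∀ a b c : F, a • u + b • v + c • v' = 0 → a = 0 ∧ b = 0 ∧ c = 0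
  · exact sadd3 h k (span_ti o.1 o.2.1 o'.2.1 o.2.2.1 o'.2.2.1 e) (Submodule.subset_span (by simp))
      (Submodule.subset_span (by simp)) (Submodule.subset_span (by simp)) hl
  have p := LinearIndependent.pair_iff.1 o.2.2.2
  have p' := LinearIndependent.pair_iff.1 o'.2.2.2
  have p'' := LinearIndependent.pair_iff.1 o''.2.2.2
  obtain ⟨a, b, rfl⟩ : ∃ a b : F, v' = a • u + b • v := by
    simp only [not_forall] at hl
    obtain ⟨a, b, c, e1, e2⟩ := hl
    have c0 : c ≠ 0 := fun c0 => e2 (by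
      rw [c0, zero_smul, add_zero] at e1
      exact ⟨(p a b e1).1, (p a b e1).2, c0⟩)
    refine ⟨c⁻¹ * a, c⁻¹ * b, ?_⟩
    rw [mul_smul, mul_smul, ← smul_add, veq e1, smul_smul, inv_mul_cancel₀ c0, one_smul]
  have b0 : b ≠ 0 := fun b0 => one_ne_zero (p' (-a) 1 (by rw [b0]; module)).2
  have b1 : 1 + b ≠ 0 := fun b1 => one_ne_zero (p'' (-a) 1 (by
    have : b = -1 := by linear_combination b1
    rw [this]; module)).2
  obtain ⟨w, w1, w2, w3, w4⟩ := ext3 o
  have hS := span_ti o.1 o.2.1 w1 o.2.2.1 w2 w3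
  have hu : u ∈ Submodule.span F {u, v, w} := Submodule.subset_span (by simp)
  have hv : v ∈ Submodule.span F {u, v, w} := Submodule.subset_span (by simp)
  have hw : w ∈ Submodule.span F {u, v, w} := Submodule.subset_span (by simp)
  have hv' : a • u + b • v ∈ Submodule.span F {u, v, w} := add_mem (Submodule.smul_mem _ _ hu) (Submodule.smul_mem _ _ hv)
  have k1 := sadd3 h k hS hu (add_mem hv hv') hw fun x y z e => by
    obtain ⟨q1, q2, q3⟩ := w4 (x + y * a) (y * (1 + b)) z (by linear_combination (norm := module) e)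
    have y0 : y = 0 := (mul_eq_zero.1 q2).resolve_right b1
    exact ⟨by simpa [y0] using q1, y0, q3⟩
  have k2 := sadd3 h k hS hu hv (add_mem hv' hw) fun x y z e => by
    obtain ⟨q1, q2, q3⟩ := w4 (x + z * a) (y + z * b) z (by linear_combination (norm := module) e)
    exact ⟨by simpa [q3] using q1, by simpa [q3] using q2, q3⟩
  have k3 := sadd3 h k hS hu hv' hw fun x y z e => by
    obtain ⟨q1, q2, q3⟩ := w4 (x + y * a) (y * b) z (by linear_combination (norm := module) e)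
    have y0 : y = 0 := (mul_eq_zero.1 q2).resolve_right b0
    exact ⟨by simpa [y0] using q1, y0, q3⟩
  rw [add_assoc, k2, k3, ← mul_assoc] at k1
  exact (mul_right_cancel k1).symm

theorem Ot_symm {u v : V} (o : Ot u v) : Ot v u :=
  ⟨o.2.1, o.1, H12.bt_sw o.2.2.1, LinearIndependent.pair_symm_iff.1 o.2.2.2⟩

theorem Ot_smul {u v : V} (o : Ot u v) {a b : F} (ha : a ≠ 0) (hb : b ≠ 0) : Ot (a • u) (b • v) := by
  refine ⟨?_, ?_, ?_, LinearIndependent.pair_iff.2 fun x y e => ?_⟩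
  · rw [H12.bt_smul_l, H12.bt_smul_r, o.1]; simp
  · rw [H12.bt_smul_l, H12.bt_smul_r, o.2.1]; simp
  · rw [H12.bt_smul_l, H12.bt_smul_r, o.2.2.1]; simp
  · rw [smul_smul, smul_smul] at e
    obtain ⟨p, q⟩ := LinearIndependent.pair_iff.1 o.2.2.2 _ _ e
    exact ⟨(mul_eq_zero.1 p).resolve_right ha, (mul_eq_zero.1 q).resolve_right hb⟩

theorem SS_symm (h : C4 ι t) (k : Wt ι t W) {u v : V} (hu : bt u u = 0) (hv : bt v v = 0) (e : bt u v = 0) :
    SS W u v = SS W v u := by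
  unfold SS; rw [add_comm v u, mul_assoc, mul_assoc, cmW h k hu hv e]

theorem SS_zero_r (k : Wt ι t W) {u : V} (hu : bt u u = 0) : SS W u 0 = 1 := by
  unfold SS; rw [add_zero, k.zero, mul_one, sqW k hu]

theorem SS_zero_l (k : Wt ι t W) {u : V} (hu : bt u u = 0) : SS W 0 u = 1 := by
  unfold SS; rw [zero_add, k.zero, mul_one, sqW k hu]

theorem SS_sq (h : C4 ι t) (k : Wt ι t W) {u v : V} (hu : bt u u = 0) (hv : bt v v = 0) (e : bt u v = 0) :
    SS W u v * SS W u v = 1 := by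
  have e' := H12.bt_sw e
  have s : bt (u + v) (u + v) = 0 := by simp [H12.bt_add_l, H12.bt_add_r, hu, hv, e, e']
  have c1 : Commute (W (u + v)) (W u) := cmW h k s hu (by simp [H12.bt_add_l, hu, e'])
  have c2 : Commute (W (u + v)) (W v) := cmW h k s hv (by simp [H12.bt_add_l, hv, e])
  have c3 : Commute (W u) (W v) := cmW h k hu hv e
  unfold SS
  rw [← sq, (c2.mul_left c3).mul_pow, c1.mul_pow, sq, sq, sq, sqW k s, sqW k hu, sqW k hv]; simp

theorem badd (h : C4 ι t) (k : Wt ι t W) {u v : V} (o : Ot u v) (a b b' : F) :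
    SS W (a • u) ((b + b') • v) = SS W (a • u) (b • v) * SS W (a • u) (b' • v) := by
  have i1 : ∀ a : F, bt (a • u) (a • u) = 0 := fun a => by rw [H12.bt_smul_l, H12.bt_smul_r, o.1]; simp
  have i2 : ∀ a b : F, bt (a • v) (b • v) = 0 := fun a b => by rw [H12.bt_smul_l, H12.bt_smul_r, o.2.1]; simp
  have i3 : ∀ a b : F, bt (a • u) (b • v) = 0 := fun a b => by rw [H12.bt_smul_l, H12.bt_smul_r, o.2.2.1]; simp
  by_cases a0 : a = 0
  · rw [a0, zero_smul, SS_zero_l k (i2 _ _), SS_zero_l k (i2 _ _), SS_zero_l k (i2 _ _), one_mul]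
  by_cases b0 : b = 0
  · rw [b0, zero_add, zero_smul, SS_zero_r k (i1 _), one_mul]
  by_cases b0' : b' = 0
  · rw [b0', add_zero, zero_smul, SS_zero_r k (i1 _), mul_one]
  by_cases b1 : b + b' = 0
  · rw [b1, zero_smul, SS_zero_r k (i1 _), ← CharTwo.add_eq_zero.1 b1, SS_sq h k (i1 _) (i2 _ _) (i3 _ _)]
  rw [add_smul]
  exact sadd h k _ _ _ (Ot_smul o a0 b0) (Ot_smul o a0 b0') (i2 _ _) (by rw [← add_smul]; exact Ot_smul o a0 b1)

theorem all_sc (R : F → Prop) (h1 : ∀ a b, R a → R b → R (a + b)) (h2 : ∀ a b, R a → R b → R (a * b))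
    (h3 : ∀ a, a ≠ 0 → R a → R a⁻¹) (h4 : ∀ a, a * σ a = 1 → R a) (a : F) : R a := by
  obtain ⟨e, he⟩ := H12.ex_tr (F := F)
  have two : (2 : F) = 0 := CharTwo.two_eq_zero
  have r1 : ∀ c : F, σ c = c → R (e + c) := fun c hc => by
    have s : σ (e + c) = e + c + 1 := by rw [map_add, hc]; linear_combination he - e * two
    have x0 : e + c ≠ 0 := fun x0 => by rw [x0] at s; simp at s
    have x1 : e + c + 1 ≠ 0 := by rw [← s]; exact (map_ne_zero_iff _ (σ : RingAut F).injective).2 x0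
    have k : R ((e + c + 1) * (e + c)⁻¹) := h4 _ (by
      rw [map_mul, map_inv₀, map_add σ (e + c), s, map_one, add_assoc (e + c), CharTwo.add_self_eq_zero, add_zero]
      field_simp)
    have k' := h1 _ _ k (h4 1 (by simp))
    have : (e + c + 1) * (e + c)⁻¹ + 1 = (e + c)⁻¹ := by
      rw [add_mul, mul_inv_cancel₀ x0]; linear_combination two
    rw [this] at k'
    simpa using h3 _ (inv_ne_zero x0) k'
  have r0 : R e := by simpa using r1 0 (map_zero _)
  have r2 : ∀ c : F, σ c = c → R c := fun c hc => by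
    have := h1 _ _ r0 (r1 c hc)
    rwa [← add_assoc, CharTwo.add_self_eq_zero, zero_add] at this
  have y1 : σ (a + σ a) = a + σ a := by rw [map_add, H12.ss, add_comm]
  have := h1 _ _ (r2 (a + (a + σ a) * e) (by
    rw [map_add, map_mul, y1]
    linear_combination (a + σ a) * he + (σ a - (a + σ a) * e) * two)) (h2 _ _ (r2 _ y1) r0)
  rwa [add_assoc, CharTwo.add_self_eq_zero, add_zero] at this

theorem W_n1 (k : Wt ι t W) {e : F} (he : e * σ e = 1) {x : V} (hx : bt x x = 0) : W (e • x) = W x := by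
  have := k.add x hx e 0 1 (by rw [nm_zero, add_zero, nm_one]; exact Subtype.ext he)
  rwa [zero_smul, k.zero, mul_one, one_smul] at this

theorem bsc (h : C4 ι t) (k : Wt ι t W) {u v : V} (o : Ot u v) (a : F) :
    ∀ b c : F, SS W ((σ a * b) • u) (c • v) = SS W (b • u) ((a * c) • v) := by
  have i1 : ∀ a : F, bt (a • u) (a • u) = 0 := fun a => by rw [H12.bt_smul_l, H12.bt_smul_r, o.1]; simp
  have i2 : ∀ a : F, bt (a • v) (a • v) = 0 := fun a => by rw [H12.bt_smul_l, H12.bt_smul_r, o.2.1]; simp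
  have i3 : ∀ a b : F, bt (a • u) (b • v) = 0 := fun a b => by rw [H12.bt_smul_l, H12.bt_smul_r, o.2.2.1]; simp
  have sy : ∀ a b : F, SS W (a • u) (b • v) = SS W (b • v) (a • u) := fun a b => SS_symm h k (i1 _) (i2 _) (i3 _ _)
  refine all_sc (fun a => ∀ b c : F, SS W ((σ a * b) • u) (c • v) = SS W (b • u) ((a * c) • v)) ?_ ?_ ?_ ?_ a
  · intro a a' r r' b c
    rw [map_add, add_mul, add_mul, badd h k o, sy, badd h k (Ot_symm o), ← sy, ← sy, r, r']
  · intro a a' r r' b c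
    rw [map_mul, mul_assoc, r, r', mul_left_comm, mul_assoc]
  · intro a a0 r b c
    have := r (σ a⁻¹ * b) (a⁻¹ * c)
    rw [← mul_assoc, ← map_mul, ← mul_assoc, mul_inv_cancel₀ a0, map_one, one_mul, one_mul] at this
    exact this.symm
  · intro e he b c
    have s : bt ((σ e * b) • u + c • v) ((σ e * b) • u + c • v) = 0 := by
      rw [H12.bt_add_l, H12.bt_add_r, H12.bt_add_r, i1, i2, i3, H12.bt_sw (i3 _ _)]; simp
    unfold SS
    rw [← W_n1 k he s, ← W_n1 k he (i1 (σ e * b)), ← W_n1 k he (i2 c), smul_add, smul_smul, smul_smul, ← mul_assoc, he,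
      one_mul]

theorem w2 (h : C4 ι t) (k : Wt ι t W) : W2 ι t W :=
  { k with
    sadd := sadd h k
    sc := fun u v a o => by simpa using (bsc h k o a 1 1).symm }

end H87
end UMS
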