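import Cfsg.Agent.Lib.UMS.S670
import Cfsg.Agent.Lib.UMS.Defs2
import Cfsg.Agent.Lib.UMS.CE94

/-! Over the field with four elements the normaliser of `P` acts semilinearly on `Q / Z`. -/

set_option autoImplicit false
set_option linter.unusedSectionVars false

namespace UMS

open Subgroup H69 Cfsg Matrix U4S
open LMS (XX GX iL kk MM au tw Sg)
open scoped MatrixGroups commutatorElement

universe u
variable {G : Type*} [Group G] [Finite G] {F : Type u} [Field F] [CharP F 2] [Fintype F] [Hs F] {n : ℕ} [Ok n F]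
  {ι : XU n F →* G} {g : G}

local notation "X" => XU n F
local notation "V" => VV n F
local notation "𝐪" => Nat.card (K0 F)
local notation "I" => Fin (n + 3)
local notation "Q" => QQ n F

namespace H80

theorem mi_add {u v : V} (h : Mi u) (k : Mi v) : Mi (u + v) :=
  ⟨by rw [Pi.add_apply, h.1, k.1, add_zero], by rw [Pi.add_apply, h.2, k.2, add_zero]⟩

theorem vv (v : V) : v + v = 0 := funext fun j => CharTwo.add_self_eq_zero (v j)

theorem k01 (h2 : 𝐪 = 2) {a : F} (h : σ a = a) : a = 0 ∨ a = 1 := by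
  have := sg_pow a
  rw [h2, h, sq] at this
  by_cases e : a = 0
  · exact .inl e
  · exact .inr (mul_left_cancel₀ e (by rw [mul_one, ← this]))

theorem exd (e : Em ι) (hQ : g ∈ 𝐍((Q).map ι)) (hz : Cn ι (ZZ n F) g) : ∃ δ : V → V, (∀ w, Mi (δ w)) ∧
    ∀ x ∈ Q, ∀ x' ∈ Q, g * ι x * g⁻¹ = ι x' → cv x' = δ (cv x) := by
  have : ∀ w : V, ∃ x ∈ Q, Mi w → cv x = w := fun w => by
    by_cases h : Mi w
    · obtain ⟨x, hx, k⟩ := cv_surj h
      exact ⟨x, hx, fun _ => k⟩
    · exact ⟨1, one_mem _, fun k => absurd k h⟩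
  choose s sQ sv using this
  choose f fQ hf using fun w => S670.exQ hQ (sQ w)
  refine ⟨fun w => cv (f w), fun w => cv_mi _, fun x hx x' hx' k => ?_⟩
  obtain ⟨c, hc⟩ := S670.Q_eq (sQ (cv x)) hx (sv _ (cv_mi x)).symm
  have z : (zz c : X) ∈ ZZ n F := mem_ZZ.2 ⟨c, rfl⟩
  have m := mul_mem (fQ (cv x)) (ZZ_le_QQ z)
  have : x' = f (cv x) * zz c := H94.inj2 e (H94.p2Q hx') (H94.p2Q m) (by
    rw [← k, map_mul, ← hf]
    nth_rewrite 1 [hc]
    rw [map_mul, mul_assoc (g * _) g⁻¹, (Commute.inv_left (hz _ z) : _ * _ = _)]; group)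
  rw [this, cv_mul (fQ _) (ZZ_le_QQ z), (cv_ker (ZZ_le_QQ z)).2 z, add_zero]

/-- an additive map of order three commuting with the transvections is scalar on isotropic lines -/
theorem line (h2 : 𝐪 = 2) {θ : V → V} (mi : ∀ w, Mi (θ w)) (ad : ∀ v w, Mi v → Mi w → θ (v + w) = θ v + θ w)
    (t3 : ∀ u, Mi u → θ (θ u) = θ u + u) {a b : V} (ha : Mi a) (hb : Mi b) (ba : bt b a ≠ 0)
    (k : ∀ u, Mi u → θ (bt u a • a) = bt (θ u) a • a) :
    ∃ l : F, l + σ l = 1 ∧ ∀ u, Mi u → bt (θ u) a = l * bt u a := by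
  have a0 : a ≠ 0 := fun e => ba (by rw [e]; simp [bt])
  have z : θ 0 = 0 := by
    have m : Mi (0 : V) := ⟨rfl, rfl⟩
    have := ad 0 0 m m
    rwa [add_zero, vv] at this
  have e1 := k _ (S670.mi_smul hb (bt b a)⁻¹)
  rw [bt_smul_left, inv_mul_cancel₀ ba, one_smul] at e1
  generalize bt (θ _) a = l at e1
  have e2 := t3 a ha
  rw [e1] at e2
  have tr : l + σ l = 1 := by
    rcases k01 h2 (a := l + σ l) (by rw [map_add, sg_sg, add_comm]) with h | h
    · rcases k01 h2 (a := l) (CharTwo.add_eq_zero.1 h).symm with rfl | rfl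
      · rw [zero_smul, z, zero_add] at e2
        exact absurd e2.symm a0
      · rw [one_smul] at e1 e2
        rw [vv, e1] at e2
        exact absurd e2 a0
    · exact h
  have ll : l * l = l + 1 := by
    have := sg_pow l
    rw [h2, sq] at this
    rw [← this, ← tr, ← add_assoc, CharTwo.add_self_eq_zero, zero_add]
  have sc : ∀ c : F, θ (c • a) = (l * c) • a := fun c => by
    obtain ⟨x, y, rfl⟩ := dec_om tr c
    rcases k01 h2 (mem_K0.1 x.2) with hx | hx <;> rcases k01 h2 (mem_K0.1 y.2) with hy | hy <;> rw [hx, hy]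
    · simp [z]
    · rw [zero_add, one_mul, e2, ll, add_smul, one_smul]
    · simp [e1]
    · rw [one_mul, add_smul, one_smul, ad _ _ ha (S670.mi_smul ha _), e1, e2, mul_add, ll, mul_one, add_smul,
        add_smul, one_smul]
  exact ⟨l, tr, fun u hu => smul_left_injective F a0 ((k u hu).symm.trans (sc _))⟩

theorem scal (h2 : 𝐪 = 2) {θ : V → V} (mi : ∀ w, Mi (θ w)) (ad : ∀ v w, Mi v → Mi w → θ (v + w) = θ v + θ w)
    (t3 : ∀ u, Mi u → θ (θ u) = θ u + u)
    (k : ∀ a, Mi a → bt a a = 0 → ∀ u, Mi u → θ (bt u a • a) = bt (θ u) a • a) :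
    ∃ l : F, l + σ l = 1 ∧ ∀ u, Mi u → θ u = l • u := by
  have h3 : 3 ≤ n := Ok.h3 (F := F)
  obtain ⟨i, i0, iL', ir⟩ : ∃ i : I, i ≠ 0 ∧ i ≠ iL ∧ i ≠ i.rev :=
    ⟨⟨1, by omega⟩, by simp [Fin.ext_iff], by simp [Fin.ext_iff, iL], by simp [Fin.ext_iff]; omega⟩
  have r0 : i.rev ≠ 0 := fun e => iL' (by rw [← Fin.rev_rev i, e]; rfl)
  have rL : i.rev ≠ iL := fun e => i0 (by rw [← Fin.rev_rev i, e]; exact Fin.rev_last _)
  have me : Mi (ee i : V) := by simpa using H94.mi_ee i0 iL' (1 : F)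
  have mf : Mi (ee i.rev : V) := by simpa using H94.mi_ee r0 rL (1 : F)
  have ie : bt (ee i : V) (ee i) = 0 := (is_ee ir).1
  have jf : bt (ee i.rev : V) (ee i.rev) = 0 := (is_ee (by rw [Fin.rev_rev]; exact ir.symm)).1
  have fe : bt (ee i.rev : V) (ee i) = 1 := by rw [bt_ee]; simp [ee]
  have ef : bt (ee i : V) (ee i.rev) = 1 := by rw [bt_symm, fe, map_one]
  obtain ⟨l, tr, hl⟩ := line h2 mi ad t3 me mf (by rw [fe]; exact one_ne_zero) (k _ me ie)
  have te : θ (ee i) = l • ee i := by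
    have := k _ me ie _ mf
    rwa [hl _ mf, fe, one_smul, mul_one] at this
  have K : ∀ a, Mi a → bt a a = 0 → bt (ee i) a = 1 → ∀ u, Mi u → bt (θ u) a = l * bt u a := fun a ha ia ea => by
    obtain ⟨l', -, h'⟩ := line h2 mi ad t3 ha me (by rw [ea]; exact one_ne_zero) (k _ ha ia)
    have := h' _ me
    rw [te, bt_smul_left, ea, mul_one, mul_one] at this
    rwa [this]
  refine ⟨l, tr, fun u hu => S670.Tr_nd (mi u) (S670.mi_smul hu l) fun w hw => ?_⟩
  suffices s : bt (θ u) w = bt (l • u) w from Subtype.ext (by simp only [S670.Tr, s])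
  obtain ⟨y, hy⟩ : ∃ y, y = w + σ (1 + bt (ee i) w) • ee i.rev := ⟨_, rfl⟩
  have my : Mi y := hy ▸ mi_add hw (S670.mi_smul mf _)
  have ey : bt (ee i) y = 1 := by
    rw [hy, bt_add_right, bt_smul_right, sg_sg, ef, mul_one, add_comm 1, ← add_assoc, CharTwo.add_self_eq_zero, zero_add]
  have ye : bt y (ee i) = 1 := by rw [bt_symm, ey, map_one]
  obtain ⟨c, hc⟩ := tr_surj (⟨bt y y, (bt_symm y y).symm⟩ : K0 F)
  have k1 := K (y + c • ee i) (mi_add my (S670.mi_smul me _)) (by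
    simp only [bt_add_left, bt_add_right, bt_smul_left, bt_smul_right, ey, ye, ie]
    change _ = bt y y at hc
    linear_combination hc + bt y y * (CharTwo.two_eq_zero : (2 : F) = 0))
    (by rw [bt_add_right, bt_smul_right, ie, ey, mul_zero, add_zero]) u hu
  have k2 := K _ mf jf ef u hu
  have k3 := hl u hu
  rw [hy] at k1
  simp only [bt_add_right, bt_smul_right, k2, k3] at k1
  rw [bt_smul_left]
  linear_combination k1

theorem exDl (e : Em ι) (h2 : 𝐪 = 2) (z : Nz ι g) : ∃ δ φ, Dl ι g δ φ := by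
  have z' : Cn ι (ZZ n F) g⁻¹ := fun x hx => Commute.inv_left (z.cZ x hx)
  obtain ⟨δ, m, hδ⟩ := exd e z.nQ z.cZ
  obtain ⟨ε, m', hε⟩ := exd e (inv_mem z.nQ) z'
  have ex : ∀ w : V, Mi w → ∃ x ∈ Q, ∃ x' ∈ Q, cv x = w ∧ g * ι x * g⁻¹ = ι x' := fun w hw => by
    obtain ⟨x, hx, k⟩ := cv_surj hw
    obtain ⟨x', hx', k'⟩ := S670.exQ z.nQ hx
    exact ⟨x, hx, x', hx', k, k'⟩
  have εδ : ∀ w, Mi w → ε (δ w) = w := fun w hw => by
    obtain ⟨x, hx, x', hx', rfl, k⟩ := ex w hw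
    rw [← hδ x hx x' hx' k, ← hε x' hx' x hx (by rw [← k]; group)]
  have δε : ∀ w, Mi w → δ (ε w) = w := fun w hw => by
    obtain ⟨x, hx, rfl⟩ := cv_surj hw
    obtain ⟨x', hx', k⟩ := S670.exQ (inv_mem z.nQ) hx
    rw [← hε x hx x' hx' k, ← hδ x' hx' x hx (by rw [← k]; group)]
  have ad : ∀ v w, Mi v → Mi w → δ (v + w) = δ v + δ w := fun v w hv hw => by
    obtain ⟨x, hx, x', hx', rfl, k⟩ := ex v hv
    obtain ⟨y, hy, y', hy', rfl, k'⟩ := ex w hw
    rw [← cv_mul hx hy, ← hδ x hx x' hx' k, ← hδ y hy y' hy' k', ← cv_mul hx' hy']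
    exact (hδ _ (mul_mem hx hy) _ (mul_mem hx' hy') (by rw [map_mul, map_mul, ← k, ← k']; group)).symm
  have ad' : ∀ v w, Mi v → Mi w → ε (v + w) = ε v + ε w := fun v w hv hw => by
    rw [← εδ _ (mi_add (m' v) (m' w)), ad _ _ (m' v) (m' w), δε v hv, δε w hw]
  have tr : ∀ v w, Mi v → Mi w → S670.Tr (δ v) (δ w) = S670.Tr v w := fun v w hv hw => by
    obtain ⟨x, hx, x', hx', rfl, k⟩ := ex v hv
    obtain ⟨y, hy, y', hy', rfl, k'⟩ := ex w hw
    have := S670.form hx hy hx' hy' k k'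
    rw [z.cZ _ (mem_ZZ.2 ⟨_, rfl⟩), mul_inv_cancel_right] at this
    rw [← hδ x hx x' hx' k, ← hδ y hy y' hy' k']
    exact (S670.z_inj e this).symm
  obtain ⟨ω, hω⟩ := ex_om (F := F)
  have ωω : ω * ω = ω + 1 := by
    have := sg_pow ω
    rw [h2, sq] at this
    rw [← this, ← hω, ← add_assoc, CharTwo.add_self_eq_zero, zero_add]
  obtain ⟨l, hl, sc⟩ := scal h2 (θ := fun u => δ (ω • ε u)) (fun _ => m _)
    (fun v w hv hw => by rw [ad' v w hv hw, smul_add, ad _ _ (S670.mi_smul (m' _) _) (S670.mi_smul (m' _) _)])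
    (fun u hu => by
      rw [εδ _ (S670.mi_smul (m' _) _), smul_smul, ωω, add_smul, one_smul, ad _ _ (S670.mi_smul (m' _) _) (m' _),
        δε u hu])
    (fun a ha ia u hu => by
      have T : (tc a 1 : X) ∈ PP n F := tc_St ia (H94.b2 ha) 1
      obtain ⟨p, hp, ep⟩ : g⁻¹ * ι (tc a 1) * g⁻¹⁻¹ ∈ (PP n F).map ι :=
        (mem_normalizer_iff.1 (inv_mem z.nP) _).1 ⟨_, T, rfl⟩
      have B : ∀ w, Mi w → Mi (fun j => if j = 0 then 0 else ac p w j) ∧
          δ (fun j => if j = 0 then 0 else ac p w j) = δ w + bt (δ w) a • a := fun w hw => by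
        obtain ⟨x, hx, x', hx', rfl, k⟩ := ex w hw
        have e1 : (fun j => if j = 0 then 0 else ac p (cv x) j) = cv (p * x * p⁻¹) := funext fun j => by
          split_ifs with j0
          · rw [j0, (cv_mi _).1]
          · rw [cv_cj hp hx j0]
        rw [e1, ← hδ _ ((mem_normalizer_iff.1 (PP_nQ hp) _).1 hx) _ ((mem_normalizer_iff.1 (PP_nQ T) _).1 hx')
          (by simp only [map_mul, map_inv, ep, ← k]; group), ← hδ x hx x' hx' k]
        refine ⟨cv_mi _, funext fun j => ?_⟩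
        by_cases j0 : j = 0
        · rw [j0, (cv_mi _).1, (mi_add (cv_mi x') (S670.mi_smul ha _)).1]
        · rw [cv_cj T hx' j0, ac_tc ia]; simp
      obtain ⟨b1, b2⟩ := B _ (m' u)
      obtain ⟨b3, b4⟩ := B _ (S670.mi_smul (m' u) ω)
      have b5 : ε (bt u a • a) = (fun j => if j = 0 then 0 else ac p (ε u) j) + ε u := by
        rw [← εδ _ (mi_add b1 (m' u)), ad _ _ b1 (m' u), b2, δε u hu, add_right_comm, vv, zero_add]
      have b6 : ω • ((fun j => if j = 0 then 0 else ac p (ε u) j) + ε u) =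
          (fun j => if j = 0 then 0 else ac p (ω • ε u) j) + ω • ε u := by
        rw [smul_add, ac_smul]
        congr 1
        funext j
        by_cases j0 : j = 0 <;> simp [j0]
      rw [b5, b6, ad _ _ b3 (S670.mi_smul (m' u) ω), b4, add_right_comm, vv, zero_add])
  have s1 : ∀ w, Mi w → δ (ω • w) = l • δ w := fun w hw => by
    have := sc _ (m w)
    rwa [εδ w hw] at this
  obtain ⟨φ, ph, pω⟩ : ∃ φ : RingAut F, (φ = 1 ∨ φ = σ) ∧ φ ω = l := by
    have two : (2 : F) = 0 := CharTwo.two_eq_zero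
    rcases k01 h2 (a := l + ω) (by rw [map_add]; linear_combination hl + hω + (1 - l - ω) * two) with h | h
    · exact ⟨1, .inl rfl, (CharTwo.add_eq_zero.1 h).symm⟩
    · exact ⟨σ, .inr rfl, by linear_combination hω - h + 0 * two⟩
  have z0 : δ 0 = 0 := by
    have m : Mi (0 : V) := ⟨rfl, rfl⟩
    have := ad 0 0 m m
    rwa [add_zero, vv] at this
  have sm : ∀ (a : F) w, Mi w → δ (a • w) = φ a • δ w := fun a w hw => by
    obtain ⟨x, y, rfl⟩ := dec_om hω a
    rcases k01 h2 (mem_K0.1 x.2) with hx | hx <;> rcases k01 h2 (mem_K0.1 y.2) with hy | hy <;> rw [hx, hy]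
    · simp [z0]
    · rw [zero_add, one_mul, pω, s1 w hw]
    · simp
    · rw [one_mul, map_add, map_one, pω, add_smul, add_smul, one_smul, one_smul, ad _ _ hw (S670.mi_smul hw _), s1 w hw]
  refine ⟨δ, φ, ph, fun w _ => m w, ad, sm, fun v w hv hw => ?_, fun x hx => ?_⟩
  · have k1 := congrArg Subtype.val (tr v w hv hw)
    have k2 := congrArg Subtype.val (tr _ w (S670.mi_smul hv ω) hw)
    simp only [S670.Tr, s1 v hv, bt_smul_left, map_mul] at k1 k2
    have two : (2 : F) = 0 := CharTwo.two_eq_zero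
    rcases ph with rfl | rfl
    · change ω = l at pω
      subst pω
      change _ = bt v w
      linear_combination k2 + σ ω * k1 - (bt (δ v) (δ w) - bt v w) * hω
        - σ ω * (σ (bt (δ v) (δ w)) - σ (bt v w)) * two
    · subst pω
      rw [sg_sg] at k2
      linear_combination k2 + ω * k1 - (bt (δ v) (δ w) - σ (bt v w)) * hω
        - ω * (σ (bt (δ v) (δ w)) - bt v w) * two
  · obtain ⟨x', hx', k⟩ := S670.exQ z.nQ hx
    exact ⟨x', hx', k, hδ x hx x' hx' k⟩

end H80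

end UMS
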