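import Cfsg.Agent.Lib.UMS.HX
import Cfsg.Agent.Lib.UMS.B33
import Cfsg.Agent.Lib.LMS.FC1
import Cfsg.Agent.Lib.Unitary.Order

/-! The field case: involutions normalising the big group. -/

set_option autoImplicit false
set_option linter.unusedSectionVars false

namespace UMS.H38

open Subgroup H69 Cfsg Matrix U4S
open LMS (XX GX iL kk MM au tw Sg)
open scoped MatrixGroups commutatorElement

universe u
variable {G : Type*} [Group G] [Finite G] {F : Type u} [Field F] [CharP F 2] [Fintype F] [Hs F] {n : ℕ} [Ok n F]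
  {ι κ : XU n F →* G} {ψ : XX n F →* G} {t s : G} {E : Subgroup G}

theorem nt {q N m r : ℕ} (q2 : 2 ≤ q) (hr : r.Prime) (o : Odd N) (hm : m ≤ N + 1) (N2 : 2 ≤ N) (e : Even q)
    (hd : r ∣ q ^ N - 1) (hp : ∀ k, 0 < k → k < N → ¬ r ∣ q ^ k - 1) :
    ¬ r ∣ q ^ (m * (m - 1) / 2) * ∏ i ∈ Finset.range m, (if Even i then q ^ (i + 1) + 1 else q ^ (i + 1) - 1) := by
  have dv : ∀ k, 0 < k → r ∣ q ^ k - 1 → N ∣ k := fun k k0 hk => by
    have := Nat.dvd_gcd hd hk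
    rw [Nat.pow_sub_one_gcd_pow_sub_one] at this
    have g0 : 0 < Nat.gcd N k := Nat.gcd_pos_of_pos_right _ k0
    have g1 : Nat.gcd N k = N := le_antisymm (Nat.gcd_le_left _ (by omega)) (not_lt.1 fun l => hp _ g0 l this)
    exact g1 ▸ Nat.gcd_dvd_right N k
  have rq : ¬ r ∣ q := fun h => by
    have h1 : r ∣ q ^ N := h.trans (dvd_pow_self q (by omega))
    have h2 := Nat.dvd_sub h1 hd
    rw [Nat.sub_sub_self (Nat.one_le_pow _ _ (by omega))] at h2
    exact hr.one_lt.ne' (Nat.dvd_one.1 h2)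
  have r2 : r ≠ 2 := by
    rintro rfl
    have h1 : 2 ∣ q ^ N := e.two_dvd.trans (dvd_pow_self q (by omega))
    have := Nat.one_le_pow N q (by omega)
    omega
  intro h
  rcases (Nat.Prime.dvd_mul hr).1 h with h | h
  · exact rq (hr.dvd_of_dvd_pow h)
  obtain ⟨i, hi, h⟩ := (Prime.dvd_finset_prod_iff hr.prime _).1 h
  rw [Finset.mem_range] at hi
  split_ifs at h with ev
  · have h1 : r ∣ q ^ (2 * (i + 1)) - 1 := by
      rw [mul_comm 2, pow_mul, ← one_pow 2, Nat.sq_sub_sq]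
      exact h.mul_right _
    have h2 : N ∣ i + 1 := (Nat.Coprime.dvd_of_dvd_mul_left (Nat.coprime_two_right.2 o)
      (dv _ (by omega) h1))
    have h3 : r ∣ q ^ (i + 1) - 1 := hd.trans (Nat.pow_sub_one_dvd_pow_sub_one q h2)
    have h4 := Nat.dvd_sub h h3
    have := Nat.one_le_pow (i + 1) q (by omega)
    rw [show q ^ (i + 1) + 1 - (q ^ (i + 1) - 1) = 2 by omega] at h4
    exact r2 ((Nat.prime_dvd_prime_iff_eq hr Nat.prime_two).1 h4)
  · obtain ⟨c, hc⟩ := dv _ (by omega) h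
    have c1 : c = 1 := by
      rcases c with _ | _ | c
      · omega
      · rfl
      · nlinarith
    subst c1
    rw [mul_one] at hc
    exact ev (by rw [← hc] at o; exact Nat.not_odd_iff_even.1 (Nat.odd_add_one.1 o))

theorem cardF (n : ℕ) [Ok n F] : Nat.card F = Nat.card (K0 F) ^ 2 := by
  obtain ⟨q, i, -, -, rfl, -⟩ := B33.bridge (F := F) (n := n)
  rw [Nat.card_eq_fintype_card, i.1]

/-- the linear group over the fixed field is not a section of the unitary group -/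
theorem noSL (μ : XX n (K0 F) →* G) (e : LMS.Em μ) (h : μ.range ≤ κ.range) : False := by
  haveI : Fintype (K0 F) := Fintype.ofFinite _
  have h3 := Ok.h3 (n := n) F
  obtain ⟨q, i, -, θ, hq, -⟩ := B33.bridge (F := F) (n := n)
  obtain ⟨f, f0, hf⟩ := LMS.ZS.card_pow (F := K0 F)
  have q2 : 2 ≤ q := hq ▸ Finite.one_lt_card
  have qe : Even q := by rw [hq, hf]; exact (Nat.even_pow.2 ⟨even_two, f0.ne'⟩)
  obtain ⟨N, o, N1, N2⟩ : ∃ N, Odd N ∧ n + 2 ≤ N ∧ N ≤ n + 3 := by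
    rcases Nat.even_or_odd n with p | p
    · exact ⟨n + 3, p.add_odd (by decide), by omega, le_rfl⟩
    · exact ⟨n + 2, p.add_even even_two, le_rfl, by omega⟩
  obtain ⟨r, hr, hd, hp⟩ := Cfsg.Agent.S2904.result q N q2 (by omega)
    (by rintro ⟨-, rfl⟩; exact absurd o (by decide)) (by rintro ⟨rfl, -⟩; omega)
  have q1 : ¬ r ∣ q - 1 := by simpa using hp 1 one_pos (by omega)
  have h1 : ¬ r ∣ Nat.card (XU n F) := fun k => nt q2 hr o (by omega : n + 3 ≤ N + 1) (by omega) qe hd hp (by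
    rw [← H11.U.card_GU (F := F), H11.U.card_GU_eq_mul_card_SU (by omega), ← Nat.card_congr θ.toEquiv]
    exact k.mul_left _)
  have h2 : r ∣ Nat.card (XX n (K0 F)) := by
    refine ((Nat.Prime.dvd_mul hr).1 ?_).resolve_left q1
    rw [hq, H10.card_SL_fin _ (by omega), ← hq]
    refine Dvd.dvd.trans ?_ (Finset.dvd_prod_of_mem _ (Finset.mem_univ (⟨n + 3 - N, by omega⟩ : Fin (n + 3))))
    change r ∣ q ^ (n + 3) - q ^ (n + 3 - N)
    rw [show q ^ (n + 3) = q ^ (n + 3 - N) * q ^ N by rw [← pow_add]; congr 1; omega, ← Nat.mul_sub_one]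
    exact hd.mul_left _
  haveI := Fact.mk hr
  obtain ⟨ρ, hρ⟩ := exists_prime_orderOf_dvd_card' r h2
  obtain ⟨u, hu⟩ := h ⟨ρ, rfl⟩
  have h4 : μ ρ = 1 := by
    rw [← orderOf_eq_one_iff]
    refine Nat.eq_one_of_dvd_coprimes ((Nat.Prime.coprime_iff_not_dvd hr).2 h1) (hρ ▸ orderOf_map_dvd μ ρ) ?_
    rw [← hu]
    exact (orderOf_map_dvd κ u).trans (orderOf_dvd_natCard u)
  obtain ⟨c, c1, c2⟩ := Matrix.SpecialLinearGroup.mem_center_iff.1 (e h4)
  have c0 : c ≠ 0 := by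
    rintro rfl
    simp at c1
  refine q1 (hρ ▸ orderOf_dvd_of_pow_eq_one (Subtype.ext ?_))
  rw [Matrix.SpecialLinearGroup.coe_pow, ← c2, ← map_pow, hq, Nat.card_eq_fintype_card,
    FiniteField.pow_card_sub_one_eq_one c c0, map_one]
  rfl

theorem τ_xe (i j : Fin (n + 3)) (c : F) : τ (xe i j c : XX n F) = xe j.rev i.rev (σ c) := by
  change tw (fr σ (xe i j c : XX n F)) = _
  rw [LMS.fr_xe, LMS.tw_xe]

theorem tM (a : LMS.Act ψ t τ) : t ∈ 𝐍(ψ.range) := by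
  obtain ⟨g, hg⟩ := LMS.tw_au (n := n) (σ : RingAut F)
  exact LMS.Act.mem (g := g) (φ := σ) (ε := true) (hg ▸ a)

theorem odd (h : C1 ι t) (e : LMS.Em ψ) (res : ∀ x, ψ x.1 = ι x) (a : LMS.Act ψ t τ) :
    Odd (Nat.card ↥𝐂(ψ.range)) := by
  refine odd_of_inv h.t2 (normalizer_le_normalizer_centralizer _ (tM a)) fun c hc c2 ct => ?_
  refine (h.uq c (centralizer_anti ?_ hc) c2 ct).resolve_right fun k => (Hs.sg (F := F)).1 ?_
  · rintro _ ⟨x, rfl⟩
    exact ⟨_, res x⟩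
  · obtain ⟨g, hg⟩ := LMS.tw_au (n := n) (σ : RingAut F)
    refine LMS.nc1 (n := n) (g := g) (ε := true) fun b => ?_
    rw [← hg]
    exact a.fix' e (P2.of_sq (LMS.xe_sq _ _ _)) (k ▸ (hc _ ⟨_, rfl⟩).symm)

/-- an involution of field type -/
theorem fld (e : LMS.Em ψ) {g0 : GX n F} (a : LMS.Act ψ s (au g0 σ false)) (o : LMS.Ou g0 σ false)
    (pf : ∀ Y : Subgroup G, ⁅Y, Y⁆ = Y → (∀ y ∈ Y, y * s = s * y) → Y ≤ κ.range) : False := by
  haveI : Fintype (K0 F) := Fintype.ofFinite _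
  obtain ⟨C, hC⟩ := LMS.nfA o
  let f : K0 F →+* F := (K0 F).subtype
  let μ : XX n (K0 F) →* XX n F := (gc C).toMonoidHom.comp (Matrix.SpecialLinearGroup.map f)
  have hμ : ∀ x, μ x = gc C (Matrix.SpecialLinearGroup.map f x) := fun _ => rfl
  have inj : Function.Injective μ := fun x y e =>
    Subtype.ext (Matrix.map_injective f.injective (congrArg Subtype.val ((gc C).injective e)))
  have em : LMS.Em (ψ.comp μ) := fun x hx => mem_center_iff.2 fun y => inj (by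
    rw [map_mul, map_mul]; exact mem_center_iff.1 (e hx) _)
  refine noSL (κ := κ) (ψ.comp μ) em (pf _ (range_pf (H10.commutator_SL_eq_top_of_three_le (by simp)) _) ?_)
  rintro _ ⟨x, rfl⟩
  refine (a.fix ?_).symm
  rw [hμ, hC]; congr 1; exact Subtype.ext (Matrix.ext fun i j => (x.1 i j).2)

theorem zz_xe (c : K0 F) : (tc (ee 0) c : XU n F).1 = xe 0 iL (c : F) := by
  have h0 : (0 : Fin (n + 3)) ≠ iL := Fin.last_pos.ne
  refine Subtype.ext ?_
  rw [H12.tc_val (by rw [H12.bt_ee_r, Fin.rev_zero]; simp [ee, h0.symm]), H12.hm_ee, smul_single, smul_eq_mul, mul_one,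
    Fin.rev_zero, LMS.xe_val h0]

theorem st_PP {x : XU n F} (hx : x ∈ St {ee 0}) : x.1 ∈ LMS.PP F (0 : Fin (n + 3)) iL := by
  have h0 : (0 : Fin (n + 3)) ≠ iL := Fin.last_pos.ne
  have h1 : ac x (ee 0) = ee 0 := hx _ rfl
  refine (LMS.mem_PP h0).2 ⟨fun a => ?_, fun b => ?_⟩
  · have := congrFun h1 a
    simpa [ac, ee, one_apply, Pi.single_apply] using this
  · have := H12.bt_ac x (ee b) (ee 0)
    rw [h1, H12.bt_ee_r, H12.bt_ee_r, Fin.rev_zero] at this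
    simpa [ac, ee, one_apply, Pi.single_apply] using this

/-- an involution of graph-field type -/
theorem gf (e : LMS.Em ψ) (s2 : s * s = 1) {g0 : GX n F} (a : LMS.Act ψ s (au g0 σ true)) (o : LMS.Ou g0 σ true) :
    ∃ κ : XU n F →* G, Em κ ∧ (∀ x, s * κ x = κ x * s) ∧ κ.range ≤ ψ.range ∧
      ∀ c, ∃ u ∈ ψ.range, u * u = 1 ∧ D0 κ s (ee 0) c u := by
  have h0 : (0 : Fin (n + 3)) ≠ iL := Fin.last_pos.ne
  obtain ⟨C, hC⟩ := LMS.nfB o (Hs.sg (F := F)).1
  obtain ⟨ω, hω⟩ := LMS.sg_free (σ := (σ : RingAut F)) Hs.sg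
  let μ : XU n F →* XX n F := (gc C).toMonoidHom.comp (XU n F).subtype
  have hμ : ∀ x, μ x = gc C x.1 := fun _ => rfl
  have inj : Function.Injective μ := fun x y e => Subtype.ext ((gc C).injective e)
  refine ⟨ψ.comp μ, fun x hx => mem_center_iff.2 fun y => inj (by
      rw [map_mul, map_mul]; exact mem_center_iff.1 (e hx) _), fun x => a.fix (by
      rw [hμ, hC]; congr 1; exact x.2), by rintro _ ⟨x, rfl⟩; exact ⟨_, rfl⟩,
    fun c => ⟨ψ (gc C (xe 0 iL (ω * c))), ⟨_, rfl⟩,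
      by rw [← map_mul, ← map_mul, LMS.xe_sq, map_one, map_one], fun x hx => ?_, ?_⟩⟩
  · rw [MonoidHom.comp_apply, hμ, ← map_mul, ← map_mul, ← map_mul, ← map_mul, LMS.PP_cen h0 (st_PP hx)]
  · have h1 := a (gc C (xe 0 iL (ω * c)))
    rw [hC] at h1
    change _ = ψ (gc C (τ (xe 0 iL (ω * c)))) at h1
    rw [τ_xe, Fin.rev_last, Fin.rev_zero, map_mul σ, show σ (c : F) = c from c.2] at h1
    have h2 : (ψ.comp μ) (tc (ee 0) c) = ψ (gc C (xe 0 iL (σ ω * c))) * (ψ (gc C (xe 0 iL (ω * c))))⁻¹ := by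
      rw [MonoidHom.comp_apply, hμ, zz_xe, ← map_inv, ← map_inv, LMS.xe_inv, ← map_mul, ← map_mul, LMS.xe_mul,
        ← add_mul, add_comm (σ ω), hω, one_mul]
    rw [h2, ← h1, inv_eq_of_mul_eq_one_left s2, ← mul_assoc, ← mul_assoc, ← mul_assoc, s2, one_mul]

/-- an involution normalising the big group, with small rank and perfect subgroups, is of graph-field type -/
theorem typ (e : LMS.Em ψ) (s2 : s * s = 1) (hs : s ∈ 𝐍(ψ.range))
    (rk : ∀ B : Subgroup G, El B → (∀ b ∈ B, b * s = s * b) → Nat.card B ≤ 2 * Nat.card (K0 F) ^ (kk n * kk n))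
    (pf : ∀ Y : Subgroup G, ⁅Y, Y⁆ = Y → (∀ y ∈ Y, y * s = s * y) → Y ≤ κ.range) :
    ∃ κ : XU n F →* G, Em κ ∧ (∀ x, s * κ x = κ x * s) ∧ κ.range ≤ ψ.range ∧
      ∀ c, ∃ u ∈ ψ.range, u * u = 1 ∧ D0 κ s (ee 0) c u := by
  have hK := cardF (F := F) n
  have h3 := Ok.h3 (n := n) F
  have q2 : 2 ≤ Nat.card (K0 F) := Finite.one_lt_card
  have k3 : 3 ≤ kk n := by unfold kk; omega
  have bd : ∀ {B : Subgroup (XX n F)}, El B → (∀ b ∈ B.map ψ, b * s = s * b) →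
      ¬ Nat.card (K0 F) ^ (kk n * kk n + kk n) ≤ Nat.card B := fun {B} b1 b2 l => by
    have h1 := rk _ (b1.map ψ) b2
    rw [e.card2 b1.isP] at h1
    rw [pow_add] at l
    have h3 := Nat.le_of_mul_le_mul_left ((l.trans h1).trans_eq (mul_comm _ _)) (by positivity)
    have h4 := (Nat.pow_le_pow_left q2 2).trans (Nat.pow_le_pow_right (by omega) (by omega : 2 ≤ kk n))
    omega
  by_cases i : Inn ψ.range s
  · obtain ⟨u, c, u2, -, hc, k⟩ := e.deci i s2
    obtain ⟨z, hz⟩ := LMS.inv_J u2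
    have hJ := (LMS.isJ_kk (n := n) (F := F)).cj z⁻¹
    have hu : u ∈ LMS.JJ n F (kk n) ^ᶜ z⁻¹ := mem_cj'.2 ⟨_, hz, by group⟩
    refine (bd hJ.el (by
      rintro _ ⟨b, hb, rfl⟩
      rw [k, ← mul_assoc, hc _ ⟨b, rfl⟩, mul_assoc, mul_assoc, ← map_mul, ← map_mul, hJ.el.comm hb hu]) ?_).elim
    rw [hJ.card, hK, ← pow_mul]
    refine Nat.pow_le_pow_right (by omega) ?_
    have : kk n ≤ n + 3 - kk n := by unfold kk; omega
    have := Nat.mul_le_mul_left (kk n) this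
    unfold MM
    nlinarith
  obtain ⟨g0, φ, ε, a, o⟩ := e.ou hs s2 i
  cases ε with
  | false =>
    obtain rfl : φ = σ := LMS.aut_inv ⟨o.out.resolve_right (by simp), o.sq⟩ Hs.sg
    exact (fld e a o pf).elim
  | true =>
    by_cases p : φ = 1
    · subst p
      obtain ⟨B, b1, b2, b3⟩ := LMS.hf2 o
      rw [hK, ← pow_mul, mul_comm 2, pow_mul] at b3
      exact (bd b1 (LMS.FC1.fx a b2) ((Nat.pow_le_pow_iff_left two_ne_zero).1 b3)).elim
    · obtain rfl : φ = σ := LMS.aut_inv ⟨p, o.sq⟩ Hs.sg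
      exact gf e s2 a o

end UMS.H38
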