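import Cfsg.Agent.Lib.UMS.CE
import Cfsg.Agent.Lib.UMS.ISO
import Cfsg.Agent.Lib.UMS.BKb
import Cfsg.Agent.Lib.UMS.HX
import Cfsg.Agent.Lib.UMS.HY
import Cfsg.Agent.Lib.UMS.B7
import Cfsg.Agent.Lib.UMS.Wt87

/-! The field case: from a homomorphism on the special linear group to the configuration `Fc`. -/

set_option autoImplicit false
set_option linter.unusedSectionVars false

namespace UMS
namespace H18

open Subgroup H69 Cfsg Matrix U4S
open LMS (XX GX iL kk MM au tw Sg)
open scoped MatrixGroups commutatorElement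

universe u
variable {G : Type*} [Group G] [Finite G] {F : Type u} [Field F] [CharP F 2] [Fintype F] [Hs F] {n : ℕ} [Ok n F]
  {ι : XU n F →* G} {t : G} {E : Subgroup G}

local notation "X" => XU n F
local notation "V" => VV n F
local notation "I" => Fin (n + 3)
local notation "Mx" => Matrix (Fin (n + 3)) (Fin (n + 3)) F

/-- transvections of the special linear group -/
noncomputable abbrev tv (a b : V) : XX n F := mx (1 + hm a b)

theorem bt0 {u v : V} (h : bt u v = 0) : bt v u = 0 := by rw [bt_symm, h, map_zero]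

theorem tv_addr {u v w : V} (h : bt u v = 0) (k : bt u w = 0) : tv u (v + w) = tv u v * tv u w := by
  refine Subtype.ext ?_
  rw [Matrix.SpecialLinearGroup.coe_mul, mx_hm h, mx_hm k, mx_hm (by rw [bt_add_right, h, k, add_zero]),
    hm_add_right, add_mul, mul_add, mul_add, hm_mul, h, zero_smul]
  simp only [one_mul, mul_one, add_zero]; abel

theorem tv_addl {u v w : V} (h : bt v u = 0) (k : bt w u = 0) : tv (v + w) u = tv v u * tv w u := by
  refine Subtype.ext ?_
  rw [Matrix.SpecialLinearGroup.coe_mul, mx_hm h, mx_hm k, mx_hm (by rw [bt_add_left, h, k, add_zero]),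
    hm_add_left, add_mul, mul_add, mul_add, hm_mul, k, zero_smul]
  simp only [one_mul, mul_one, add_zero]; abel

theorem tv_sq {u v : V} (h : bt u v = 0) : tv u v * tv u v = 1 := by
  refine Subtype.ext ?_
  rw [Matrix.SpecialLinearGroup.coe_mul, mx_hm h, add_mul, mul_add, mul_add, hm_mul, h, zero_smul]
  simp only [one_mul, mul_one, add_zero, Matrix.SpecialLinearGroup.coe_one]
  rw [add_assoc, H12.mm, add_zero]

theorem tau_tv {u v : V} (h : bt u v = 0) : τ (tv u v) = tv v u := by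
  refine Subtype.ext ?_
  rw [H12.tau_val, inv_eq_of_mul_eq_one_left (tv_sq h), mx_hm h, mx_hm (bt0 h), H12.ad_add, H12.ad_one, H12.ad_hm]

theorem bee {i j : I} (h : i ≠ j) (a b : F) : bt (a • ee i : V) (b • ee j.rev) = 0 := by
  rw [bt_smul_left, bt_smul_right, H76.bt_ee, Fin.rev_rev, if_neg h, mul_zero, mul_zero]

theorem xe_tv {i j : I} (h : i ≠ j) (c : F) : (xe i j c : XX n F) = tv (c • ee i) (ee j.rev) := by
  refine Subtype.ext ?_
  have := bee (n := n) h c 1
  rw [one_smul] at this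
  rw [LMS.xe_val h, mx_hm this, hm_smul_left, hm_ee, Fin.rev_rev, Matrix.smul_single, smul_eq_mul, mul_one]

theorem ex_p (h3 : 3 ≤ n) (a : I) : ∃ p : I, p ≠ p.rev ∧ p ≠ a ∧ p ≠ a.rev := by
  by_cases h : a.1 = 0 ∨ a.1 = n + 2
  · refine ⟨⟨1, by omega⟩, fun e => ?_, fun e => ?_, fun e => ?_⟩ <;>
    · have := congrArg Fin.val e
      simp only [Fin.val_rev] at this
      omega
  · refine ⟨⟨0, by omega⟩, fun e => ?_, fun e => ?_, fun e => ?_⟩ <;>
    · have := congrArg Fin.val e
      simp only [Fin.val_rev] at this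
      omega

theorem ee_ap (i k : I) : (ee i : V) k = if k = i then 1 else 0 := by
  simp only [ee, Pi.single_apply]

/-- generation of the special linear group by the short transvections -/
theorem gen (H : Subgroup (XX n F)) (h : ∀ a b : V, Ot a b → tv a b ∈ H) : H = ⊤ := by
  obtain ⟨ω, hω⟩ := ex_om (F := F)
  have ω0 : ω ≠ 0 := by rintro rfl; simp at hω
  have A : ∀ i j : I, i ≠ i.rev → i ≠ j → i ≠ j.rev → ∀ c : F, c ≠ 0 →
      tv (c • ee i) (ee j) ∈ H ∧ tv (ee j) (c • ee i) ∈ H := by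
    intro i j hi hij hij' c hc
    by_cases hj : j = j.rev
    · obtain ⟨p, p1, p2, p3⟩ := ex_p (Ok.h3 (n := n) (F := F)) i
      have pj : p ≠ j := fun e => p1 (by rw [e]; exact hj)
      have pj' : p.rev ≠ j := fun e => pj (by rw [← Fin.rev_rev p, e, ← hj])
      have ip : i ≠ p.rev := fun e => p3 (by rw [e, Fin.rev_rev])
      have o1 : Ot (c • ee i : V) (ee p) := by
        simpa using (H76.ot_ee (F := F) p2.symm hi p1 ip).smul hc one_ne_zero
      have o2 : Ot (c • ee i : V) (ω • ee p.rev) :=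
        (H76.ot_ee (F := F) ip hi (by rw [Fin.rev_rev]; exact p1.symm) (by rw [Fin.rev_rev]; exact p2.symm)).smul hc ω0
      have b0 : bt (c • ee i : V) (ee j) = 0 := by rw [bt_smul_left, H76.bt_ee, if_neg hij', mul_zero]
      have o3 : Ot (c • ee i : V) (ee j + ee p + ω • ee p.rev) := by
        refine ⟨o1.1, ?_, by rw [bt_add_right, bt_add_right, b0, o1.2.2.1, o2.2.2.1, add_zero, add_zero], ?_⟩
        · have e1 : j ≠ p.rev := pj'.symm
          have e2 : p ≠ j.rev := by rw [← hj]; exact pj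
          have e3 : p.rev ≠ j.rev := by rw [← hj]; exact pj'
          simp only [bt_add_left, bt_add_right, bt_smul_left, bt_smul_right, H76.bt_ee, Fin.rev_rev, if_pos hj,
            if_neg e1, if_neg e2, if_neg e3, if_neg pj.symm, if_neg p1, if_neg p1.symm, if_true]
          have := CharTwo.add_self_eq_zero (1 : F)
          linear_combination hω + this
        · refine LinearIndependent.pair_iff.2 fun s r e => ?_
          have e1 := congrFun e p
          have e2 := congrFun e i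
          simp only [Pi.add_apply, Pi.smul_apply, ee_ap, if_neg p2, if_neg pj, if_neg p1, if_neg hij, if_neg p2.symm,
            if_neg ip, if_true, smul_eq_mul, Pi.zero_apply] at e1 e2
          exact ⟨by simpa [hc] using e2, by simpa using e1⟩
      have dec : (ee j : V) = ee j + ee p + ω • ee p.rev + (ee p + ω • ee p.rev) := by
        rw [add_assoc (ee j), add_assoc (ee j)]
        have : ∀ y : V, y + y = 0 := fun y => funext fun a => CharTwo.add_self_eq_zero _
        rw [this, add_zero]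
      have b1 : bt (c • ee i : V) (ee p + ω • ee p.rev) = 0 := by rw [bt_add_right, o1.2.2.1, o2.2.2.1, add_zero]
      constructor
      · rw [dec, tv_addr o3.2.2.1 b1, tv_addr o1.2.2.1 o2.2.2.1]
        exact mul_mem (h _ _ o3) (mul_mem (h _ _ o1) (h _ _ o2))
      · rw [dec, tv_addl (bt0 o3.2.2.1) (bt0 b1), tv_addl (bt0 o1.2.2.1) (bt0 o2.2.2.1)]
        exact mul_mem (h _ _ o3.symm) (mul_mem (h _ _ o1.symm) (h _ _ o2.symm))
    · have o1 : Ot (c • ee i : V) (ee j) := by
        simpa using (H76.ot_ee (F := F) hij hi hj hij').smul hc one_ne_zero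
      exact ⟨h _ _ o1, h _ _ o1.symm⟩
  have B : ∀ i j : I, i ≠ j → i ≠ j.rev → ∀ c : F, (xe i j c : XX n F) ∈ H := by
    intro i j hij hij' c
    by_cases hc : c = 0
    · rw [hc, LMS.xe_zero]; exact one_mem _
    rw [xe_tv hij]
    by_cases hi : i = i.rev
    · have hj : j.rev ≠ j.rev.rev := fun e => by
        have h1 := congrArg Fin.val hi
        have h2 := congrArg Fin.val e
        simp only [Fin.val_rev] at h1 h2
        exact hij (Fin.ext (by omega))
      have := (A j.rev i hj hij'.symm (fun e => hij (Fin.rev_injective e).symm) (σ c)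
        (by simpa using hc)).2
      rwa [tv, hm_smul_right, sg_sg, ← hm_smul_left] at this
    · exact (A i j.rev hi hij' (by rw [Fin.rev_rev]; exact hij) c hc).1
  refine top_le_iff.1 (LMS.top_xe.ge.trans ((closure_le _).2 ?_))
  rintro _ ⟨i, j, c, rfl⟩
  by_cases hij : i = j
  · rw [hij, LMS.xe_self]; exact one_mem _
  by_cases hij' : i = j.rev
  · obtain ⟨p, -, p2, p3⟩ := ex_p (Ok.h3 (n := n) (F := F)) i
    have pj : p ≠ j := fun e => p3 (by rw [hij', Fin.rev_rev, e])
    have m1 := B i p p2.symm (fun e => p3 (by rw [e, Fin.rev_rev])) c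
    have m2 := B p j pj (by rw [← hij']; exact p2) 1
    have := LMS.xe_c1 (n := n) p2.symm pj hij c (1 : F)
    rw [mul_one] at this
    rw [← this]
    exact mul_mem (mul_mem (mul_mem m1 m2) m1) m2
  · exact B i j hij hij' c

theorem is0 : Is (ee 0 : V) := H57.is0

/-- elements of the doubled root group that commute with `t` -/
theorem xs_ker (h : C2 ι t) {v : V} (hv : Is v) {w : G} (d : D0 ι t v 0 w) (sq : w * w = 1) :
    ∃ a, w = ι (tc v a) ∨ w = t * ι (tc v a) := by
  obtain ⟨a, o, ho, e⟩ := H57.d0_ker h hv (fun a ha k => cP h.em ha hv k) d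
  have key : ∀ y : G, y * y = 1 → y * o = o * y → w = y * o → w = y := by
    intro y y2 c e
    have : o * o = 1 := by
      have : y * o * (y * o) = y * y * (o * o) := by
        rw [mul_assoc y o, ← mul_assoc o, ← c]; simp only [mul_assoc]
      rw [← e, sq, y2, one_mul] at this
      exact this.symm
    have o1 : o = 1 := by
      have h1 : orderOf o ∣ 2 := orderOf_dvd_of_pow_eq_one (by rw [pow_two, this])
      rcases (Nat.dvd_prime Nat.prime_two).1 h1 with h2 | h2
      · exact orderOf_eq_one_iff.1 h2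
      · exact absurd (h2 ▸ ho.2.2) (by decide)
    rw [e, o1, mul_one]
  have c1 : ι (tc v a) * o = o * ι (tc v a) := mem_centralizer_iff.1 ho.1 _ ⟨_, rfl⟩
  have s1 : ι (tc v a) * ι (tc v a) = 1 := by rw [← map_mul, tc_sq hv.1, map_one]
  rcases e with e | e
  · exact ⟨a, .inl (key _ s1 c1 e)⟩
  · refine ⟨a, .inr (key _ ?_ ?_ e)⟩
    · rw [mul_assoc, ← mul_assoc (ι _), ← h.tc, mul_assoc, s1, mul_one, h.t2]
    · rw [mul_assoc, c1, ← mul_assoc, ← ho.2.1, mul_assoc]

theorem xs_x (h : C1 ι t) {v : V} (hv : Is v) (a : K0 F) : Xs ι t v 0 (ι (tc v a)) := by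
  refine ⟨⟨fun x hx => ?_, ?_⟩, fun o ho => mem_centralizer_iff.1 ho.1 _ ⟨_, rfl⟩,
    by rw [← map_mul, tc_sq hv.1, map_one], fun b e => h.t_not ⟨tc v a * (tc v b)⁻¹, ?_⟩⟩
  · have := tc_cj hv.1 a x
    rw [hx v rfl] at this
    rw [← map_mul, ← map_mul]
    exact congrArg ι (mul_inv_eq_iff_eq_mul.1 this).symm
  · rw [← h.tc, tc_zero, map_one, mul_one, mul_inv_cancel_right]
  · rw [map_mul, map_inv, e, mul_inv_cancel_right]

theorem yy_xs (h : C1 ι t) {v : V} (hv : Is v) {c : K0 F} {w : G} (k : Xs ι t v c w) : w ∈ YY ι t := by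
  obtain ⟨x, hx⟩ := H76.tr_Is hv is0
  have := H87.Xs_ac h hv.1 k x
  rw [hx] at this
  exact subset_closure ⟨x⁻¹, c, _, this, by rw [map_inv]; group⟩

theorem yy_range (h : C1 ι t) : ι.range ≤ YY ι t := by
  rintro _ ⟨x, rfl⟩
  refine (top_tc.ge.trans ((closure_le ((YY ι t).comap ι)).2 ?_)) (mem_top x)
  rintro _ ⟨v, c, hv, rfl⟩
  by_cases e : v = 0
  · have : (tc v c : X) = 1 := by
      have := tc_smul v 0 c
      rwa [zero_smul, ← e, nm_zero.2 rfl, zero_mul, tc_zero] at this
    rw [this]; exact one_mem _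
  · exact yy_xs h ⟨hv, e⟩ (xs_x h ⟨hv, e⟩ c)

theorem ot_add {a b : V} (o : Ot a b) : Is (a + b) := by
  simpa using o.is (a := 1) (b := 1) (.inl one_ne_zero)
theorem ot_l {a b : V} (o : Ot a b) : Is a := by
  simpa using o.is (a := 1) (b := 0) (.inl one_ne_zero)
theorem ot_r {a b : V} (o : Ot a b) : Is b := by
  simpa using o.is (a := 0) (b := 1) (.inr one_ne_zero)

theorem xr_mem {W : V → G} (k : Wt ι t W) {H : Subgroup G} (h1 : ι.range ≤ H)
    (h2 : ∀ v, Is v → ∀ w, Xs ι t v 1 w → w ∈ H) (r : F) {a b : V} (o : Ot a b) : XR ι W r a b ∈ H :=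
  mul_mem (h1 ⟨_, rfl⟩) (mul_mem (mul_mem (h2 _ (ot_add o) _ (k.xs _ (ot_add o))) (h2 _ (ot_l o) _ (k.xs _ (ot_l o))))
    (h2 _ (ot_r o) _ (k.xs _ (ot_r o))))

theorem hn0 (x : XX n F) : HN 0 x := ⟨Matrix.mulVec_zero _, fun u => by rw [H76.bt_zero_r, H76.bt_zero_r]⟩

theorem zL : (0 : I) ≠ iL := CE.n0

theorem fc (h : C4 ι t) {W : V → G} {α : K0 F} (k : Stb ι t W α) {r : F} (hs : σ r = r + 1)
    (ψ : XX n F →* G) (L : Lo ι W r 0 ψ) (a : Am ι.range E t) : Fc ι ψ t E := by
  have res : ∀ x : X, ψ x.1 = ι x := fun x => L.res x (hn0 _)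
  have xr : ∀ a b : V, Ot a b → ψ (tv a b) = XR ι W r a b := fun a b o =>
    L.xr a b o (H76.bt_zero_r _) (H76.bt_zero_r _)
  have ti : t⁻¹ = t := inv_eq_of_mul_eq_one_left h.t2
  have tw : LMS.Act ψ t τ := by
    have := gen (((MulAut.conj t).toMonoidHom.comp ψ).eqLocus (ψ.comp τ)) fun a b o => by
      change t * ψ (tv a b) * t⁻¹ = ψ (τ (tv a b))
      rw [tau_tv o.2.2.1, xr _ _ o, xr _ _ o.symm, ti, k.tw _ _ _ o, k.xsym _ _ _ o.symm, hs]
    exact fun x => (this.ge (mem_top x) :)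
  have rle : ∀ H : Subgroup G, (∀ a b : V, Ot a b → XR ι W r a b ∈ H) → ψ.range ≤ H := by
    rintro H hH _ ⟨x, rfl⟩
    exact (gen (H.comap ψ) fun a b o => by rw [mem_comap, xr _ _ o]; exact hH _ _ o).ge (mem_top x)
  have lr : ι.range ≤ ψ.range := by rintro _ ⟨x, rfl⟩; exact ⟨_, res x⟩
  refine ⟨h, ?_, res, tw, le_antisymm ((closure_le _).2 ?_) (rle _ fun a b o => ?_),
      ⟨a.nE, a.simple, a.pf_le (range_pf LMS.pf_X ψ), a.idx⟩⟩
  · refine (LMS.normal_X ψ.ker).resolve_right fun e => one_ne_zero (tc_cen (n := n) (F := F) is0 (h.em ?_))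
    rw [MonoidHom.mem_ker, ← res]
    exact e.ge (mem_top _)
  · rintro _ ⟨x, c, w, hw, rfl⟩
    refine mul_mem (mul_mem (lr ⟨_, rfl⟩) ?_) (inv_mem (lr ⟨_, rfl⟩))
    obtain ⟨b, hb⟩ := tr_surj c
    have sq : ψ (xe 0 iL b) * ψ (xe 0 iL b) = 1 := by rw [← map_mul, LMS.xe_sq, map_one]
    have b0 : bt (b • ee 0 : V) (ee 0) = 0 := by rw [bt_smul_left, CE.b00, mul_zero]
    have e1 : (xe 0 iL b : XX n F) = tv (b • ee 0) (ee 0) := by
      rw [xe_tv zL, ← CE.r0, Fin.rev_rev]
    have e2 : τ (xe 0 iL b : XX n F) = xe 0 iL (σ b) := by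
      rw [e1, tau_tv b0, xe_tv zL, ← CE.r0, Fin.rev_rev, tv, tv, hm_smul_right, hm_smul_left]
    have xs : Xs ι t (ee 0) c (ψ (xe 0 iL b)) ∨ c = 0 := by
      by_cases c0 : c = 0
      · exact .inr c0
      have d : ψ (xe 0 iL b) * t * (ψ (xe 0 iL b))⁻¹ = t * ι (tc (ee 0) c) := by
        have := tw (xe 0 iL b)
        rw [e2, ti] at this
        change _ = t * ι (zz c)
        rw [← res, zz_val, ← hb, add_comm b, ← LMS.xe_mul, map_mul, ← this, inv_eq_of_mul_eq_one_left sq]
        simp only [← mul_assoc, h.t2, one_mul]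
      refine .inl ⟨⟨fun y hy => ?_, d⟩, fun o ho => ?_, sq, fun a' e => c0 (tc_cen is0 (h.em ?_))⟩
      · rw [← res, ← map_mul, ← map_mul]
        have e3 : y.1 * xe 0 iL b * (y⁻¹).1 = xe 0 iL b := by
          refine Subtype.ext ?_
          have := cj_hm y (b • ee 0) (ee 0)
          rw [ac_smul, hy _ rfl] at this
          rw [e1, Matrix.SpecialLinearGroup.coe_mul, Matrix.SpecialLinearGroup.coe_mul, mx_hm b0, mul_add, add_mul,
            this, H12.cj_one y]
        exact congrArg ψ (mul_inv_eq_iff_eq_mul.1 e3).symm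
      · refine (mem_centralizer_singleton_iff.1 (rle (centralizer {o}) (fun a b o' => ?_) ⟨_, rfl⟩))
        refine xr_mem k.toWt ?_ (fun v _ w hw => mem_centralizer_singleton_iff.2 (hw.2.1 o ho)) r o'
        exact fun y hy => mem_centralizer_singleton_iff.2 (mem_centralizer_iff.1 ho.1 y hy)
      · have c1 : t * ι (tc (ee 0) a') * t = t * (t * ι (tc (ee 0) a')) := by rw [mul_assoc, ← h.tc]
        rw [e, c1, mul_inv_cancel_right] at d
        exact (mul_eq_left.1 d.symm :)
    have ker : ∀ w, Xs ι t (ee 0) 0 w → w ∈ ψ.range := fun w hw => by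
      obtain ⟨a', e | e⟩ := xs_ker h.toC2 is0 hw.1 hw.2.2.1
      · exact e ▸ lr ⟨_, rfl⟩
      · exact absurd e (hw.2.2.2 a')
    rcases xs with xs | rfl
    · have := h.mul _ is0 _ _ _ _ hw xs
      rw [k0_add] at this
      exact (mul_mem_cancel_right (⟨_, rfl⟩ : ψ (xe 0 iL b) ∈ ψ.range)).1 (ker _ this)
    · exact ker _ hw
  · exact xr_mem k.toWt (yy_range h.toC1) (fun v hv w hw => yy_xs h.toC1 hv hw) r o

end H18
end UMS
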