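import Cfsg.Agent.Lib.UMS.W2h87
import Cfsg.Agent.Lib.UMS.BKb
import Cfsg.Agent.Lib.UMS.CE
import Cfsg.Agent.Lib.UMS.B7

/-! The doubled group: generators, and the field case. -/

set_option autoImplicit false
set_option linter.unusedSectionVars false

namespace UMS.H77

open Subgroup H69 Cfsg Matrix U4S
open LMS (XX GX iL kk MM au tw Sg)
open scoped MatrixGroups commutatorElement

universe u
variable {G : Type*} [Group G] [Finite G] {F : Type u} [Field F] [CharP F 2] [Fintype F] [Hs F] {n : ℕ} [Ok n F]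
  {ι : XU n F →* G} {t : G} {E : Subgroup G} {W : VV n F → G} {α : K0 F} {r : F}

local notation "X" => XU n F
local notation "V" => VV n F
local notation "I" => Fin (n + 3)
local notation "Mx" => Matrix (Fin (n + 3)) (Fin (n + 3)) F

theorem ot_of {u w : V} (hu : Is u) (hw : bt w w = 0) (h : bt u w = 0) {k : I} (k1 : u k = 0) (k2 : w k ≠ 0) :
    Ot u w := ⟨hu.1, hw, h, LinearIndependent.pair_iff.2 fun s c e => by
  have e1 := congrFun e k
  simp only [Pi.add_apply, Pi.smul_apply, smul_eq_mul, k1, mul_zero, zero_add, Pi.zero_apply] at e1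
  have c0 : c = 0 := (mul_eq_zero.1 e1).resolve_right k2
  rw [c0, zero_smul, add_zero] at e
  exact ⟨(smul_eq_zero.1 e).resolve_right hu.2, c0⟩⟩

theorem mx_add {u v w : V} (h : bt u v = 0) (k : bt u w = 0) :
    (mx (1 + hm u (v + w)) : XX n F) = mx (1 + hm u v) * mx (1 + hm u w) := Subtype.ext (by
  rw [Matrix.SpecialLinearGroup.coe_mul, mx_hm h, mx_hm k, mx_hm (by rw [H12.bt_add_r, h, k, add_zero]),
    H12.hm_add_r, add_mul, mul_add, mul_add, one_mul, one_mul, mul_one, H12.hm_mul, h, zero_smul, add_zero]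
  abel)

theorem tau_mx {u v : V} (h : bt u v = 0) : τ (mx (1 + hm u v) : XX n F) = mx (1 + hm v u) := by
  have h' : bt v u = 0 := by rw [H12.bt_symm, h, map_zero]
  have e : (mx (1 + hm u v) : XX n F)⁻¹ = mx (1 + hm u v) := by
    refine inv_eq_of_mul_eq_one_left (Subtype.ext ?_)
    rw [← mx_add h h, H87.vv, mx_hm (H76.bt_zero_r u)]
    ext i j
    simp [hm, vecMulVec_apply]
  refine Subtype.ext ?_
  rw [H12.tau_val, e, mx_hm h, mx_hm h', H12.ad_add, H12.ad_one, H12.ad_hm]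

/-- the short transvections generate `SL` -/
theorem gen_ot : closure {y : XX n F | ∃ a b, Ot a b ∧ y = mx (1 + hm a b)} = ⊤ := by
  have h3 := Ok.h3 (n := n) (F := F)
  set K := closure {y : XX n F | ∃ a b, Ot a b ∧ y = mx (1 + hm a b)} with hK
  have kt : ∀ y ∈ K, τ y ∈ K := fun y hy => by
    have : K ≤ K.comap τ := (closure_le _).2 (by
      rintro _ ⟨a, b, o, rfl⟩
      change τ _ ∈ K
      rw [tau_mx o.2.2.1]
      exact subset_closure ⟨b, a, o.symm, rfl⟩)
    exact this hy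
  have key : ∀ (i j : I) (c d : F), i ≠ i.rev → i ≠ j.rev → c ≠ 0 → (mx (1 + hm (c • ee i) (d • ee j)) : XX n F) ∈ K :=
    fun i j c d hi hj hc => by
    have iu : Is (c • ee i : V) := (is_ee hi).smul hc
    have b1 : ∀ (l : I) (e : F), i ≠ l.rev → bt (c • ee i : V) (e • ee l) = 0 := fun l e hl => by
      rw [H12.bt_smul_l, H12.bt_smul_r, H76.bt_ee, if_neg hl, mul_zero, mul_zero]
    have b2 : ∀ (l : I) (e : F), i ≠ l.rev → i ≠ l → l ≠ l.rev → (mx (1 + hm (c • ee i) (e • ee l)) : XX n F) ∈ K :=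
      fun l e h1 h2 h4 => by
      by_cases he : e = 0
      · have : (mx (1 + hm (c • ee i) (e • ee l)) : XX n F) = 1 := Subtype.ext (by
          rw [mx_hm (b1 l e h1), he, zero_smul]
          ext a b
          simp [hm, vecMulVec_apply])
        rw [this]; exact one_mem _
      · exact subset_closure ⟨_, _, ot_of iu ((is_ee h4).smul he).1 (b1 l e h1) (k := l)
          (by simp [ee, Pi.single_eq_of_ne h2.symm]) (by simpa [ee] using he), rfl⟩
    obtain ⟨k, k1, k2, k3⟩ : ∃ k : I, i ≠ k ∧ i ≠ k.rev ∧ k ≠ k.rev := by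
      by_cases h0 : i.1 = 0 ∨ i.1 = n + 2
      · refine ⟨⟨1, by omega⟩, ?_, ?_, ?_⟩ <;> intro h <;> have := congrArg Fin.val h <;>
          simp only [Fin.val_rev] at this <;> omega
      · refine ⟨⟨0, by omega⟩, ?_, ?_, ?_⟩ <;> intro h <;> have := congrArg Fin.val h <;>
          simp only [Fin.val_rev] at this <;> omega
    by_cases e1 : j = i
    · subst e1
      have e : (d • ee j : V) = (d • ee j + (1 : F) • ee k) + (1 : F) • ee k := by
        rw [add_assoc, H87.vv, add_zero]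
      have b3 : bt (c • ee j : V) (d • ee j + (1 : F) • ee k) = 0 := by
        rw [H12.bt_add_r, b1 j d hi, b1 k 1 k2, add_zero]
      rw [e, mx_add b3 (b1 k 1 k2)]
      refine mul_mem (subset_closure ⟨_, _, ot_of iu ?_ b3 (k := k) (by simp [ee, Pi.single_eq_of_ne k1.symm])
        (by simp [ee, Pi.single_eq_of_ne k1.symm]), rfl⟩) (b2 k 1 k2 k1 k3)
      have k4 : k ≠ j.rev := fun h => k2 (by rw [h, Fin.rev_rev])
      simp only [H12.bt_add_l, H12.bt_add_r, H12.bt_smul_l, H12.bt_smul_r, H76.bt_ee, if_neg hi, if_neg k2,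
        if_neg k3, if_neg k4, mul_zero, add_zero]
    by_cases e2 : j = j.rev
    · obtain ⟨o, ho⟩ := H12.ex_tr (F := F)
      have k5 : i ≠ k.rev.rev := by rw [Fin.rev_rev]; exact k1
      have k6 : k.rev ≠ k.rev.rev := by rw [Fin.rev_rev]; exact k3.symm
      have j1 : j ≠ k := fun h => k3 (h ▸ e2)
      have j2 : j ≠ k.rev := fun h => k6 (h ▸ e2)
      have j3 : k ≠ j.rev := by rw [← e2]; exact j1.symm
      have j4 : k.rev ≠ j.rev := by rw [← e2]; exact j2.symm
      have e : (d • ee j : V) = (d • ee j + (o * (d * σ d)) • ee k + (1 : F) • ee k.rev) +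
          ((o * (d * σ d)) • ee k + (1 : F) • ee k.rev) := by
        rw [add_assoc (d • ee j), add_assoc, H87.vv, add_zero]
      have b3 : bt (c • ee i : V) (d • ee j + (o * (d * σ d)) • ee k + (1 : F) • ee k.rev) = 0 := by
        rw [H12.bt_add_r, H12.bt_add_r, b1 j d hj, b1 k _ k2, b1 k.rev 1 k5, add_zero, add_zero]
      rw [e, mx_add b3 (by rw [H12.bt_add_r, b1 k _ k2, b1 k.rev 1 k5, add_zero]), mx_add (b1 k _ k2) (b1 k.rev 1 k5)]
      refine mul_mem (subset_closure ⟨_, _, ot_of iu ?_ b3 (k := k.rev) (by simp [ee, Pi.single_eq_of_ne k2.symm])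
        (by simp [ee, Pi.single_eq_of_ne j2.symm, Pi.single_eq_of_ne k3.symm]), rfl⟩)
        (mul_mem (b2 k _ k2 k1 k3) (b2 k.rev 1 k5 k2 k6))
      simp only [H12.bt_add_l, H12.bt_add_r, H12.bt_smul_l, H12.bt_smul_r, H76.bt_ee, Fin.rev_rev, if_pos e2, if_neg j1,
        if_neg j2, if_neg j3, if_neg j4, if_neg k3, if_neg k3.symm, if_true, map_mul, map_one, H12.ss]
      linear_combination d * σ d * ho + d * σ d * CharTwo.two_eq_zero (R := F)
    · exact b2 j d hj (fun h => e1 h.symm) e2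
  rw [eq_top_iff, ← LMS.top_xe]
  refine (closure_le _).2 ?_
  rintro _ ⟨i, j, c, rfl⟩
  by_cases hij : i = j
  · rw [hij, LMS.xe_self]; exact one_mem _
  have b : bt (c • ee i : V) ((1 : F) • ee j.rev) = 0 := by
    rw [H12.bt_smul_l, H12.bt_smul_r, H76.bt_ee, Fin.rev_rev, if_neg hij, mul_zero, mul_zero]
  have e : (xe i j c : XX n F) = mx (1 + hm (c • ee i) ((1 : F) • ee j.rev)) := Subtype.ext (by
    rw [mx_hm b, LMS.xe_val hij, one_smul, H12.hm_smul_l, H12.hm_ee, Fin.rev_rev, smul_single, smul_eq_mul, mul_one])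
  by_cases hc : c = 0
  · rw [hc, LMS.xe_zero]; exact one_mem _
  by_cases hi : i = i.rev
  · have := kt _ (key j.rev i 1 c (fun h => hij ?_) (fun h => hij (Fin.rev_injective h).symm) one_ne_zero)
    · rwa [tau_mx (by rw [H12.bt_symm, b, map_zero]), ← e] at this
    · have h1 := congrArg Fin.val h
      have h2 := congrArg Fin.val hi
      simp only [Fin.val_rev] at h1 h2
      exact Fin.ext (by omega)
  · rw [e]
    exact key i j.rev c 1 hi (by rw [Fin.rev_rev]; exact hij) hc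

theorem is0 : Is (ee 0 : V) := is_ee i0

theorem xs_zz (h : C1 ι t) {v : V} (hv : Is v) (c : K0 F) : Xs ι t v 0 (ι (tc v c)) := by
  refine ⟨⟨fun x hx => ?_, by rw [H12.tc_zero hv.1, map_one, mul_one, ← h.tc, mul_inv_cancel_right]⟩,
    fun o ho => ho.1 _ ⟨_, rfl⟩, by rw [← map_mul, H12.tc_sq hv.1, map_one], fun a e => h.t_not ?_⟩
  · have := H12.cj_tc x hv.1 c
    rw [H87.mem_St1.1 hx] at this
    rw [← map_mul, ← map_mul, mul_inv_eq_iff_eq_mul.1 this]
  · exact ⟨tc v c * (tc v a)⁻¹, by rw [map_mul, map_inv, e, mul_inv_cancel_right]⟩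

theorem xs_yy (h : C1 ι t) {v : V} (hv : Is v) {c : K0 F} {w : G} (k : Xs ι t v c w) : w ∈ YY ι t := by
  obtain ⟨x, hx⟩ := H76.tr_Is hv is0
  have := H87.Xs_ac h hv.1 k x
  rw [hx] at this
  exact subset_closure ⟨x⁻¹, c, _, this, by rw [map_inv]; group⟩

theorem le_yy (h : C1 ι t) : ι.range ≤ YY ι t := by
  rintro _ ⟨x, rfl⟩
  have : (YY ι t).comap ι = ⊤ := B33.top_tc fun v hv a => xs_yy h hv (xs_zz h hv a)
  exact (this.ge (mem_top x) : x ∈ (YY ι t).comap ι)

theorem xs_ker (h : C2 ι t) {v : V} (hv : Is v) {w : G} (k : Xs ι t v 0 w) : ∃ a, w = ι (tc v a) := by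
  obtain ⟨a, o, ho, e⟩ := H57.d0_ker h hv (fun a ha k => cP h.em ha hv k) k.1
  have c := k.2.1 o ho
  have dies : ∀ u : G, u * u = 1 → w = u * o → o = 1 := fun u u2 e => by
    have c1 : u * o = o * u := by
      rw [e, ← mul_assoc] at c
      exact mul_right_cancel c
    have := k.2.2.1
    rw [e, mul_assoc, ← mul_assoc o, ← c1, ← mul_assoc, ← mul_assoc, u2, one_mul] at this
    exact (P2.of_sq this).eq_one ho.2.2
  have s : ι (tc v a) * ι (tc v a) = 1 := by rw [← map_mul, H12.tc_sq hv.1, map_one]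
  rcases e with e | e
  · exact ⟨a, by rw [e, dies _ s e, mul_one]⟩
  · refine absurd ?_ (k.2.2.2 a)
    rw [e, dies _ (by rw [mul_assoc, ← mul_assoc (ι _), ← h.tc, mul_assoc, s, mul_one, h.t2]) e, mul_one]

/-- a subgroup containing `L` and the doubled short root elements contains the doubled group -/
theorem yy_le (h : C4 ι t) (k : Wt ι t W) {R : Subgroup G} (h1 : ι.range ≤ R) (h2 : ∀ u v, Ot u v → SS W u v ∈ R) :
    YY ι t ≤ R := by
  have hw : ∀ v, Is v → W v ∈ R := fun v hv => by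
    obtain ⟨a, a1, a2, -⟩ := ex_n1 (F := F)
    have a0 : a ≠ 0 := by rintro rfl; rw [H87.nm_zero] at a1; exact zero_ne_one a1
    have b0 : 1 + a ≠ 0 := fun e => a2 (by
      linear_combination e - CharTwo.two_eq_zero (R := F))
    have hv' := hv.smul (inv_ne_zero b0)
    obtain ⟨u, o⟩ := ext2 hv'
    generalize hy : (1 + a)⁻¹ • v = y at hv' o
    have ev : v = (u + y) + (u + a • y) := by
      rw [add_add_add_comm, H87.vv, zero_add, ← hy, smul_smul, ← add_smul,
        show (1 + a)⁻¹ + a * (1 + a)⁻¹ = 1 by field_simp, one_smul]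
    have o1 := o.symm
    have o2 : Ot u (a • y) := by simpa using o1.smul one_ne_zero a0
    have b1 : ∀ c d : F, bt (u + c • y) (u + d • y) = 0 := fun c d => by
      simp only [H12.bt_add_l, H12.bt_add_r, H12.bt_smul_l, H12.bt_smul_r, o.1, o.2.1, o.2.2.1, o1.2.2.1, mul_zero,
        add_zero]
    have o3 : Ot (u + y) (u + a • y) := ⟨by simpa using b1 1 1, b1 a a, by simpa using b1 1 a,
      LinearIndependent.pair_iff.2 fun s c e => by
        obtain ⟨e1, e2⟩ := LinearIndependent.pair_iff.1 o1.2.2.2 (s + c) (s + c * a) (by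
          rw [← e]; module)
        have two := CharTwo.two_eq_zero (R := F)
        have : c * (1 + a) = 0 := by linear_combination e1 + e2 - s * two
        have c0 := (mul_eq_zero.1 this).resolve_right b0
        exact ⟨by rwa [c0, add_zero] at e1, c0⟩⟩
    have m1 := h2 _ _ o1
    have m2 := h2 _ _ o2
    have m3 := h2 _ _ o3
    rw [SS] at m1 m2 m3
    rw [H87.W_n1 k (congrArg Subtype.val a1) hv'.1] at m2
    have m4 := mul_mem m1 (inv_mem m2)
    rw [show W (u + y) * W u * W y * (W (u + a • y) * W u * W y)⁻¹ = W (u + y) * (W (u + a • y))⁻¹ by group,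
      inv_eq_of_mul_eq_one_left (H87.sqW k (b1 a a))] at m4
    have m5 := mul_mem m3 (inv_mem m4)
    rwa [← ev, mul_assoc (W v), mul_inv_cancel_right] at m5
  refine (closure_le _).2 ?_
  rintro _ ⟨x, c, w, hw', rfl⟩
  refine mul_mem (mul_mem (h1 ⟨x, rfl⟩) ?_) (inv_mem (h1 ⟨x, rfl⟩))
  by_cases hc : c = 0
  · subst hc
    obtain ⟨a, rfl⟩ := xs_ker h.toC2 is0 hw'
    exact h1 ⟨_, rfl⟩
  obtain ⟨b, rfl⟩ := nm_surj c
  have b0 : b ≠ 0 := fun e => hc (nm_zero.2 e)
  have k1 := (H87.Xs_smul is0.1 b0).1 (k.xs _ (is0.smul b0))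
  rw [one_mul] at k1
  have k2 := h.mul _ is0 _ _ _ _ hw' k1
  rw [H87.cc] at k2
  obtain ⟨a, ha⟩ := xs_ker h.toC2 is0 k2
  rw [eq_mul_inv_of_mul_eq ha]
  exact mul_mem (h1 ⟨_, rfl⟩) (inv_mem (hw _ (is0.smul b0)))

theorem xr_yy (h : C1 ι t) (k : Wt ι t W) (r : F) {u v : V} (o : Ot u v) : XR ι W r u v ∈ YY ι t := by
  have i1 : Is u := by simpa using o.is (a := 1) (b := 0) (Or.inl one_ne_zero)
  have i2 : Is v := by simpa using o.is (a := 0) (b := 1) (Or.inr one_ne_zero)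
  have i3 : Is (u + v) := by simpa using o.is (a := 1) (b := 1) (Or.inl one_ne_zero)
  exact mul_mem (le_yy h ⟨_, rfl⟩) (mul_mem (mul_mem (xs_yy h i3 (k.xs _ i3)) (xs_yy h i1 (k.xs _ i1)))
    (xs_yy h i2 (k.xs _ i2)))

theorem am_pf {H Y : Subgroup G} (a : Am H E t) (hY : ⁅Y, Y⁆ = Y) : Am Y E t := by
  refine ⟨a.nE, a.simple, ?_, a.idx⟩
  have := a.nE
  have k : ∀ g : G, (g : G ⧸ E) = 1 ∨ (g : G ⧸ E) = (t : G ⧸ E)⁻¹ := fun g => (a.idx g).imp
    (QuotientGroup.eq_one_iff g).2 fun e => eq_inv_of_mul_eq_one_left ((QuotientGroup.eq_one_iff (g * t)).2 e)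
  rw [← hY]
  refine commutator_le.2 fun x _ y _ => (QuotientGroup.eq_one_iff _).1 ?_
  rw [commutatorElement_def, QuotientGroup.mk_mul, QuotientGroup.mk_mul, QuotientGroup.mk_mul, QuotientGroup.mk_inv,
    QuotientGroup.mk_inv]
  rcases k x with e | e <;> rcases k y with e' | e' <;> rw [e, e'] <;> group

theorem hn0 (x : XX n F) : HN 0 x := ⟨mulVec_zero _, fun u => by rw [H76.bt_zero_r, H76.bt_zero_r]⟩

/-- the field case -/
theorem fld (h : C4 ι t) (s : Stb ι t W α) (a : Am ι.range E t) (hs : σ r = r + 1) {f : XX n F → G}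
    (L : Lo ι W r 0 f) : ∃ ψ, Fc ι ψ t E := by
  let ψ : XX n F →* G := MonoidHom.mk' f fun x y => L.mul x y (hn0 x) (hn0 y)
  have res : ∀ x : X, ψ x.1 = ι x := fun x => L.res x (hn0 _)
  have xr : ∀ a b, Ot a b → ψ (mx (1 + hm a b)) = XR ι W r a b := fun a b o =>
    L.xr a b o (H76.bt_zero_r _) (H76.bt_zero_r _)
  have tw : (MulAut.conj t).toMonoidHom.comp ψ = ψ.comp τ := MonoidHom.eq_of_eqOn_dense gen_ot (by
    rintro _ ⟨a, b, o, rfl⟩
    change t * ψ _ * t⁻¹ = ψ (τ _)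
    rw [tau_mx o.2.2.1, xr a b o, xr b a o.symm, inv_eq_of_mul_eq_one_left h.t2, s.tw a b r o, s.xsym a b _ o, ← hs,
      H12.ss])
  refine ⟨ψ, h, (LMS.normal_X ψ.ker).resolve_right fun e => one_ne_zero (H57.tc_cen is0 (h.em ?_)), res,
    DFunLike.congr_fun tw, le_antisymm (yy_le h s.toWt ?_ fun u v o => ?_) ?_, am_pf a (range_pf LMS.pf_X ψ)⟩
  · rw [MonoidHom.mem_ker, ← res]
    exact e.ge (mem_top _)
  · rintro _ ⟨x, rfl⟩
    exact ⟨x.1, res x⟩
  · exact ⟨((sh (r • u) v)⁻¹).1 * mx (1 + hm u v), by rw [map_mul, res, xr u v o, XR, map_inv, inv_mul_cancel_left]⟩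
  · rintro _ ⟨x, rfl⟩
    have : closure {y : XX n F | ∃ a b, Ot a b ∧ y = mx (1 + hm a b)} ≤ (YY ι t).comap ψ := (closure_le _).2 (by
      rintro _ ⟨a, b, o, rfl⟩
      change ψ _ ∈ YY ι t
      rw [xr a b o]
      exact xr_yy h.toC1 s.toWt r o)
    exact this (gen_ot.ge (mem_top x))

end UMS.H77
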