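import Cfsg.Agent.Lib.UMS.LO63
import Cfsg.Agent.Lib.UMS.FL57
import Cfsg.Agent.Lib.UMS.HY
import Cfsg.Agent.Lib.UMS.B33
import Cfsg.Agent.Lib.UMS.B0
import Cfsg.Agent.Lib.LMS.B3
import Cfsg.Agent.Lib.LMS.NFa

/-! Gluing of the local homomorphisms. -/

set_option autoImplicit false
set_option linter.unusedSectionVars false

namespace UMS
namespace H63

open Subgroup H69 Cfsg Matrix U4S
open LMS (XX GX iL kk MM au tw Sg)
open scoped MatrixGroups commutatorElement

universe u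
variable {G : Type*} [Group G] [Finite G] {F : Type u} [Field F] [CharP F 2] [Fintype F] [Hs F] {n : ℕ} [Ok n F]

local notation "X" => XU n F
local notation "V" => VV n F
local notation "I" => Fin (n + 3)
local notation "Mx" => Matrix (Fin (n + 3)) (Fin (n + 3)) F

theorem hn1 {v : V} : HN v (1 : XX n F) := ⟨one_mulVec v, fun u => congrArg (bt · v) (one_mulVec u)⟩

theorem hn_inv {v : V} {x : XX n F} (h : HN v x) : HN v x⁻¹ := by
  have e : ∀ u : V, x.1 *ᵥ (x⁻¹).1 *ᵥ u = u := fun u => by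
    rw [mulVec_mulVec, ← Matrix.SpecialLinearGroup.coe_mul, mul_inv_cancel]; exact one_mulVec u
  refine ⟨?_, fun u => by rw [← h.2, e]⟩
  conv_lhs => rw [← h.1]
  rw [mulVec_mulVec, ← Matrix.SpecialLinearGroup.coe_mul, inv_mul_cancel]; exact one_mulVec v

theorem hn_T {v a b : V} (h : bt a b = 0) (ha : bt a v = 0) (hb : bt b v = 0) :
    HN v (mx (1 + hm a b) : XX n F) := by
  refine ⟨?_, fun u => ?_⟩ <;> rw [mx_hm h, add_mulVec, one_mulVec, hm_vec]
  · rw [bt_symm, hb, map_zero, zero_smul, add_zero]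
  · rw [bt_add_left, bt_smul_left, ha, mul_zero, add_zero]

theorem cj_T (x : X) {a b : V} (h : bt a b = 0) :
    (mx (1 + hm (ac x a) (ac x b)) : XX n F) = x.1 * mx (1 + hm a b) * (x⁻¹).1 := Subtype.ext (by
  rw [mx_hm (by rw [bt_ac, h]), Matrix.SpecialLinearGroup.coe_mul, Matrix.SpecialLinearGroup.coe_mul, mx_hm h,
    mul_add, add_mul, cj_hm, mul_one, ← Matrix.SpecialLinearGroup.coe_mul, ← Subgroup.coe_mul, mul_inv_cancel]
  rfl)

theorem ac_ii (x : X) (v : V) : ac x (ac x⁻¹ v) = v := by rw [← ac_mul, mul_inv_cancel, ac_one]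
theorem ac_ii' (x : X) (v : V) : ac x⁻¹ (ac x v) = v := by rw [← ac_mul, inv_mul_cancel, ac_one]

theorem hn_cj {v : V} (x : X) {y : XX n F} (h : HN (ac x v) y) : HN v ((x⁻¹).1 * y * x.1) := by
  have e : ∀ u : V, ((x⁻¹).1 * y * x.1).1 *ᵥ u = ac x⁻¹ (y.1 *ᵥ ac x u) := fun u => by
    rw [Matrix.SpecialLinearGroup.coe_mul, Matrix.SpecialLinearGroup.coe_mul, ← mulVec_mulVec, ← mulVec_mulVec]; rfl
  refine ⟨by rw [e, h.1, ac_ii'], fun u => ?_⟩
  rw [e, ← bt_ac x, ac_ii, h.2, bt_ac]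

theorem li_an {u v : V} (hu : bt u u = 1) (hv : Is v) : LinearIndependent F ![u, v] := by
  rw [LinearIndependent.pair_iff]
  intro s c h
  have e : s • u = (-c) • v := by rw [neg_smul]; exact eq_neg_of_add_eq_zero_left h
  have k := congrArg (fun x => bt x x) e
  simp only [bt_smul_left, bt_smul_right, hu, hv.1, mul_one, mul_zero] at k
  have s0 : s = 0 := by simpa using k
  rw [s0, zero_smul, zero_add, smul_eq_zero] at h
  exact ⟨s0, h.resolve_right hv.2⟩

theorem ex_out (h3 : 3 ≤ n) (s : Finset I) (h : s.card ≤ 5) : ∃ l, l ∉ s := by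
  obtain ⟨l, -, hl⟩ := Finset.exists_mem_notMem_of_card_lt_card (s := s) (t := Finset.univ) (by simp; omega)
  exact ⟨l, hl⟩

theorem ex_six (h3 : 3 ≤ n) (i j p q k : I) : ∃ l : I, l ≠ i ∧ l ≠ j ∧ l ≠ p ∧ l ≠ q ∧ l ≠ k := by
  obtain ⟨l, hl⟩ := ex_out h3 {i, j, p, q, k} Finset.card_le_five
  exact ⟨l, by simpa [not_or] using hl⟩

/-- an orthonormal basis -/
theorem ex_on : ∃ (C : GX n F) (b : I → V), (∀ i j, bt (b i) (b j) = if i = j then 1 else 0) ∧
    (∀ i j, i ≠ j → ∀ c, gc C (xe i j c) = mx (1 + hm (c • b i) (b j))) ∧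
    ∀ p x, HN (b p) (gc C x) → ∀ a c, ¬ a ≠ p ∨ ¬ c ≠ p → x.1 a c = (1 : Mx) a c := by
  let w : Mx := Matrix.of fun i j => if i = j.rev then 1 else 0
  have ww : w * w = 1 := by
    ext i j
    rw [Matrix.mul_apply, Finset.sum_eq_single j.rev, one_apply]
    · simp [w]
    · intro b _ hb
      simp [w, hb]
    · simp
  obtain ⟨C, hC⟩ := LMS.her (Hs.sg (F := F)) ⟨w, w, ww, ww⟩ (by
    ext i j
    simp only [w, map_apply, transpose_apply, of_apply, Fin.ext_iff, Fin.val_rev]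
    split_ifs <;> first | omega | simp)
  let D : Mx := Matrix.of fun j k => σ (C.1 k.rev j)
  have CD : C.1 * D = 1 := by
    ext i k
    have := congrFun (congrFun hC i) k.rev
    simp only [w, Matrix.mul_apply, map_apply, transpose_apply, of_apply, Fin.rev_rev] at this
    rw [Matrix.mul_apply, one_apply, this]
    rfl
  have iD : (C⁻¹).1 = D := Units.inv_eq_of_mul_eq_one_right CD
  have bD : ∀ (u : V) j, bt u (fun k => C.1 k j) = (D *ᵥ u) j := fun u j =>
    Finset.sum_congr rfl fun k _ => mul_comm _ _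
  have DC : D * C.1 = 1 := by rw [← iD]; exact C.inv_mul
  have o : ∀ i j, bt (fun k => C.1 k i : V) (fun k => C.1 k j) = if i = j then 1 else 0 := fun i j => by
    rw [bD]
    refine (congrFun (congrFun DC j) i).trans ?_
    rw [one_apply]
    exact if_congr eq_comm rfl rfl
  refine ⟨C, fun i k => C.1 k i, o, fun i j ij c => Subtype.ext ?_, fun p x h a c k => ?_⟩
  · rw [mx_hm (by rw [bt_smul_left, o, if_neg ij, mul_zero]), gc_val, xe_val ij, iD, mul_add, add_mul, mul_one, CD]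
    congr 1
    ext a b
    simp [hm, D, Matrix.mul_apply, vecMulVec_apply, single_apply, ite_and, mul_comm c]
  · have e : x.1 = D * (gc C x).1 * C.1 := by
      rw [gc_val, iD, ← mul_assoc, ← mul_assoc, DC, one_mul, mul_assoc, DC, mul_one]
    have e2 : x.1 a c = bt ((gc C x).1 *ᵥ fun k => C.1 k c) (fun k => C.1 k a) := by
      rw [bD, mulVec_mulVec]
      conv_lhs => rw [e]
      rfl
    rw [e2, one_apply]
    rcases k with k | k <;> rw [not_not.1 k]
    · rw [h.2, o]; exact if_congr eq_comm rfl rfl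
    · rw [h.1, o]; exact if_congr eq_comm rfl rfl

variable {ι : XU n F →* G} {t : G} {W : VV n F → G} {α : K0 F} {r : F}

theorem lo_one {v : V} {f : XX n F → G} (L : Lo ι W r v f) : f 1 = 1 := by
  have := L.mul 1 1 hn1 hn1
  rwa [mul_one, left_eq_mul] at this

theorem lo_tr (h : Stb ι t W α) {v : V} {f : XX n F → G} (L : Lo ι W r v f) (x : X) :
    Lo ι W r (ac x v) fun y => ι x * f ((x⁻¹).1 * y * x.1) * (ι x)⁻¹ := by
  refine ⟨fun y z hy hz => ?_, fun z hz => ?_, fun a b o ha hb => ?_⟩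
  · have e : (x⁻¹).1 * (y * z) * x.1 = ((x⁻¹).1 * y * x.1) * ((x⁻¹).1 * z * x.1) := by
      rw [Subgroup.coe_inv]; group
    rw [e, L.mul _ _ (hn_cj x hy) (hn_cj x hz)]; group
  · have := L.res (x⁻¹ * z * x) (hn_cj x hz)
    rw [Subgroup.coe_mul, Subgroup.coe_mul] at this
    rw [this, map_mul, map_mul, map_inv]; group
  · have e := cj_T x⁻¹ o.2.2.1
    rw [inv_inv] at e
    rw [← e, L.xr _ _ (Ot.ac o _) (by rw [← bt_ac x, ac_ii, ha]) (by rw [← bt_ac x, ac_ii, hb]),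
      h.xeqv _ _ _ _ (Ot.ac o _), ac_ii, ac_ii]

section on
variable {b : Fin (n + 3) → VV n F} (o : ∀ i j, bt (b i) (b j) = if i = j then 1 else 0)
include o

theorem ot_on {i j k l : I} (ij : i ≠ j) (ik : i ≠ k) (il : i ≠ l) (jk : j ≠ k) (jl : j ≠ l) (kl : k ≠ l) {s s' : F}
    (hs : s * σ s = 1) (hs' : s' * σ s' = 1) : Ot (b l + s • b i) (b k + s' • b j) := by
  have t2 : (1 : F) + 1 = 0 := CharTwo.add_self_eq_zero 1
  refine ⟨?_, ?_, ?_, LinearIndependent.pair_iff.2 fun x y h => ⟨?_, ?_⟩⟩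
  · simp [bt_add_left, bt_add_right, bt_smul_left, bt_smul_right, o, il, il.symm, mul_comm (σ s), hs, t2]
  · simp [bt_add_left, bt_add_right, bt_smul_left, bt_smul_right, o, jk, jk.symm, mul_comm (σ s'), hs', t2]
  · simp [bt_add_left, bt_add_right, bt_smul_left, bt_smul_right, o, ij, ik, jl.symm, kl.symm]
  · simpa [bt_add_left, bt_smul_left, o, il, kl, jl, H76.bt_zero_l] using congrArg (bt · (b l)) h
  · simpa [bt_add_left, bt_smul_left, o, ik, kl.symm, jk, H76.bt_zero_l] using congrArg (bt · (b k)) h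

theorem indep {p q i j : I} {f g : XX n F → G} (L : Lo ι W r (b p) f) (L' : Lo ι W r (b q) g) (ij : i ≠ j)
    (ip : i ≠ p) (iq : i ≠ q) (jp : j ≠ p) (jq : j ≠ q) (c : F) :
    f (mx (1 + hm (c • b i) (b j))) = g (mx (1 + hm (c • b i) (b j))) := by
  by_cases c0 : c = 0
  · have : (mx (1 + hm (c • b i) (b j)) : XX n F) = 1 := Subtype.ext (by
      rw [mx_hm (by rw [c0, zero_smul, H76.bt_zero_l]), hm_smul_left, c0, zero_smul, add_zero]; rfl)
    rw [this, lo_one L, lo_one L']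
  obtain ⟨k, ki, kj, kp, kq, -⟩ := ex_six (Ok.h3 (F := F)) i j p q i
  obtain ⟨l, li, lj, lp, lq, lk⟩ := ex_six (Ok.h3 (F := F)) i j p q k
  obtain ⟨a, a1, a2, -⟩ := ex_n1 (F := F)
  have a1 : a * σ a = 1 := congrArg Subtype.val a1
  have a3 : a + 1 ≠ 0 := fun e => a2 (by rw [← CharTwo.sub_eq_add] at e; exact sub_eq_zero.1 e)
  have o1 : (1 : F) * σ 1 = 1 := by simp
  let A : XX n F → Prop := fun x => HN (b p) x ∧ HN (b q) x ∧ f x = g x
  have Am : ∀ x y, A x → A y → A (x * y) := fun x y hx hy => ⟨hn_mul hx.1 hy.1, hn_mul hx.2.1 hy.2.1, by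
    rw [L.mul _ _ hx.1 hy.1, L'.mul _ _ hx.2.1 hy.2.1, hx.2.2, hy.2.2]⟩
  have O : ∀ s s' : F, s * σ s = 1 → s' * σ s' = 1 →
      Ot ((c * (a + 1)⁻¹) • (b l + s • b i)) ((a + 1)⁻¹ • (b k + s' • b j)) := fun s s' hs hs' =>
    (ot_on o ij ki.symm li.symm kj.symm lj.symm lk.symm hs hs').smul (mul_ne_zero c0 (inv_ne_zero a3)) (inv_ne_zero a3)
  have B : ∀ s s' : F, s * σ s = 1 → s' * σ s' = 1 →
      A (mx (1 + hm ((c * (a + 1)⁻¹) • (b l + s • b i)) ((a + 1)⁻¹ • (b k + s' • b j)))) := fun s s' hs hs' => by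
    have O := O s s' hs hs'
    have h1 : bt ((c * (a + 1)⁻¹) • (b l + s • b i)) (b p) = 0 := by simp [bt_add_left, bt_smul_left, o, lp, ip]
    have h2 : bt ((c * (a + 1)⁻¹) • (b l + s • b i)) (b q) = 0 := by simp [bt_add_left, bt_smul_left, o, lq, iq]
    have h3 : bt ((a + 1)⁻¹ • (b k + s' • b j)) (b p) = 0 := by simp [bt_add_left, bt_smul_left, o, kp, jp]
    have h4 : bt ((a + 1)⁻¹ • (b k + s' • b j)) (b q) = 0 := by simp [bt_add_left, bt_smul_left, o, kq, jq]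
    exact ⟨hn_T O.2.2.1 h1 h3, hn_T O.2.2.1 h2 h4, by rw [L.xr _ _ O h1 h3, L'.xr _ _ O h2 h4]⟩
  have e : ∀ (d : F) (x y : V), (d * (a + 1)⁻¹) • (x + a • y) + (d * (a + 1)⁻¹) • (x + (1 : F) • y) = d • y :=
    fun d x y => by
      ext z
      simp only [Pi.add_apply, Pi.smul_apply, smul_eq_mul]
      have t2 : (2 : F) = 0 := CharTwo.two_eq_zero
      field_simp
      linear_combination (d * x z) * t2
  have e' := (e 1 (b k) (b j)).trans (one_smul _ _)
  rw [one_mul] at e'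
  have z : ∀ s' : F, s' * σ s' = 1 → bt (c • b i) ((a + 1)⁻¹ • (b k + s' • b j)) = 0 := fun s' _ => by
    simp [bt_add_right, bt_smul_left, bt_smul_right, o, ij, ki.symm]
  have k := Am _ _ (Am _ _ (B a a a1 a1) (B 1 a o1 a1)) (Am _ _ (B a 1 a1 o1) (B 1 1 o1 o1))
  rw [← H57.e_add_l (O a a a1 a1).2.2.1 (O 1 a o1 a1).2.2.1, ← H57.e_add_l (O a 1 a1 o1).2.2.1 (O 1 1 o1 o1).2.2.1,
    e, ← H57.e_add_r (z a a1) (z 1 o1), e'] at k
  exact k.2.2

end on

/-- gluing -/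
theorem glue (h : Stb ι t W α) (L : ∀ v : V, bt v v = 1 → ∃ f, Lo ι W r v f) :
    ∃ ψ : XX n F →* G, (∀ x : X, ψ x.1 = ι x) ∧ ∀ a b, Ot a b → ψ (mx (1 + hm a b)) = XR ι W r a b := by
  classical
  have h3 := Ok.h3 (n := n) (F := F)
  obtain ⟨C, b, o, hx, hb⟩ := ex_on (n := n) (F := F)
  choose f hf using fun p => L (b p) (by rw [o, if_pos rfl])
  choose pp p1 p2 using fun i j : I => LMS.ex_third i j
  have N : ∀ {i j p : I}, i ≠ j → i ≠ p → j ≠ p → ∀ c, HN (b p) (gc C (xe i j c)) := fun {i j p} ij ip jp c => by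
    rw [hx _ _ ij]
    exact hn_T (by rw [bt_smul_left, o, if_neg ij, mul_zero]) (by rw [bt_smul_left, o, if_neg ip, mul_zero])
      (by rw [o, if_neg jp])
  have Y : ∀ {i j p : I}, i ≠ j → i ≠ p → j ≠ p → ∀ c,
      f (pp i j) (gc C (xe i j c)) = f p (gc C (xe i j c)) := fun {i j p} ij ip jp c => by
    rw [hx _ _ ij]
    exact indep o (hf _) (hf _) ij (p1 i j).symm ip (p2 i j).symm jp c
  obtain ⟨ψ, hψ⟩ := H63.St.SL.exists_hom (show 3 ≤ n + 3 by omega) (K := F) (Γ := G)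
    ⟨fun i j c => f (pp i j) (gc C (xe i j c)), fun {i j} ij c d => by
      rw [← (hf _).mul _ _ (N ij (p1 i j).symm (p2 i j).symm c) (N ij (p1 i j).symm (p2 i j).symm d), ← map_mul,
        xe_mul ij], fun {i j k l} ij kl il jk c d => by
      obtain ⟨p, q1, q2, q3, q4, -⟩ := ex_six h3 i j k l i
      rw [Y ij q1.symm q2.symm, Y kl q3.symm q4.symm, commute_iff_eq, ← (hf _).mul _ _ (N ij q1.symm q2.symm c) (N kl q3.symm q4.symm d),
        ← (hf _).mul _ _ (N kl q3.symm q4.symm d) (N ij q1.symm q2.symm c), ← map_mul, ← map_mul, LMS.xe_c0 il jk],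
      fun {i j l} ij jl il c d => by
      obtain ⟨p, q1, q2, q3, -⟩ := ex_six h3 i j l i i
      have n1 := N ij q1.symm q2.symm c
      have n2 := N jl q2.symm q3.symm d
      have n3 := N il q1.symm q3.symm (c * d)
      rw [Y ij q1.symm q2.symm, Y jl q2.symm q3.symm, Y il q1.symm q3.symm, commutatorElement_def,
        mul_inv_eq_iff_eq_mul, mul_inv_eq_iff_eq_mul, ← (hf _).mul _ _ n1 n2, ← (hf _).mul _ _ n3 n2,
        ← (hf _).mul _ _ (hn_mul n3 n2) n1, ← map_mul, ← map_mul, ← map_mul, ← LMS.xe_c1 ij jl il,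
        mul_assoc _ (xe j l d) (xe j l d), LMS.xe_sq, mul_one, mul_assoc _ (xe i j c) (xe i j c), LMS.xe_sq, mul_one]⟩
  have key : ∀ p x, HN (b p) (gc C x) → ψ x = f p (gc C x) := fun p x k => by
    let H : Subgroup (XX n F) :=
      { carrier := {x | HN (b p) (gc C x) ∧ ψ x = f p (gc C x)}
        one_mem' := ⟨by rw [map_one]; exact hn1, by rw [map_one, map_one, lo_one (hf p)]⟩
        mul_mem' := fun {x y} hx hy => ⟨by rw [map_mul]; exact hn_mul hx.1 hy.1, by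
          rw [map_mul, map_mul, (hf p).mul _ _ hx.1 hy.1, hx.2, hy.2]⟩
        inv_mem' := fun {x} hx => ⟨by rw [map_inv]; exact hn_inv hx.1, by
          rw [map_inv, map_inv, hx.2, inv_eq_iff_mul_eq_one, ← (hf p).mul _ _ hx.1 (hn_inv hx.1), mul_inv_cancel,
            lo_one (hf p)]⟩ }
    refine (LMS.B3.blk (p := (· ≠ p)) (H := H) (fun a c ha hc d => ?_) (hb p x k)).2
    by_cases ac : a = c
    · rw [ac, LMS.xe_self]; exact H.one_mem
    · exact ⟨N ac ha hc d, (hψ a c ac d).trans (Y ac ha hc d)⟩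
  let φ : XX n F →* G := ψ.comp (gc C).symm.toMonoidHom
  have key' : ∀ p x, HN (b p) x → φ x = f p x := fun p x k => by
    have := key p ((gc C).symm x) (by rwa [MulEquiv.apply_symm_apply])
    rwa [MulEquiv.apply_symm_apply] at this
  have res : ∀ x : X, φ x.1 = ι x := by
    let K : Subgroup X := (φ.comp (XU n F).subtype).eqLocus ι
    have s : ∀ p x, ac x (b p) = b p → x ∈ K := fun p x k =>
      (key' p _ (hn_ac.2 k)).trans ((hf p).res x (hn_ac.2 k))
    have : K = ⊤ := B33.top_tc fun v hv a => by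
      obtain ⟨i, i0, -⟩ := LMS.ex_third (0 : I) 0
      obtain ⟨j, j0, ji⟩ := LMS.ex_third (0 : I) i
      by_cases e : bt (b 0) v = 0
      · exact s 0 _ (tc_St hv.1 e a _ rfl)
      have e' : σ (bt (b 0) v) ≠ 0 := by simpa using e
      have n1 : bt (b 0) (σ (bt (b 0) v) • (b 0 + b i)) = bt (b 0) v := by
        simp [bt_add_right, bt_smul_right, o, i0.symm, sg_sg]
      have hv' : Is (σ (bt (b 0) v) • (b 0 + b i)) := ⟨by
        simp [bt_add_left, bt_add_right, bt_smul_left, bt_smul_right, o, i0, i0.symm, CharTwo.add_self_eq_zero],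
        fun z => e (by rw [← n1, z, H76.bt_zero_r])⟩
      have b0 : bt (b 0) (b 0) = 1 := by rw [o, if_pos rfl]
      obtain ⟨x, x1, x2⟩ := H76.tr2 (by omega) (li_an b0 hv') (li_an b0 hv) rfl (hv.1.trans hv'.1.symm) n1.symm
      rw [← x2, ← tc_cj hv'.1]
      exact K.mul_mem (K.mul_mem (s 0 _ x1) (s j _ (tc_St hv'.1 (by
        simp [bt_add_right, bt_smul_right, o, j0, ji]) a _ rfl))) (K.inv_mem (s 0 _ x1))
    exact fun x => (this ▸ mem_top x : x ∈ K)
  refine ⟨φ, res, fun a c O => ?_⟩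
  obtain ⟨i, i0, -⟩ := LMS.ex_third (0 : I) 0
  obtain ⟨j, j0, ji⟩ := LMS.ex_third (0 : I) i
  obtain ⟨k, k0, ki, kj, -⟩ := ex_six h3 (0 : I) i j i i
  obtain ⟨l, l0, li, lj, lk, -⟩ := ex_six h3 (0 : I) i j k i
  have o1 : (1 : F) * σ 1 = 1 := by simp
  have O' := ot_on o ji.symm ki.symm li.symm kj.symm lj.symm lk.symm o1 o1
  have h1 : bt (b l + (1 : F) • b i) (b 0) = 0 := by simp [bt_add_left, o, l0, i0]
  have h2 : bt (b k + (1 : F) • b j) (b 0) = 0 := by simp [bt_add_left, o, k0, j0]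
  obtain ⟨x, rfl, rfl⟩ := H76.tr_Ot (by omega) O' O
  rw [cj_T x O'.2.2.1, map_mul, map_mul, res, res, key' 0 _ (hn_T O'.2.2.1 h1 h2), (hf 0).xr _ _ O' h1 h2, map_inv,
    h.xeqv _ _ _ _ O']

/-- the homomorphism of the field case -/
theorem ex_psi (h : Stb ι t W α) (hr : r * r + r = α) (hs : σ r = r + 1) :
    ∃ ψ : XX n F →* G, (∀ x : X, ψ x.1 = ι x) ∧ ∀ a b, Ot a b → ψ (mx (1 + hm a b)) = XR ι W r a b := by
  obtain ⟨f, L, -⟩ := lo_mv h hr hs
  by_cases e : ∃ c : I, c = c.rev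
  · obtain ⟨c, hc⟩ := e
    refine glue h fun v hv => ?_
    have m1 : bt (mv : V) mv = 1 := by rw [bt_mid _ hc]; exact if_pos hc
    obtain ⟨x, rfl⟩ := witn m1 hv
    exact ⟨_, lo_tr h L x⟩
  · have z : (mv : V) = 0 := by
      ext j
      exact if_neg fun k => e ⟨j, k⟩
    rw [z] at L
    have k : ∀ x : XX n F, HN 0 x := fun x => ⟨mulVec_zero _, fun u => by simp [bt]⟩
    exact ⟨MonoidHom.mk' f fun x y => L.mul x y (k x) (k y), fun x => L.res x (k _),
      fun a b O => L.xr a b O (H76.bt_zero_r _) (H76.bt_zero_r _)⟩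

/-- the field case -/
theorem fld {E : Subgroup G} (c : C4 ι t) (h : Stb ι t W α) (hr : r * r + r = α) (hs : σ r = r + 1)
    (a : Am ι.range E t) : ∃ ψ, Fc ι ψ t E := by
  obtain ⟨ψ, h1, h2⟩ := ex_psi h hr hs
  exact ⟨ψ, H57.fc_of c h hs a h1 h2⟩

end H63
end UMS
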