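import Cfsg.Agent.Lib.UMS.W2h87
import Cfsg.Agent.Lib.UMS.B1b
import Cfsg.Agent.Lib.UMS.HY

/-! The relations between the doubled short root groups, from one commutator formula. -/

set_option autoImplicit false
set_option linter.unusedSectionVars false

namespace UMS.H76

open Subgroup H69 Cfsg Matrix U4S
open LMS (XX GX iL kk MM au tw Sg)
open scoped MatrixGroups commutatorElement

universe u
variable {G : Type*} [Group G] [Finite G] {F : Type u} [Field F] [CharP F 2] [Fintype F] [Hs F] {n : ℕ} [Ok n F]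
  {ι : XU n F →* G} {t : G} {W : VV n F → G}

local notation "X" => XU n F
local notation "V" => VV n F
local notation "I" => Fin (n + 3)

theorem osm {u v : V} (h : bt u v = 0) (a b : F) : bt (a • u) (b • v) = 0 := by
  rw [H12.bt_smul_l, H12.bt_smul_r, h, mul_zero, mul_zero]
theorem osl {u v : V} (h : bt u v = 0) (a : F) : bt (a • u) v = 0 := by rw [H12.bt_smul_l, h, mul_zero]
theorem osr {u v : V} (h : bt u v = 0) (a : F) : bt u (a • v) = 0 := by rw [H12.bt_smul_r, h, mul_zero]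
theorem oadd {u v : V} (hu : bt u u = 0) (hv : bt v v = 0) (e : bt u v = 0) : bt (u + v) (u + v) = 0 := by
  rw [H12.bt_add_l, H12.bt_add_r, H12.bt_add_r, hu, hv, e, H12.bt_sw e]; simp
theorem oe {i j : I} (h : i ≠ j.rev) : bt (ee i : V) (ee j) = 0 := by rw [bt_ee, if_neg h]
theorem oe' {i j : I} (h : i ≠ j) : bt (ee i : V) (ee j.rev) = 0 := oe (by rwa [Fin.rev_rev])
theorem oe2 {i j : I} (h : i ≠ j.rev) : bt (ee i.rev : V) (ee j.rev) = 0 :=
  oe' fun e => h (by rw [← e, Fin.rev_rev])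

theorem SS_cj (k : Wt ι t W) (x : X) {u v : V} (hu : bt u u = 0) (hv : bt v v = 0) (e : bt u v = 0) :
    ι x * SS W u v * (ι x)⁻¹ = SS W (ac x u) (ac x v) := by
  unfold SS
  rw [← H12.ac_add, ← k.eqv x _ (oadd hu hv e), ← k.eqv x _ hu, ← k.eqv x _ hv]; group

theorem W_fix (k : Wt ι t W) {x : X} {u : V} (hu : bt u u = 0) (h : ac x u = u) : Commute (ι x) (W u) := by
  have := k.eqv x u hu
  rw [h] at this
  exact mul_inv_eq_iff_eq_mul.1 this

theorem SS_fix (k : Wt ι t W) {x : X} {u v : V} (hu : bt u u = 0) (hv : bt v v = 0) (e : bt u v = 0)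
    (h1 : ac x u = u) (h2 : ac x v = v) : Commute (ι x) (SS W u v) := by
  have := SS_cj k x hu hv e
  rw [h1, h2] at this
  exact mul_inv_eq_iff_eq_mul.1 this

theorem sh_fix {a b u : V} (ha : bt a a = 0) (hb : bt b b = 0) (e : bt a b = 0) (h1 : bt u a = 0) (h2 : bt u b = 0) :
    ac (sh a b) u = u := by rw [H12.ac_sh ha hb e, h1, h2, zero_smul, zero_smul, add_zero, add_zero]

theorem tc_fix {a u : V} (ha : bt a a = 0) (h1 : bt u a = 0) (c : K0 F) : ac (tc a c) u = u := by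
  rw [H12.ac_tc ha, h1, mul_zero, zero_smul, add_zero]

theorem SS_cm (h : C4 ι t) (k : Wt ι t W) {u v a b : V} (hu : bt u u = 0) (hv : bt v v = 0) (e : bt u v = 0)
    (ha : bt a a = 0) (hb : bt b b = 0) (e' : bt a b = 0) (h1 : bt u a = 0) (h2 : bt u b = 0) (h3 : bt v a = 0)
    (h4 : bt v b = 0) : Commute (SS W u v) (SS W a b) := by
  have q : ∀ x, bt x x = 0 → bt x a = 0 → bt x b = 0 → Commute (W x) (SS W a b) := fun x x0 x1 x2 =>
    (Commute.mul_right (H87.cmW h k x0 (oadd ha hb e') (by rw [H12.bt_add_r, x1, x2, add_zero]))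
      (H87.cmW h k x0 ha x1)).mul_right (H87.cmW h k x0 hb x2)
  exact ((q _ (oadd hu hv e) (by rw [H12.bt_add_l, h1, h3, add_zero]) (by rw [H12.bt_add_l, h2, h4, add_zero])).mul_left
    (q u hu h1 h2)).mul_left (q v hv h3 h4)

theorem add2 (h : C4 ι t) (k : Wt ι t W) {p q r : I} (h1 : p ≠ q) (h2 : p ≠ r) (h3 : q ≠ r) (k1 : p ≠ p.rev)
    (k2 : q ≠ q.rev) (k3 : r ≠ r.rev) (k4 : p ≠ q.rev) (k5 : p ≠ r.rev) (k6 : q ≠ r.rev) (c a b : F) :
    SS W (c • ee p) (a • ee q + b • ee r) = SS W (c • ee p) (a • ee q) * SS W (c • ee p) (b • ee r) := by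
  have p0 := osm (oe (F := F) k1) c c
  by_cases ha : a = 0
  · rw [ha, zero_smul, zero_add, H87.SS_zero_r k p0, one_mul]
  by_cases hb : b = 0
  · rw [hb, zero_smul, add_zero, H87.SS_zero_r k p0, mul_one]
  by_cases hc : c = 0
  · have q0 := osm (oe (F := F) k2) a a
    have r0 := osm (oe (F := F) k3) b b
    rw [hc, zero_smul, H87.SS_zero_l k q0, H87.SS_zero_l k r0, H87.SS_zero_l k (oadd q0 r0 (osm (oe k6) a b)), one_mul]
  refine H87.sadd3 h k (H87.span_ti p0 (osm (oe k2) a a) (osm (oe k3) b b) (osm (oe k4) c a) (osm (oe k5) c b)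
    (osm (oe k6) a b)) (Submodule.subset_span (by simp)) (Submodule.subset_span (by simp))
    (Submodule.subset_span (by simp)) fun x y z e => ⟨?_, ?_, ?_⟩
  · simpa [ee, Pi.single_apply, h1, h2, hc] using congrFun e p
  · simpa [ee, Pi.single_apply, h1.symm, h3, ha] using congrFun e q
  · simpa [ee, Pi.single_apply, h2.symm, h3.symm, hb] using congrFun e r

theorem rv {i j : I} (h : i ≠ j.rev) : j ≠ i.rev := fun e => h (by rw [e, Fin.rev_rev])
theorem rr {i : I} (h : i ≠ i.rev) : i.rev ≠ i.rev.rev := by rw [Fin.rev_rev]; exact h.symm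

theorem YS_l (k : Wt ι t W) {i j : I} (s : Sh i j) (x : F) : YS ι W i j x 0 = ι (sr i j x) := by
  unfold YS; rw [zero_smul, H87.SS_zero_l k (oe2 s.2.2.2), mul_one]

theorem YS_r {i j : I} (s : Sh i j) (y : F) : YS ι W i j 0 y = SS W (y • ee i) (ee j.rev) := by
  have := sr_mul (F := F) s 0 0
  rw [add_zero, mul_eq_left] at this
  unfold YS; rw [this, map_one, one_mul]

theorem mix0 (k : Wt ι t W) {i j p l : I} (s : Sh i j) (s' : Sh p l) (h1 : i ≠ l) (h2 : j ≠ p) (h3 : p ≠ i.rev)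
    (h4 : l ≠ j.rev) (x y : F) : Commute (ι (sr i j x)) (SS W (y • ee p) (ee l.rev)) := by
  have a0 := osm (oe (F := F) s.2.2.1) x x
  have b0 := oe2 (F := F) s.2.2.2
  have e := osl (oe' (F := F) s.1) x
  exact SS_fix k (osm (oe s'.2.2.1) y y) (oe2 s'.2.2.2) (osl (oe' s'.1) y)
    (sh_fix a0 b0 e (osm (oe h3) y x) (osl (oe' h2.symm) y))
    (sh_fix a0 b0 e (osr (H12.bt_sw (oe' h1)) x) (oe2 h4))

theorem yadd (h : C4 ι t) (k : Wt ι t W) {i j : I} (s : Sh i j) (x y x' y' : F) :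
    YS ι W i j x y * YS ι W i j x' y' = YS ι W i j (x + x') (y + y') := by
  have sy : ∀ y : F, SS W (y • ee i) (ee j.rev) = SS W ((1 : F) • ee j.rev) (y • ee i) := fun y => by
    rw [one_smul]; exact H87.SS_symm h k (osm (oe s.2.2.1) y y) (oe2 s.2.2.2) (osl (oe' s.1) y)
  unfold YS
  rw [← sr_mul s, map_mul, sy (y + y'), H87.badd h k (UMS.ot_ee s).symm, ← sy, ← sy, mul_assoc, mul_assoc,
    ← mul_assoc (SS W _ _), ← (mix0 k s s s.1 s.1.symm s.2.2.1 s.2.2.2 x' y).eq, mul_assoc]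

theorem yc0 (h : C4 ι t) (k : Wt ι t W) {i j p l : I} (s : Sh i j) (s' : Sh p l) (h1 : i ≠ l) (h2 : j ≠ p)
    (h3 : p ≠ i.rev) (h4 : l ≠ j.rev) (x y x' y' : F) : Commute (YS ι W i j x y) (YS ι W p l x' y') := by
  have c1 : Commute (ι (sr i j x)) (ι (sr p l x')) := Commute.map (sr_c0 s s' h1 h2 h3 h4 x x') ι
  have c2 := mix0 k s s' h1 h2 h3 h4 x y'
  have c3 := mix0 k s' s h2.symm h1.symm (rv h3) (rv h4) x' y
  have c4 := SS_cm h k (osm (oe s.2.2.1) y y) (oe2 s.2.2.2) (osl (oe' s.1) y) (osm (oe s'.2.2.1) y' y') (oe2 s'.2.2.2)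
    (osl (oe' s'.1) y') (osm (oe (rv h3)) y y') (osl (oe' h1) y) (osr (H12.bt_sw (oe' h2.symm)) y') (oe2 (rv h4))
  exact (c1.mul_right c2).mul_left (c3.symm.mul_right c4)

theorem mix1 (h : C4 ι t) (k : Wt ι t W) {i j l : I} (s : Sh i j) (s' : Sh j l) (s'' : Sh i l) (x y : F) :
    ⁅ι (sr i j x), SS W (y • ee j) (ee l.rev)⁆ = YS ι W i l 0 (x * y) := by
  have a0 := osm (oe (F := F) s.2.2.1) x x
  have b0 := oe2 (F := F) s.2.2.2
  have e := osl (oe' (F := F) s.1) x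
  have l0 := oe2 (F := F) s'.2.2.2
  have sy : ∀ u : V, bt u u = 0 → bt u (ee l.rev) = 0 → SS W u (ee l.rev) = SS W ((1 : F) • ee l.rev) u := fun u u0 u1 => by
    rw [one_smul]; exact H87.SS_symm h k u0 l0 u1
  have j0 := osm (oe (F := F) s'.2.2.1) y y
  have i0 := osm (oe (F := F) s.2.2.1) (x * y) (x * y)
  have e1 : ac (sr i j x) (y • ee j : V) = (x * y) • ee i + y • ee j := by
    unfold sr
    rw [H12.ac_sh a0 b0 e, osm (oe s.2.1), zero_smul, add_zero, H12.bt_smul_l, bt_ee, Fin.rev_rev, if_pos rfl, mul_one,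
      smul_smul, add_comm, mul_comm]
  have e2 : ac (sr i j x) (ee l.rev : V) = ee l.rev := sh_fix a0 b0 e (osr (H12.bt_sw (oe' s''.1)) x) (oe2 s'.2.1)
  rw [commutatorElement_def, SS_cj k _ j0 l0 (osl (oe' s'.1) y), e1, e2, YS_r s'',
    sy _ (oadd i0 j0 (osm (oe (rv s.2.1)) _ _)) (by rw [H12.bt_add_l, osl (oe' s''.1), osl (oe' s'.1), add_zero]),
    add2 h k (rv s''.2.1).symm (rv s'.2.1).symm s.1 (rr s'.2.2.2) s.2.2.1 s'.2.2.1
      (fun q => s''.1 (Fin.rev_injective q).symm) (fun q => s'.1 (Fin.rev_injective q).symm) (rv s.2.1),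
    ← sy _ i0 (osl (oe' s''.1) _), ← sy _ j0 (osl (oe' s'.1) _), mul_inv_cancel_right]

theorem mix2 (h : C4 ι t) (k : Wt ι t W) {i j l : I} (s : Sh i j) (s' : Sh j l) (s'' : Sh i l) (x y : F) :
    ⁅SS W (y • ee i) (ee j.rev), ι (sr j l x)⁆ = YS ι W i l 0 (y * x) := by
  have a0 := osm (oe (F := F) s'.2.2.1) x x
  have b0 := oe2 (F := F) s'.2.2.2
  have e := osl (oe' (F := F) s'.1) x
  have i0 := osm (oe (F := F) s.2.2.1) y y
  have e1 : ac (sr j l x) (y • ee i : V) = y • ee i := sh_fix a0 b0 e (osm (oe (rv s.2.1)) y x) (osl (oe' s''.1) y)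
  have e2 : ac (sr j l x) (ee j.rev : V) = (1 : F) • ee j.rev + σ x • ee l.rev := by
    unfold sr
    rw [H12.ac_sh a0 b0 e, oe2 (rv s'.2.1), zero_smul, add_zero, H12.bt_smul_r, bt_ee, if_pos rfl, mul_one, one_smul]
  have e3 := H87.bsc h k (UMS.ot_ee s'') (σ x) y 1
  rw [H12.ss, one_smul, mul_one] at e3
  rw [← commutatorElement_inv, commutatorElement_def, SS_cj k _ i0 (oe2 s.2.2.2) (osl (oe' s.1) y), e1, e2,
    add2 h k (rv s.2.1) (rv s''.2.1) (fun q => s'.1 (Fin.rev_injective q)) s.2.2.1 (rr s.2.2.2) (rr s'.2.2.2)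
      (by rw [Fin.rev_rev]; exact s.1) (by rw [Fin.rev_rev]; exact s''.1) (by rw [Fin.rev_rev]; exact s'.2.1.symm),
    one_smul, ← e3, YS_r s'', mul_comm y x]
  have c := yc0 h k s s'' s''.1 s.1.symm s.2.2.1 s'.2.1 0 y 0 (x * y)
  rw [YS_r s, YS_r s''] at c
  rw [c.eq, mul_inv_cancel_right]
  exact inv_eq_of_mul_eq_one_right (H87.SS_sq h k (osm (oe s.2.2.1) _ _) b0 (osl (oe' s''.1) _))

theorem grp {s A s' B p q r κ : G} (h1 : ⁅s, s'⁆ = p) (h2 : ⁅s, B⁆ = q) (h3 : ⁅A, s'⁆ = r) (h4 : ⁅A, B⁆ = κ)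
    (c1 : Commute s' κ) (c2 : Commute s' q) (c3 : Commute s (r * κ)) : ⁅s * A, s' * B⁆ = r * κ * (p * q) := by
  have e : ⁅s * A, s' * B⁆ = s * (⁅A, s'⁆ * (s' * ⁅A, B⁆ * s'⁻¹)) * s⁻¹ * (⁅s, s'⁆ * (s' * ⁅s, B⁆ * s'⁻¹)) := by
    simp only [commutatorElement_def]; group
  rw [e, h1, h2, h3, h4, c1.eq, c2.eq, mul_inv_cancel_right, mul_inv_cancel_right, c3.eq, mul_inv_cancel_right]

theorem tSS (h : C4 ι t) (k : Wt ι t W) {u v : V} (hu : bt u u = 0) (hv : bt v v = 0) (e : bt u v = 0) :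
    t * SS W u v * t = ι (sh u v) * SS W u v := by
  have q : ∀ x : V, bt x x = 0 → t * W x * t = ι (tc x 1) * W x := fun x hx => by
    have := H87.tW k hx
    rw [mul_inv_eq_iff_eq_mul] at this
    rw [mul_assoc, this, ← mul_assoc, ← mul_assoc, h.t2, one_mul]
  have s0 := oadd hu hv e
  have c1 := W_fix k s0 (tc_fix hu (by rw [H12.bt_add_l, hu, H12.bt_sw e, add_zero]) 1)
  have c2 := W_fix k s0 (tc_fix hv (by rw [H12.bt_add_l, hv, e, add_zero]) 1)
  have c3 := W_fix k hu (tc_fix hv e 1)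
  have e1 : t * SS W u v * t = (t * W (u + v) * t) * (t * W u * t) * (t * W v * t) := by
    unfold SS
    simp only [mul_assoc]
    rw [← mul_assoc t t, ← mul_assoc t t, h.t2, one_mul, one_mul]
  rw [e1, q _ s0, q _ hu, q _ hv, sh_tc hu hv e, map_mul, map_mul]
  unfold SS
  simp only [mul_assoc]
  rw [← mul_assoc (W u), ← c3.eq, ← mul_assoc (W (u + v)), ← c1.eq, mul_assoc, mul_assoc, ← mul_assoc (W (u + v)), ← c2.eq,
    mul_assoc]

theorem sh_one {u v : V} (o : Ot u v) (r : F) : sh ((r + 1) • u) v = sh (r • u) v * sh u v := by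
  rw [add_smul, one_smul, sh_symm, sh_add o.2.1 (osm o.1 r r) o.1 (osr (H12.bt_sw o.2.2.1) r) (H12.bt_sw o.2.2.1)
    (osl o.1 r), sh_symm v, sh_symm v]

theorem stb0 (h : C4 ι t) (w : W2 ι t W) {α : K0 F} (c : ∀ i j l, Sh i j → Sh j l → Sh i l → ∀ y y2,
    ⁅SS W (y • ee i) (ee j.rev), SS W (y2 • ee j) (ee l.rev)⁆ =
      ι (sr i l (α * (y * y2))) * SS W ((y * y2) • ee i) (ee l.rev)) : Stb ι t W α where
  toW2 := w
  yadd := fun _ _ s => yadd h w.toWt s
  c0 := fun _ _ _ _ s s' h1 h2 h3 h4 x y x' y' => yc0 h w.toWt s s' h1 h2 h3 h4 x y x' y'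
  c1 := fun i j l s s' s'' x y x' y' => by
    have k := w.toWt
    have q1 : ∀ a b, Commute (ι (sr j l x')) (YS ι W i l a b) := fun a b => by
      rw [← YS_l k s']; exact yc0 h k s' s'' s'.1 s''.1.symm (rv s.2.1) s'.2.2.2 _ _ _ _
    have q2 : ∀ a b, Commute (ι (sr i j x)) (YS ι W i l a b) := fun a b => by
      rw [← YS_l k s]; exact yc0 h k s s'' s''.1 s.1.symm s.2.2.1 s'.2.1 _ _ _ _
    have h1 : ⁅ι (sr i j x), ι (sr j l x')⁆ = YS ι W i l (x * x') 0 := by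
      rw [YS_l k s'', ← map_commutatorElement, sr_c1 s s' s'']
    have h4 : _ = YS ι W i l (α * (y * y')) (y * y') := c i j l s s' s'' y y'
    refine (grp h1 (mix1 h k s s' s'' x y') (mix2 h k s s' s'' x' y) h4 (q1 _ _) (q1 _ _)
      ((q2 _ _).mul_right (q2 _ _))).trans ?_
    rw [yadd h k s'', yadd h k s'', yadd h k s'']
    congr 1 <;> ring
  sym := fun i j s x y => by
    unfold YS
    rw [← sr_sym s, Fin.rev_rev, ← w.sc _ _ y (UMS.ot_ee s).symm,
      H87.SS_symm h w.toWt (osm (oe s.2.2.1) y y) (oe2 s.2.2.2) (osl (oe' s.1) y)]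
  tw := fun u v r o => by
    unfold XR
    rw [← mul_assoc, h.tc, mul_assoc (ι _), mul_assoc (ι _), tSS h w.toWt o.1 o.2.1 o.2.2.1, sh_one o, map_mul, mul_assoc]
  xsym := fun u v r o => by
    unfold XR
    rw [sh_smul, sh_symm, H87.SS_symm h w.toWt o.1 o.2.1 o.2.2.1]
  xeqv := fun x u v r o => by
    unfold XR
    rw [← SS_cj w.toWt x o.1 o.2.1 o.2.2.1, ← H12.ac_smul, ← sh_cj (osm o.1 r r) o.2.1 (osl o.2.2.1 r), map_mul, map_mul,
      map_inv]
    group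
  xmul := fun u v r o => by
    unfold XR
    have a0 := osm o.1 (r + 1) (r + 1)
    have e := osl o.2.2.1 (r + 1)
    have c := SS_fix w.toWt o.1 o.2.1 o.2.2.1 (sh_fix a0 o.2.1 e (osr o.1 _) o.2.2.1)
      (sh_fix a0 o.2.1 e (osr (H12.bt_sw o.2.2.1) _) o.2.1)
    rw [mul_assoc, ← mul_assoc (SS W u v), ← c.eq, mul_assoc, H87.SS_sq h w.toWt o.1 o.2.1 o.2.2.1, mul_one, ← map_mul,
      sh_one o, ← mul_assoc, sh_sq (osm o.1 r r) o.2.1 (osl o.2.2.1 r), one_mul]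

end UMS.H76
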