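import Cfsg.Agent.Lib.UMS.C1h87
import Cfsg.Agent.Lib.UMS.Stb76

/-! The relations between the doubled short root groups. -/

set_option autoImplicit false
set_option linter.unusedSectionVars false

namespace UMS
namespace H87

universe u
variable {G : Type*} [Group G] [Finite G] {F : Type u} [Field F] [CharP F 2] [Fintype F] [Hs F] {n : ℕ} [Ok n F]
  {ι : XU n F →* G} {t : G} {W : VV n F → G}

theorem stb' (h : C4 ι t) (k : W2 ι t W) : ∃ α, Stb ι t W α :=
  ⟨_, H76.stb0 h k (c1core h k).choose_spec⟩

theorem stb (h : C4 ι t) : ∃ W α, Stb ι t W α := by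
  obtain ⟨W, k⟩ := exWt h
  exact ⟨W, stb' h (w2 h k)⟩

end H87
end UMS
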