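import Cfsg.Agent.Lib.UMS.COV
import Cfsg.Agent.Lib.UMS.CE
import Cfsg.Agent.Lib.UMS.GEN0
import Cfsg.Agent.Lib.UMS.W2h87
import Cfsg.Agent.Lib.UMS.SB63
import Cfsg.Agent.Lib.UMS.FL57
import Cfsg.Agent.Lib.UMS.H12b

set_option autoImplicit false
set_option linter.unusedSectionVars false

namespace UMS.H22

open Subgroup H69 Cfsg Matrix U4S
open LMS (XX GX iL kk MM au tw Sg)
open scoped MatrixGroups commutatorElement

universe u
variable {G : Type*} [Group G] [Finite G] {F : Type u} [Field F] [CharP F 2] [Fintype F] [Hs F] {n : ℕ} [Ok n F]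
  {ι : XU n F →* G} {t : G} {E : Subgroup G} {W : VV n F → G} {α : K0 F} {r : F}

local notation "X" => XU n F
local notation "V" => VV n F
local notation "I" => Fin (n + 3)

theorem htriv {Γ : Type*} [Group Γ] (c : commutator Γ = ⊤) (f g : Γ →* G)
    (h : ∀ x y, f x * (g x)⁻¹ * g y = g y * (f x * (g x)⁻¹))
    (hf : ∀ x y, f x * (g x)⁻¹ * f y = f y * (f x * (g x)⁻¹)) (x : Γ) : f x = g x := by
  let d : Γ →* G := MonoidHom.mk' (fun x => f x * (g x)⁻¹) fun x y => by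
    rw [map_mul, map_mul, _root_.mul_inv_rev]
    have := h y x⁻¹
    rw [map_inv] at this
    calc f x * f y * ((g y)⁻¹ * (g x)⁻¹) = f x * (f y * (g y)⁻¹ * (g x)⁻¹) := by group
      _ = _ := by rw [this]; group
  have hd : commutator Γ ≤ d.ker := by
    rw [commutator_def, commutator_le]
    intro x _ y _
    rw [MonoidHom.mem_ker, map_commutatorElement, commutatorElement_eq_one_iff_mul_comm]
    change f x * (g x)⁻¹ * (f y * (g y)⁻¹) = f y * (g y)⁻¹ * (f x * (g x)⁻¹)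
    have := h x y⁻¹
    rw [map_inv] at this
    rw [← mul_assoc, hf, mul_assoc, this, mul_assoc]
  exact mul_inv_eq_one.1 (hd (c ▸ mem_top x))

theorem split (h : C1 ι t) (L M : Subgroup G) (pf : ⁅L, L⁆ = L) (cm : ∀ a ∈ L, ∀ b ∈ M, a * b = b * a)
    (s1 : ∀ a ∈ L, t * a * t⁻¹ ∈ M) (s2 : ∀ a ∈ M, t * a * t⁻¹ ∈ L)
    (dec : ∀ x, ∃ a ∈ L, ∃ b ∈ M, ι x = a * b) (sur : ∀ a ∈ L, ∃ x, ∃ b ∈ M, ι x = a * b) :
    ∃ ψ : X →* G, Em ψ ∧ ψ.range = L ∧ ∀ x, ψ x * cι ψ t x = ι x := by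
  have ti : t⁻¹ = t := inv_eq_of_mul_eq_one_right h.t2
  have pf' : commutator L = ⊤ := map_injective L.subtype_injective (by
    rw [map_subtype_commutator, pf, ← MonoidHom.range_eq_map, range_subtype])
  let N : Subgroup L := M.subgroupOf L
  have Nc : N ≤ center L := fun a ha => mem_center_iff.2 fun b => Subtype.ext (cm b b.2 a ha)
  haveI : N.Normal := ⟨fun a ha b => by rw [mem_center_iff.1 (Nc ha) b, mul_inv_cancel_right]; exact ha⟩
  have key : ∀ (a a' : L) (b b' : G), b ∈ M → b' ∈ M → a.1 * b = a'.1 * b' →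
      (QuotientGroup.mk a : L ⧸ N) = QuotientGroup.mk a' := fun a a' b b' hb hb' e => by
    refine QuotientGroup.eq.2 ?_
    change a.1⁻¹ * a'.1 ∈ M
    rw [show a.1⁻¹ * a'.1 = b * b'⁻¹ by rw [eq_mul_inv_of_mul_eq e.symm]; group]
    exact mul_mem hb (inv_mem hb')
  choose A hA B hB eA using dec
  let π : X →* L ⧸ N := MonoidHom.mk' (fun x => QuotientGroup.mk ⟨A x, hA x⟩) fun x y => by
    rw [← QuotientGroup.mk_mul]
    refine key _ _ (B (x * y)) (B x * B y) (hB _) (mul_mem (hB _) (hB _)) ?_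
    change A (x * y) * B (x * y) = A x * A y * (B x * B y)
    rw [← eA, map_mul, eA, eA, mul_assoc, mul_assoc, ← mul_assoc (B x), ← cm _ (hA y) _ (hB x), mul_assoc]
  have πs : Function.Surjective π := fun q => by
    obtain ⟨a, rfl⟩ := QuotientGroup.mk_surjective q
    obtain ⟨x, b, hb, e⟩ := sur a a.2
    exact ⟨x, key _ _ _ _ (hB x) hb ((eA x).symm.trans e)⟩
  have πk : π.ker ≤ (QuotientGroup.mk' (center X)).ker := by
    rw [QuotientGroup.ker_mk']
    refine (normal_X π.ker).resolve_right fun e => ?_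
    have le : L ≤ M := fun a ha => by
      obtain ⟨x, hx⟩ := πs (QuotientGroup.mk ⟨a, ha⟩)
      rw [(e ▸ mem_top x : x ∈ π.ker), eq_comm, QuotientGroup.eq_one_iff] at hx
      exact hx
    have L0 : ∀ a ∈ L, a = 1 := fun a ha => by
      rw [← pf] at ha
      exact mem_bot.1 (commutator_le.2 (fun a ha b hb => mem_bot.2
        (commutatorElement_eq_one_iff_mul_comm.2 (cm a ha b (le hb)))) ha)
    have : ι (zz 1) = 1 := by
      have := L0 _ (s2 _ (hB (zz 1)))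
      rw [mul_inv_eq_one, mul_eq_left] at this
      rw [eA, L0 _ (hA _), this, mul_one]
    exact one_ne_zero (tc_cen H12.is0 (h.em this))
  let ρ : L →* X ⧸ center X := (π.liftOfSurjective πs ⟨_, πk⟩).comp (QuotientGroup.mk' N)
  have ρA : ∀ x, ρ ⟨A x, hA x⟩ = QuotientGroup.mk x := fun x =>
    π.liftOfRightInverse_comp_apply _ (Function.rightInverse_surjInv πs) ⟨_, πk⟩ x
  have ρs : Function.Surjective ρ := fun q => by
    obtain ⟨x, rfl⟩ := QuotientGroup.mk_surjective q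
    exact ⟨_, ρA x⟩
  have ρk : ρ.ker ≤ center L := fun a ha => by
    obtain ⟨x, hx⟩ := πs (QuotientGroup.mk a)
    have xc : x ∈ center X := by
      rw [← QuotientGroup.eq_one_iff, ← ρA, ← MonoidHom.mem_ker.1 ha]
      exact congrArg (π.liftOfSurjective πs ⟨_, πk⟩) hx
    have c : ∀ b : L, a * b * a⁻¹ * b⁻¹ ∈ center L := fun b => Nc (by
      obtain ⟨y, hy⟩ := πs (QuotientGroup.mk b)
      rw [← QuotientGroup.eq_one_iff, QuotientGroup.mk_mul, QuotientGroup.mk_mul, QuotientGroup.mk_mul,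
        QuotientGroup.mk_inv, QuotientGroup.mk_inv, ← hx, ← hy, ← map_mul, ← mem_center_iff.1 xc y, map_mul]
      group)
    refine mem_center_iff.2 fun b => ?_
    have := htriv pf' (MulAut.conj a).toMonoidHom (MonoidHom.id L) (fun x y => (mem_center_iff.1 (c x) _).symm)
      (fun x y => (mem_center_iff.1 (c x) _).symm) b
    exact (mul_inv_eq_iff_eq_mul.1 this).symm
  obtain ⟨ψ, e1, e2, e3⟩ := cov pf' ρ.ker ρk (QuotientGroup.quotientKerEquivOfSurjective ρ ρs)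
  have e4 : ∀ x, ρ (ψ x) = QuotientGroup.mk x := e3
  refine ⟨L.subtype.comp ψ, fun x hx => e1 (Subtype.ext hx), ?_, ?_⟩
  · rw [MonoidHom.range_comp, MonoidHom.range_eq_top.2 e2, ← MonoidHom.range_eq_map, range_subtype]
  let f : X →* G := MonoidHom.mk' (fun x => (ψ x).1 * (t * (ψ x).1 * t⁻¹)) fun x y => by
    rw [map_mul, coe_mul, mul_assoc (ψ x).1 (t * (ψ x).1 * t⁻¹), ← mul_assoc (t * (ψ x).1 * t⁻¹),
      ← cm _ (ψ y).2 _ (s1 _ (ψ x).2)]
    group
  have c : ∀ x, (∀ a ∈ L, f x * (ι x)⁻¹ * a = a * (f x * (ι x)⁻¹)) ∧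
      ∀ a ∈ M, f x * (ι x)⁻¹ * a = a * (f x * (ι x)⁻¹) := fun x => by
    let C : Subgroup G := centralizer L ⊓ centralizer M
    have z1 : ψ x * (⟨A x, hA x⟩ : L)⁻¹ ∈ center L := ρk (by
      rw [MonoidHom.mem_ker, map_mul, map_inv, e4, ρA, mul_inv_cancel])
    obtain ⟨z, hz, ez⟩ : ∃ z ∈ L, (∀ a ∈ L, a * z = z * a) ∧ (ψ x).1 = z * A x :=
      ⟨_, (ψ x * (⟨A x, hA x⟩ : L)⁻¹).2, fun a ha => congrArg Subtype.val (mem_center_iff.1 z1 ⟨a, ha⟩), by simp⟩
    have zC : z ∈ C := ⟨ez.1, fun b hb => (cm z hz b hb).symm⟩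
    have tC : t * z * t⁻¹ ∈ C := ⟨fun a ha => cm a ha _ (s1 z hz), fun b hb => by
      have := ez.1 _ (s2 b hb)
      rw [ti] at this ⊢
      calc b * (t * z * t) = (t * t) * b * (t * z * t) := by rw [h.t2, one_mul]
        _ = t * (t * b * t * z) * t := by group
        _ = t * z * t * b * (t * t) := by rw [this]; group
        _ = _ := by rw [h.t2, mul_one]⟩
    have e5 : A x * B x = t * B x * t⁻¹ * (t * A x * t⁻¹) := by
      rw [← cm _ (s2 _ (hB x)) _ (s1 _ (hA x)) |>.symm, ← eA]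
      calc ι x = t * ι x * t⁻¹ := by rw [h.tc, mul_inv_cancel_right]
        _ = _ := by rw [eA]; group
    have wM : t * A x * t⁻¹ * (B x)⁻¹ ∈ M := mul_mem (s1 _ (hA x)) (inv_mem (hB x))
    have wL : t * A x * t⁻¹ * (B x)⁻¹ ∈ L := by
      rw [show t * A x * t⁻¹ * (B x)⁻¹ = (t * B x * t⁻¹)⁻¹ * A x by
        rw [mul_inv_eq_iff_eq_mul, mul_assoc (t * B x * t⁻¹)⁻¹ (A x), e5]; group]
      exact mul_mem (inv_mem (s2 _ (hB x))) (hA x)
    have wC : t * A x * t⁻¹ * (B x)⁻¹ ∈ C := ⟨fun a ha => cm a ha _ wM, fun b hb => (cm _ wL b hb).symm⟩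
    have : f x * (ι x)⁻¹ ∈ C := by
      have e6 : f x * (ι x)⁻¹ = z * (A x * (t * z * t⁻¹ * (t * A x * t⁻¹ * (B x)⁻¹)) * (A x)⁻¹) := by
        change (ψ x).1 * (t * (ψ x).1 * t⁻¹) * (ι x)⁻¹ = _
        rw [ez.2, eA]; group
      rw [e6, (mul_mem tC wC).1 _ (hA x), mul_inv_cancel_right]
      exact mul_mem zC (mul_mem tC wC)
    exact ⟨fun a ha => (this.1 a ha).symm, fun a ha => (this.2 a ha).symm⟩
  refine htriv pf_X f ι (fun x y => ?_) fun x y => ?_
  · rw [eA y, ← mul_assoc, (c x).1 _ (hA y), mul_assoc (A y), (c x).2 _ (hB y), mul_assoc]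
  · change _ * ((ψ y).1 * (t * (ψ y).1 * t⁻¹)) = (ψ y).1 * (t * (ψ y).1 * t⁻¹) * _
    rw [← mul_assoc, (c x).1 _ (ψ y).2, mul_assoc (ψ y).1, (c x).2 _ (s1 _ (ψ y).2), ← mul_assoc]

theorem clo_cm {A B : Set G} (h : ∀ a ∈ A, ∀ b ∈ B, Commute a b) {a b : G} (ha : a ∈ closure A)
    (hb : b ∈ closure B) : Commute a b :=
  closure_induction (fun a ha => closure_induction (fun b hb => h a ha b hb) (Commute.one_right _)
    (fun _ _ _ _ => Commute.mul_right) (fun _ _ => Commute.inv_right) hb) (Commute.one_left _)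
    (fun _ _ _ _ => Commute.mul_left) (fun _ _ => Commute.inv_left) ha

theorem r1 (hr : r * r + r = α) : (r + 1) * (r + 1) + (r + 1) = α := by
  linear_combination hr + (r + 1) * (CharTwo.two_eq_zero (R := F))

theorem r2 : r + 1 + 1 = r := by rw [add_assoc, CharTwo.add_self_eq_zero, add_zero]

theorem c1 (h : Stb ι t W α) (hr : r * r + r = α) {i j l : I} (s1 : Sh i j) (s2 : Sh j l) (s3 : Sh i l) (a b : F) :
    Commute (YS ι W i j (r * a) a) (YS ι W j l ((r + 1) * b) b) := by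
  have t2 : (2 : F) = 0 := CharTwo.two_eq_zero
  refine commutatorElement_eq_one_iff_commute.1 ?_
  rw [h.c1 _ _ _ s1 s2 s3, ← hr, ← H63.ys_zero h s3]
  congr 1
  · linear_combination ((r * r + r) * a * b) * t2
  · linear_combination ((r + 1) * a * b) * t2

theorem easy (h : Stb ι t W α) (hr : r * r + r = α) (hs : σ r = r) {i j k l : I} (s1 : Sh i j) (s2 : Sh k l)
    (g : ¬ ((k = i ∨ k = i.rev ∨ k = j ∨ k = j.rev) ∧ (l = i ∨ l = i.rev ∨ l = j ∨ l = j.rev))) (a b : F) :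
    Commute (YS ι W i j (r * a) a) (YS ι W k l ((r + 1) * b) b) := by
  have c2 : ∀ {k : I}, Sh k i → Sh k j → ∀ b, Commute (YS ι W i j (r * a) a) (YS ι W k i ((r + 1) * b) b) :=
    fun q1 q2 b => by
      have := c1 h (r1 hr) q1 s1 q2 b a
      rw [r2] at this
      exact this.symm
  by_cases e1 : j = k
  · subst e1
    have g' := fun q => g ⟨by simp, q⟩
    refine c1 h hr s1 s2 ?_ a b
    simp only [Sh, ne_eq, Fin.ext_iff, Fin.val_rev, imp_false] at s1 s2 g' ⊢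
    omega
  by_cases e2 : i = l
  · subst e2
    have g' := fun q => g ⟨q, by simp⟩
    refine c2 s2 ?_ b
    simp only [Sh, ne_eq, Fin.ext_iff, Fin.val_rev, imp_false] at s1 s2 g' ⊢
    omega
  by_cases e3 : k = i.rev
  · subst e3
    rw [h.sym _ _ s2, Fin.rev_rev, map_mul, map_add, map_one, hs]
    have g' := fun q => g ⟨by simp, q⟩
    refine c2 ?_ ?_ _ <;>
    · simp only [Sh, ne_eq, Fin.ext_iff, Fin.val_rev, imp_false] at s1 s2 g' ⊢
      omega
  by_cases e4 : l = j.rev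
  · subst e4
    rw [h.sym _ _ s2, Fin.rev_rev, map_mul, map_add, map_one, hs]
    have g' := fun q => g ⟨q, by simp⟩
    refine c1 h hr s1 ?_ ?_ _ _ <;>
    · simp only [Sh, ne_eq, Fin.ext_iff, Fin.val_rev, imp_false] at s1 s2 g' ⊢
      omega
  exact h.c0 _ _ _ _ s1 s2 e2 e1 e3 e4 _ _ _ _

theorem cmB (h : Stb ι t W α) (hr : r * r + r = α) (hs : σ r = r) {i j k l : I} (s1 : Sh i j) (s2 : Sh k l)
    (a b : F) : Commute (YS ι W i j (r * a) a) (YS ι W k l ((r + 1) * b) b) := by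
  by_cases g : ((k = i ∨ k = i.rev ∨ k = j ∨ k = j.rev) ∧ (l = i ∨ l = i.rev ∨ l = j ∨ l = j.rev))
  swap
  · exact easy h hr hs s1 s2 g a b
  obtain ⟨p, p0, p1, p2, p3, p4⟩ := H63.ex_idx (Ok.h3 (n := n) (F := F)) i i.rev j j.rev
  have ip := (H63.sh_of s1.2.2.1 p0 p1 p2).1
  have pj := (H63.sh_of s1.2.2.2 p0 p3 p4).2.2.1
  have := H63.ys_c1 h hr ip pj s1 a 1
  rw [mul_one a] at this
  rw [← this]
  have g1 : k ≠ p ∧ k ≠ p.rev := by
    rcases g.1 with e | e | e | e <;> rw [e] <;> exact ⟨Ne.symm ‹_›, by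
      simp only [ne_eq, Fin.ext_iff, Fin.val_rev] at p1 p2 p3 p4 ⊢; omega⟩
  have g2 : l ≠ p ∧ l ≠ p.rev := by
    rcases g.2 with e | e | e | e <;> rw [e] <;> exact ⟨Ne.symm ‹_›, by
      simp only [ne_eq, Fin.ext_iff, Fin.val_rev] at p1 p2 p3 p4 ⊢; omega⟩
  refine (H63.cm_br (easy h hr hs ip s2 ?_ a b).symm (easy h hr hs pj s2 ?_ 1 b).symm).symm <;>
  · simp only [g1.1, g1.2, g2.1, g2.2, or_false, false_or]
    simp only [Sh, ne_eq, Fin.ext_iff, Fin.val_rev] at s2 ⊢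
    omega

theorem ys0 (h : Stb ι t W α) {i j : I} (s : Sh i j) (a : F) : YS ι W i j a 0 = ι (sr i j a) := by
  rw [YS, zero_smul, H87.SS_zero_l h.toWt (ot_ee s).2.1, mul_one]

theorem ys_xr (i j : I) : YS ι W i j (r * 1) 1 = XR ι W r (ee i) (ee j.rev) := by
  rw [YS, XR, sr, mul_one, one_smul]

theorem sh01 (h3 : 3 ≤ n) : Sh (0 : I) (Fin.rev 1) := by
  simp only [Sh, ne_eq, Fin.ext_iff, Fin.val_rev, Fin.val_zero, Fin.val_one]
  omega

theorem memB (h : Stb ι t W α) (hr : r * r + r = α) (hs : σ r = r) {u v : V} (o : Ot u v) (hu : bt u mv = 0)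
    (hv : bt v mv = 0) : XR ι W r u v ∈ closure {y | ∃ i j a, Sh i j ∧ y = YS ι W i j (r * a) a} := by
  obtain ⟨x, x0, rfl, rfl⟩ := wit2m o hu hv
  have : closure {y : X | ∃ i j a, Sh i j ∧ y = sr i j a} ≤
      (normalizer (closure {y | ∃ i j a, Sh i j ∧ y = YS ι W i j (r * a) a} : Set G)).comap ι := by
    refine (closure_le _).2 ?_
    rintro _ ⟨i, j, a, s, rfl⟩
    have e := h.yadd i j s (r * a) a ((r + 1) * a) a
    rw [CharTwo.add_self_eq_zero, ys0 h s, show r * a + (r + 1) * a = a by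
      linear_combination (r * a) * (CharTwo.two_eq_zero (R := F))] at e
    rw [SetLike.mem_coe, mem_comap, ← e]
    refine mul_mem (le_normalizer (subset_closure ⟨i, j, a, s, rfl⟩)) (centralizer_le_normalizer _ fun y hy => ?_)
    exact clo_cm (B := {YS ι W i j ((r + 1) * a) a}) (by
      rintro _ ⟨k, l, b, s', rfl⟩ _ rfl
      exact cmB h hr hs s' s b a) hy (subset_closure rfl)
  have o' := ot_ee (F := F) (sh01 (Ok.h3 (n := n) (F := F)))
  rw [Fin.rev_rev] at o'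
  rw [← h.xeqv x _ _ r o']
  refine (mem_normalizer_iff.1 (this (gen0 x0)) _).1 (subset_closure ⟨0, Fin.rev 1, 1, sh01 (Ok.h3 (n := n) (F := F)), ?_⟩)
  rw [ys_xr, Fin.rev_rev]

theorem perp4 {a b c d : V} (ha : bt a a = 0) (hb : bt b b = 0) (hc : bt c c = 0) (hd : bt d d = 0) :
    ∃ g : X, bt (ac g a) mv = 0 ∧ bt (ac g b) mv = 0 ∧ bt (ac g c) mv = 0 ∧ bt (ac g d) mv = 0 := by
  have h3 := Ok.h3 (n := n) (F := F)
  rcases Nat.even_or_odd' n with ⟨m, e | e⟩
  swap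
  · have : (mv : V) = 0 := funext fun i => if_neg (by simp only [Fin.ext_iff, Fin.val_rev]; omega)
    exact ⟨1, by simp only [this, H12.bt_zero_r, and_self]⟩
  have m1 : bt (mv : V) mv = 1 := by
    have : (mv : V) = ee ⟨m + 1, by omega⟩ := funext fun i => by
      simp only [mv, ee, Pi.single_apply, Fin.ext_iff, Fin.val_rev]
      exact if_congr (by omega) rfl rfl
    rw [this, H12.bt_ee, if_pos (by simp only [Fin.ext_iff, Fin.val_rev]; omega)]
  classical
  let S : Submodule F V := Submodule.span F (({a, b, c, d} : Finset V) : Set V)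
  have d4 : Module.finrank F S ≤ 4 := (finrank_span_finset_le_card _).trans Finset.card_le_four
  obtain ⟨y, hy, y0⟩ : ∃ y ∈ H12.pp S, bt y y ≠ 0 := by
    by_contra q
    push Not at q
    have r1 := H12.rk_pp S
    have r2 := H12.ti_rk q
    have : S ≤ H12.pp S := Submodule.span_le.2 fun u hu => by
      have uu : bt u u = 0 := by
        simp only [Finset.coe_insert, Finset.coe_singleton, Set.mem_insert_iff, Set.mem_singleton_iff] at hu
        rcases hu with rfl | rfl | rfl | rfl <;> assumption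
      by_contra nu
      have l1 := Submodule.finrank_lt_finrank_of_lt (show H12.pp S < H12.pp S ⊔ Submodule.span F {u} from
        lt_of_le_of_ne le_sup_left fun e => nu (e.ge (Submodule.mem_sup_right (Submodule.mem_span_singleton_self u))))
      have l2 := H12.ti_rk (W := H12.pp S ⊔ Submodule.span F {u}) fun x hx => by
        obtain ⟨z, hz, w, hw, rfl⟩ := Submodule.mem_sup.1 hx
        obtain ⟨s, rfl⟩ := Submodule.mem_span_singleton.1 hw
        have z1 := H12.mem_pp.1 hz u (Submodule.subset_span hu)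
        simp only [H12.bt_add_l, H12.bt_add_r, H12.bt_smul_l, H12.bt_smul_r, q z hz, z1, H12.bt_sw z1, uu, mul_zero,
          add_zero]
      omega
    have := Submodule.finrank_mono this
    omega
  obtain ⟨s, hs⟩ := nm_surj (⟨bt y y, (H12.bt_symm y y).symm⟩ : K0 F)⁻¹
  have y1 : bt (s • y) (s • y) = 1 := by
    have : s * σ s = (bt y y)⁻¹ := congrArg Subtype.val hs
    rw [H12.bt_smul_l, H12.bt_smul_r, ← mul_assoc, this, inv_mul_cancel₀ y0]
  obtain ⟨g, hg⟩ := witn y1 m1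
  have k : ∀ u ∈ ({a, b, c, d} : Finset V), bt (ac g u) mv = 0 := fun u hu => by
    rw [← hg, H12.bt_ac, H12.bt_smul_r, H12.bt_sw (H12.mem_pp.1 hy u (Submodule.subset_span hu)), mul_zero]
  exact ⟨g, k a (by simp), k b (by simp), k c (by simp), k d (by simp)⟩

theorem cmX (h : Stb ι t W α) (hr : r * r + r = α) (hs : σ r = r) {u v u' v' : V} (o : Ot u v) (o' : Ot u' v') :
    Commute (XR ι W r u v) (XR ι W (r + 1) u' v') := by
  obtain ⟨g, g1, g2, g3, g4⟩ := perp4 o.1 o.2.1 o'.1 o'.2.1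
  have := clo_cm (by
    rintro _ ⟨i, j, a, s, rfl⟩ _ ⟨k, l, b, s', rfl⟩
    exact cmB h hr hs s s' a b) (memB h hr hs (o.ac g) g1 g2)
    (memB h (r1 hr) (by rw [map_add, map_one, hs]) (o'.ac g) g3 g4)
  rw [← h.xeqv g _ _ _ o, ← h.xeqv g _ _ _ o'] at this
  exact (Commute.conj_iff _).1 this

theorem w_mem (h : C4 ι t) (k : Wt ι t W) {H : Subgroup G} (m : ∀ u v, Ot u v → SS W u v ∈ H) {v : V} (hv : Is v) :
    W v ∈ H := by
  obtain ⟨a, a1, a2, -⟩ := ex_n1 (F := F)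
  have a3 : a * σ a = 1 := congrArg Subtype.val a1
  have a0 : a ≠ 0 := fun e => by simp [e] at a3
  have a4 : a + 1 ≠ 0 := fun e => a2 ((eq_neg_of_add_eq_zero_left e).trans (CharTwo.neg_eq _))
  obtain ⟨x, rfl⟩ : ∃ x, v = (a + 1) • x := ⟨(a + 1)⁻¹ • v, by rw [smul_smul, mul_inv_cancel₀ a4, one_smul]⟩
  have hx : Is x := by
    have := hv.smul (inv_ne_zero a4)
    rwa [smul_smul, inv_mul_cancel₀ a4, one_smul] at this
  obtain ⟨z, o⟩ := ext2 hx
  have li := LinearIndependent.pair_iff.1 o.2.2.2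
  have b1 := o.1
  have b2 := o.2.1
  have b3 := o.2.2.1
  have b4 := H12.bt_sw b3
  have o1 : Ot (a • x) z := by simpa using o.smul a0 one_ne_zero
  have o2 : Ot (a • x + z) (x + z) := ⟨by simp [H12.bt_add_l, H12.bt_add_r, H12.bt_smul_l, H12.bt_smul_r, *],
    by simp [H12.bt_add_l, H12.bt_add_r, *], by simp [H12.bt_add_l, H12.bt_add_r, H12.bt_smul_l, *],
    LinearIndependent.pair_iff.2 fun c d e => by
      have := li (c * a + d) (c + d) (by rw [← e]; module)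
      have c0 : c * (a + 1) = 0 := by
        linear_combination this.1 + this.2 - d * (CharTwo.two_eq_zero (R := F))
      have c1 := (mul_eq_zero.1 c0).resolve_right a4
      exact ⟨c1, by simpa [c1] using this.2⟩⟩
  have m1 := m _ _ o
  have m2 := m _ _ o1
  have m3 := m _ _ o2
  rw [SS, H87.W_n1 k a3 b1, mul_assoc] at m2
  rw [SS, mul_assoc] at m1
  rw [SS, show a • x + z + (x + z) = (a + 1) • x by
    rw [add_smul, one_smul, add_add_add_comm, H87.vv, add_zero], mul_assoc] at m3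
  have := mul_mem m2 (inv_mem m1)
  rw [_root_.mul_inv_rev, mul_assoc, mul_inv_cancel_left, inv_eq_of_mul_eq_one_right (H87.sqW k o2.2.1)] at this
  exact (H.mul_mem_cancel_right this).1 m3

theorem wre (h : C4 ι t) (k : Stb ι t W α) (a : Am ι.range E t) (hr : r * r + r = α) (hs : σ r = r) :
    ∃ ψ, Wc ι ψ t E := by
  have ti : t⁻¹ = t := inv_eq_of_mul_eq_one_right h.t2
  let L : F → Subgroup G := fun s => closure {y | ∃ u v, Ot u v ∧ y = XR ι W s u v}
  have gn : ∀ s u v, Ot u v → XR ι W s u v ∈ L s := fun s u v o => subset_closure ⟨u, v, o, rfl⟩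
  have cm : ∀ a ∈ L r, ∀ b ∈ L (r + 1), a * b = b * a := fun a ha b hb => clo_cm (by
    rintro _ ⟨u, v, o, rfl⟩ _ ⟨u', v', o', rfl⟩
    exact cmX k hr hs o o') ha hb
  have sw : ∀ s, ∀ a ∈ L s, t * a * t⁻¹ ∈ L (s + 1) := fun s a ha =>
    (closure_le ((L (s + 1)).comap (MulAut.conj t).toMonoidHom)).2 (by
      rintro _ ⟨u, v, o, rfl⟩
      change t * XR ι W s u v * t⁻¹ ∈ L (s + 1)
      rw [ti, k.tw u v s o]
      exact gn _ u v o) ha
  have s2 : ∀ a ∈ L (r + 1), t * a * t⁻¹ ∈ L r := fun a ha => by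
    have := sw _ a ha
    rwa [r2] at this
  have br : ∀ u v, Ot u v → ∃ a b c d, Ot a b ∧ Ot c d ∧ XR ι W r u v = ⁅XR ι W r a b, XR ι W r c d⁆ := fun u v o => by
    obtain ⟨x, rfl, rfl⟩ := wit2 o
    have s := sh01 (Ok.h3 (n := n) (F := F))
    obtain ⟨p, s1, s2⟩ := ex_sh3 (Ok.h3 (n := n) (F := F)) s
    have := H63.ys_c1 k hr s1 s2 s 1 1
    rw [mul_one (1 : F), ys_xr, ys_xr, ys_xr] at this
    refine ⟨_, _, _, _, (ot_ee s1).ac x, (ot_ee s2).ac x, ?_⟩
    rw [← k.xeqv x _ _ _ (ot_ee s1), ← k.xeqv x _ _ _ (ot_ee s2), ← conjugate_commutatorElement, this,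
      k.xeqv x _ _ _ (ot_ee s), Fin.rev_rev]
  have pf : ⁅L r, L r⁆ = L r := le_antisymm (commutator_le.2 fun a ha b hb =>
    mul_mem (mul_mem (mul_mem ha hb) (inv_mem ha)) (inv_mem hb)) ((closure_le _).2 (by
      rintro _ ⟨u, v, o, rfl⟩
      obtain ⟨a, b, c, d, o1, o2, e⟩ := br u v o
      rw [e]
      exact commutator_mem_commutator (gn _ _ _ o1) (gn _ _ _ o2)))
  have mu : ∀ {a b a' b' : G}, b ∈ L (r + 1) → a' ∈ L r → a * b * (a' * b') = a * a' * (b * b') := fun {a b a' b'} hb ha => by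
    rw [mul_assoc, mul_assoc, ← mul_assoc b, ← cm _ ha _ hb, mul_assoc]
  obtain ⟨ψ, e1, e2, e3⟩ := split h.toC1 (L r) (L (r + 1)) pf cm (sw r) s2 (fun x => by
    refine closure_induction (p := fun x _ => ∃ a ∈ L r, ∃ b ∈ L (r + 1), ι x = a * b) ?_
      ⟨1, one_mem _, 1, one_mem _, by simp⟩ ?_ ?_ (gen_sh.ge (mem_top x))
    · rintro _ ⟨u, v, o, rfl⟩
      exact ⟨_, gn _ u v o, _, gn _ u v o, (k.xmul u v r o).symm⟩
    · rintro x y - - ⟨a, ha, b, hb, e⟩ ⟨a', ha', b', hb', e'⟩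
      exact ⟨_, mul_mem ha ha', _, mul_mem hb hb', by rw [map_mul, e, e', mu hb ha']⟩
    · rintro x - ⟨a, ha, b, hb, e⟩
      exact ⟨_, inv_mem ha, _, inv_mem hb, by rw [map_inv, e, cm _ ha _ hb, _root_.mul_inv_rev]⟩) (fun a ha => by
    refine closure_induction (p := fun a _ => ∃ x, ∃ b ∈ L (r + 1), ι x = a * b) ?_
      ⟨1, 1, one_mem _, by simp⟩ ?_ ?_ ha
    · rintro _ ⟨u, v, o, rfl⟩
      exact ⟨_, _, gn _ u v o, (k.xmul u v r o).symm⟩
    · rintro a a' - ha' ⟨x, b, hb, e⟩ ⟨y, b', hb', e'⟩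
      exact ⟨x * y, _, mul_mem hb hb', by rw [map_mul, e, e', mu hb ha']⟩
    · rintro a ha ⟨x, b, hb, e⟩
      exact ⟨x⁻¹, _, inv_mem hb, by rw [map_inv, e, cm _ ha _ hb, _root_.mul_inv_rev]⟩)
  have pL : ∀ x, ψ x ∈ L r := fun x => e2.le ⟨x, rfl⟩
  have le : ι.range ≤ ψ.range ⊔ (cι ψ t).range := by
    rintro _ ⟨x, rfl⟩
    exact e3 x ▸ mul_mem_sup ⟨x, rfl⟩ ⟨x, rfl⟩
  have up : ∀ H : Subgroup G, (∀ s u v, Ot u v → XR ι W s u v ∈ H) → ψ.range ⊔ (cι ψ t).range ≤ H := fun H m => by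
    have q : ∀ s, L s ≤ H := fun s => (closure_le _).2 (by rintro _ ⟨u, v, o, rfl⟩; exact m s u v o)
    refine sup_le (e2.le.trans (q r)) ?_
    rintro _ ⟨x, rfl⟩
    exact q _ (sw r _ (pL x))
  refine ⟨ψ, h, e1, fun x y => cm _ (pL x) _ (sw r _ (pL y)), e3, le_antisymm ?_ (up _ fun s u v o =>
    H57.xr_yy h.toC1 k.toWt s o), a.nE, a.simple, ?_, a.idx⟩
  · have := H57.bk0 (g := 1) (H := ψ.range ⊔ (cι ψ t).range) h.toC2 h.em (fun x => by simpa using h.tc x)
      (fun _ ha => cP h.em ha H57.is0) le fun c => ?_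
    · exact fun y hy => by simpa using this (cj_mem 1 hy)
    rw [inv_one, one_mul, mul_one]
    by_cases c0 : c = 0
    · exact ⟨1, one_mem _, mul_one 1, fun x _ => by simp, by simp [c0, tc_zero]⟩
    obtain ⟨b, rfl⟩ := nm_surj c
    have b0 : b ≠ 0 := fun e => c0 (nm_zero.2 e)
    have hv := (H57.is0 (n := n) (F := F)).smul b0
    have xs := (H87.Xs_smul H57.is0.1 b0).1 (k.xs _ hv)
    rw [one_mul] at xs
    refine ⟨_, w_mem h k.toWt (fun u v o => ?_) hv, xs.2.2.1, xs.1⟩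
    exact (mul_mem_cancel_left (le ⟨_, rfl⟩)).1 (mem_sup_left (e2.ge (gn r u v o)))
  · have := a.nE
    have q : L r ≤ E := (closure_le _).2 (by
      rintro _ ⟨u, v, o, rfl⟩
      obtain ⟨x, rfl, rfl⟩ := wit2 o
      have s := sh01 (Ok.h3 (n := n) (F := F))
      obtain ⟨p, s1, s2⟩ := ex_sh3 (Ok.h3 (n := n) (F := F)) s
      have := k.c1 _ _ _ s1 s2 s (r * 1) 1 1 0
      simp only [mul_zero, add_zero, zero_add, ys0 k s2] at this
      rw [mul_one (r * 1), mul_one (1 : F), ys_xr (0 : I) (Fin.rev 1)] at this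
      have e := k.xeqv x _ _ r (ot_ee s)
      rw [← this, Fin.rev_rev] at e
      rw [← e, commutatorElement_def]
      exact a.nE.conj_mem _ (mul_mem (a.nE.conj_mem _ (a.le ⟨_, rfl⟩) _) (inv_mem (a.le ⟨_, rfl⟩))) _)
    refine sup_le (e2.le.trans q) ?_
    rintro _ ⟨x, rfl⟩
    exact a.nE.conj_mem _ (q (pL x)) t

end UMS.H22
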