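import Cfsg.Agent.Lib.UMS.CL
import Cfsg.Agent.Lib.UMS.B7
import Cfsg.Agent.Lib.UMS.B2b
import Cfsg.Agent.Lib.UMS.Wt87

/-! A canonical commuting family of complements to `t`. -/

set_option autoImplicit false
set_option linter.unusedSectionVars false

namespace UMS.H30

open Subgroup H69 Cfsg Matrix U4S
open LMS (XX GX iL kk MM au tw Sg)
open scoped MatrixGroups commutatorElement

universe u
variable {G : Type*} [Group G] [Finite G] {F : Type u} [Field F] [CharP F 2] [Fintype F] [Hs F] {n : ℕ} [Ok n F]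
  {ι : XU n F →* G} {t : G}

local notation "X" => XU n F
local notation "V" => VV n F

variable {u v : VV n F} {c c' : K0 F} {w e : G}

theorem vu (o : Ot u v) : bt v u = 0 := by rw [bt_symm, o.2.2.1, map_zero]
theorem isl (o : Ot u v) : Is u := ⟨o.1, by simpa using o.2.2.2.ne_zero 0⟩
theorem isr (o : Ot u v) : Is v := ⟨o.2.1, by simpa using o.2.2.2.ne_zero 1⟩

theorem mS {x : X} : x ∈ St {u, v} ↔ x ∈ St {u} ∧ x ∈ St {v} := by
  simp only [mem_St, Set.mem_insert_iff, Set.mem_singleton_iff, forall_eq_or_imp, forall_eq]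

theorem tuS (o : Ot u v) (a : K0 F) : tc u a ∈ St {u, v} := mS.2 ⟨tc_St o.1 o.1 a, tc_St o.1 (vu o) a⟩
theorem tvS (o : Ot u v) (a : K0 F) : tc v a ∈ St {u, v} := mS.2 ⟨tc_St o.2.1 o.2.2.1 a, tc_St o.2.1 o.2.1 a⟩

theorem bsu (o : Ot u v) (a : F) : bt (a • u) (a • u) = 0 ∧ bt (a • u) v = 0 := by
  rw [bt_smul_left, bt_smul_left, bt_smul_right, o.1, o.2.2.1]; simp

theorem shS (o : Ot u v) (a : F) : sh (a • u) v ∈ St {u, v} := by
  rw [mS, H87.mem_St1, H87.mem_St1, ac_sh (bsu o a).1 o.2.1 (bsu o a).2, ac_sh (bsu o a).1 o.2.1 (bsu o a).2,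
    bt_smul_right, bt_smul_right, o.1, o.2.1, o.2.2.1, vu o]
  simp

theorem jS (o : Ot u v) (x y : K0 F) (a : F) : tc u x * tc v y * sh (a • u) v ∈ St {u, v} :=
  mul_mem (mul_mem (tuS o x) (tvS o y)) (shS o a)

theorem jsq (o : Ot u v) (x y : K0 F) (a : F) :
    tc u x * tc v y * sh (a • u) v * (tc u x * tc v y * sh (a • u) v) = 1 := by
  obtain ⟨J, hJ, h1, h2, h3⟩ := tc_J o.1 o.2.1 o.2.2.1
  exact hJ.el _ (mul_mem (mul_mem (h1 x) (h2 y)) (h3 a))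

theorem jtc (o : Ot u v) (x y s : K0 F) (a : F) :
    tc u x * tc v y * sh (a • u) v * tc u s = tc u (x + s) * tc v y * sh (a • u) v := by
  obtain ⟨J, hJ, h1, h2, h3⟩ := tc_J o.1 o.2.1 o.2.2.1
  rw [mul_assoc (tc u x), mul_assoc (tc u x), hJ.el.comm (mul_mem (h2 y) (h3 a)) (h1 s), ← mul_assoc, tc_mul o.1,
    mul_assoc]

theorem sh0 (o : Ot u v) : sh ((0 : F) • u) v = 1 := by
  refine ac_ext fun y => ?_
  rw [ac_sh (bsu o 0).1 o.2.1 (bsu o 0).2, bt_smul_right, ac_one]; simp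

theorem jinj (h : Em ι) (o : Ot u v) {x y x' y' : K0 F} {a a' : F}
    (k : ι (tc u x * tc v y * sh (a • u) v) = ι (tc u x' * tc v y' * sh (a' • u) v)) : x = x' ∧ y = y' ∧ a = a' :=
  herm_inj o (h.inj2 (P2.of_sq (jsq o ..)) (P2.of_sq (jsq o ..)) k)

theorem jinj' (h : Em ι) (o : Ot u v) {x y x' y' : K0 F} (k : ι (tc u x * tc v y) = ι (tc u x' * tc v y')) :
    x = x' ∧ y = y' :=
  have := jinj h o (x := x) (y := y) (x' := x') (y' := y') (a := 0) (a' := 0) (by rwa [sh0 o, mul_one, mul_one])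
  ⟨this.1, this.2.1⟩

theorem p2k {k z : G} (c : Commute k z) (hz : z * z = 1) (p : P2 (k * z)) : P2 k := by
  obtain ⟨m, hm⟩ := p
  refine ⟨m + 1, ?_⟩
  have := congrArg (· ^ 2) hm
  simp only [one_pow] at this
  rwa [← pow_mul, mul_comm, pow_mul, c.mul_pow, sq z, hz, mul_one, ← pow_mul, ← pow_succ'] at this

theorem kt (h : C1 ι t) {k : G} {j : X} (c : k * ι j * t = t * (k * ι j)) : k * t = t * k := by
  rw [mul_assoc, ← h.tc, ← mul_assoc, ← mul_assoc] at c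
  exact mul_right_cancel c

theorem ker0 (h : C2 ι t) {k : G} {j : X} (hj : j * j = 1) (hk : k ∈ 𝐂(ι.range)) (c : k * ι j * t = t * (k * ι j))
    (p : P2 (k * ι j)) : k * ι j = ι j ∨ k * ι j = t * ι j := by
  rcases h.two k hk (kt h.toC1 c) (p2k (hk _ ⟨j, rfl⟩).symm (by rw [← map_mul, hj, map_one]) p) with e | e
  · exact Or.inl (by rw [e, one_mul])
  · exact Or.inr (by rw [e])

theorem tmul {S : Subgroup X} {d f : G} {y y' : X} (hd : Cn ι S d) (e1 : d * t * d⁻¹ = t * ι y)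
    (e2 : f * t * f⁻¹ = t * ι y') (hy : y' ∈ S) : d * f * t * (d * f)⁻¹ = t * ι (y * y') := by
  calc _ = d * (f * t * f⁻¹) * d⁻¹ := by group
    _ = d * t * d⁻¹ * (d * ι y' * d⁻¹) := by rw [e2]; group
    _ = _ := by rw [e1, hd _ hy, mul_inv_cancel_right, mul_assoc, ← map_mul]

theorem tinv {S : Subgroup X} {d : G} {y : X} (hd : Cn ι S d) (e1 : d * t * d⁻¹ = t * ι y) (hy : y ∈ S) :
    d⁻¹ * t * d⁻¹⁻¹ = t * ι y⁻¹ := by
  calc _ = d⁻¹ * (t * ι y) * (ι y⁻¹ * d) := by rw [map_inv]; group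
    _ = d⁻¹ * (d * t * d⁻¹) * (d * ι y⁻¹) := by rw [e1, hd _ (inv_mem hy)]
    _ = _ := by group

theorem cnm {S : Subgroup X} {d f : G} (hd : Cn ι S d) (hf : Cn ι S f) : Cn ι S (d * f) := fun x hx =>
  (Commute.mul_left (hd x hx) (hf x hx)).eq
theorem cni {S : Subgroup X} {d : G} (hd : Cn ι S d) : Cn ι S d⁻¹ := fun x hx => (Commute.inv_left (hd x hx)).eq
theorem com {d f : G} (hd : CO ι t d) (hf : CO ι t f) : CO ι t (d * f) := fun o ho =>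
  (Commute.mul_left (hd o ho) (hf o ho)).eq
theorem coi {d : G} (hd : CO ι t d) : CO ι t d⁻¹ := fun o ho => (Commute.inv_left (hd o ho)).eq
theorem p2i {d : G} (p : P2 d) : P2 d⁻¹ := p.imp fun j e => by rw [inv_pow, e, inv_one]

/-- elements translating `t` inside a stabiliser -/
def DD (ι : X →* G) (t : G) (S : Subgroup X) : Subgroup G where
  carrier := {d | Cn ι S d ∧ CO ι t d ∧ ∃ y ∈ S, d * t * d⁻¹ = t * ι y}
  one_mem' := ⟨fun x _ => by simp, fun o _ => by simp, 1, one_mem _, by simp⟩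
  mul_mem' := fun ⟨a1, a2, _, a3, a4⟩ ⟨b1, b2, _, b3, b4⟩ =>
    ⟨cnm a1 b1, com a2 b2, _, mul_mem a3 b3, tmul a1 a4 b4 b3⟩
  inv_mem' := fun ⟨a1, a2, _, a3, a4⟩ => ⟨cni a1, coi a2, _, inv_mem a3, tinv a1 a4 a3⟩

theorem two (h : C2 ι t) (o : Ot u v) :
    ∀ a ∈ DD ι t (St {u, v}), ∀ b ∈ DD ι t (St {u, v}), P2 a → P2 b → P2 (a * b) := by
  obtain ⟨O, hO, oO, hc⟩ := h.od
  refine (LMS.two_sub (D := DD ι t (St {u, v})) (Z := O ⊓ DD ι t (St {u, v}))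
    (fun z hz d hd => hd.2.1 z ((hO z).1 hz.1)) (Odd.of_dvd_nat oO (card_dvd_of_le inf_le_left))
    fun d hd => ⟨2, ?_, pow_mem hd _⟩).1
  obtain ⟨d1, -, y, hy, d2⟩ := hd
  have y2 : ι (y * y) = 1 := by
    have : t * ι y * (t * ι y) = 1 := by rw [← d2, conj_mul, h.t2, mul_one, mul_inv_cancel]
    rwa [mul_assoc, ← mul_assoc (ι y), ← h.tc, mul_assoc, ← mul_assoc, h.t2, one_mul, ← map_mul] at this
  have c : d * d * t = t * (d * d) := by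
    have := tmul d1 d2 d2 hy
    rwa [y2, mul_one, mul_inv_eq_iff_eq_mul] at this
  obtain ⟨x, y', a, k, hk, e⟩ := cP2 h.em (h.CN _ c) o (cnm d1 d1)
  have ck : Commute k (ι (tc u x * tc v y' * sh (a • u) v)) := (hk _ ⟨_, rfl⟩).symm
  have e4 : d ^ 2 ^ 2 = k ^ 2 := by
    rw [show 2 ^ 2 = 2 * 2 from rfl, pow_mul, sq d, e, ck.mul_pow, sq (ι _), ← map_mul, jsq o, map_one, mul_one]
  obtain ⟨o', ho, e' | e'⟩ := hc k hk (kt h.toC1 (e ▸ c))
  · rw [e4, e']; exact pow_mem ((hO _).2 ho) 2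
  · rw [e4, e', (show Commute t o' from ho.2.1.symm).mul_pow, sq t, h.t2, one_mul]; exact pow_mem ((hO _).2 ho) 2

theorem ddl (o : Ot u v) (k : SV ι t u c w) : w ∈ DD ι t (St {u, v}) :=
  ⟨fun x hx => k.1.1 x (mS.1 hx).1, k.2.1, _, tuS o c, k.1.2⟩
theorem ddr (o : Ot u v) (k : SV ι t v c w) : w ∈ DD ι t (St {u, v}) :=
  ⟨fun x hx => k.1.1 x (mS.1 hx).2, k.2.1, _, tvS o c, k.1.2⟩

theorem tci (hu : bt u u = 0) (a : K0 F) : (tc u a)⁻¹ = tc u a := inv_eq_of_mul_eq_one_right (tc_sq hu a)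

theorem svi (hu : Is u) (k : SV ι t u c w) : SV ι t u c w⁻¹ :=
  ⟨⟨cni k.1.1, tci hu.1 c ▸ tinv k.1.1 k.1.2 (tc_St hu.1 hu.1 c)⟩, coi k.2.1, p2i k.2.2⟩

theorem svm (h : C2 ι t) (hu : Is u) (k : SV ι t u c w) (k' : SV ι t u c' e) : SV ι t u (c + c') (w * e) := by
  obtain ⟨v, o⟩ := ext2 hu
  exact ⟨⟨cnm k.1.1 k'.1.1, tc_mul hu.1 c c' ▸ tmul k.1.1 k.1.2 k'.1.2 (tc_St hu.1 hu.1 c')⟩, com k.2.1 k'.2.1,
    two h o _ (ddl o k) _ (ddl o k') k.2.2 k'.2.2⟩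

theorem svk (h : C2 ι t) (hu : Is u) (k : SV ι t u 0 w) : ∃ a, w = ι (tc u a) ∨ w = t * ι (tc u a) := by
  have c : w * t = t * w := by
    have := k.1.2
    rwa [tc_zero, map_one, mul_one, mul_inv_eq_iff_eq_mul] at this
  obtain ⟨a, z, hz, rfl⟩ := cP h.em (h.CN w c) hu k.1.1
  exact ⟨a, ker0 h (tc_sq hu.1 a) hz c k.2.2⟩

theorem xsq (hu : Is u) (a : K0 F) : ι (tc u a) * ι (tc u a) = 1 := by rw [← map_mul, tc_sq hu.1, map_one]

theorem svx (h : C1 ι t) (hu : Is u) (a : K0 F) : SV ι t u 0 (ι (tc u a)) :=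
  ⟨⟨fun x hx => by
    have := tc_cj hu.1 a x
    rw [H87.mem_St1.1 hx, mul_inv_eq_iff_eq_mul] at this
    rw [← map_mul, ← map_mul, this], by rw [← h.tc, mul_inv_cancel_right, tc_zero, map_one, mul_one]⟩,
    fun o ho => ho.1 _ ⟨_, rfl⟩, P2.of_sq (xsq hu a)⟩

theorem svt (h : C1 ι t) : SV ι t u 0 t :=
  ⟨⟨fun x _ => h.tc x, by rw [mul_inv_cancel_right, tc_zero, map_one, mul_one]⟩, fun o ho => ho.2.1.symm,
    P2.of_sq h.t2⟩

theorem svq (h : C2 ι t) (hu : Is u) (k : SV ι t u c w) : ∃ a, w * w = ι (tc u a) := by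
  have k2 := svm h hu k k
  rw [k0_add] at k2
  obtain ⟨a, e | e⟩ := svk h hu k2
  · exact ⟨a, e⟩
  have c1 : w * t = t * w := by
    have : w * (t * ι (tc u a)) = t * ι (tc u a) * w := by rw [← e, mul_assoc]
    rw [mul_assoc, ← k.1.1 _ (tc_St hu.1 hu.1 a), ← mul_assoc, ← mul_assoc] at this
    exact mul_right_cancel this
  have k3 : SV ι t u 0 w := ⟨⟨k.1.1, by rw [c1, mul_inv_cancel_right, tc_zero, map_one, mul_one]⟩, k.2⟩
  refine ⟨0, ?_⟩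
  rw [tc_zero, map_one]
  obtain ⟨b, rfl | rfl⟩ := svk h hu k3
  · exact xsq hu b
  · rw [mul_assoc, ← mul_assoc (ι _), ← h.tc, mul_assoc, xsq hu, mul_one, h.t2]

theorem sva (h : C1 ι t) (hu : Is u) (k : SV ι t u c w) (x : X) : SV ι t (ac x u) c (ι x * w * (ι x)⁻¹) :=
  ⟨H87.D0_ac h hu.1 k.1 x, H87.CO_ac k.2.1 x, k.2.2.cjg _⟩

theorem svs (hu : Is u) {a : F} (ha : a ≠ 0) : SV ι t (a • u) c w ↔ SV ι t u (c * nm a) w :=
  and_congr_left' (H87.D0_smul hu.1 ha)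

theorem cx1 (o : Ot u v) (k : SV ι t v c e) (a : K0 F) : ⁅ι (tc u a), e⁆ = 1 :=
  commutatorElement_eq_one_iff_mul_comm.2 (k.1.1 _ (mS.1 (tuS o a)).2).symm

theorem cx2 (h : C1 ι t) (o : Ot u v) (k : SV ι t v c e) (a : K0 F) : ⁅t * ι (tc u a), e⁆ = ι (tc v c) := by
  have ti : t⁻¹ = t := inv_eq_of_mul_eq_one_right h.t2
  calc ⁅t * ι (tc u a), e⁆ = t * (ι (tc u a) * e) * (ι (tc u a))⁻¹ * t⁻¹ * e⁻¹ := by
        simp only [commutatorElement_def]; group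
    _ = t * (e * t * e⁻¹) := by rw [← k.1.1 _ (mS.1 (tuS o a)).2, ti]; group
    _ = _ := by rw [k.1.2, ← mul_assoc, h.t2, one_mul]

theorem cmm (h : C2 ι t) (o : Ot u v) (k : SV ι t u c w) (k' : SV ι t v c' e) :
    ∃ (x y : K0 F) (a : F), ⁅w, e⁆ = ι (tc u x * tc v y * sh (a • u) v) := by
  have w1 := ddl o k
  have e1 := ddr o k'
  have p : P2 ⁅w, e⁆ := two h o _ (mul_mem (mul_mem w1 e1) (inv_mem w1)) _ (inv_mem e1)
    (two h o _ (mul_mem w1 e1) _ (inv_mem w1) (two h o _ w1 _ e1 k.2.2 k'.2.2) (p2i k.2.2)) (p2i k'.2.2)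
  have m : ⁅w, e⁆ ∈ DD ι t (St {u, v}) := mul_mem (mul_mem (mul_mem w1 e1) (inv_mem w1)) (inv_mem e1)
  have c0 : ⁅w, e⁆ * t = t * ⁅w, e⁆ := by
    have := tmul (mul_mem (mul_mem w1 e1) (inv_mem w1)).1
      (tmul (mul_mem w1 e1).1 (tmul w1.1 k.1.2 k'.1.2 (tvS o c')) (svi (isl o) k).1.2 (tuS o c))
      (svi (isr o) k').1.2 (tvS o c')
    have z := jsq o c c' 0
    rw [sh0 o, mul_one, ← mul_assoc] at z
    rwa [z, map_one, mul_one, mul_inv_eq_iff_eq_mul] at this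
  obtain ⟨x, y, a, z, hz, ez⟩ := cP2 h.em (h.CN _ c0) o m.1
  refine ⟨x, y, a, ?_⟩
  rw [ez] at p c0
  rcases ker0 h (jsq o x y a) hz c0 p with f | f
  · exact ez.trans f
  exfalso
  rw [← ez] at f
  set j := tc u x * tc v y * sh (a • u) v
  have jj : ι j * ι j = 1 := by rw [← map_mul, jsq o, map_one]
  have f1 : w * e * w⁻¹ = t * ι j * e := by rw [← f, commutatorElement_def]; group
  obtain ⟨s, hs⟩ := svq h (isl o) k
  have f2 : w * w * e * (w * w)⁻¹ = ι (tc u c) * e := by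
    calc _ = w * (w * e * w⁻¹) * w⁻¹ := by group
      _ = w * (t * ι j * e) * w⁻¹ := by rw [f1]
      _ = w * t * w⁻¹ * (w * ι j * w⁻¹) * (w * e * w⁻¹) := by group
      _ = t * ι (tc u c) * (ι j * t) * ι j * e := by
        rw [k.1.2, w1.1 j (jS o x y a), mul_inv_cancel_right, f1]; group
      _ = t * (ι (tc u c) * t) * (ι j * ι j) * e := by rw [← h.tc]; group
      _ = _ := by rw [jj, ← h.tc, ← mul_assoc, h.t2, one_mul, mul_one]
  rw [hs, ← k'.1.1 _ (mS.1 (tuS o s)).2, mul_inv_cancel_right, right_eq_mul] at f2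
  obtain rfl : c = 0 := tc_cen (isl o) (h.em f2)
  obtain ⟨b, rfl | rfl⟩ := svk h (isl o) k
  · rw [cx1 o k'] at f
    exact h.t_not ⟨j⁻¹, by rw [map_inv]; exact (eq_inv_of_mul_eq_one_left f.symm).symm⟩
  · rw [cx2 h.toC1 o k'] at f
    exact h.t_not ⟨tc v c' * j⁻¹, by rw [map_mul, map_inv, f, mul_inv_cancel_right]⟩

theorem same (h : C2 ι t) (o : Ot u v) (k : SV ι t u c w) {e' : G} (k1 : SV ι t v c' e) (k2 : SV ι t v c' e') :
    ∃ s, ⁅w, e'⁆ = ⁅w, e⁆ * ι (tc u s) := by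
  have k3 := svm h (isr o) (svi (isr o) k1) k2
  rw [k0_add] at k3
  have key : ∀ f, ⁅w, e * f⁆ = ⁅w, e⁆ * (e * ⁅f, w⁆⁻¹ * e⁻¹) := fun f => by simp only [commutatorElement_def]; group
  obtain ⟨a, f | f⟩ := svk h (isr o) k3
  · exact ⟨0, by rw [inv_mul_eq_iff_eq_mul.1 f, key, cx1 o.symm k, tc_zero, map_one]; simp⟩
  · exact ⟨c, by rw [inv_mul_eq_iff_eq_mul.1 f, key, cx2 h.toC1 o.symm k, ← map_inv, tci o.1,
      k1.1.1 _ (mS.1 (tuS o c)).2, mul_inv_cancel_right]⟩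

theorem cjc (x : X) (w e : G) : ⁅ι x * w * (ι x)⁻¹, ι x * e * (ι x)⁻¹⁆ = ι x * ⁅w, e⁆ * (ι x)⁻¹ := by
  simp only [commutatorElement_def]; group

theorem trO {u' v' : V} (o : Ot u v) (o' : Ot u' v') : ∃ x : X, ac x u = u' ∧ ac x v = v' :=
  H76.tr_Ot (by have := Ok.h3 (n := n) (F := F); omega) o o'

theorem osr (o : Ot u v) {b : F} (hb : b ≠ 0) : Ot u (b • v) := by simpa using o.smul one_ne_zero hb
theorem osl (o : Ot u v) {b : F} (hb : b ≠ 0) : Ot (b • u) v := by simpa using o.smul hb one_ne_zero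

theorem cmm' (h : C2 ι t) (o : Ot u v) (k : SV ι t u c w) (k' : SV ι t v c' e) :
    ∃ x y, ⁅w, e⁆ = ι (tc u x * tc v y) := by
  obtain ⟨x, y, a, f⟩ := cmm h o k k'
  obtain ⟨b, b1, b2, -⟩ := ex_n1 (F := F)
  have b0 : b ≠ 0 := fun z => by rw [nm_zero.2 z] at b1; exact zero_ne_one b1
  obtain ⟨p, p1, p2⟩ := trO o (osr o b0)
  have k1 := sva h.toC1 (isr o) k' p
  rw [p2, svs (isr o) b0, b1, mul_one] at k1
  obtain ⟨s, hs⟩ := same h o k k' k1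
  have e1 := cjc (ι := ι) p w e
  rw [H87.D0_cen k.1 p1, hs, f, ← map_inv, ← map_mul, ← map_mul, ← map_mul, jtc o, ← conj_mul, ← conj_mul,
    tc_cj o.1, tc_cj o.2.1, sh_cj (bsu o a).1 o.2.1 (bsu o a).2, ac_smul, p1, p2, tc_smul, ← sg_sg b, ← sh_smul,
    smul_smul] at e1
  have e2 := (jinj h.em o e1).2.2
  have : a = 0 := by
    by_contra a0
    exact b2 (by rw [← sg_sg b, (mul_eq_right₀ a0).1 e2.symm, map_one])
  exact ⟨x, y, by rw [f, this, sh0 o, mul_one]⟩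

/-- the `v`-component of the commutators -/
def KK (ι : X →* G) (t : G) (u : V) (w : G) (v : V) (c y : K0 F) : Prop :=
  ∀ e, SV ι t v c e → ∃ x, ⁅w, e⁆ = ι (tc u x * tc v y)

/-- the `v`-component is linear with slope `β` -/
def BB (ι : X →* G) (t : G) (u : V) (w : G) (β : K0 F) : Prop := ∀ v, Ot u v → ∀ c, KK ι t u w v c (c * β)

theorem exK (h : C3 ι t) (o : Ot u v) (k : SV ι t u c w) (c' : K0 F) : ∃ y, KK ι t u w v c' y := by
  obtain ⟨e0, k0⟩ := h.ex v (isr o) c'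
  obtain ⟨x, y, f⟩ := cmm' h.toC2 o k k0
  refine ⟨y, fun e k1 => ?_⟩
  obtain ⟨s, hs⟩ := same h.toC2 o k k0 k1
  have := jtc o x y s 0
  rw [sh0 o, mul_one, mul_one] at this
  exact ⟨x + s, by rw [hs, f, ← map_mul, this]⟩

theorem kac (h : C1 ι t) (o : Ot u v) {y : K0 F} (k : KK ι t u w v c y) (p : X) :
    KK ι t (ac p u) (ι p * w * (ι p)⁻¹) (ac p v) c y := fun e he => by
  have k1 := sva h (isr (o.ac p)) he p⁻¹
  rw [H12.ac_inv] at k1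
  obtain ⟨x, f⟩ := k _ k1
  refine ⟨x, ?_⟩
  have := cjc (ι := ι) p w (ι p⁻¹ * e * (ι p⁻¹)⁻¹)
  rw [f, ← map_inv ι p, ← map_mul, ← map_mul, ← conj_mul, tc_cj o.1, tc_cj o.2.1] at this
  rw [← this, map_inv]
  congr 1
  group

theorem exB (h : C3 ι t) (hu : Is u) (k : SV ι t u c w) : ∃ β, BB ι t u w β := by
  obtain ⟨v, o⟩ := ext2 hu
  obtain ⟨β, hβ⟩ := exK h o k 1
  refine ⟨β, fun v' o' c' e he => ?_⟩
  by_cases z : c' = 0
  · subst z
    rw [zero_mul, tc_zero]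
    obtain ⟨a, rfl | rfl⟩ := svk h.toC2 (isr o') he
    · exact ⟨0, by rw [← commutatorElement_inv, cx1 o'.symm k, tc_zero, mul_one, map_one, inv_one]⟩
    · exact ⟨c, by rw [← commutatorElement_inv, cx2 h.toC1 o'.symm k, ← map_inv, tci o.1, mul_one]⟩
  obtain ⟨b, rfl⟩ := nm_surj c'
  have b0 : b ≠ 0 := fun e => z (nm_zero.2 e)
  obtain ⟨p, p1, p2⟩ := trO o (osr o' b0)
  have k1 := kac h.toC1 o hβ p
  rw [H87.D0_cen k.1 p1, p1, p2] at k1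
  obtain ⟨x, f⟩ := k1 e ((svs (isr o') b0).2 (by rwa [one_mul]))
  exact ⟨x, by rw [f, tc_smul]⟩

theorem buq (h : C3 ι t) (hu : Is u) {β β' : K0 F} (k : BB ι t u w β) (k' : BB ι t u w β') : β = β' := by
  obtain ⟨v, o⟩ := ext2 hu
  obtain ⟨e, he⟩ := h.ex v (isr o) 1
  obtain ⟨x, f⟩ := k v o 1 e he
  obtain ⟨x', f'⟩ := k' v o 1 e he
  simpa using (jinj' h.em o (f.symm.trans f')).2

theorem bml {w' : G} {β β' : K0 F} (s : SV ι t u c w) (k : BB ι t u w β) (k' : BB ι t u w' β') :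
    BB ι t u (w * w') (β + β') := fun v o c' e he => by
  obtain ⟨x, f⟩ := k v o c' e he
  obtain ⟨x', f'⟩ := k' v o c' e he
  refine ⟨x' + x, ?_⟩
  calc ⁅w * w', e⁆ = w * ⁅w', e⁆ * w⁻¹ * ⁅w, e⁆ := by simp only [commutatorElement_def]; group
    _ = _ := by
      rw [f, f', s.1.1 _ (mS.1 (mul_mem (tuS o _) (tvS o _))).1, mul_inv_cancel_right, ← map_mul, ← mul_assoc,
        mul_assoc (tc u x'), ← tc_comm o.1 o.2.1 o.2.2.1, ← mul_assoc, tc_mul o.1, mul_assoc, tc_mul o.2.1,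
        ← mul_add, add_comm β']

theorem bac (h : C1 ι t) {β : K0 F} (k : BB ι t u w β) (p : X) : BB ι t (ac p u) (ι p * w * (ι p)⁻¹) β :=
  fun v o c' => by
    have o' := o.ac p⁻¹
    rw [H12.ac_inv] at o'
    have := kac h o' (k _ o' c') p
    rwa [H12.ac_inv'] at this

theorem bsm {β : K0 F} {b : F} (hb : b ≠ 0) (k : BB ι t (b • u) w β) : BB ι t u w β := fun v o c' e he =>
  let ⟨x, f⟩ := k v (osl o hb) c' e he
  ⟨_, by rw [f, tc_smul]⟩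

theorem bx (a : K0 F) : BB ι t u (ι (tc u a)) 0 := fun v o c' e he =>
  ⟨0, by rw [cx1 o he, mul_zero, tc_zero, tc_zero, mul_one, map_one]⟩

theorem bt' (h : C1 ι t) (a : K0 F) : BB ι t u (t * ι (tc u a)) 1 := fun v o c' e he =>
  ⟨0, by rw [cx2 h o he, mul_one, tc_zero, one_mul]⟩

theorem scl (h : C1 ι t) (hu : Is u) {β μ : K0 F} (hμ : μ ≠ 0) (k : SV ι t u c w) (k' : BB ι t u w β) :
    ∃ w', SV ι t u (c * μ) w' ∧ BB ι t u w' β := by
  obtain ⟨b, rfl⟩ := nm_surj μ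
  have b0 : b ≠ 0 := fun e => hμ (nm_zero.2 e)
  obtain ⟨p, hp⟩ := H76.tr_Is hu (hu.smul b0)
  exact ⟨_, (svs hu b0).1 (hp ▸ sva h hu k p), bsm b0 (hp ▸ bac h k' p)⟩

theorem b01 (h : C3 ι t) (hu : Is u) {β : K0 F} (k : SV ι t u c w) (k' : BB ι t u w β) : β = 0 ∨ β = 1 := by
  by_contra hn
  obtain ⟨h0, h1⟩ := not_or.1 hn
  obtain ⟨w1, s1, b1⟩ := scl h.toC1 hu h0 k k'
  obtain ⟨w2, s2, b2⟩ := scl h.toC1 hu (μ := β + 1)
    (fun e => h1 (by rw [← add_zero β, ← k0_add 1, ← add_assoc, e, zero_add])) k k'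
  have s := svm h.toC2 hu k (svm h.toC2 hu s1 s2)
  have b := bml k k' (bml s1 b1 b2)
  rw [k0_add, add_zero] at b
  rw [mul_add, mul_one, ← add_assoc (c * β), k0_add, zero_add, k0_add] at s
  obtain ⟨a, e | e⟩ := svk h.toC2 hu s
  · exact h0 (buq h hu b (e ▸ bx a))
  · exact h1 (buq h hu b (e ▸ bt' h.toC1 a))

/-- the complements -/
def ZF (ι : X →* G) (t : G) (u : V) (c : K0 F) (w : G) : Prop := SV ι t u c w ∧ BB ι t u w 0

theorem znt (h : C3 ι t) (hu : Is u) (k : ZF ι t u c w) (a : K0 F) : w ≠ t * ι (tc u a) := fun e =>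
  zero_ne_one (buq h hu k.2 (e ▸ bt' h.toC1 a))

theorem zex (h : C3 ι t) (hu : Is u) (c : K0 F) : ∃ w, ZF ι t u c w := by
  obtain ⟨w, k⟩ := h.ex u hu c
  obtain ⟨β, b⟩ := exB h hu k
  rcases b01 h hu k b with rfl | rfl
  · exact ⟨w, k, b⟩
  · have b1 := bml k b (bt' h.toC1 0)
    rw [tc_zero, map_one, mul_one, k0_add] at b1
    exact ⟨_, add_zero c ▸ svm h.toC2 hu k (svt h.toC1), b1⟩

theorem zml (h : C3 ι t) (hu : Is u) (k : ZF ι t u c w) (k' : ZF ι t u c' e) : ZF ι t u (c + c') (w * e) :=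
  ⟨svm h.toC2 hu k.1 k'.1, add_zero (0 : K0 F) ▸ bml k.1 k.2 k'.2⟩

theorem zac (h : C3 ι t) (hu : Is u) (k : ZF ι t u c w) (p : X) : ZF ι t (ac p u) c (ι p * w * (ι p)⁻¹) :=
  ⟨sva h.toC1 hu k.1 p, bac h.toC1 k.2 p⟩

theorem zsm (hu : Is u) {b : F} (hb : b ≠ 0) (k : ZF ι t (b • u) c w) : ZF ι t u (c * nm b) w :=
  ⟨(svs hu hb).1 k.1, bsm hb k.2⟩

theorem zk (h : C3 ι t) (hu : Is u) (k : ZF ι t u 0 w) : ∃ a, w = ι (tc u a) :=
  let ⟨a, e⟩ := svk h.toC2 hu k.1; ⟨a, e.resolve_right (znt h hu k a)⟩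

theorem zsq (h : C3 ι t) : ∃ κ : K0 F, ∀ v, Is v → ∀ c w, ZF ι t v c w → w * w = ι (tc v (κ * c)) := by
  have h0 : Is (ee 0 : V) := is_ee (by rw [Fin.rev_zero]; exact Fin.last_pos.ne)
  obtain ⟨w0, k0⟩ := zex h h0 1
  obtain ⟨κ, hκ⟩ := svq h.toC2 h0 k0.1
  refine ⟨κ, fun v hv c w k => ?_⟩
  by_cases z : c = 0
  · subst z
    obtain ⟨a, rfl⟩ := zk h hv k
    rw [xsq hv, mul_zero, tc_zero, map_one]
  obtain ⟨b, rfl⟩ := nm_surj c
  have b0 : b ≠ 0 := fun e => z (nm_zero.2 e)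
  obtain ⟨p, hp⟩ := H76.tr_Is h0 (hv.smul b0)
  have k1 := zsm hv b0 (hp ▸ zac h h0 k0 p)
  have e1 : ι p * w0 * (ι p)⁻¹ * (ι p * w0 * (ι p)⁻¹) = ι (tc v (κ * nm b)) := by
    rw [conj_mul, hκ, ← map_inv, ← map_mul, ← map_mul, tc_cj h0.1, hp, tc_smul, mul_comm κ]
  generalize ι p * w0 * (ι p)⁻¹ = w1 at k1 e1
  have k2 := zml h hv k1 k
  rw [one_mul, k0_add] at k2
  obtain ⟨a, e2⟩ := zk h hv k2
  have c1 : Commute w1⁻¹ (ι (tc v a)) := Commute.inv_left (k1.1.1.1 _ (tc_St hv.1 hv.1 a))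
  rw [eq_inv_mul_iff_mul_eq.2 e2, ← sq, c1.mul_pow, sq (ι _), xsq hv, mul_one, inv_pow, sq, e1, ← map_inv, tci hv.1]

theorem zf (h : C3 ι t) : Zf ι t (ZF ι t) where
  sv _ _ _ _ k := k.1
  nt _ hv _ _ k := znt h hv k
  ex _ hv := zex h hv
  z _ hv a := ⟨svx h.toC1 hv a, bx a⟩
  mul _ hv _ _ _ _ := zml h hv
  tr _ hv _ _ x k := zac h hv k x
  sq := zsq h
  cm u v hu hv uv c c' w w' k k' := by
    by_cases l : LinearIndependent F ![u, v]
    · have o : Ot u v := ⟨hu.1, hv.1, uv, l⟩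
      obtain ⟨x, f⟩ := k.2 v o c' w' k'.1
      obtain ⟨x', f'⟩ := k'.2 u o.symm c w k.1
      rw [← commutatorElement_inv, f, mul_zero, mul_zero, tc_zero, tc_zero, mul_one, mul_one, ← map_inv, tci hu.1] at f'
      have := (jinj' h.em o (x := x) (y := 0) (x' := 0) (y' := x') (by rwa [tc_zero, tc_zero, mul_one, one_mul])).1
      rw [this, mul_zero, tc_zero, tc_zero, mul_one, map_one] at f
      exact commutatorElement_eq_one_iff_mul_comm.1 f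
    · obtain ⟨a, rfl⟩ : ∃ a : F, a • u = v := by
        rw [LinearIndependent.pair_iff' hu.2] at l
        simpa using l
      have a0 : a ≠ 0 := fun e => hv.2 (by rw [e, zero_smul])
      have k1 := zsm hu a0 k'
      obtain ⟨κ, hκ⟩ := zsq h
      have e := hκ u hu _ _ (zml h hu k k1)
      rw [mul_add, ← tc_mul hu.1, map_mul, ← hκ u hu _ _ k, ← hκ u hu _ _ k1, mul_assoc, mul_assoc, mul_right_inj,
        ← mul_assoc, ← mul_assoc, mul_left_inj] at e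
      exact e.symm

theorem exZf (h : C3 ι t) : ∃ Z, Zf ι t Z := ⟨_, zf h⟩

end UMS.H30
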