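import Cfsg.Agent.Lib.UMS.CL
import Cfsg.Agent.Lib.UMS.CE
import Cfsg.Agent.Lib.UMS.B7

/-! A commuting family of complements to `t` is elementary abelian. -/

set_option autoImplicit false
set_option linter.unusedSimpArgs false
set_option linter.unusedSectionVars false

namespace UMS

open Subgroup H69 Cfsg Matrix U4S
open LMS (XX GX iL kk MM au tw Sg)
open scoped MatrixGroups commutatorElement

namespace Z91

section abs
variable {F : Type*} [Field F] [CharP F 2] {A : Type*} [AddCommGroup A]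

/-- third difference -/
def Df (ω : (Fin 3 → F) → A) (a v b : Fin 3 → F) : A :=
  ω (a + v + b) - ω (a + v) - ω (a + b) - ω (v + b) + ω a + ω v + ω b

/-- the abstract situation -/
structure Ab (s : RingAut F) (κ : F) (ω : (Fin 3 → F) → A) (R : A → ((Fin 3 → F) → (Fin 3 → F) → F) → Prop) :
    Prop where
  fn : ∀ b h h', R b h → R b h' → h = h'
  add : ∀ b b' h h', R b h → R b' h' → R (b + b') (h + h')
  neg : ∀ b h, R b h → R (-b) h
  l1 : ∀ b h, R b h → ∀ l l' m, h (l + l') m = h l m + h l' m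
  l2 : ∀ b h, R b h → ∀ l m m', h l (m + m') = h l m + h l m'
  l3 : ∀ b h, R b h → ∀ (c : F) l m, h (c • l) m = c * h l m
  l4 : ∀ b h, R b h → ∀ (c : F) l m, h l (c • m) = s c * h l m
  sq : ∀ v, R (ω v + ω v) fun l m => κ * (l ⬝ᵥ v * s (m ⬝ᵥ v))
  ex : ∀ a v b, ∃ h, R (Df ω a v b) h
  tr : ∀ u ν, ν ⬝ᵥ u = 0 → ∀ a v b h, R (Df ω a v b) h →
    R (Df ω (a + (ν ⬝ᵥ a) • u) (v + (ν ⬝ᵥ v) • u) (b + (ν ⬝ᵥ b) • u)) fun l m => h (l + (l ⬝ᵥ u) • ν) (m + (m ⬝ᵥ u) • ν)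

variable {s : RingAut F} {κ : F} {ω : (Fin 3 → F) → A} {R : A → ((Fin 3 → F) → (Fin 3 → F) → F) → Prop}

theorem vv (a : Fin 3 → F) : a + a = 0 := by
  ext i; simp [CharTwo.add_self_eq_zero]

theorem Df_rot (ω : (Fin 3 → F) → A) (a v b : Fin 3 → F) : Df ω v b a = Df ω a v b := by
  rw [Df, Df, show v + b + a = a + v + b by abel, add_comm v a, add_comm b a]; abel

theorem Ab.one (H : Ab s κ ω R) {a v b α ν β : Fin 3 → F} {h} (r : R (Df ω a v b) h) (e1 : α ⬝ᵥ a = 1)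
    (e2 : α ⬝ᵥ b = 0) (e3 : ν ⬝ᵥ a = 0) (e4 : ν ⬝ᵥ v = 1) (e5 : ν ⬝ᵥ b = 0) (e6 : β ⬝ᵥ a = 0) (e7 : β ⬝ᵥ b = 1) :
    h β ν = κ ∧ h ν β = κ ∧ h ν ν = 0 := by
  have r1 := H.add _ _ _ _ (H.tr a ν e3 a v b h r) r
  rw [e3, e4, e5, zero_smul, one_smul, add_zero, add_zero] at r1
  have r2 := H.add _ _ _ _ (H.add _ _ _ _ (H.sq a) (H.sq b)) (H.neg _ _ (H.sq (a + b)))
  have e : Df ω a (v + a) b + Df ω a v b = ω a + ω a + (ω b + ω b) + -(ω (a + b) + ω (a + b)) := by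
    rw [Df, Df, show a + (v + a) = v by rw [add_comm v, ← add_assoc, vv, zero_add], add_comm v a]; abel
  rw [e] at r1
  have k := fun l m => congrFun (congrFun (H.fn _ _ _ r1 r2) l) m
  have k1 := k β α
  have k2 := k α β
  have k3 := k ν α
  simp only [Pi.add_apply, dotProduct_add, e1, e2, e3, e5, e6, e7, zero_smul, one_smul, add_zero, zero_add, map_one,
    map_zero, mul_zero, mul_one, zero_mul] at k1 k2 k3
  rw [H.l2 _ _ r] at k1 k3
  rw [H.l1 _ _ r] at k2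
  have h2 : (2 : F) = 0 := CharTwo.two_eq_zero
  exact ⟨by linear_combination k1 - h β α * h2, by linear_combination k2 - h α β * h2,
    by linear_combination k3 - h ν α * h2⟩

theorem Ab.two (H : Ab s κ ω R) {a v b : Fin 3 → F} {h} (r : R (Df ω a v b) h) (d : (Matrix.of ![a, v, b]).det ≠ 0)
    (l m : Fin 3 → F) : h l m = κ * (l ⬝ᵥ a * s (m ⬝ᵥ v) + l ⬝ᵥ v * s (m ⬝ᵥ a) + l ⬝ᵥ a * s (m ⬝ᵥ b) +
      l ⬝ᵥ b * s (m ⬝ᵥ a) + l ⬝ᵥ v * s (m ⬝ᵥ b) + l ⬝ᵥ b * s (m ⬝ᵥ v)) := by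
  have d' : IsUnit (Matrix.of ![a, v, b]).det := d.isUnit
  have p1 := mul_nonsing_inv _ d'
  have p2 := nonsing_inv_mul _ d'
  generalize (Matrix.of ![a, v, b])⁻¹ = N at p1 p2
  have q : ∀ i j, (fun x => N x j) ⬝ᵥ ![a, v, b] i = (1 : Matrix (Fin 3) (Fin 3) F) i j := fun i j => by
    rw [← p1, dotProduct_comm]; rfl
  have ex : ∀ l : Fin 3 → F, l = (l ⬝ᵥ a) • (fun x => N x 0) + (l ⬝ᵥ v) • (fun x => N x 1) +
      (l ⬝ᵥ b) • fun x => N x 2 := fun l => by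
    conv_lhs => rw [← one_mulVec l, ← p2, ← mulVec_mulVec]
    ext x
    simp only [mulVec, dotProduct, Fin.sum_univ_three, of_apply, Pi.add_apply, Pi.smul_apply, smul_eq_mul]
    simp
    ring
  have q00 := q 0 0; have q01 := q 0 1; have q02 := q 0 2
  have q10 := q 1 0; have q11 := q 1 1; have q12 := q 1 2
  have q20 := q 2 0; have q21 := q 2 1; have q22 := q 2 2
  simp only [cons_val_zero, cons_val_one, cons_val, one_apply_eq, ne_eq, Fin.reduceEq, not_false_eq_true,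
    one_apply_ne] at q00 q01 q02 q10 q11 q12 q20 q21 q22
  obtain ⟨a1, a2, a3⟩ := H.one r q00 q20 q01 q11 q21 q02 q22
  obtain ⟨b1, b2, b3⟩ := H.one (Df_rot ω a v b ▸ r : R (Df ω v b a) h) q11 q01 q12 q22 q02 q10 q00
  obtain ⟨c1, c2, c3⟩ := H.one (Df_rot ω b a v ▸ r : R (Df ω b a v) h) q22 q12 q20 q00 q10 q21 q11
  conv_lhs => rw [ex l, ex m]
  simp only [H.l1 _ _ r, H.l2 _ _ r, H.l3 _ _ r, H.l4 _ _ r, a1, a2, a3, b1, b2, b3, c1, c2, c3]
  ring

theorem Ab.kz (H : Ab s κ ω R) {w : F} (w0 : w ≠ 0) (w1 : w + 1 ≠ 0) : κ = 0 := by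
  have h2 : (2 : F) = 0 := CharTwo.two_eq_zero
  have e : ∀ a a' v b, Df ω (a + a') v b + -Df ω a v b + -Df ω a' v b =
      Df ω (v + b) a a' + -Df ω v a a' + -Df ω b a a' := fun a a' v b => by
    rw [Df, Df, Df, Df, Df, Df, show v + b + a + a' = a + a' + v + b by abel, show v + b + a = a + v + b by abel,
      show v + b + a' = a' + v + b by abel, show v + a + a' = a + a' + v by abel,
      show b + a + a' = a + a' + b by abel, add_comm v a, add_comm v a', add_comm b a, add_comm b a']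
    abel
  obtain ⟨h1, r1⟩ := H.ex (![1, 0, 0] + ![0, 1, 0]) ![0, 0, 1] ![1, w, w]
  obtain ⟨h2', r2⟩ := H.ex ![1, 0, 0] ![0, 0, 1] ![1, w, w]
  obtain ⟨h3, r3⟩ := H.ex ![0, 1, 0] ![0, 0, 1] ![1, w, w]
  obtain ⟨h4, r4⟩ := H.ex (![0, 0, 1] + ![1, w, w]) ![1, 0, 0] ![0, 1, 0]
  obtain ⟨h5, r5⟩ := H.ex ![0, 0, 1] ![1, 0, 0] ![0, 1, 0]
  obtain ⟨h6, r6⟩ := H.ex ![1, w, w] ![1, 0, 0] ![0, 1, 0]
  have k := congrFun (congrFun (H.fn _ _ _ (e _ _ _ _ ▸ H.add _ _ _ _ (H.add _ _ _ _ r1 (H.neg _ _ r2)) (H.neg _ _ r3))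
    (H.add _ _ _ _ (H.add _ _ _ _ r4 (H.neg _ _ r5)) (H.neg _ _ r6))) ![0, 0, 1]) ![1, 0, 0]
  have w1' : 1 + w ≠ 0 := by rwa [add_comm]
  have w2 : -w + 1 ≠ 0 := by rwa [CharTwo.neg_eq]
  simp only [Pi.add_apply] at k
  rw [H.two r1 (by simp [det_fin_three, w2]), H.two r2 (by simp [det_fin_three, w0]),
    H.two r3 (by simp [det_fin_three]), H.two r4 (by simp [det_fin_three, w1']), H.two r5 (by simp [det_fin_three]),
    H.two r6 (by simp [det_fin_three, w0])] at k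
  simp [dotProduct, Fin.sum_univ_three] at k
  linear_combination k - κ * h2

end abs

universe u
variable {G : Type*} [Group G] [Finite G] {F : Type u} [Field F] [CharP F 2] [Fintype F] [Hs F] {n : ℕ} [Ok n F]
  {ι : XU n F →* G} {t : G} {Z : VV n F → K0 F → G → Prop}

local notation "X" => XU n F
local notation "V" => VV n F
local notation "I" => Fin (n + 3)

/-- vectors in the span of the first three basis vectors -/
def em (v : Fin 3 → F) : V := v 0 • ee 0 + v 1 • ee 1 + v 2 • ee 2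
/-- dual vectors -/
def du (l : Fin 3 → F) : V := σ (l 0) • ee (0 : I).rev + σ (l 1) • ee (1 : I).rev + σ (l 2) • ee (2 : I).rev

theorem em_add (u v : Fin 3 → F) : (em (u + v) : V) = em u + em v := by
  simp only [em, Pi.add_apply]; module
theorem em_smul (c : F) (v : Fin 3 → F) : (em (c • v) : V) = c • em v := by
  simp only [em, Pi.smul_apply, smul_eq_mul]; module
theorem du_add (u v : Fin 3 → F) : (du (u + v) : V) = du u + du v := by
  simp only [du, Pi.add_apply, map_add]; module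
theorem du_smul (c : F) (v : Fin 3 → F) : (du (c • v) : V) = σ c • du v := by
  simp only [du, Pi.smul_apply, smul_eq_mul, map_mul]; module

theorem bt_du (y : V) (l : Fin 3 → F) : bt y (du l) = l 0 * y 0 + l 1 * y 1 + l 2 * y 2 := by
  simp only [du, bt_add_right, bt_smul_right, sg_sg, bt_ee, Fin.rev_rev]

theorem bt_em (y : V) (v : Fin 3 → F) :
    bt y (em v) = σ (v 0) * y (0 : I).rev + σ (v 1) * y (1 : I).rev + σ (v 2) * y (2 : I).rev := by
  simp only [em, bt_add_right, bt_smul_right, bt_ee]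

theorem v0 : ((0 : I) : ℕ) = 0 := rfl
theorem v1 : ((1 : I) : ℕ) = 1 := rfl
theorem v2 : ((2 : I) : ℕ) = 2 := rfl

theorem ee_ne {i j : I} (h : i.1 ≠ j.1) : (ee i : V) j = 0 := Pi.single_eq_of_ne (fun e => h (by rw [e])) _
theorem ee_eq (i : I) : (ee i : V) i = 1 := Pi.single_eq_same _ _

theorem em_hi (v : Fin 3 → F) {i : I} (h : 3 ≤ i.1) : (em v : V) i = 0 := by
  simp only [em, Pi.add_apply, Pi.smul_apply]
  rw [ee_ne (by rw [v0]; omega), ee_ne (by rw [v1]; omega), ee_ne (by rw [v2]; omega)]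
  simp

theorem em_lo (v : Fin 3 → F) : (em v : V) 0 = v 0 ∧ (em v : V) 1 = v 1 ∧ (em v : V) 2 = v 2 := by
  simp only [em, Pi.add_apply, Pi.smul_apply, ee_eq]
  rw [ee_ne (i := 0) (j := 1) (by rw [v0, v1]; omega), ee_ne (i := 0) (j := 2) (by rw [v0, v2]; omega),
    ee_ne (i := 1) (j := 0) (by rw [v0, v1]; omega), ee_ne (i := 1) (j := 2) (by rw [v1, v2]; omega),
    ee_ne (i := 2) (j := 0) (by rw [v0, v2]; omega), ee_ne (i := 2) (j := 1) (by rw [v1, v2]; omega)]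
  simp

theorem du_lo (l : Fin 3 → F) {i : I} (h : i.1 < 3) : (du l : V) i = 0 := by
  have n3 := (inferInstance : Ok n F).h3
  simp only [du, Pi.add_apply, Pi.smul_apply]
  rw [ee_ne (by rw [Fin.val_rev, v0]; omega), ee_ne (by rw [Fin.val_rev, v1]; omega),
    ee_ne (by rw [Fin.val_rev, v2]; omega)]
  simp

theorem bt_ed (v l : Fin 3 → F) : bt (em v : V) (du l) = l ⬝ᵥ v := by
  rw [bt_du, (em_lo v).1, (em_lo v).2.1, (em_lo v).2.2]; simp [dotProduct, Fin.sum_univ_three]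

theorem bt_de (l v : Fin 3 → F) : bt (du l : V) (em v) = σ (l ⬝ᵥ v) := by rw [bt_symm, bt_ed]

theorem bt_ee' (u v : Fin 3 → F) : bt (em u : V) (em v) = 0 := by
  have n3 := (inferInstance : Ok n F).h3
  rw [bt_em, em_hi u (by rw [Fin.val_rev, v0]; omega), em_hi u (by rw [Fin.val_rev, v1]; omega),
    em_hi u (by rw [Fin.val_rev, v2]; omega)]
  simp

theorem bt_dd (u v : Fin 3 → F) : bt (du u : V) (du v) = 0 := by
  rw [bt_du, du_lo u (by rw [v0]; omega), du_lo u (by rw [v1]; omega), du_lo u (by rw [v2]; omega)]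
  simp

theorem em_zero : (em 0 : V) = 0 := by simp [em]

theorem nd {v : Fin 3 → F} (h : ∀ l : Fin 3 → F, l ⬝ᵥ v = 0) : v = 0 := by
  ext i; simpa using h (Pi.single i 1)

theorem is_em {v : Fin 3 → F} (h : v ≠ 0) : Is (em v : V) :=
  ⟨bt_ee' v v, fun e => h (nd fun l => by rw [← bt_ed (n := n), e, ← zero_smul F (0 : V), bt_smul_left, zero_mul])⟩

/-- moves into the three-space and fixes it -/
def Jp (x : X) : Prop := (∀ y, ∃ v, ac x y = y + em v) ∧ ∀ v, ac x (em v) = em v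

/-- the form of an element -/
def fm (x : X) (l m : Fin 3 → F) : F := bt (ac x (du m) - du m) (du l)

theorem ww (w : V) : w + w = 0 := by
  ext i; simp [CharTwo.add_self_eq_zero]

theorem Jp.mul {x y : X} (hx : Jp x) (hy : Jp y) : Jp (x * y) ∧ fm (x * y) = fm x + fm y := by
  refine ⟨⟨fun z => ?_, fun v => by rw [ac_mul, hy.2, hx.2]⟩, ?_⟩
  · obtain ⟨v, e⟩ := hy.1 z
    obtain ⟨u, e'⟩ := hx.1 z
    exact ⟨u + v, by rw [ac_mul, e, ac_add, e', hx.2, em_add, add_assoc]⟩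
  · ext l m
    obtain ⟨v, e⟩ := hy.1 (du m)
    rw [Pi.add_apply, Pi.add_apply, fm, fm, fm, ac_mul, e, ac_add, hx.2, ← bt_add_left]
    congr 1; abel

theorem Jp.sq {x : X} (hx : Jp x) : x * x = 1 := ac_ext fun z => by
  obtain ⟨v, e⟩ := hx.1 z
  rw [ac_mul, e, ac_add, e, hx.2, add_assoc, ww, add_zero, ac_one]

theorem Jp.one {x : X} (hx : Jp x) (h : fm x = 0) : x = 1 := by
  have a : ∀ m, ac x (du m) = du m := fun m => by
    obtain ⟨v, e⟩ := hx.1 (du m)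
    have : v = 0 := nd fun l => by
      have := congrFun (congrFun h l) m
      rwa [fm, e, add_sub_cancel_left, bt_ed] at this
    rw [e, this, em_zero, add_zero]
  refine ac_ext fun z => ?_
  obtain ⟨v, e⟩ := hx.1 z
  have : v = 0 := nd fun l => by
    have := bt_ac x z (du l)
    rwa [a, e, bt_add_left, bt_ed, add_eq_left] at this
  rw [e, this, em_zero, add_zero, ac_one]

theorem Jp.St {x : X} (hx : Jp x) (v : Fin 3 → F) : x ∈ St {(em v : V)} := mem_St.2 fun _ h => h ▸ hx.2 v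

theorem St3 {x : X} (hx : x ∈ St {(ee 0 : V), ee 1, ee 2}) (v : Fin 3 → F) : ac x (em v) = em v := by
  rw [em, ac_add, ac_add, ac_smul, ac_smul, ac_smul, mem_St.1 hx _ (by simp), mem_St.1 hx _ (by simp),
    mem_St.1 hx _ (by simp)]

theorem Jp.St3 {x : X} (hx : Jp x) : x ∈ UMS.St {(ee 0 : V), ee 1, ee 2} := mem_St.2 (by
  rintro _ (rfl | rfl | rfl)
  · simpa [em] using hx.2 ![1, 0, 0]
  · simpa [em] using hx.2 ![0, 1, 0]
  · simpa [em] using hx.2 ![0, 0, 1])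

theorem jp_tc (v : Fin 3 → F) (c : K0 F) : Jp (tc (em v) c : X) ∧
    fm (tc (em v) c : X) = fun l m => (c : F) * (l ⬝ᵥ v * σ (m ⬝ᵥ v)) := by
  refine ⟨⟨fun y => ⟨_, by rw [ac_tc (bt_ee' v v), em_smul]⟩, fun u => by
    rw [ac_tc (bt_ee' v v), bt_ee', mul_zero, zero_smul, add_zero]⟩, ?_⟩
  ext l m
  rw [fm, ac_tc (bt_ee' v v), add_sub_cancel_left, bt_smul_left, bt_de, bt_ed]; ring

theorem jp_JD {x : X} (hx : x ∈ JD n F 3) : Jp x := by
  have n3 := (inferInstance : Ok n F).h3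
  have h := (mem_JD' (show 3 ≤ kk n by unfold kk; omega)).1 hx
  refine ⟨fun y => ⟨![(ac x y - y) 0, (ac x y - y) 1, (ac x y - y) 2], ?_⟩, St3 (mem_St.2 ?_)⟩
  · rw [← sub_eq_iff_eq_add']
    ext i
    by_cases hi : 3 ≤ i.1
    · rw [em_hi _ hi, Pi.sub_apply, sub_eq_zero]
      conv_rhs => rw [← one_mulVec y]
      simp only [ac, mulVec, dotProduct]
      exact Finset.sum_congr rfl fun j _ => by rw [h i j (by omega)]
    · have : i = 0 ∨ i = 1 ∨ i = 2 := by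
        simp only [Fin.ext_iff, v0, v1, v2]; omega
      rcases this with rfl | rfl | rfl
      · rw [(em_lo _).1]; rfl
      · rw [(em_lo _).2.1]; rfl
      · rw [(em_lo _).2.2]; rfl
  · have k : ∀ j : I, j.1 < 3 → ac x (ee j) = ee j := fun j hj => by
      ext i
      rw [ac, ee, mulVec_single_one, col_apply, h i j (by rw [Fin.val_rev]; omega), one_apply, Pi.single_apply]
    rintro _ (rfl | rfl | rfl)
    exacts [k _ (by rw [v0]; omega), k _ (by rw [v1]; omega), k _ (by rw [v2]; omega)]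

theorem sh_em {u ν : Fin 3 → F} (h : ν ⬝ᵥ u = 0) (v : Fin 3 → F) :
    ac (sh (em u) (du ν) : X) (em v) = em (v + (ν ⬝ᵥ v) • u) ∧
    ac (sh (em u) (du ν) : X) (du v) = du (v + (v ⬝ᵥ u) • ν) := by
  have k : bt (em u : V) (du ν) = 0 := by rw [bt_ed, h]
  rw [ac_sh (bt_ee' u u) (bt_dd ν ν) k, ac_sh (bt_ee' u u) (bt_dd ν ν) k, bt_ed, bt_ee', bt_dd, bt_de, em_add, em_smul,
    du_add, du_smul]
  simp

theorem Jp.cj {x : X} (hx : Jp x) {u ν : Fin 3 → F} (h : ν ⬝ᵥ u = 0) :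
    Jp (sh (em u) (du ν) * x * (sh (em u) (du ν))⁻¹) ∧ fm (sh (em u) (du ν) * x * (sh (em u) (du ν))⁻¹) =
      fun l m => fm x (l + (l ⬝ᵥ u) • ν) (m + (m ⬝ᵥ u) • ν) := by
  have s2 : (sh (em u) (du ν) : X) * sh (em u) (du ν) = 1 := sh_sq (bt_ee' u u) (bt_dd ν ν) (by rw [bt_ed, h])
  have a2 : ∀ y, ac (sh (em u) (du ν) : X) (ac (sh (em u) (du ν) : X) y) = y := fun y => by rw [← ac_mul, s2, ac_one]
  rw [inv_eq_of_mul_eq_one_right s2]
  refine ⟨⟨fun y => ?_, fun v => by rw [ac_mul, ac_mul, (sh_em h v).1, hx.2, ← (sh_em h v).1, a2]⟩, ?_⟩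
  · obtain ⟨v, e⟩ := hx.1 (ac (sh (em u) (du ν)) y)
    exact ⟨_, by rw [ac_mul, ac_mul, e, ac_add, a2, (sh_em h v).1]⟩
  · ext l m
    obtain ⟨v, e⟩ := hx.1 (ac (sh (em u) (du ν)) (du m))
    rw [fm, fm, ac_mul, ac_mul, ← (sh_em h m).2, ← (sh_em h l).2, e, ac_add, a2, add_sub_cancel_left,
      add_sub_cancel_left, ← bt_ac (sh (em u) (du ν)) (ac _ _), a2]

theorem odd4 {o : G} (ho : Odd (orderOf o)) (h : o ^ 4 = 1) : o = 1 :=
  (show P2 o from ⟨2, h⟩).eq_one ho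

theorem exω (z : Zf ι t Z) : ∃ ω : V → G, ω 0 = 1 ∧ (∀ v, Is v → Z v 1 (ω v)) ∧
    ∀ x v, Is v → ι x * ω v * (ι x)⁻¹ = ω (ac x v) := by
  classical
  have i0 : Is (ee 0 : V) := is_ee (by intro e; have := congrArg Fin.val e; simp [Fin.val_rev] at this)
  obtain ⟨w, hw⟩ := z.ex _ i0 1
  choose g hg using fun (v : V) (h : Is v) => wit1 h
  refine ⟨fun v => if h : Is v then ι (g v h) * w * (ι (g v h))⁻¹ else 1, dif_neg fun k => k.2 rfl, fun v hv => ?_,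
    fun x v hv => ?_⟩
  · simp only [dif_pos hv]
    have := z.tr _ i0 _ _ (g v hv) hw
    rwa [hg] at this
  · simp only [dif_pos hv, dif_pos (hv.ac x)]
    have e2 := hg _ (hv.ac x)
    generalize g _ (hv.ac x) = y at e2
    have k : y⁻¹ * x * g v hv ∈ St {(ee 0 : V)} := mem_St.2 fun _ e => by
      rw [e, ac_mul, ac_mul, hg, ← e2, ← ac_mul, inv_mul_cancel, ac_one]
    have := (z.sv _ i0 _ _ hw).1.1 _ k
    simp only [map_mul, map_inv] at this
    calc _ = ι y * ((ι y)⁻¹ * ι x * ι (g v hv) * w) * (ι (g v hv))⁻¹ * (ι x)⁻¹ := by group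
      _ = _ := by rw [← this]; group

theorem kz (h : C2 ι t) (z : Zf ι t Z) {κ : K0 F} (hκ : ∀ v, Is v → ∀ c w, Z v c w → w * w = ι (tc v (κ * c))) :
    κ = 0 := by
  obtain ⟨ω, ω0, ωZ, ωe⟩ := exω z
  have cm : ∀ u v : Fin 3 → F, ω (em u) * ω (em v) = ω (em v) * ω (em u) := fun u v => by
    by_cases hu : u = 0
    · rw [hu, em_zero, ω0, one_mul, mul_one]
    by_cases hv : v = 0
    · rw [hv, em_zero, ω0, one_mul, mul_one]
    exact z.cm _ _ (is_em hu) (is_em hv) (bt_ee' u v) _ _ _ _ (ωZ _ (is_em hu)) (ωZ _ (is_em hv))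
  have tc0 : ∀ c : K0 F, (tc (em 0) c : X) = 1 := fun c => (jp_tc 0 c).1.one (by rw [(jp_tc 0 c).2]; ext; simp)
  have sq : ∀ v : Fin 3 → F, ω (em v) * ω (em v) = ι (tc (em v) κ) := fun v => by
    by_cases hv : v = 0
    · rw [hv, tc0, em_zero, ω0, map_one, mul_one]
    · rw [hκ _ (is_em hv) _ _ (ωZ _ (is_em hv)), mul_one]
  have d0 : ∀ v : Fin 3 → F, D0 ι t (em v) 1 (ω (em v)) := fun v => by
    by_cases hv : v = 0
    · rw [hv, D0, tc0, em_zero, ω0]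
      exact ⟨fun x _ => by rw [one_mul, mul_one], by simp⟩
    · exact (z.sv _ (is_em hv) _ _ (ωZ _ (is_em hv))).1
  have eqv : ∀ u ν : Fin 3 → F, ν ⬝ᵥ u = 0 → ∀ v, ι (sh (em u) (du ν)) * ω (em v) * (ι (sh (em u) (du ν)))⁻¹ =
      ω (em (v + (ν ⬝ᵥ v) • u)) := fun u ν e v => by
    by_cases hv : v = 0
    · simp [hv, em_zero, ω0]
    · rw [ωe _ _ (is_em hv), (sh_em e v).1]
  let S : Subgroup G := closure (Set.range fun v : Fin 3 → F => ω (em v))
  have iS : IsMulCommutative S := isMulCommutative_closure (by rintro _ ⟨u, rfl⟩ _ ⟨v, rfl⟩; exact cm u v)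
  have cS : ∀ a ∈ S, ∀ b ∈ S, a * b = b * a := fun a ha b hb =>
    congrArg Subtype.val (iS.1.1 (⟨a, ha⟩ : S) ⟨b, hb⟩)
  letI : CommGroup S := { (inferInstance : Group S) with mul_comm := fun a b => Subtype.ext (cS _ a.2 _ b.2) }
  have mS : ∀ v, ω (em v) ∈ S := fun v => subset_closure ⟨v, rfl⟩
  have pS : ∀ a ∈ S, Cn ι (St {ee 0, ee 1, ee 2}) a ∧ a ^ 4 = 1 := fun a ha => by
    induction ha using closure_induction with
    | mem x hx =>
      obtain ⟨v, rfl⟩ := hx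
      refine ⟨fun x hx => (d0 v).1 x (mem_St.2 fun _ e => e ▸ St3 hx v), ?_⟩
      rw [show (4 : ℕ) = 2 * 2 from rfl, pow_mul, pow_two (ω (em v)), sq v, pow_two, ← map_mul, (jp_tc v κ).1.sq, map_one]
    | one => exact ⟨fun x _ => by simp, one_pow _⟩
    | mul x y hx hy a b =>
      exact ⟨fun w hw => by rw [mul_assoc, b.1 w hw, ← mul_assoc, a.1 w hw, mul_assoc],
        by rw [(show Commute x y from cS x hx y hy).mul_pow, a.2, b.2, mul_one]⟩
    | inv x _ a => exact ⟨fun w hw => (Commute.inv_left (a.1 w hw)).eq, by rw [inv_pow, a.2, inv_one]⟩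
  let T : Additive S → ((Fin 3 → F) → (Fin 3 → F) → F) → Prop := fun a f =>
    ∃ x, Jp x ∧ a.toMul.1 * t * a.toMul.1⁻¹ = t * ι x ∧ f = fm x
  have Tadd : ∀ a b f f', T a f → T b f' → T (a + b) (f + f') := by
    rintro a b _ _ ⟨x, hx, e, rfl⟩ ⟨y, hy, e', rfl⟩
    refine ⟨x * y, (hx.mul hy).1, ?_, (hx.mul hy).2.symm⟩
    change a.toMul.1 * b.toMul.1 * t * (a.toMul.1 * b.toMul.1)⁻¹ = _
    calc _ = a.toMul.1 * (b.toMul.1 * t * b.toMul.1⁻¹) * a.toMul.1⁻¹ := by group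
      _ = a.toMul.1 * t * a.toMul.1⁻¹ * (a.toMul.1 * ι y) * a.toMul.1⁻¹ := by rw [e']; group
      _ = _ := by rw [e, (pS _ a.toMul.2).1 y hy.St3, map_mul]; group
  have Tneg : ∀ a f, T a f → T (-a) f := by
    rintro a _ ⟨x, hx, e, rfl⟩
    refine ⟨x, hx, ?_, rfl⟩
    change a.toMul.1⁻¹ * t * a.toMul.1⁻¹⁻¹ = _
    have e1 : t = a.toMul.1 * (t * ι x) * a.toMul.1⁻¹ := by
      calc t = t * ι x * (ι x * a.toMul.1) * a.toMul.1⁻¹ := by
            rw [mul_assoc t, ← mul_assoc (ι x), ← map_mul, hx.sq, map_one]; group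
        _ = _ := by
            rw [← (pS _ a.toMul.2).1 x hx.St3]
            conv_lhs => rw [← e]
            group
    conv_lhs => rw [e1]
    group
  let w : (Fin 3 → F) → Additive S := fun v => Additive.ofMul ⟨ω (em v), mS v⟩
  have Tw : ∀ v, T (w v) fun l m => l ⬝ᵥ v * σ (m ⬝ᵥ v) := fun v =>
    ⟨_, (jp_tc v 1).1, (d0 v).2, by rw [(jp_tc v 1).2]; simp⟩
  let R : Additive S → ((Fin 3 → F) → (Fin 3 → F) → F) → Prop := fun a f => ∃ x, Jp x ∧ a.toMul.1 = ι x ∧ f = fm x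
  have TR : ∀ a, T a 0 → ∃ f, R a f := by
    rintro a ⟨x, hx, e, e0⟩
    rw [hx.one e0.symm, map_one, mul_one, mul_inv_eq_iff_eq_mul] at e
    obtain ⟨y, hy, k, hk, ek⟩ := cP3 h.em (h.CN _ e) (pS _ a.toMul.2).1
    have jy := jp_JD hy
    have ky : k * ι y = ι y * k := (hk _ ⟨y, rfl⟩).symm
    have kt : k * t = t * k := by
      rw [ek, mul_assoc, ← h.tc, ← mul_assoc, ← mul_assoc] at e
      exact mul_right_cancel e
    have k4 : k ^ 4 = 1 := by
      have := (pS _ a.toMul.2).2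
      rwa [ek, (show Commute k (ι y) from ky).mul_pow, ← map_pow, show (4 : ℕ) = 2 * 2 from rfl, pow_mul y, pow_two y,
        jy.sq, one_pow, map_one, mul_one] at this
    obtain ⟨O, -, -, hO⟩ := h.od
    obtain ⟨o, ho, eo | eo⟩ := hO k hk kt
    · rw [eo] at k4
      rw [eo, odd4 ho.2.2 k4, one_mul] at ek
      exact ⟨_, y, jy, ek, rfl⟩
    · exfalso
      rw [eo, (show Commute t o from ho.2.1.symm).mul_pow, show (4 : ℕ) = 2 * 2 from rfl, pow_mul t, pow_two t, h.t2,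
        one_pow, one_mul] at k4
      rw [eo, odd4 ho.2.2 k4, mul_one] at ek
      have n0 : (![1, 0, 0] : Fin 3 → F) ≠ 0 := fun e => by simpa using congrFun e 0
      have c1 := cS _ (mS ![1, 0, 0]) _ a.toMul.2
      rw [ek, mul_assoc t, ← (d0 _).1 y (jy.St _), ← mul_assoc, ← mul_assoc] at c1
      have c2 := (d0 ![1, 0, 0]).2
      rw [mul_right_cancel c1, mul_inv_cancel_right, left_eq_mul] at c2
      exact one_ne_zero (tc_cen (is_em n0) (h.em c2))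
  have h2 : (2 : F) = 0 := CharTwo.two_eq_zero
  have H : Ab σ (κ : F) w R := {
    fn := by
      rintro b _ _ ⟨x, hx, e, rfl⟩ ⟨y, hy, e', rfl⟩
      rw [h.em.inj2 (P2.of_sq hx.sq) (P2.of_sq hy.sq) (e.symm.trans e')]
    add := by
      rintro a b _ _ ⟨x, hx, e, rfl⟩ ⟨y, hy, e', rfl⟩
      exact ⟨x * y, (hx.mul hy).1, by rw [map_mul, ← e, ← e']; rfl, (hx.mul hy).2.symm⟩
    neg := by
      rintro a _ ⟨x, hx, e, rfl⟩
      refine ⟨x, hx, ?_, rfl⟩
      change a.toMul.1⁻¹ = _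
      rw [e, ← map_inv, inv_eq_of_mul_eq_one_right hx.sq]
    l1 := by
      rintro a _ ⟨x, -, -, rfl⟩ l l' m
      rw [fm, fm, fm, du_add, bt_add_right]
    l2 := by
      rintro a _ ⟨x, -, -, rfl⟩ l m m'
      rw [fm, fm, fm, du_add, ac_add, ← bt_add_left]
      congr 1; abel
    l3 := by
      rintro a _ ⟨x, -, -, rfl⟩ c l m
      rw [fm, fm, du_smul, bt_smul_right, sg_sg]
    l4 := by
      rintro a _ ⟨x, -, -, rfl⟩ c l m
      rw [fm, fm, du_smul, ac_smul, ← smul_sub, bt_smul_left]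
    sq := fun v => ⟨_, (jp_tc v κ).1, sq v, (jp_tc v κ).2.symm⟩
    ex := fun a v b => TR _ (by
      have := Tadd _ _ _ _ (Tadd _ _ _ _ (Tadd _ _ _ _ (Tadd _ _ _ _ (Tadd _ _ _ _ (Tadd _ _ _ _ (Tw (a + v + b))
        (Tneg _ _ (Tw (a + v)))) (Tneg _ _ (Tw (a + b)))) (Tneg _ _ (Tw (v + b)))) (Tw a)) (Tw v)) (Tw b)
      refine cast (congrArg₂ T (by simp only [Df, sub_eq_add_neg]) (Eq.symm ?_)) this
      ext l m
      simp only [Pi.add_apply, Pi.zero_apply, dotProduct_add, map_add]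
      linear_combination (-(l ⬝ᵥ a * σ (m ⬝ᵥ v) + l ⬝ᵥ v * σ (m ⬝ᵥ a) + l ⬝ᵥ a * σ (m ⬝ᵥ b) + l ⬝ᵥ b * σ (m ⬝ᵥ a) +
        l ⬝ᵥ v * σ (m ⬝ᵥ b) + l ⬝ᵥ b * σ (m ⬝ᵥ v)) -
        2 * (l ⬝ᵥ a * σ (m ⬝ᵥ a) + l ⬝ᵥ v * σ (m ⬝ᵥ v) + l ⬝ᵥ b * σ (m ⬝ᵥ b))) * h2)
    tr := by
      rintro u ν e a v b _ ⟨x, hx, ex, rfl⟩
      refine ⟨_, (hx.cj e).1, ?_, (hx.cj e).2.symm⟩
      have ad : ∀ p q : Fin 3 → F, p + (ν ⬝ᵥ p) • u + (q + (ν ⬝ᵥ q) • u) = p + q + (ν ⬝ᵥ (p + q)) • u := fun p q => by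
        rw [dotProduct_add, add_smul]; abel
      rw [map_mul, map_mul, map_inv, ← ex]
      simp only [Df, ad, toMul_add, toMul_sub, w, toMul_ofMul, Subgroup.coe_mul, Subgroup.coe_div, ← eqv u ν e,
        div_eq_mul_inv, Subgroup.coe_inv]
      group }
  obtain ⟨a, an, a1, -⟩ := ex_n1 (F := F)
  have a0 : a ≠ 0 := fun e => by
    rw [nm_zero.2 e] at an
    exact zero_ne_one an
  exact Subtype.ext (H.kz a0 fun e => a1 (CharTwo.add_eq_zero.1 e))

theorem kC (h : C2 ι t) {v : V} (hv : Is v) {d : G} (k : D0 ι t v 0 d) :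
    ∃ a u, u ∈ 𝐂(ι.range) ∧ u * t = t * u ∧ d = u * ι (tc v a) := by
  have e := k.2
  rw [tc_zero, map_one, mul_one, mul_inv_eq_iff_eq_mul] at e
  obtain ⟨a, u, hu, rfl⟩ := cP h.em (h.CN _ e) hv k.1
  refine ⟨a, u, hu, ?_, rfl⟩
  rw [mul_assoc, ← h.tc, ← mul_assoc, ← mul_assoc] at e
  exact mul_right_cancel e

theorem inZ (h : C2 ι t) (z : Zf ι t Z) (s : ∀ v, Is v → ∀ c w, Z v c w → w * w = 1) {v : V} (hv : Is v) {c : K0 F}
    {w : G} (k : Xs ι t v c w) : Z v c w := by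
  have t2 : ∀ a, ι (tc v a) * ι (tc v a) = 1 := fun a => by rw [← map_mul, tc_sq hv.1, map_one]
  have St : ∀ a, (tc v a : X) ∈ St {v} := fun a => tc_St hv.1 hv.1 a
  by_cases c0 : c = 0
  · subst c0
    obtain ⟨a, u, hu, ut, rfl⟩ := kC h hv k.1
    have u2 : u * u = 1 := by
      have := k.2.2.1
      rwa [mul_assoc, ← mul_assoc (ι _), hu _ ⟨_, rfl⟩, mul_assoc, t2, mul_one] at this
    rcases h.uq u hu u2 ut with rfl | rfl
    · rw [one_mul]; exact z.z v hv a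
    · exact (k.2.2.2 a rfl).elim
  obtain ⟨y, hy⟩ := z.ex v hv c
  have sy := z.sv v hv c y hy
  have y2 := s v hv c y hy
  have yi : y⁻¹ = y := inv_eq_of_mul_eq_one_right y2
  have d : D0 ι t v 0 (y * w) := by
    refine ⟨fun x hx => by rw [mul_assoc, k.1.1 x hx, ← mul_assoc, sy.1.1 x hx, mul_assoc], ?_⟩
    calc _ = y * (w * t * w⁻¹) * y⁻¹ := by group
      _ = y * t * y⁻¹ * (y * ι (tc v c)) * y⁻¹ := by rw [k.1.2]; group
      _ = t * (ι (tc v c) * ι (tc v c)) := by rw [sy.1.2, sy.1.1 _ (St c)]; group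
      _ = _ := by rw [t2, tc_zero, map_one]
  obtain ⟨a, u, hu, ut, e⟩ := kC h hv d
  have ew : w = y * u * ι (tc v a) := by rw [mul_assoc, ← e, ← mul_assoc, y2, one_mul]
  have e2 : y * u * y * u = 1 := by
    have := k.2.2.1
    rw [ew] at this
    calc _ = y * u * y * (ι (tc v a) * ι (tc v a)) * u := by rw [t2, mul_one]
      _ = y * u * (y * ι (tc v a)) * (ι (tc v a) * u) := by group
      _ = _ := by rw [sy.1.1 _ (St a), hu _ ⟨_, rfl⟩, ← this]; group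
  obtain ⟨O, -, -, hO⟩ := h.od
  obtain ⟨o, ho, rfl | rfl⟩ := hO u hu ut
  · rw [sy.2.1 _ ho, mul_assoc u, y2, mul_one] at e2
    rw [ew, (P2.of_sq e2).eq_one ho.2.2, mul_one, ← add_zero c]
    exact z.mul v hv _ _ _ _ hy (z.z v hv a)
  · exfalso
    have e3 : t * ι (tc v c) * t * (o * o) = 1 := by
      calc _ = y * t * y⁻¹ * (t * o) * o := by rw [sy.1.2]; group
        _ = y * t * (y * o) * t * o := by rw [← ho.2.1, yi, mul_assoc (y * t) y, mul_assoc (y * t) (y * o), mul_assoc y o t]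
        _ = _ := by rw [sy.2.1 _ ho, ← e2]; simp only [mul_assoc]
    rw [h.tc, mul_assoc _ t t, h.t2, mul_one] at e3
    have o4 : o ^ 4 = 1 := by
      have e4 : o * o = ι (tc v c) := by rw [← inv_eq_of_mul_eq_one_right e3, inv_eq_of_mul_eq_one_right (t2 c)]
      rw [show (4 : ℕ) = 2 * 2 from rfl, pow_mul, pow_two o, e4, pow_two, t2]
    rw [odd4 ho.2.2 o4, mul_one, mul_one] at e3
    exact c0 (tc_cen hv (h.em e3))

theorem c4 (h : C3 ι t) (z : Zf ι t Z) : C4 ι t := by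
  obtain ⟨κ, hκ⟩ := z.sq
  obtain rfl := kz h.toC2 z hκ
  have s : ∀ v, Is v → ∀ c w, Z v c w → w * w = 1 := fun v hv c w k => by
    rw [hκ v hv c w k, zero_mul, tc_zero, map_one]
  have xs : ∀ v, Is v → ∀ c w, Z v c w → Xs ι t v c w := fun v hv c w k =>
    ⟨(z.sv v hv c w k).1, (z.sv v hv c w k).2.1, s v hv c w k, z.nt v hv c w k⟩
  exact ⟨h, fun v hv c => let ⟨w, k⟩ := z.ex v hv c; ⟨w, xs v hv c w k⟩,
    fun v hv c c' w w' k k' => xs v hv _ _ (z.mul v hv _ _ _ _ (inZ h.toC2 z s hv k) (inZ h.toC2 z s hv k')),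
    fun u v hu hv b c c' w w' k k' => z.cm u v hu hv b _ _ _ _ (inZ h.toC2 z s hu k) (inZ h.toC2 z s hv k')⟩

end Z91

end UMS
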