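import Cfsg.Agent.Lib.UMS.CL
import Cfsg.Agent.Lib.UMS.B7
import Cfsg.Agent.Lib.UMS.WIT
import Cfsg.Agent.Lib.UMS.Wt87

set_option autoImplicit false
set_option linter.unusedSectionVars false

namespace UMS

open Subgroup H69 Cfsg Matrix U4S
open LMS (XX GX iL kk MM au tw Sg)
open scoped MatrixGroups commutatorElement

universe u
variable {G : Type*} [Group G] [Finite G] {F : Type u} [Field F] [CharP F 2] [Fintype F] [Hs F] {n : ℕ} [Ok n F]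
  {ι ψ χ : XU n F →* G} {t : G} {E : Subgroup G}

local notation "X" => XU n F
local notation "V" => VV n F
local notation "𝐪" => Nat.card (K0 F)
local notation "I" => Fin (n + 3)
local notation "Mx" => Matrix (Fin (n + 3)) (Fin (n + 3)) F

namespace H11

/-- the centraliser of `S` in `N(L)` is `A C(L)` -/
structure Ca (ι : X →* G) (S A : Subgroup X) : Prop where
  le : A ≤ S
  el : ∀ x ∈ A, x * x = 1
  c : ∀ a ∈ 𝐍(ι.range), Cn ι S a → ∃ x ∈ A, ∃ k ∈ 𝐂(ι.range), a = k * ι x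

/-- centralises `S` and the odd elements, translates `t` by `x` -/
structure DD (ι : X →* G) (t : G) (S A : Subgroup X) (x : X) (d : G) : Prop where
  mem : x ∈ A
  cn : Cn ι S d
  co : CO ι t d
  tr : d * t * d⁻¹ = t * ι x

variable {S A : Subgroup (XU n F)} {x y : XU n F} {d e w : G} {u v : VV n F} {c c' : K0 F}

theorem trA (h : C2 ι t) (a : Ca ι S A) (k : Cn ι S d) (c : d * t = t * d) :
    ∃ x ∈ A, ∃ o, Oo ι t o ∧ (d = ι x * o ∨ d = t * ι x * o) := by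
  obtain ⟨x, hx, z, hz, rfl⟩ := a.c d (h.CN d c) k
  obtain ⟨O, -, -, hO⟩ := h.od
  have c1 : Commute (ι x) t := (h.tc x).symm
  have c2 : z * t = t * z := by
    have := (show Commute (z * ι x) t from c).mul_left c1.inv_left
    have c3 : Commute z (ι x) := (hz _ ⟨x, rfl⟩).symm
    have e : (ι x)⁻¹ * (z * ι x) = z := by rw [c3.eq, inv_mul_cancel_left]
    have := c1.inv_left.mul_left (show Commute (z * ι x) t from c)
    rwa [e] at this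
  obtain ⟨o, ho, e⟩ := hO z hz c2
  have c3 : ι x * o = o * ι x := ho.1 _ ⟨x, rfl⟩
  refine ⟨x, hx, o, ho, e.imp (fun e => ?_) fun e => ?_⟩
  · rw [e, c3]
  · rw [e, mul_assoc, mul_assoc, c3]

theorem DD.mul (k : Ca ι S A) (a : DD ι t S A x d) (b : DD ι t S A y e) : DD ι t S A (x * y) (d * e) where
  mem := mul_mem a.mem b.mem
  cn z hz := (show Commute d (ι z) from a.cn z hz).mul_left (b.cn z hz)
  co o ho := (show Commute d o from a.co o ho).mul_left (b.co o ho)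
  tr := by
    calc _ = d * (e * t * e⁻¹) * d⁻¹ := by group
      _ = d * t * d⁻¹ * (d * ι y * d⁻¹) := by rw [b.tr]; group
      _ = _ := by rw [a.tr, a.cn y (k.le b.mem), map_mul]; group

theorem DD.inv (k : Ca ι S A) (a : DD ι t S A x d) : DD ι t S A x⁻¹ d⁻¹ where
  mem := inv_mem a.mem
  cn z hz := (show Commute d (ι z) from a.cn z hz).inv_left
  co o ho := (show Commute d o from a.co o ho).inv_left
  tr := by
    calc _ = d⁻¹ * (t * ι x) * ((ι x)⁻¹ * d) := by group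
      _ = _ := by
        rw [← a.tr, ← (show Commute d (ι x) from a.cn x (k.le a.mem)).inv_right.eq, map_inv]; group

theorem DD.one (a : DD ι t S A 1 d) : d * t = t * d := by
  have := a.tr
  rwa [map_one, mul_one, mul_inv_eq_iff_eq_mul] at this

theorem sq_tr (h : C2 ι t) (k' : Ca ι S A) {o : G} (hx : x ∈ A) (ho : Oo ι t o) (k : d = ι x * o ∨ d = t * ι x * o) :
    d * d = o * o := by
  have c1 : Commute (ι x) o := ho.1 _ ⟨x, rfl⟩
  have c2 : ι x * ι x = 1 := by rw [← map_mul, k'.el x hx, map_one]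
  rcases k with rfl | rfl
  · rw [← sq, c1.mul_pow, sq, c2, one_mul, sq]
  · rw [← sq, ((show Commute o t from ho.2.1).symm.mul_left c1).mul_pow,
      (show Commute t (ι x) from h.tc x).mul_pow, sq, sq, c2, h.t2, one_mul, one_mul, sq]

theorem DD.sq1 (k : Ca ι S A) (a : DD ι t S A x d) : DD ι t S A 1 (d * d) := k.el x a.mem ▸ a.mul k a

theorem p2mul (h : C2 ι t) (k : Ca ι S A) (a : DD ι t S A x d) (b : DD ι t S A y e) (p : P2 d) (q : P2 e) :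
    P2 (d * e) := by
  obtain ⟨O, h1, h2, -⟩ := h.od
  let D : Subgroup G :=
    { carrier := {d | ∃ x, DD ι t S A x d}
      one_mem' := ⟨1, one_mem _, fun _ _ => by simp, fun _ _ => by simp, by simp⟩
      mul_mem' := fun ⟨_, a⟩ ⟨_, b⟩ => ⟨_, a.mul k b⟩
      inv_mem' := fun ⟨_, a⟩ => ⟨_, a.inv k⟩ }
  refine (LMS.two_sub (D := D) (fun o ho d ⟨_, a⟩ => a.co o ((h1 o).1 ho)) h2 fun d ⟨_, a⟩ => ⟨2, ?_⟩).1
    d ⟨_, a⟩ e ⟨_, b⟩ p q
  obtain ⟨z, hz, o, ho, k'⟩ := trA h k (a.sq1 k).cn (a.sq1 k).one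
  rw [show d ^ 2 ^ 2 = d * d * (d * d) by rw [show 2 ^ 2 = 2 + 2 from rfl, pow_add, sq], sq_tr h k hz ho k']
  exact mul_mem ((h1 o).2 ho) ((h1 o).2 ho)

theorem p2sq (p : P2 d) : P2 (d * d) := by
  obtain ⟨k, hk⟩ := p
  exact ⟨k, by rw [(Commute.refl d).mul_pow, hk, one_mul]⟩

theorem p2inv (p : P2 d) : P2 d⁻¹ := by
  obtain ⟨k, hk⟩ := p
  exact ⟨k, by rw [inv_pow, hk, inv_one]⟩

theorem p2cj (p : P2 d) (g : G) : P2 (g * d * g⁻¹) := by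
  obtain ⟨k, hk⟩ := p
  exact ⟨k, by rw [conj_pow, hk, mul_one, mul_inv_cancel]⟩

theorem ker (h : C2 ι t) (a : Ca ι S A) (k : Cn ι S d) (c : d * t = t * d) (p : P2 d) :
    ∃ y ∈ A, d = ι y ∨ d = t * ι y := by
  obtain ⟨z, hz, o, ho, k⟩ := trA h a k c
  have h1 := p2sq p
  rw [sq_tr h a hz ho k] at h1
  have h2 : P2 o := by
    obtain ⟨m, hm⟩ := h1
    exact ⟨m + 1, by rw [pow_succ', pow_mul, sq, hm]⟩
  rw [h2.eq_one ho.2.2, mul_one, mul_one] at k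
  exact ⟨z, hz, k⟩

theorem sqA (h : C2 ι t) (k' : Ca ι S A) (a : DD ι t S A x d) (p : P2 d) : ∃ y ∈ A, d * d = ι y := by
  obtain ⟨y, hy, e | e⟩ := ker h k' (a.sq1 k').cn (a.sq1 k').one (p2sq p)
  · exact ⟨y, hy, e⟩
  have c : Commute d t := by
    have := ((Commute.refl d).mul_right (Commute.refl d)).mul_right
      (show Commute d (ι y) from a.cn y (k'.le hy)).inv_right
    rwa [e, mul_inv_cancel_right] at this
  obtain ⟨z, hz, k⟩ := ker h k' a.cn c p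
  have := sq_tr h k' (d := d) (o := 1) hz ⟨one_mem _, by simp, by simp⟩ (by simpa using k)
  rw [e, one_mul, mul_eq_one_iff_eq_inv] at this
  exact absurd ⟨y⁻¹, by rw [this, map_inv]⟩ h.toC1.t_not

theorem cmD (h : C2 ι t) (k' : Ca ι S A) (a : DD ι t S A x d) (b : DD ι t S A y e) (p : P2 d) (q : P2 e) :
    ∃ z ∈ A, ⁅d, e⁆ = ι z := by
  obtain ⟨x, hx, ex⟩ := sqA h k' a p
  obtain ⟨y, hy, ey⟩ := sqA h k' b q
  obtain ⟨z, hz, ez⟩ := sqA h k' (a.mul k' b) (p2mul h k' a b p q)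
  refine ⟨z * y⁻¹ * x⁻¹, mul_mem (mul_mem hz (inv_mem hy)) (inv_mem hx), Eq.symm ?_⟩
  have c : Commute e (ι x) := b.cn x (k'.le hx)
  rw [map_mul, map_mul, map_inv, map_inv, ← ez, ← ey]
  calc _ = d * e * (d * (e⁻¹ * (ι x)⁻¹)) := by group
    _ = _ := by rw [c.inv_left.inv_right.eq, ← ex, commutatorElement_def]; group

theorem tcS (hv : bt v v = 0) (k : bt u v = 0) (a : K0 F) : tc v a ∈ St {u} := tc_St hv k a

theorem ca1 (e : Em ι) (hv : Is v) : ∃ A : Subgroup X, Ca ι (St {v}) A ∧ ∀ x, x ∈ A ↔ ∃ a, x = tc v a := by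
  let A : Subgroup X :=
    { carrier := {x | ∃ a, x = tc v a}
      one_mem' := ⟨0, (tc_zero v).symm⟩
      mul_mem' := by rintro _ _ ⟨a, rfl⟩ ⟨b, rfl⟩; exact ⟨_, tc_mul hv.1 a b⟩
      inv_mem' := by rintro _ ⟨a, rfl⟩; exact ⟨a, inv_eq_of_mul_eq_one_right (tc_sq hv.1 a)⟩ }
  refine ⟨A, ⟨?_, ?_, fun a ha k => ?_⟩, fun x => Iff.rfl⟩
  · rintro _ ⟨a, rfl⟩; exact tcS hv.1 hv.1 a
  · rintro _ ⟨a, rfl⟩; exact tc_sq hv.1 a
  · obtain ⟨c, k', hk, e'⟩ := cP e ha hv k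
    exact ⟨_, ⟨c, rfl⟩, k', hk, e'⟩

theorem btsm (h : bt u v = 0) (a : F) : bt (a • u) v = 0 := by rw [bt_smul_left, h, mul_zero]

theorem btsy (h : bt u v = 0) : bt v u = 0 := by rw [bt_symm, h, map_zero]

theorem cj3 (hu : bt u u = 0) (hv : bt v v = 0) (h : bt u v = 0) (x : X) (a b : K0 F) (g : F) :
    x * (tc u a * tc v b * sh (g • u) v) * x⁻¹ = tc (ac x u) a * tc (ac x v) b * sh (g • ac x u) (ac x v) := by
  rw [← ac_smul, ← tc_cj hu, ← tc_cj hv, ← sh_cj (btsm (btsy (btsm hu g)) g) hv (btsm h g)]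
  group

theorem ca2 (e : Em ι) (o : Ot u v) : ∃ A : Subgroup X, Ca ι (St {u, v}) A ∧
    ∀ x, x ∈ A ↔ ∃ (a b : K0 F) (g : F), x = tc u a * tc v b * sh (g • u) v := by
  obtain ⟨y, h0, h1⟩ := wit2 o
  have b00 : bt (ee 0 : V) (ee 0) = 0 := by rw [← bt_ac y, h0, o.1]
  have b11 : bt (ee 1 : V) (ee 1) = 0 := by rw [← bt_ac y, h1, o.2.1]
  have b01 : bt (ee 0 : V) (ee 1) = 0 := by rw [← bt_ac y, h0, h1, o.2.2.1]
  have m : ∀ x, x ∈ JD n F 2 ^ᶜ y ↔ ∃ (a b : K0 F) (g : F), x = tc u a * tc v b * sh (g • u) v := fun x => by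
    rw [mem_cj']
    constructor
    · rintro ⟨z, hz, rfl⟩
      obtain ⟨a, b, g, rfl⟩ := mem_JD2.1 hz
      exact ⟨a, b, g, by rw [cj3 b00 b11 b01, h0, h1]⟩
    · rintro ⟨a, b, g, rfl⟩
      exact ⟨_, mem_JD2.2 ⟨a, b, g, rfl⟩, by rw [cj3 b00 b11 b01, h0, h1]⟩
  refine ⟨JD n F 2 ^ᶜ y, ⟨fun x hx => ?_, (el_JD 2).cjg y, fun a ha k => ?_⟩, m⟩
  · obtain ⟨a, b, g, rfl⟩ := (m x).1 hx
    have hu := o.1
    have hv := o.2.1
    have h := o.2.2.1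
    have h' := btsy h
    have g1 : bt (g • u) (g • u) = 0 := btsm (btsy (btsm hu g)) g
    refine mul_mem (mul_mem ?_ ?_) ?_ <;> rw [mem_St] <;> rintro z (rfl | rfl)
    · exact tcS hu hu a _ rfl
    · exact tcS hu h' a _ rfl
    · exact tcS hv h b _ rfl
    · exact tcS hv hv b _ rfl
    · rw [ac_sh g1 hv (btsm h g), h, btsy (btsm hu g), zero_smul, zero_smul, add_zero, add_zero]
    · rw [ac_sh g1 hv (btsm h g), hv, btsy (btsm h g), zero_smul, zero_smul, add_zero, add_zero]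
  · obtain ⟨x, y, c, k', hk, e'⟩ := cP2 e ha o k
    exact ⟨_, (m _).2 ⟨x, y, c, rfl⟩, k', hk, e'⟩

theorem dd_of (k : SV ι t v c d) (hS : S ≤ St {v}) (hA : tc v c ∈ A) : DD ι t S A (tc v c) d :=
  ⟨hA, fun z hz => k.1.1 z (hS hz), k.2.1, k.1.2⟩

theorem sv_mul (h : C2 ι t) (hv : Is v) (k : SV ι t v c d) (k' : SV ι t v c' e) : SV ι t v (c + c') (d * e) := by
  obtain ⟨A, a, m⟩ := ca1 h.em hv
  have d1 := dd_of k le_rfl ((m _).2 ⟨c, rfl⟩)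
  have d2 := dd_of k' le_rfl ((m _).2 ⟨c', rfl⟩)
  have d3 := d1.mul a d2
  exact ⟨⟨d3.cn, by rw [d3.tr, tc_mul hv.1]⟩, d3.co, p2mul h a d1 d2 k.2.2 k'.2.2⟩

theorem sv_inv (h : C2 ι t) (hv : Is v) (k : SV ι t v c d) : SV ι t v c d⁻¹ := by
  obtain ⟨A, a, m⟩ := ca1 h.em hv
  have d3 := (dd_of k le_rfl ((m _).2 ⟨c, rfl⟩)).inv a
  exact ⟨⟨d3.cn, by rw [d3.tr, inv_eq_of_mul_eq_one_right (tc_sq hv.1 c)]⟩, d3.co, p2inv k.2.2⟩

theorem sv_ker (h : C2 ι t) (hv : Is v) (k : SV ι t v 0 d) : ∃ a, d = ι (tc v a) ∨ d = t * ι (tc v a) := by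
  obtain ⟨A, a, m⟩ := ca1 h.em hv
  have c : d * t = t * d := by
    have := k.1.2
    rwa [tc_zero, map_one, mul_one, mul_inv_eq_iff_eq_mul] at this
  obtain ⟨y, hy, e⟩ := ker h a k.1.1 c k.2.2
  obtain ⟨b, rfl⟩ := (m y).1 hy
  exact ⟨b, e⟩

theorem sv_sq (h : C2 ι t) (hv : Is v) (k : SV ι t v c d) : ∃ a, d * d = ι (tc v a) := by
  obtain ⟨A, a, m⟩ := ca1 h.em hv
  obtain ⟨y, hy, e⟩ := sqA h a (dd_of k le_rfl ((m _).2 ⟨c, rfl⟩)) k.2.2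
  obtain ⟨b, rfl⟩ := (m y).1 hy
  exact ⟨b, e⟩

theorem sv_ac (h : C2 ι t) (hv : Is v) (k : SV ι t v c d) (x : X) : SV ι t (ac x v) c (ι x * d * (ι x)⁻¹) :=
  ⟨H87.D0_ac h.toC1 hv.1 k.1 x, H87.CO_ac k.2.1 x, p2cj k.2.2 _⟩

theorem sv_smul (hv : Is v) {a : F} (ha : a ≠ 0) : SV ι t (a • v) c d ↔ SV ι t v (c * nm a) d :=
  and_congr_left' (H87.D0_smul hv.1 ha)

theorem sv_t (h : C2 ι t) (v : V) : SV ι t v 0 t :=
  ⟨⟨fun x _ => h.tc x, by rw [tc_zero, map_one, mul_one, mul_inv_cancel_right]⟩, fun o ho => ho.2.1.symm,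
    P2.of_sq h.t2⟩

theorem sv_x (h : C2 ι t) (hv : Is v) (a : K0 F) : SV ι t v 0 (ι (tc v a)) := by
  refine ⟨⟨fun x hx => ?_, ?_⟩, fun o ho => ho.1 _ ⟨_, rfl⟩, P2.of_sq (by rw [← map_mul, tc_sq hv.1, map_one])⟩
  · have := tc_cj hv.1 a x
    rw [hx v rfl, mul_inv_eq_iff_eq_mul] at this
    rw [← map_mul, ← map_mul, this]
  · rw [tc_zero, map_one, mul_one, ← h.tc, mul_inv_cancel_right]

theorem cm0 (h : C2 ι t) (hv : Is v) (k : bt u v = 0) (hw : SV ι t u c w) (he : SV ι t v 0 e) :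
    ∃ f, ⁅w, e⁆ = ι (tc u f) := by
  have c1 : ∀ a, w * ι (tc v a) * w⁻¹ = ι (tc v a) := fun a => by
    rw [hw.1.1 _ (tcS hv.1 k a), mul_inv_cancel_right]
  obtain ⟨a, rfl | rfl⟩ := sv_ker h hv he
  · exact ⟨0, by rw [commutatorElement_def, c1, mul_inv_cancel, tc_zero, map_one]⟩
  · refine ⟨c, ?_⟩
    calc _ = w * t * w⁻¹ * (w * ι (tc v a) * w⁻¹) * (ι (tc v a))⁻¹ * t⁻¹ := by rw [commutatorElement_def]; group
      _ = _ := by rw [c1, hw.1.2, mul_inv_cancel_right, h.tc, mul_inv_cancel_right]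

theorem cmA0 (h : C2 ι t) (o : Ot u v) (hw : SV ι t u c w) (he : SV ι t v c' e) :
    ∃ (f f' : K0 F) (g : F), ⁅w, e⁆ = ι (tc u f * tc v f' * sh (g • u) v) ∧
      ∀ (a b : K0 F) (g : F), P2 (tc u a * tc v b * sh (g • u) v) := by
  obtain ⟨A, a, m⟩ := ca2 h.em o
  have s0 : sh ((0 : F) • u) v = 1 := by
    have := sh_add o.2.1 (btsm (btsy (btsm o.1 0)) 0) (btsm (btsy (btsm o.1 0)) 0) (btsy (btsm o.2.2.1 0))
      (btsy (btsm o.2.2.1 0)) (btsm (btsy (btsm o.1 0)) 0)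
    rw [← add_smul, add_zero, sh_symm] at this
    exact mul_eq_left.1 this.symm
  have d1 := dd_of (S := St {u, v}) hw (fun x hx z hz => hx z (Or.inl hz))
    ((m _).2 ⟨c, 0, 0, by rw [tc_zero, s0, mul_one, mul_one]⟩)
  have d2 := dd_of (S := St {u, v}) he (fun x hx z hz => hx z (Or.inr hz))
    ((m _).2 ⟨0, c', 0, by rw [tc_zero, s0, mul_one, one_mul]⟩)
  obtain ⟨z, hz, e⟩ := cmD h a d1 d2 hw.2.2 he.2.2
  obtain ⟨f, f', g, rfl⟩ := (m z).1 hz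
  exact ⟨f, f', g, e, fun a' b g => P2.of_sq (a.el _ ((m _).2 ⟨a', b, g, rfl⟩))⟩

theorem sh0 (o : Ot u v) : sh ((0 : F) • u) v = 1 := by
  have := sh_add o.2.1 (btsm (btsy (btsm o.1 0)) 0) (btsm (btsy (btsm o.1 0)) 0) (btsy (btsm o.2.2.1 0))
    (btsy (btsm o.2.2.1 0)) (btsm (btsy (btsm o.1 0)) 0)
  rw [← add_smul, add_zero, sh_symm] at this
  exact mul_eq_left.1 this.symm

theorem otu (o : Ot u v) : Is u := by simpa using o.is (a := 1) (b := 0) (Or.inl one_ne_zero)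

theorem otv (o : Ot u v) : Is v := otu o.symm

theorem mv2 {u' v' : V} (o : Ot u v) (o' : Ot u' v') : ∃ x : X, ac x u = u' ∧ ac x v = v' := by
  obtain ⟨x, h0, h1⟩ := wit2 o
  obtain ⟨y, k0, k1⟩ := wit2 o'
  exact ⟨y * x⁻¹, by rw [← h0, ← ac_mul, inv_mul_cancel_right, k0], by rw [← h1, ← ac_mul, inv_mul_cancel_right, k1]⟩

theorem sv_diff (h : C2 ι t) (hv : Is v) (k : SV ι t v c d) (k' : SV ι t v c e) : SV ι t v 0 (d⁻¹ * e) :=
  k0_add c ▸ sv_mul h hv (sv_inv h hv k) k'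

theorem cmA (h : C2 ι t) (o : Ot u v) (hw : SV ι t u c w) (he : SV ι t v c' e) :
    ∃ f f' : K0 F, ⁅w, e⁆ = ι (tc u f * tc v f') := by
  obtain ⟨f, f', g, k, p⟩ := cmA0 h o hw he
  have hu := otu o
  have hv := otv o
  obtain ⟨a, a1, a2, -⟩ := ex_n1 (F := F)
  have a0 : a ≠ 0 := fun e => by rw [e, nm_zero.2 rfl] at a1; exact zero_ne_one a1
  obtain ⟨x, h0, h1⟩ := mv2 o (o.smul a0 one_ne_zero)
  rw [one_smul] at h1
  have w1 := sv_ac h hu hw x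
  rw [h0, sv_smul hu a0, a1, mul_one] at w1
  obtain ⟨b, hb⟩ := cm0 h hu (btsy o.2.2.1) he (sv_diff h hu hw w1)
  have e1 : ι x * e * (ι x)⁻¹ = e := H87.D0_cen he.1 h1
  have c1 : w * ι (tc v b) * w⁻¹ = ι (tc v b) := by rw [hw.1.1 _ (tcS hv.1 o.2.2.1 b), mul_inv_cancel_right]
  have c2 : (ι (tc v b))⁻¹ = ι (tc v b) := by rw [← map_inv, inv_eq_of_mul_eq_one_right (tc_sq hv.1 b)]
  have E1 : ι x * ⁅w, e⁆ * (ι x)⁻¹ = ι (tc v b) * ⁅w, e⁆ := by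
    calc _ = ⁅ι x * w * (ι x)⁻¹, ι x * e * (ι x)⁻¹⁆ := by simp only [commutatorElement_def]; group
      _ = w * ⁅e, w⁻¹ * (ι x * w * (ι x)⁻¹)⁆⁻¹ * w⁻¹ * ⁅w, e⁆ := by
        rw [e1]; simp only [commutatorElement_def]; group
      _ = _ := by rw [hb, c2, c1]
  rw [k, ← map_inv, ← map_mul, ← map_mul, ← map_mul, cj3 hu.1 hv.1 o.2.2.1, h0, h1, tc_smul, a1, one_mul, smul_smul,
    ← mul_assoc, ← mul_assoc, ← tc_comm hu.1 hv.1 o.2.2.1, mul_assoc (tc u f) (tc v b), tc_mul hv.1] at E1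
  have := (herm_inj o (h.em.inj2 (p _ _ _) (p _ _ _) E1)).2.2
  have g0 : g = 0 := by
    by_contra g0
    exact a2 (mul_left_cancel₀ g0 (by rw [this, mul_one]))
  exact ⟨f, f', by rw [k, g0, sh0 o, mul_one]⟩

/-- the commutators of `w` with the orthogonal groups -/
def PB (ι : X →* G) (t : G) (u : V) (w : G) (β : K0 F) : Prop :=
  ∀ v, Ot u v → ∀ c' e, SV ι t v c' e → ∃ f, ⁅w, e⁆ = ι (tc u f * tc v (β * c'))

theorem exPB (h : C3 ι t) (hu : Is u) (hw : SV ι t u c w) : ∃ β, PB ι t u w β := by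
  have h2 := h.toC2
  obtain ⟨v0, o0⟩ := ext2 hu
  obtain ⟨e0, he0⟩ := h.ex v0 (otv o0) 1
  obtain ⟨f0, β, k0⟩ := cmA h2 o0 hw he0
  refine ⟨β, fun v o c' e he => ?_⟩
  have hv := otv o
  by_cases c0 : c' = 0
  · subst c0
    obtain ⟨f, k⟩ := cm0 h2 hv o.2.2.1 hw he
    exact ⟨f, by rw [k, mul_zero, tc_zero, mul_one]⟩
  obtain ⟨b, rfl⟩ := nm_surj c'
  have b0 : b ≠ 0 := fun e => c0 (nm_zero.2 e)
  obtain ⟨y, h0, h1⟩ := mv2 o0 (o.smul one_ne_zero b0)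
  rw [one_smul] at h0
  have e1 := sv_ac h2 (otv o0) he0 y
  rw [h1, sv_smul hv b0, one_mul] at e1
  obtain ⟨f, k⟩ := cm0 h2 hv o.2.2.1 hw (sv_diff h2 hv e1 he)
  have w1 : ι y * w * (ι y)⁻¹ = w := H87.D0_cen hw.1 h0
  have k1 : ⁅w, ι y * e0 * (ι y)⁻¹⁆ = ι (tc u f0 * tc v (β * nm b)) := by
    calc _ = ⁅ι y * w * (ι y)⁻¹, ι y * e0 * (ι y)⁻¹⁆ := by rw [w1]
      _ = ι (y * tc u f0 * y⁻¹ * (y * tc v0 β * y⁻¹)) := by
        have : ⁅ι y * w * (ι y)⁻¹, ι y * e0 * (ι y)⁻¹⁆ = ι y * ⁅w, e0⁆ * (ι y)⁻¹ := by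
          simp only [commutatorElement_def]; group
        rw [this, k0]; simp only [map_mul, map_inv]; group
      _ = _ := by rw [tc_cj hu.1, tc_cj (otv o0).1, h0, h1, tc_smul, mul_comm β]
  generalize ι y * e0 * (ι y)⁻¹ = e2 at e1 k k1
  have c1 : e2 * ι (tc u f) * e2⁻¹ = ι (tc u f) := by
    rw [e1.1.1 _ (tcS hu.1 (btsy o.2.2.1) f), mul_inv_cancel_right]
  refine ⟨f0 + f, ?_⟩
  calc _ = ⁅w, e2⁆ * (e2 * ⁅w, e2⁻¹ * e⁆ * e2⁻¹) := by simp only [commutatorElement_def]; group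
    _ = _ := by
      rw [k1, k, c1, ← map_mul, mul_assoc, ← tc_comm hu.1 hv.1 o.2.2.1, ← mul_assoc, tc_mul hu.1]

theorem PB.mul (hu : Is u) {β β' : K0 F} (hw : SV ι t u c w) (p : PB ι t u w β) (q : PB ι t u d β') :
    PB ι t u (w * d) (β + β') := fun v o c' e he => by
  have hv := otv o
  obtain ⟨f, k⟩ := p v o c' e he
  obtain ⟨f', k'⟩ := q v o c' e he
  have c1 : w * ι (tc u f' * tc v (β' * c')) * w⁻¹ = ι (tc u f' * tc v (β' * c')) := by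
    rw [hw.1.1 _ (mul_mem (tcS hu.1 hu.1 _) (tcS hv.1 o.2.2.1 _)), mul_inv_cancel_right]
  refine ⟨f' + f, ?_⟩
  calc _ = w * ⁅d, e⁆ * w⁻¹ * ⁅w, e⁆ := by simp only [commutatorElement_def]; group
    _ = _ := by
      rw [k', c1, k, ← map_mul, mul_assoc, ← mul_assoc (tc v _), ← tc_comm hu.1 hv.1 o.2.2.1, mul_assoc (tc u f),
        tc_mul hv.1, ← mul_assoc, tc_mul hu.1, add_mul, add_comm (β' * c')]

theorem pb_t (h : C2 ι t) : PB ι t u t 1 := fun v o c' e he => by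
  refine ⟨0, ?_⟩
  have ti : t⁻¹ = t := inv_eq_of_mul_eq_one_right h.t2
  calc _ = t * (e * t * e⁻¹) := by rw [commutatorElement_def, ti]; group
    _ = _ := by rw [he.1.2, ← mul_assoc, h.t2, one_mul, tc_zero, one_mul, one_mul]

theorem pb_x (hu : Is u) (a : K0 F) : PB ι t u (ι (tc u a)) 0 := fun v o c' e he =>
  ⟨0, by
    rw [zero_mul, tc_zero, tc_zero, mul_one, map_one, commutatorElement_eq_one_iff_mul_comm]
    exact (he.1.1 _ (tcS hu.1 (btsy o.2.2.1) a)).symm⟩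

theorem PB.ac (h : C2 ι t) (hu : Is u) {β : K0 F} (p : PB ι t u w β) (x : X) :
    PB ι t (ac x u) (ι x * w * (ι x)⁻¹) β := fun v o c' e he => by
  have o' := o.ac x⁻¹
  rw [← ac_mul, inv_mul_cancel, ac_one] at o'
  obtain ⟨f, k⟩ := p _ o' c' _ (sv_ac h (otv o) he x⁻¹)
  refine ⟨f, ?_⟩
  calc _ = ι x * ⁅w, ι x⁻¹ * e * (ι x⁻¹)⁻¹⁆ * (ι x)⁻¹ := by simp only [commutatorElement_def, map_inv]; group
    _ = ι (x * tc u f * x⁻¹ * (x * tc (UMS.ac x⁻¹ v) (β * c') * x⁻¹)) := by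
      rw [k]; simp only [map_mul, map_inv]; group
    _ = _ := by rw [tc_cj hu.1, tc_cj (otv o').1, ← ac_mul, mul_inv_cancel, ac_one]

theorem PB.smul {β : K0 F} {a : F} (ha : a ≠ 0) (p : PB ι t (a • u) w β) : PB ι t u w β := fun v o c' e he => by
  have o' := o.smul ha one_ne_zero
  rw [one_smul] at o'
  obtain ⟨f, k⟩ := p v o' c' e he
  exact ⟨_, by rw [k, tc_smul]⟩

theorem tt_inj (h : C2 ι t) (o : Ot u v) {a b a' b' : K0 F} (k : ι (tc u a * tc v b) = ι (tc u a' * tc v b')) :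
    a = a' ∧ b = b' := by
  have hu := otu o
  have hv := otv o
  have p : ∀ a b, P2 (tc u a * tc v b : X) := fun a b => P2.of_sq (by
    rw [mul_assoc, ← mul_assoc (tc v b), ← tc_comm hu.1 hv.1 o.2.2.1, mul_assoc, tc_sq hv.1, mul_one, tc_sq hu.1])
  have := herm_inj o (a := a) (b := b) (a' := a') (b' := b') (c := 0) (c' := 0) (by rw [h.em.inj2 (p a b) (p a' b') k])
  exact ⟨this.1, this.2.1⟩

/-- the complement to `t` -/
def Zs (ι : X →* G) (t : G) (u : V) (c : K0 F) (w : G) : Prop := SV ι t u c w ∧ PB ι t u w 0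

theorem zs_nt (h : C3 ι t) (hv : Is v) (k : Zs ι t v c w) (a : K0 F) : w ≠ t * ι (tc v a) := by
  rintro rfl
  obtain ⟨p, o⟩ := ext2 hv
  obtain ⟨e, he⟩ := h.ex p (otv o) 1
  obtain ⟨f, k1⟩ := k.2 p o 1 e he
  obtain ⟨f', k2⟩ := (pb_t h.toC2).mul hv (sv_t h.toC2 v) (pb_x hv a) p o 1 e he
  have := (tt_inj h.toC2 o (k1.symm.trans k2)).2
  simp at this

theorem zs_mul (h : C2 ι t) (hv : Is v) (k : Zs ι t v c w) (k' : Zs ι t v c' d) : Zs ι t v (c + c') (w * d) :=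
  ⟨sv_mul h hv k.1 k'.1, by simpa using k.2.mul hv k.1 k'.2⟩

theorem zs_ac (h : C2 ι t) (hv : Is v) (k : Zs ι t v c w) (x : X) : Zs ι t (ac x v) c (ι x * w * (ι x)⁻¹) :=
  ⟨sv_ac h hv k.1 x, k.2.ac h hv x⟩

theorem zs_smul (hv : Is v) {a : F} (ha : a ≠ 0) (k : Zs ι t (a • v) c w) : Zs ι t v (c * nm a) w :=
  ⟨(sv_smul hv ha).1 k.1, k.2.smul ha⟩

theorem mv1 (hu : Is u) (hv : Is v) : ∃ x : X, ac x u = v := by
  obtain ⟨x, h0⟩ := wit1 hu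
  obtain ⟨y, k0⟩ := wit1 hv
  exact ⟨y * x⁻¹, by rw [← h0, ← ac_mul, inv_mul_cancel_right, k0]⟩

theorem zs_ex (h : C3 ι t) (hv : Is v) (c : K0 F) : ∃ w, Zs ι t v c w := by
  have h2 := h.toC2
  by_cases k : ∃ μ : K0 F, μ ≠ 0 ∧ μ ≠ 1
  · obtain ⟨μ, m0, m1⟩ := k
    obtain ⟨a, rfl⟩ := nm_surj μ
    have a0 : a ≠ 0 := fun e => m0 (nm_zero.2 e)
    have m2 : 1 + nm a ≠ 0 := fun e => m1 (by
      have := congrArg (1 + ·) e
      simpa only [← add_assoc, k0_add, zero_add, add_zero] using this)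
    obtain ⟨w, hw⟩ := h.ex v hv (c / (1 + nm a))
    obtain ⟨β, p⟩ := exPB h hv hw
    obtain ⟨x, hx⟩ := mv1 hv (hv.smul a0)
    have w1 := sv_ac h2 hv hw x
    have p1 := p.ac h2 hv x
    rw [hx] at w1 p1
    have w2 := sv_mul h2 hv hw ((sv_smul hv a0).1 w1)
    have p2 := p.mul hv hw (p1.smul a0)
    rw [k0_add] at p2
    rw [← mul_one_add, div_mul_cancel₀ _ m2] at w2
    exact ⟨_, w2, p2⟩
  · obtain ⟨w, hw⟩ := h.ex v hv c
    obtain ⟨β, p⟩ := exPB h hv hw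
    by_cases b0 : β = 0
    · exact ⟨w, hw, b0 ▸ p⟩
    have b1 : β = 1 := by
      by_contra b1
      exact k ⟨β, b0, b1⟩
    have p2 := p.mul hv hw (pb_t h2)
    rw [b1, k0_add] at p2
    exact ⟨_, by simpa using sv_mul h2 hv hw (sv_t h2 v), p2⟩

theorem zs_ker (h : C3 ι t) (hv : Is v) (k : Zs ι t v 0 w) : ∃ a, w = ι (tc v a) := by
  obtain ⟨a, e | e⟩ := sv_ker h.toC2 hv k.1
  · exact ⟨a, e⟩
  · exact absurd e (zs_nt h hv k a)

theorem zs_sq (h : C3 ι t) : ∃ κ : K0 F, ∀ v, Is v → ∀ c w, Zs ι t v c w → w * w = ι (tc v (κ * c)) := by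
  have h2 := h.toC2
  have i0 : Is (ee 0 : V) := is_ee fun e => by simp [Fin.ext_iff] at e
  obtain ⟨w0, h0⟩ := zs_ex h i0 1
  obtain ⟨κ, hk⟩ := sv_sq h2 i0 h0.1
  refine ⟨κ, fun v hv c w hw => ?_⟩
  by_cases c0 : c = 0
  · subst c0
    obtain ⟨a, rfl⟩ := zs_ker h hv hw
    rw [← map_mul, tc_sq hv.1, mul_zero, tc_zero]
  obtain ⟨b, rfl⟩ := nm_surj c
  have b0 : b ≠ 0 := fun e => c0 (nm_zero.2 e)
  obtain ⟨y, hy⟩ := wit1 (hv.smul b0)
  have w1 := zs_ac h2 i0 h0 y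
  rw [hy] at w1
  have w2 := zs_smul hv b0 w1
  rw [one_mul] at w2
  have s : ι y * w0 * (ι y)⁻¹ * (ι y * w0 * (ι y)⁻¹) = ι (tc v (κ * nm b)) := by
    rw [conj_mul, hk, ← map_inv, ← map_mul, ← map_mul, tc_cj i0.1, hy, tc_smul, mul_comm]
  generalize ι y * w0 * (ι y)⁻¹ = d at w2 s
  have w3 := zs_mul h2 hv hw w2
  rw [k0_add] at w3
  obtain ⟨a, e⟩ := zs_ker h hv w3
  have c1 : Commute d (ι (tc v a)) := w2.1.1.1 _ (tcS hv.1 hv.1 a)
  have c2 : ∀ a, ι (tc v a) * ι (tc v a) = 1 := fun a => by rw [← map_mul, tc_sq hv.1, map_one]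
  rw [eq_mul_inv_of_mul_eq e, ← sq, c1.symm.inv_right.mul_pow, sq, c2, one_mul, inv_pow, sq, s]
  exact inv_eq_of_mul_eq_one_right (c2 _)

theorem zs_cm (h : C3 ι t) (hu : Is u) (hv : Is v) (b : bt u v = 0) (hw : Zs ι t u c w) (he : Zs ι t v c' e) :
    w * e = e * w := by
  have h2 := h.toC2
  by_cases l : LinearIndependent F ![u, v]
  · have o : Ot u v := ⟨hu.1, hv.1, b, l⟩
    obtain ⟨f, k⟩ := hw.2 v o c' e he.1
    obtain ⟨f', k'⟩ := he.2 u o.symm c w hw.1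
    rw [zero_mul, tc_zero, mul_one] at k k'
    have : ι (tc u f * tc v f') = ι (tc u 0 * tc v 0) := by
      rw [map_mul, ← k, ← k', ← commutatorElement_inv, inv_mul_cancel, tc_zero, tc_zero, mul_one, map_one]
    rw [(tt_inj h2 o this).1, tc_zero, map_one] at k
    exact commutatorElement_eq_one_iff_mul_comm.1 k
  · rw [LinearIndependent.pair_iff' hu.2] at l
    push Not at l
    obtain ⟨a, rfl⟩ := l
    have a0 : a ≠ 0 := fun e => hv.2 (by rw [e, zero_smul])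
    have he' := zs_smul hu a0 he
    obtain ⟨κ, hk⟩ := zs_sq h
    have k := hk u hu _ _ (zs_mul h2 hu hw he')
    rw [mul_add, ← tc_mul hu.1, map_mul, ← hk u hu _ _ hw, ← hk u hu _ _ he'] at k
    have : w * (e * w) * e = w * (w * e) * e := by simpa only [mul_assoc] using k
    exact (mul_left_cancel (mul_right_cancel this)).symm

theorem zf (h : C3 ι t) : ∃ Z, Zf ι t Z :=
  ⟨Zs ι t, fun _ _ _ _ k => k.1, fun _ hv _ _ k => zs_nt h hv k, fun _ hv => zs_ex h hv,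
    fun _ hv a => ⟨sv_x h.toC2 hv a, pb_x hv a⟩, fun _ hv _ _ _ _ k k' => zs_mul h.toC2 hv k k',
    fun _ hv _ _ x k => zs_ac h.toC2 hv k x, fun _ _ hu hv b _ _ _ _ k k' => zs_cm h hu hv b k k', zs_sq h⟩

end H11

end UMS
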