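import Cfsg.Agent.Lib.UMS.DL80
import Cfsg.Agent.Lib.UMS.S6B18
import Cfsg.Agent.Lib.UMS.S6C78
import Cfsg.Agent.Lib.UMS.S6C91
import Cfsg.Agent.Lib.UMS.Au62
import Cfsg.Agent.Lib.UMS.WRE22

set_option autoImplicit false
set_option linter.unusedSectionVars false

namespace UMS.H22

open Subgroup H69 Cfsg Matrix U4S
open LMS (XX GX iL kk MM au tw Sg)
open scoped MatrixGroups commutatorElement

universe u
variable {G : Type*} [Group G] [Finite G] {F : Type u} [Field F] [CharP F 2] [Fintype F] [Hs F] {n : ℕ} [Ok n F]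
  {ι : XU n F →* G} {t g : G} {δ : VV n F → VV n F} {φ : RingAut F}

local notation "X" => XU n F
local notation "V" => VV n F
local notation "𝐪" => Nat.card (K0 F)
local notation "I" => Fin (n + 3)
local notation "Mx" => Matrix (Fin (n + 3)) (Fin (n + 3)) F

theorem n0L : (0 : I) ≠ iL := fun e => by simpa using congrArg Fin.val e

theorem decV (v : V) : v = v 0 • ee 0 + H91.pm v + v iL • ee iL := by
  ext j
  by_cases h0 : j = 0
  · simp [h0, ee, H91.pm, n0L]
  by_cases hL : j = iL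
  · simp [hL, ee, H91.pm, n0L.symm]
  · simp [ee, H91.pm, h0, hL]

theorem bt3 (a b c d : F) {x y : V} (hx : Mi x) (hy : Mi y) :
    bt (a • ee 0 + x + b • ee iL) (c • ee 0 + y + d • ee iL) = a * σ d + b * σ c + bt x y := by
  simp only [bt_add_left, bt_add_right, bt_smul_left, bt_smul_right, B3.b0, B3.bL]
  simp only [B3.b0', B3.bL']
  simp [hx.1, hx.2, hy.1, hy.2, ee, n0L, n0L.symm]
  ring

theorem exα (d : Dl ι g δ φ) : ∃ α : X →* X, (∀ c, α (zz c) = zz c) ∧ (∀ p ∈ PP n F, α p ∈ PP n F) ∧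
    (∀ x ∈ QQ n F, α x ∈ QQ n F ∧ cv (α x) = δ (cv x)) ∧ Function.Injective α := by
  have ff : ∀ a, φ (φ a) = a := fun a => by
    rcases d.ph with e | e <;> rw [e]
    exacts [rfl, sg_sg a]
  have mi : ∀ v : V, Mi fun j => φ (H91.pm v j) := fun v => ⟨by simp [H91.pm], by simp [H91.pm]⟩
  let f : V →ₗ[F] V :=
    { toFun := fun v => v 0 • ee 0 + δ (fun j => φ (H91.pm v j)) + v iL • ee iL
      map_add' := fun u v => by
        rw [show (fun j => φ (H91.pm (u + v) j)) = (fun j => φ (H91.pm u j)) + fun j => φ (H91.pm v j) from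
          funext fun j => by rw [H91.pm_add, Pi.add_apply, map_add, Pi.add_apply], d.add _ _ (mi u) (mi v),
          Pi.add_apply, Pi.add_apply, add_smul, add_smul]
        abel
      map_smul' := fun c v => by
        rw [show (fun j => φ (H91.pm (c • v) j)) = φ c • fun j => φ (H91.pm v j) from
          funext fun j => by by_cases e : j = 0 ∨ j = iL <;> simp [H91.pm, e], d.smul _ _ (mi v), ff]
        simp only [Pi.smul_apply, smul_eq_mul, RingHom.id_apply, smul_add, mul_smul] }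
  have fv : ∀ v, f v = v 0 • ee 0 + δ (fun j => φ (H91.pm v j)) + v iL • ee iL := fun _ => rfl
  have bφ : ∀ u v : V, bt (fun j => φ (u j)) (fun j => φ (v j)) = φ (bt u v) := fun u v => by
    simp only [bt, map_sum, map_mul, H62.σ_comm]
  have un : H12.ad (LinearMap.toMatrix' f) * LinearMap.toMatrix' f = 1 := H12.iso_ad fun u v => by
    rw [LinearMap.toMatrix'_mulVec, LinearMap.toMatrix'_mulVec, fv, fv, bt3 _ _ _ _ (d.mi _ (mi u)) (d.mi _ (mi v)),
      d.iso _ _ (mi u) (mi v), bφ, ff, ← bt3 _ _ _ _ (H91.pm_mi u) (H91.pm_mi v), ← decV, ← decV]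
  let M : H62.GI F n := ⟨⟨_, _, mul_eq_one_comm.1 un, un⟩, H62.mem_GI.2 un⟩
  let α : X →* X := (H62.giH M).toMonoidHom.comp (H62.frU φ)
  let s : V → V := fun v => f fun j => φ (v j)
  have key : ∀ x v, ac (α x) (s v) = s (ac x v) := fun x v => by
    change (LinearMap.toMatrix' f * x.1.1.map φ * H12.ad (LinearMap.toMatrix' f)) *ᵥ s v = _
    simp only [s]
    rw [← LinearMap.toMatrix'_mulVec, ← LinearMap.toMatrix'_mulVec, mulVec_mulVec, mul_assoc, un, mul_one,
      ← mulVec_mulVec]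
    congr 1
    ext j
    exact (RingHom.map_mulVec (φ : F →+* F) x.1.1 v j).symm
  have sa : ∀ u v, s (u + v) = s u + s v := fun u v => by
    rw [← map_add]; exact congrArg f (funext fun j => map_add φ _ _)
  have sm : ∀ (a : F) v, s (a • v) = φ a • s v := fun a v => by
    rw [← map_smul]; exact congrArg f (funext fun j => map_mul φ _ _)
  have d0 : δ 0 = 0 := by simpa using d.smul 0 0 ⟨rfl, rfl⟩
  have s0 : s (ee 0) = ee 0 := by
    change f _ = _
    rw [fv, show (fun j => φ (H91.pm (fun j => φ ((ee 0 : V) j)) j)) = 0 from funext fun j => by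
      by_cases e : j = 0 <;> simp [H91.pm, ee, e], d0]
    simp [ee, n0L.symm]
  have sL : s (ee iL) = ee iL := by
    change f _ = _
    rw [fv, show (fun j => φ (H91.pm (fun j => φ ((ee iL : V) j)) j)) = 0 from funext fun j => by
      by_cases e : j = iL <;> simp [H91.pm, ee, e], d0]
    simp [ee, n0L]
  have sw : ∀ w, Mi w → s w = δ w := fun w hw => by
    change f _ = _
    rw [fv, H91.pm_of (w := fun j => φ (w j)) ⟨by simp [hw.1], by simp [hw.2]⟩]
    simp [hw.1, hw.2, ff]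
  have sl : ∀ v, s v iL = φ (v iL) := fun v => by
    change f _ iL = _
    rw [fv]
    simp [ee, n0L.symm, (d.mi _ (mi _)).2]
  have ss : ∀ v, ∃ u, s u = v := fun v => ⟨fun j => φ ((H12.ad (LinearMap.toMatrix' f) *ᵥ v) j), by
    simp only [s, ff]
    rw [← LinearMap.toMatrix'_mulVec, mulVec_mulVec, mul_eq_one_comm.1 un, one_mulVec]⟩
  refine ⟨α, fun c => H12.ac_ext fun v => ?_, fun p hp => mem_PP.2 ?_, fun x hx => ⟨B3.qiff fun v hv => ?_, ?_⟩,
    (H62.Au.inj (H62.Au.comp (H62.au_giH M) (H62.au_frU φ))).1⟩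
  · obtain ⟨u, rfl⟩ := ss v
    have : φ (c : F) = c := by
      rcases d.ph with e | e <;> rw [e]
      exacts [rfl, c.2]
    rw [key, B3.ac_zz, B3.ac_zz, sa, sm, s0, sl, map_mul, this]
  · rw [← s0, key, mem_PP.1 hp]
  · obtain ⟨u, rfl⟩ := ss v
    rw [sl, map_eq_zero] at hv
    refine ⟨φ (bt u (cv x)), by rw [key, ac_QQ hx hv, sa, sm, s0], fun e => ?_⟩
    have := key x (ee 0)
    rw [mem_PP.1 (QQ_le hx), ← s0.symm.trans rfl, ← e, key, ac_QQ hx hv, sa, sm, s0, add_eq_left, smul_eq_zero] at this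
    exact this.resolve_right (H12.ee_ne 0)
  · refine B3.cv_eq (d.mi _ (cv_mi x)) (s := φ (bt (ee iL) (cv x) + (ee iL : V) iL * x.1.1 0 iL)) ?_
    rw [← sL, key, B3.qA hx, sa, sa, sm, sm, s0, sw _ (cv_mi x), sL]
    simp only [ee, Pi.single_eq_same, map_one, one_smul]
    abel

theorem partA (e : Em ι) (h2 : 𝐪 = 2) (z : Nz ι g) (d : Dl ι g δ φ) : ∃ (α : X →* X) (q : X), q ∈ QQ n F ∧
    (∀ c, α (zz c) = zz c) ∧ ∀ p ∈ PP n F, ι q * g * ι p * (ι q * g)⁻¹ = ι (α p) := by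
  obtain ⟨α, a1, a2, a3, a4⟩ := exα d
  have su : ∀ y ∈ QQ n F, ∃ x ∈ QQ n F, α x = y := fun y hy => by
    obtain ⟨x, hx⟩ := Finite.surjective_of_injective (f := fun x : QQ n F => (⟨α x, (a3 x x.2).1⟩ : QQ n F))
      (fun x y q => Subtype.ext (a4 (congrArg Subtype.val q))) ⟨y, hy⟩
    exact ⟨x, x.2, congrArg Subtype.val hx⟩
  have ex : ∀ x ∈ QQ n F, ∃ c, g * ι x * g⁻¹ = ι (α x) * ι (zz c) := fun x hx => by
    obtain ⟨x', hx', e1, e2⟩ := d.act x hx
    have m := inv_mem (a3 x hx).1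
    have := cv_mul (a3 x hx).1 (mul_mem m hx')
    rw [mul_inv_cancel_left, e2, (a3 x hx).2, left_eq_add, cv_ker (mul_mem m hx'), mem_ZZ] at this
    obtain ⟨c, hc⟩ := this
    exact ⟨c, by rw [e1, ← map_mul, ← hc, mul_inv_cancel_left]⟩
  have zg : ∀ b, g * ι (zz b) * g⁻¹ = ι (zz b) := fun b => by rw [z.cZ _ (H91.zZ b), mul_inv_cancel_right]
  have cj : ∀ x y : X, g * ι (x * y) * g⁻¹ = g * ι x * g⁻¹ * (g * ι y * g⁻¹) := fun x y => by rw [map_mul]; group
  have ad : ∀ x, ∀ y ∈ QQ n F, ∀ a b, g * ι x * g⁻¹ = ι (α x) * ι (zz a) → g * ι y * g⁻¹ = ι (α y) * ι (zz b) →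
      g * ι (x * y) * g⁻¹ = ι (α (x * y)) * ι (zz (a + b)) := fun x y hy a b h1 h2 => by
    rw [cj, h1, h2, map_mul α, ← H91.zm]
    simp only [← map_mul]
    rw [mul_assoc, ← mul_assoc (zz a), ← H91.zc (a3 y hy).1]
    simp only [mul_assoc, map_mul α]
  have wd : ∀ x ∈ QQ n F, ∀ y ∈ QQ n F, cv x = cv y → ∀ a, g * ι x * g⁻¹ = ι (α x) * ι (zz a) →
      g * ι y * g⁻¹ = ι (α y) * ι (zz a) := fun x hx y hy q a k => by
    have m := mul_mem (inv_mem hx) hy
    have := cv_mul hx m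
    rw [mul_inv_cancel_left, q, left_eq_add, cv_ker m, mem_ZZ] at this
    obtain ⟨b, hb⟩ := this
    have := ad x _ m a 0 k (by rw [hb, zg, a1, H91.z0, map_one, mul_one])
    rwa [mul_inv_cancel_left, add_zero] at this
  choose s hs hs' using fun w : V => cv_surj (H91.pm_mi w)
  choose η0 hη0 using fun w : V => ex _ (hs w)
  let η : V →+ K0 F := AddMonoidHom.mk' η0 fun w w' => by
    have := wd _ (mul_mem (hs w) (hs w')) _ (hs (w + w'))
      (by rw [cv_mul (hs w) (hs w'), hs', hs', hs', H91.pm_add]) _ (ad _ _ (hs w') _ _ (hη0 w) (hη0 w'))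
    rw [hη0] at this
    exact H91.uniq e (mul_left_cancel this)
  have hη : ∀ x ∈ QQ n F, g * ι x * g⁻¹ = ι (α x) * ι (zz (η (cv x))) := fun x hx =>
    wd _ (hs (cv x)) _ hx (by rw [hs', H91.pm_of (cv_mi x)]) _ (hη0 _)
  obtain ⟨ω, hω⟩ := ex_om (F := F)
  have t2 : (2 : F) = 0 := CharTwo.two_eq_zero
  have li : ∀ v : V, ∃ γ : F, ∀ l : F, (η (l • v) : F) = l * γ + σ (l * γ) := fun v => by
    have nω : ω * σ ω = 1 := by
      rcases H80.k01 h2 (a := ω * σ ω) (by rw [map_mul, sg_sg, mul_comm]) with q | q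
      · rcases mul_eq_zero.1 q with q | q
        · simp [q] at hω
        · rw [map_eq_zero] at q; simp [q] at hω
      · exact q
    refine ⟨σ ω * η v + η (ω • v), fun l => ?_⟩
    obtain ⟨a, b, rfl⟩ := dec_om hω l
    have f1 : σ (η v : F) = η v := (η v).2
    have f2 : σ (η (ω • v) : F) = η (ω • v) := (η (ω • v)).2
    have sω : σ ω = 1 + ω := by linear_combination hω - ω * t2
    rw [sω] at nω
    rcases H80.k01 h2 a.2 with q | q <;> rcases H80.k01 h2 b.2 with q' | q' <;>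
      simp only [q, q', zero_mul, one_mul, zero_add, add_zero, zero_smul, one_smul, add_smul, map_zero, map_add,
        map_mul, map_one, Subfield.coe_zero, Subfield.coe_add, f1, f2, sg_sg, sω]
    · grind
    · grind
    · grind
  choose γ g1 using fun j : I => li (ee j)
  let v0 : V := H91.pm fun i => σ (γ i.rev)
  have key : ∀ w : V, Mi w → (η w : F) = bt w v0 + σ (bt w v0) := fun w hw => by
    have e : w = ∑ j, w j • (ee j : V) := by
      ext i; simp [ee, Finset.sum_apply, Pi.single_apply]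
    conv_lhs => rw [e, map_sum]
    rw [bt, map_sum, ← Finset.sum_add_distrib]
    push_cast
    refine Finset.sum_congr rfl fun j _ => ?_
    by_cases e : j = 0 ∨ j = iL
    · have : w j = 0 := by
        rcases e with rfl | rfl
        exacts [hw.1, hw.2]
      simp [this]
    · have : v0 j.rev = σ (γ j) := by
        simp only [v0, H91.pm, Fin.rev_rev]
        refine if_neg fun q => e ?_
        simp only [Fin.ext_iff, Fin.val_rev, Fin.val_zero, Fin.val_last] at q ⊢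
        omega
      rw [this, sg_sg, g1]
  obtain ⟨q, hq, eq⟩ := cv_surj (d.mi _ (H91.pm_mi fun i => σ (γ i.rev)))
  have onQ : ∀ x ∈ QQ n F, ι q * g * ι x * (ι q * g)⁻¹ = ι (α x) := fun x hx => by
    obtain ⟨b, e1, e2⟩ := H91.cjQ hq (a3 x hx).1
    have : b = η (cv x) := Subtype.ext (by
      rw [e1, eq, (a3 x hx).2, d.iso _ _ (H91.pm_mi _) (cv_mi x), H62.σ_comm, ← map_add, key _ (cv_mi x),
        bt_symm (cv x), sg_sg, add_comm]
      rcases d.ph with e | e <;> rw [e]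
      · rfl
      · rw [map_add, sg_sg, add_comm])
    calc _ = ι q * (g * ι x * g⁻¹) * (ι q)⁻¹ := by group
      _ = ι (q * α x * q⁻¹ * (q * zz b * q⁻¹)) := by rw [hη x hx, this]; simp only [map_mul, map_inv]; group
      _ = _ := by rw [e2, H91.zc hq, mul_inv_cancel_right, mul_assoc, H24.zz_sq, mul_one]
  refine ⟨α, q, hq, a1, fun p hp => ?_⟩
  have nP : ∀ p ∈ PP n F, ∃ p' ∈ PP n F, ι q * g * ι p * (ι q * g)⁻¹ = ι p' := fun p hp => by
    obtain ⟨p', hp', e'⟩ := (mem_normalizer_iff.1 z.nP _).1 (mem_map_of_mem ι hp)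
    exact ⟨q * p' * q⁻¹, mul_mem (mul_mem (QQ_le hq) hp') (inv_mem (QQ_le hq)), by
      rw [map_mul, map_mul, map_inv, e']; group⟩
  have c : ∀ p ∈ PP n F, ∃ a, ι q * g * ι p * (ι q * g)⁻¹ * (ι (α p))⁻¹ = ι (zz a) := fun p hp => by
    obtain ⟨p', hp', e'⟩ := nP p hp
    have m := mul_mem (inv_mem (a2 p hp)) hp'
    obtain ⟨a, k, hk, e3⟩ := cQ e (a := ι ((α p)⁻¹ * p')) (le_normalizer ⟨_, rfl⟩) fun y hy => by
      obtain ⟨x, hx, rfl⟩ := su y hy
      have := onQ _ ((mem_normalizer_iff.1 (PP_nQ hp) x).1 hx)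
      rw [map_mul, map_inv, ← e', ← onQ x hx]
      simp only [map_mul, map_inv, ← onQ x hx] at this
      calc _ = (ι (α p))⁻¹ * (ι q * g * (ι p * ι x * (ι p)⁻¹) * (ι q * g)⁻¹) * (ι q * g * ι p * (ι q * g)⁻¹) := by group
        _ = _ := by rw [this]; group
    have : (α p)⁻¹ * p' * (zz a)⁻¹ = 1 := PP_cc (mul_mem m (inv_mem (QQ_le (ZZ_le_QQ (H91.zZ a))))) (e.cen.1 (by
      rw [map_mul, e3, map_inv, mul_inv_cancel_right]; exact hk))
    refine ⟨a, ?_⟩
    rw [e', ← map_inv, ← map_mul, show p' = α p * zz a by rw [← mul_inv_eq_one.1 this]; group,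
      PP_cen (a2 p hp), mul_inv_cancel_right]
  have pf' : commutator (PP n F) = ⊤ := map_injective (PP n F).subtype_injective (by
    rw [map_subtype_commutator, PP_pf, ← MonoidHom.range_eq_map, range_subtype])
  refine htriv pf' ((MulAut.conj (ι q * g)).toMonoidHom.comp (ι.comp (PP n F).subtype))
    (ι.comp (α.comp (PP n F).subtype)) (fun x y => ?_) (fun x y => ?_) ⟨p, hp⟩
  · obtain ⟨a, e3⟩ := c x x.2
    change ι q * g * ι x * (ι q * g)⁻¹ * (ι (α x))⁻¹ * ι (α y) = ι (α y) * (ι q * g * ι x * (ι q * g)⁻¹ * (ι (α x))⁻¹)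
    rw [e3, ← map_mul, ← map_mul, PP_cen (a2 y y.2)]
  · obtain ⟨a, e3⟩ := c x x.2
    obtain ⟨p', hp', e'⟩ := nP y y.2
    change ι q * g * ι x * (ι q * g)⁻¹ * (ι (α x))⁻¹ * (ι q * g * ι y * (ι q * g)⁻¹) =
      ι q * g * ι y * (ι q * g)⁻¹ * (ι q * g * ι x * (ι q * g)⁻¹ * (ι (α x))⁻¹)
    rw [e3, e', ← map_mul, ← map_mul, PP_cen hp']

theorem s6b (h : C2 ι t) (h2 : 𝐪 = 2) {c : K0 F} (hc : c ≠ 0) (e : g * t * g⁻¹ = t * ι (zz c))
    (k : g ∈ 𝐍((ZZ n F).map ι)) : ∃ c' y, c' ≠ 0 ∧ D1 ι t c' y := by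
  have c1 : ∀ a : K0 F, a ≠ 0 → a = 1 := fun a ha =>
    Subtype.ext ((H80.k01 h2 a.2).resolve_left fun q => ha (Subtype.ext q))
  obtain rfl := c1 c hc
  have z : Nz ι g := ⟨(H24.nv h.toC1 e k).1, (H24.nv h.toC1 e k).2, fun x hx => by
    obtain ⟨a, rfl⟩ := mem_ZZ.1 hx
    obtain ⟨y, hy, e'⟩ := (mem_normalizer_iff.1 k _).1 (mem_map_of_mem ι hx)
    obtain ⟨b, rfl⟩ := mem_ZZ.1 hy
    by_cases a0 : a = 0
    · rw [a0, H91.z0, map_one, mul_one, one_mul]
    have b0 : b ≠ 0 := fun q => a0 (H91.uniq h.em (by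
      rw [q, H91.z0, map_one, eq_comm, mul_inv_eq_one, mul_eq_left] at e'
      rw [e', H91.z0, map_one]))
    rw [c1 b b0, ← c1 a a0] at e'
    exact mul_inv_eq_iff_eq_mul.1 e'.symm⟩
  obtain ⟨δ, φ, d⟩ := H80.exDl h.em h2 z
  obtain ⟨α, q, hq, a1, a2⟩ := partA h.em h2 z d
  obtain ⟨d', k1, k2⟩ := H18.partB h.toC1 α (g := ι q * g) (by
    calc _ = ι q * (g * t * g⁻¹) * (ι q)⁻¹ := by group
      _ = t * ι (q * zz 1 * q⁻¹) := by rw [e, ← mul_assoc, ← h.tc, map_mul, map_mul, map_inv]; group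
      _ = _ := by rw [H91.zc hq, mul_inv_cancel_right, a1]) a2 1
  obtain ⟨y, hy⟩ := H78.partC h.toC1 k1 k2
  exact ⟨1, y, one_ne_zero, hy⟩

end UMS.H22
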