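import Cfsg.Agent.Lib.UMS.DL80
import Cfsg.Agent.Lib.UMS.Au62
import Cfsg.Agent.Lib.UMS.CE
import Cfsg.Agent.Lib.UMS.B3b
import Cfsg.Agent.Lib.UMS.S6B18
import Cfsg.Agent.Lib.UMS.S6C78

/-! Over the field with four elements the normaliser of `P` acts on `P` by automorphisms of the unitary group. -/

set_option autoImplicit false
set_option linter.unusedSectionVars false

namespace UMS

open Subgroup H69 Cfsg Matrix U4S
open LMS (XX GX iL kk MM au tw Sg)
open scoped MatrixGroups commutatorElement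

universe u
variable {G : Type*} [Group G] [Finite G] {F : Type u} [Field F] [CharP F 2] [Fintype F] [Hs F] {n : ℕ} [Ok n F]
  {ι : XU n F →* G} {g : G}

local notation "X" => XU n F
local notation "V" => VV n F
local notation "𝐪" => Nat.card (K0 F)
local notation "I" => Fin (n + 3)
local notation "Q" => QQ n F
local notation "Mx" => Matrix (Fin (n + 3)) (Fin (n + 3)) F

namespace H80

/-- the middle part -/
def md (v : V) : V := fun j => if j = 0 ∨ j = iL then 0 else v j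

theorem md_mi (v : V) : Mi (md v) := ⟨if_pos (.inl rfl), if_pos (.inr rfl)⟩

theorem md_add (u v : V) : md (u + v) = md u + md v := funext fun j => by
  simp only [md, Pi.add_apply]; split_ifs <;> simp

theorem md_smul (a : F) (v : V) : md (a • v) = a • md v := funext fun j => by
  simp only [md, Pi.smul_apply]; split_ifs <;> simp

theorem md_of {v : V} (h : Mi v) : md v = v := funext fun j => by
  simp only [md]; split_ifs with k
  · rcases k with rfl | rfl
    exacts [h.1.symm, h.2.symm]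
  · rfl

theorem md_ee {j : I} (h : j = 0 ∨ j = iL) : md (ee j : V) = 0 := funext fun i => by
  simp only [md]; split_ifs with k
  · rfl
  · exact Pi.single_eq_of_ne (fun e : i = j => k (e ▸ h)) _

theorem md_dec (v : V) : v = v 0 • ee 0 + v iL • ee iL + md v := funext fun j => by
  simp only [md, Pi.add_apply, Pi.smul_apply, B3.ee_ap, smul_eq_mul]
  by_cases j0 : j = 0
  · subst j0; simp [B3.n0L]
  · by_cases jL : j = iL
    · subst jL; simp [j0]
    · simp [j0, jL]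

theorem bt_dec {a b : V} (ha : Mi a) (hb : Mi b) (x y x' y' : F) :
    bt (x • ee 0 + y • ee iL + a) (x' • ee 0 + y' • ee iL + b) = x * σ y' + y * σ x' + bt a b := by
  simp only [bt_add_left, bt_add_right, bt_smul_left, bt_smul_right, B3.b0, B3.bL, B3.e00, B3.e0L, B3.eL0, B3.eLL,
    ha.1, ha.2, Pi.add_apply, Pi.smul_apply, smul_eq_mul]
  simp only [B3.b0', B3.bL', hb.1, hb.2, map_zero]
  ring

theorem ex_s {δ : V → V} {φ : RingAut F} (d : Dl ι g δ φ) : ∃ (α : X →* X) (s : V → V), Function.Injective α ∧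
    Function.Surjective s ∧ (∀ u v, s (u + v) = s u + s v) ∧ (∀ a v, s (a • v) = φ a • s v) ∧
    (∀ u v, bt (s u) (s v) = φ (bt u v)) ∧ s (ee 0) = ee 0 ∧ s (ee iL) = ee iL ∧ (∀ w, Mi w → s w = δ w) ∧
    ∀ x v, ac (α x) (s v) = s (ac x v) := by
  have z : δ 0 = 0 := by simpa using d.smul 0 0 ⟨rfl, rfl⟩
  obtain ⟨s, hs⟩ : ∃ s : V → V, ∀ v, s v = φ (v 0) • ee 0 + φ (v iL) • ee iL + δ (md v) := ⟨_, fun _ => rfl⟩
  have ad : ∀ u v, s (u + v) = s u + s v := fun u v => by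
    simp only [hs, md_add, d.add _ _ (md_mi u) (md_mi v), Pi.add_apply, map_add, add_smul]; abel
  have sm : ∀ a v, s (a • v) = φ a • s v := fun a v => by
    simp only [hs, md_smul, d.smul _ _ (md_mi v), Pi.smul_apply, smul_eq_mul, map_mul, smul_add, smul_smul]
  have iso : ∀ u v, bt (s u) (s v) = φ (bt u v) := fun u v => by
    rw [hs, hs, bt_dec (d.mi _ (md_mi u)) (d.mi _ (md_mi v)), d.iso _ _ (md_mi u) (md_mi v)]
    conv_rhs => rw [md_dec u, md_dec v, bt_dec (md_mi u) (md_mi v)]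
    simp only [map_add, map_mul, H62.σ_comm]
  obtain ⟨M, hM⟩ : ∃ M : Mx, ∀ v : V, (M *ᵥ fun i => φ (v i)) = s v := by
    refine ⟨of fun i j => s (ee j) i, fun v => ?_⟩
    have := AddMonoidHom.functions_ext V (AddMonoidHom.mk' (fun v : V => (of fun i j => s (ee j) i : Mx) *ᵥ fun i => φ (v i))
      fun u v => by rw [← mulVec_add]; congr 1; funext i; exact map_add φ _ _) (AddMonoidHom.mk' s ad) fun j a => by
        change (of fun i j => s (ee j) i : Mx) *ᵥ (fun i => φ ((Pi.single j a : V) i)) = s (Pi.single j a)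
        have e1 : (fun i => φ ((Pi.single j a : V) i)) = Pi.single j (φ a) := funext fun i => by
          by_cases k : i = j
          · subst k; simp
          · simp [k]
        have e2 : (Pi.single j a : V) = a • ee j := by rw [ee, ← Pi.single_smul, smul_eq_mul, mul_one]
        rw [e1, e2, sm]
        funext i
        simp [mul_comm]
    exact DFunLike.congr_fun this v
  have hM' : ∀ u : V, M *ᵥ u = s fun i => φ.symm (u i) := fun u => by rw [← hM]; simp
  have U : H12.ad M * M = 1 := H12.iso_ad fun u v => by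
    rw [hM', hM', iso]
    simp only [bt, map_sum, map_mul, ← H62.σ_comm, RingEquiv.apply_symm_apply]
  let C : GX n F := ⟨M, H12.ad M, mul_eq_one_comm.1 U, U⟩
  have hC : C ∈ H62.GI F n := H62.mem_GI.2 U
  let α : X →* X := (H62.giH ⟨C, hC⟩).toMonoidHom.comp (H62.frU φ)
  have a : ∀ x, (α x).1 = au C φ false x.1 := fun x => by rw [LMS.au_false]; rfl
  refine ⟨α, s, (H62.Au.inj ⟨C, a⟩).1, fun u => ⟨_, (hM' (H12.ad M *ᵥ u)).symm.trans (by
    rw [mulVec_mulVec, mul_eq_one_comm.1 U, one_mulVec])⟩, ad, sm, iso, ?_, ?_, fun w hw => ?_, fun x v => ?_⟩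
  · rw [hs, md_ee (.inl rfl), z, B3.e00, B3.e0L]; simp
  · rw [hs, md_ee (.inr rfl), z, B3.eL0, B3.eLL]; simp
  · rw [hs, md_of hw, hw.1, hw.2]; simp
  · rw [← hM, ← hM]; exact CE.semi a x v

theorem ex_v (h2 : 𝐪 = 2) (l : V →+ K0 F) : ∃ v : V, ∀ w, l w = S670.Tr w v := by
  obtain ⟨ω, hω⟩ := ex_om (F := F)
  have two : (2 : F) = 0 := CharTwo.two_eq_zero
  have ωω : ω * ω = σ ω := by
    have := sg_pow ω
    rwa [h2, sq, eq_comm] at this
  obtain ⟨v, hv⟩ : ∃ v : V, ∀ j : I, σ (v j.rev) = (l (ee j) + l (ω • ee j) : K0 F) + (l (ee j) : K0 F) * ω :=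
    ⟨fun j => σ ((l (ee j.rev) + l (ω • ee j.rev) : K0 F) + (l (ee j.rev) : K0 F) * ω), fun j => by
      rw [sg_sg, Fin.rev_rev]⟩
  refine ⟨v, fun w => DFunLike.congr_fun (AddMonoidHom.functions_ext (K0 F) l
    (AddMonoidHom.mk' (fun w => S670.Tr w v) fun a b => Subtype.ext ?_) fun j a => ?_) w⟩
  · simp only [S670.Tr, bt_add_left, map_add, Subfield.coe_add]; ring
  have e2 : (Pi.single j a : V) = a • ee j := by rw [ee, ← Pi.single_smul, smul_eq_mul, mul_one]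
  have b : ∀ a : F, bt (a • ee j) v = a * σ (v j.rev) := fun a => by rw [bt_smul_left, ee_bt]
  have p := mem_K0.1 (l (ee j)).2
  have r := mem_K0.1 (l (ω • ee j)).2
  refine Subtype.ext ?_
  change ((l _ : K0 F) : F) = bt _ v + σ (bt _ v)
  rw [e2, b, hv]
  have w2 : σ ω * σ ω = ω := by rw [← map_mul, ωω, sg_sg]
  obtain ⟨x, y, rfl⟩ := dec_om hω a
  rcases k01 h2 (mem_K0.1 x.2) with hx | hx <;> rcases k01 h2 (mem_K0.1 y.2) with hy | hy <;> rw [hx, hy]
  · simp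
  · simp only [zero_add, one_mul, Subfield.coe_add, map_mul, map_add, p, r]
    linear_combination (-2 * (l (ee j) : F) - l (ω • ee j)) * hω - (l (ee j) : F) * (ωω + w2) - (l (ee j) : F) * two
  · simp only [zero_mul, add_zero, one_mul, one_smul, Subfield.coe_add, map_mul, map_add, p, r]
    linear_combination (-(l (ee j) : F)) * hω - ((l (ee j) : F) + l (ω • ee j)) * two
  · simp only [one_mul, add_smul, one_smul, Subfield.coe_add, map_mul, map_add, map_one, p, r]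
    linear_combination (-3 * (l (ee j) : F) - l (ω • ee j)) * hω - (l (ee j) : F) * (ωω + w2)
      - (2 * (l (ee j) : F) + l (ω • ee j)) * two

theorem ofNz (e : Em ι) (h2 : 𝐪 = 2) (z : Nz ι g) : ∃ x ∈ Q, ∃ α : X →* X, Function.Injective α ∧
    (∀ a, α (zz a) = zz a) ∧ (∀ p ∈ PP n F, α p ∈ PP n F) ∧
    ∀ p ∈ PP n F, g * ι x * ι p * (g * ι x)⁻¹ = ι (α p) := by
  obtain ⟨δ, φ, d⟩ := exDl e h2 z
  obtain ⟨α, s, inj, sj, ad, sm, iso, s0, sL, sw, ha⟩ := ex_s d
  have sl : ∀ v, s v iL = φ (v iL) := fun v => by rw [← B3.b0 (s v), ← s0, iso, B3.b0]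
  have φK : ∀ c : K0 F, φ c = c := fun c => by
    rcases d.ph with rfl | rfl
    exacts [rfl, mem_K0.1 c.2]
  have αz : ∀ a, α (zz a) = zz a := fun a => ac_ext fun v => by
    obtain ⟨v, rfl⟩ := sj v
    rw [ha, B3.ac_zz, B3.ac_zz, ad, sm, s0, map_mul, φK, sl]
  have αP : ∀ p ∈ PP n F, α p ∈ PP n F := fun p hp => mem_PP.2 (by rw [← s0, ha, mem_PP.1 hp])
  have αQ : ∀ x ∈ Q, α x ∈ Q ∧ cv (α x) = δ (cv x) := fun x hx => by
    refine ⟨QQ_iff.2 fun v hv => ?_, B3.cv_eq (d.mi _ (cv_mi x)) (s := φ (x.1.1 0 iL)) ?_⟩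
    · obtain ⟨v, rfl⟩ := sj v
      rw [sl, map_eq_zero] at hv
      refine ⟨φ (bt v (cv x)), by rw [ha, ac_QQ hx hv, ad, sm, s0], fun k => ?_⟩
      rw [← iso, k, B3.b0', sl, (cv_mi x).2, map_zero, map_zero]
    · nth_rewrite 1 [← sL]
      rw [ha, B3.qL hx, ad, ad, sm, s0, sL, sw _ (cv_mi x)]
  have : ∀ x : X, ∃ c, x ∈ Q → g * ι x * g⁻¹ = ι (α x) * ι (zz c) := fun x => by
    by_cases hx : x ∈ Q
    · obtain ⟨x', hx', k, k'⟩ := d.act x hx
      obtain ⟨c, rfl⟩ := S670.Q_eq (αQ x hx).1 hx' (k'.trans (αQ x hx).2.symm)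
      exact ⟨c, fun _ => by rw [k, map_mul]⟩
    · exact ⟨0, fun k => absurd k hx⟩
  choose η hη using this
  have zc : ∀ c, ∀ p ∈ PP n F, ι p * ι (zz c) = ι (zz c) * ι p := fun c p hp => by
    rw [← map_mul, PP_cen hp, map_mul]
  have gz : ∀ c, g * ι (zz c) * g⁻¹ = ι (zz c) := fun c => by
    rw [z.cZ _ (mem_ZZ.2 ⟨c, rfl⟩), mul_inv_cancel_right]
  have zQ : ∀ c, (zz c : X) ∈ Q := B3.zzQ
  have η1 : ∀ x ∈ Q, ∀ y ∈ Q, η (x * y) = η x + η y := fun x hx y hy => by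
    have k := hη _ (mul_mem hx hy)
    rw [map_mul, show g * (ι x * ι y) * g⁻¹ = g * ι x * g⁻¹ * (g * ι y * g⁻¹) by group, hη x hx, hη y hy, map_mul,
      map_mul, mul_assoc, mul_assoc, mul_left_cancel_iff, ← mul_assoc, ← zc _ _ (αP y (QQ_le hy)), mul_assoc,
      mul_left_cancel_iff, ← map_mul, S670.zz_mul] at k
    exact (S670.z_inj e k).symm
  have η0 : ∀ c, η (zz c) = 0 := fun c => by
    have k := hη _ (zQ c)
    rw [gz, αz, left_eq_mul, ← ι.map_one, ← S670.zz_zero] at k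
    exact S670.z_inj e k
  choose sc scQ scv using fun v : V => cv_surj (md_mi v)
  have ηs : ∀ x ∈ Q, η (sc (cv x)) = η x := fun x hx => by
    obtain ⟨c, k⟩ := S670.Q_eq hx (scQ (cv x)) (by rw [scv, md_of (cv_mi x)])
    rw [k, η1 _ hx _ (zQ c), η0, add_zero]
  obtain ⟨v, hv⟩ := ex_v h2 (AddMonoidHom.mk' (fun v => η (sc v)) fun u v => by
    obtain ⟨c, k⟩ := S670.Q_eq (mul_mem (scQ u) (scQ v)) (scQ (u + v))
      (by rw [cv_mul (scQ u) (scQ v), scv, scv, scv, md_add])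
    rw [k, η1 _ (mul_mem (scQ u) (scQ v)) _ (zQ c), η0, add_zero, η1 _ (scQ u) _ (scQ v)])
  obtain ⟨q, hq, qv⟩ := cv_surj (md_mi v)
  have kQ : ∀ x ∈ Q, g * ι q * ι x * (g * ι q)⁻¹ = ι (α x) := fun x hx => by
    obtain ⟨c, hc, k⟩ := comm_QQ hq hx
    have b : bt (cv x) v = bt (cv x) (cv q) := by
      rw [qv]
      conv_lhs => rw [md_dec v]
      simp only [bt_add_right, bt_smul_right, B3.b0, B3.bL, (cv_mi x).1, (cv_mi x).2, mul_zero, zero_add]
    have c1 : η x = c := Subtype.ext (by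
      rw [← ηs x hx, hc, bt_symm (cv x), sg_sg, add_comm, ← b]
      exact congrArg Subtype.val (hv (cv x)))
    calc _ = g * ι (q * x) * (ι q)⁻¹ * g⁻¹ := by rw [map_mul]; group
      _ = g * ι x * g⁻¹ * (g * ι (zz c) * g⁻¹) := by
        rw [k, map_mul, map_mul, mul_assoc (ι x), zc _ _ (QQ_le hq)]; group
      _ = _ := by rw [hη x hx, gz, c1, mul_assoc, ← map_mul, S670.zz_sq, map_one, mul_one]
  have sQ : ∀ y ∈ Q, ∃ x ∈ Q, α x = y := fun y hy => by
    have : (Q).map α = Q := eq_of_le_of_card_ge (by rintro _ ⟨x, hx, rfl⟩; exact (αQ x hx).1)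
      (card_map_of_injective inj).ge
    rwa [← this] at hy
  have nP : g * ι q ∈ 𝐍((PP n F).map ι) := mul_mem z.nP (le_normalizer ⟨q, QQ_le hq, rfl⟩)
  refine ⟨q, hq, α, inj, αz, αP, ?_⟩
  generalize g * ι q = g' at kQ nP ⊢
  have ex : ∀ p ∈ PP n F, ∃ c, g' * ι p * g'⁻¹ = ι (α p) * ι (zz c) := fun p hp => by
    obtain ⟨p', hp', k⟩ := (mem_normalizer_iff.1 nP _).1 ⟨p, hp, rfl⟩
    obtain ⟨c, u, hu, k'⟩ := cQ e (a := ι ((α p)⁻¹ * p')) (le_normalizer ⟨_, rfl⟩) fun y hy => by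
      obtain ⟨x, hx, rfl⟩ := sQ y hy
      have := kQ _ ((mem_normalizer_iff.1 (PP_nQ hp) x).1 hx)
      simp only [map_mul, map_inv] at this ⊢
      rw [k, ← kQ x hx]
      calc _ = (ι (α p))⁻¹ * (g' * (ι p * ι x * (ι p)⁻¹) * g'⁻¹) * (g' * ι p * g'⁻¹) := by group
        _ = _ := by rw [this, ← kQ x hx]; group
    have m : (α p)⁻¹ * p' * zz c ∈ PP n F := mul_mem (mul_mem (inv_mem (αP p hp)) hp') (QQ_le (zQ c))
    have := PP_cc m (e.cen.1 (by rwa [map_mul, k', mul_assoc, ← map_mul, S670.zz_sq, map_one, mul_one]))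
    refine ⟨c, ?_⟩
    rw [← k, ← map_mul]
    congr 1
    calc p' = α p * ((α p)⁻¹ * p' * zz c) * zz c := by
          rw [mul_assoc, mul_assoc, S670.zz_sq, mul_one, mul_inv_cancel_left]
      _ = _ := by rw [this, mul_one]
  intro p hp
  rw [← PP_pf] at hp
  have : ⁅PP n F, PP n F⁆ ≤ (cι ι g').eqLocus (ι.comp α) := commutator_le.2 fun a ha b hb => by
    obtain ⟨x, e1⟩ := ex a ha
    obtain ⟨y, e2⟩ := ex b hb
    change cι ι g' _ = (ι.comp α) _
    rw [map_commutatorElement, map_commutatorElement, cι_apply, cι_apply, e1, e2, MonoidHom.comp_apply,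
      MonoidHom.comp_apply, B1b.cmm (zc x _ (αP a ha)) (zc y _ (αP a ha)) (zc x _ (αP b hb)) (zc y _ (αP b hb)),
      commutatorElement_eq_one_iff_mul_comm.2 (zc y _ (QQ_le (zQ x))), mul_one]
  exact this hp

theorem s6b {t : G} (h : C1 ι t) (h2 : 𝐪 = 2) {c : K0 F} (hc : c ≠ 0) (e : g * t * g⁻¹ = t * ι (zz c))
    (k : g ∈ 𝐍((ZZ n F).map ι)) : ∃ c' y, c' ≠ 0 ∧ D1 ι t c' y := by
  have o : ∀ a : K0 F, a ≠ 0 → a = 1 := fun a ha =>
    Subtype.ext ((k01 h2 (mem_K0.1 a.2)).resolve_left fun k => ha (Subtype.ext k))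
  obtain rfl := o c hc
  obtain ⟨n1, n2⟩ := H24.nv h e k
  have z : Nz ι g := ⟨n1, n2, fun x hx => by
    obtain ⟨a, rfl⟩ := mem_ZZ.1 hx
    obtain ⟨y, hy, k'⟩ := (mem_normalizer_iff.1 k _).1 ⟨_, hx, rfl⟩
    obtain ⟨b, rfl⟩ := mem_ZZ.1 hy
    by_cases a0 : a = 0
    · rw [a0, S670.zz_zero, map_one, mul_one, one_mul]
    by_cases b0 : b = 0
    · rw [b0, S670.zz_zero, map_one, eq_comm, conj_eq_one_iff] at k'
      rw [k', mul_one, one_mul]
    · rw [o b b0, ← o a a0] at k'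
      exact mul_inv_eq_iff_eq_mul.1 k'.symm⟩
  obtain ⟨x, -, α, -, αz, -, a⟩ := ofNz h.em h2 z
  obtain ⟨d, d1, d2⟩ := H18.partB h α (g := g * ι x) (by
    rw [αz, ← e, mul_assoc g, ← h.tc]; group) a 1
  obtain ⟨y, hy⟩ := H78.partC h d1 d2
  exact ⟨1, y, one_ne_zero, hy⟩

end H80

end UMS
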