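import Cfsg.Agent.Lib.UMS.S6B18
import Cfsg.Agent.Lib.UMS.DL80
import Cfsg.Agent.Lib.UMS.S6C78
import Cfsg.Agent.Lib.UMS.S6C91
import Cfsg.Agent.Lib.UMS.Au62
import Cfsg.Agent.Lib.UMS.F24

/-! The case of the field with four elements: an element that centralises `Q / Z`. -/

set_option autoImplicit false
set_option linter.unusedSectionVars false
set_option linter.unusedSimpArgs false

namespace UMS
namespace H18

open Subgroup H69 Cfsg Matrix U4S
open LMS (XX GX iL kk MM au tw Sg)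
open scoped MatrixGroups commutatorElement

universe u
variable {G : Type*} [Group G] [Finite G] {F : Type u} [Field F] [CharP F 2] [Fintype F] [Hs F] {n : ℕ} [Ok n F]
  {ι : XU n F →* G} {t g : G} {E : Subgroup G}

local notation "X" => XU n F
local notation "V" => VV n F
local notation "I" => Fin (n + 3)
local notation "𝐪" => Nat.card (K0 F)

theorem rep1 (h2 : 𝐪 = 2) (l : F →+ K0 F) : ∃ γ : F, ∀ a, (l a : F) = a * γ + σ (a * γ) := by
  obtain ⟨ω, hω⟩ := ex_om (F := F)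
  have t2 : (2 : F) = 0 := CharTwo.two_eq_zero
  have ω0 : ω ≠ 0 := by rintro rfl; simp at hω
  have nω : ω * σ ω = 1 := (H80.k01 h2 (nm ω).2).resolve_left (mul_ne_zero ω0 (by simpa using ω0))
  have s1 : σ (l 1 : F) = l 1 := (l 1).2
  have s2 : σ (l ω : F) = l ω := (l ω).2
  refine ⟨l 1 * σ ω + l ω, fun a => ?_⟩
  obtain ⟨x, y, rfl⟩ := dec_om hω a
  rcases H80.k01 h2 x.2 with hx | hx <;> rcases H80.k01 h2 y.2 with hy | hy <;>
    simp only [hx, hy, zero_mul, one_mul, add_zero, zero_add, map_zero, map_add, map_mul, map_one, s1, s2, sg_sg,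
      Subfield.coe_add, ZeroMemClass.coe_zero]
  · linear_combination (-(l ω : F)) * hω - 2 * (l 1 : F) * nω - (l 1 : F) * t2
  · linear_combination (-(l 1 : F)) * hω - (l ω : F) * t2
  · linear_combination (-(l 1 : F) - (l ω : F)) * hω - 2 * (l 1 : F) * nω - ((l 1 : F) + l ω) * t2

theorem rep (h2 : 𝐪 = 2) (η : V →+ K0 F) : ∃ u : V, ∀ w, (η w : F) = bt w u + σ (bt w u) := by
  choose γ hγ using fun j : I => rep1 h2 (η.comp (AddMonoidHom.single (fun _ : I => F) j))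
  refine ⟨fun j => σ (γ j.rev), fun w => ?_⟩
  conv_lhs => rw [← Finset.univ_sum_single w, map_sum]
  simp only [bt, Fin.rev_rev, sg_sg, map_sum, ← Finset.sum_add_distrib, AddSubmonoidClass.coe_finsetSum]
  exact Finset.sum_congr rfl fun j _ => hγ j (w j)

theorem dec (v : V) : v = v 0 • ee 0 + H91.pm v + v iL • ee iL := by
  ext j
  simp only [Pi.add_apply, Pi.smul_apply, B3b.ee_ap, H91.pm, smul_eq_mul]
  by_cases h0 : j = 0
  · simp [h0, B3b.n0L]
  · by_cases hL : j = iL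
    · simp [hL, B3b.n0L.symm]
    · simp [h0, hL]

theorem bt_dec (a b c d : F) {u v : V} (hu : Mi u) (hv : Mi v) :
    bt (a • ee 0 + u + b • ee iL) (c • ee 0 + v + d • ee iL) = a * σ d + bt u v + b * σ c := by
  simp only [bt_add_left, bt_add_right, bt_smul_left, bt_smul_right, bt_ee, ee_bt, B3b.r0, B3b.rL, hu.1, hu.2,
    hv.1, hv.2, Pi.add_apply, Pi.smul_apply, smul_eq_mul, B3b.ee_ap, if_neg B3b.n0L, if_neg B3b.n0L.symm, if_true,
    map_zero]
  ring

theorem exα {δ : V → V} {φ : RingAut F} (d : Dl ι g δ φ) : ∃ α : X →* X, Function.Injective α ∧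
    (∀ c, α (zz c) = zz c) ∧ (∀ p ∈ PP n F, α p ∈ PP n F) ∧ ∀ x ∈ QQ n F, α x ∈ QQ n F ∧ cv (α x) = δ (cv x) := by
  obtain ⟨s, hs⟩ : ∃ s : V → V, ∀ v, s v = φ (v 0) • ee 0 + δ (H91.pm v) + φ (v iL) • ee iL := ⟨_, fun _ => rfl⟩
  have sa : ∀ u v, s (u + v) = s u + s v := fun u v => by
    simp only [hs, H91.pm_add, d.add _ _ (H91.pm_mi _) (H91.pm_mi _), Pi.add_apply, map_add, add_smul]; abel
  have sm : ∀ (a : F) v, s (a • v) = φ a • s v := fun a v => by
    have : H91.pm (a • v) = a • H91.pm v := by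
      ext j; simp only [H91.pm, Pi.smul_apply]; split_ifs <;> simp
    simp only [hs, this, d.smul _ _ (H91.pm_mi _), Pi.smul_apply, smul_eq_mul, map_mul, smul_add, mul_smul]
  have sb : ∀ u v, bt (s u) (s v) = φ (bt u v) := fun u v => by
    rw [hs, hs, bt_dec _ _ _ _ (d.mi _ (H91.pm_mi _)) (d.mi _ (H91.pm_mi _)), d.iso _ _ (H91.pm_mi _) (H91.pm_mi _)]
    conv_rhs => rw [dec u, dec v, bt_dec _ _ _ _ (H91.pm_mi _) (H91.pm_mi _)]
    simp only [map_add, map_mul, H62.σ_comm]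
  have z0 : s 0 = 0 := by simpa using sm 0 0
  let S : V →+ V := ⟨⟨s, z0⟩, sa⟩
  let M : Matrix I I F := Matrix.of fun i j => s (ee j) i
  have hM : ∀ v : V, M *ᵥ (fun i => φ (v i)) = s v := fun v => by
    have : v = ∑ j, v j • ee j := by
      conv_lhs => rw [← Finset.univ_sum_single v]
      exact Finset.sum_congr rfl fun j _ => by rw [ee, ← Pi.single_smul, smul_eq_mul, mul_one]
    conv_rhs => rw [this]
    change _ = S _
    rw [map_sum]
    ext i
    simp only [mulVec, dotProduct, M, of_apply, Finset.sum_apply]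
    exact Finset.sum_congr rfl fun j _ => by
      change _ = s _ i
      rw [sm, Pi.smul_apply, smul_eq_mul, mul_comm]
  have un : H12.ad M * M = 1 := H12.iso_ad fun u v => by
    have k : ∀ u : V, ∃ u' : V, u = fun i => φ (u' i) := fun u => ⟨fun i => φ.symm (u i), by simp⟩
    obtain ⟨u', rfl⟩ := k u
    obtain ⟨v', rfl⟩ := k v
    rw [hM u', hM v', sb u' v']
    simp only [bt, map_sum, map_mul, H62.σ_comm]
  let m : GX n F := ⟨M, H12.ad M, mul_eq_one_comm.1 un, un⟩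
  let α : X →* X := (H62.giH ⟨m, H62.mem_GI.2 un⟩).toMonoidHom.comp (H62.frU φ)
  have hα : ∀ x, (α x).1 = au m φ false x.1 := fun x => by
    change (H62.giH _ (H62.frU φ x)).1 = _
    rw [H62.giH_val, H62.frU_val]; rfl
  have se : ∀ x v, ac (α x) (s v) = s (ac x v) := fun x v => by
    rw [← hM, ← hM]; exact CE.semi hα x v
  have su : ∀ w, ∃ v, s v = w := fun w => ⟨fun i => φ.symm ((H12.ad M *ᵥ w) i), by
    rw [← hM]; simp only [RingEquiv.apply_symm_apply]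
    change M *ᵥ (H12.ad M *ᵥ w) = w
    rw [mulVec_mulVec, mul_eq_one_comm.1 un, one_mulVec]⟩
  have d0 : δ 0 = 0 := by simpa using d.smul 0 0 ⟨rfl, rfl⟩
  have s0 : s (ee 0) = ee 0 := by
    have : H91.pm (ee 0 : V) = 0 := by
      ext j; simp only [H91.pm, B3b.ee_ap]; split_ifs with h1 h2 <;> simp_all
    simp only [hs, this, d0, B3b.ee_ap, if_true, if_neg B3b.n0L.symm, map_one, map_zero, one_smul, zero_smul, add_zero]
  have sL : ∀ v, s v iL = φ (v iL) := fun v => by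
    simp [hs, B3b.ee_ap, B3b.n0L.symm, (d.mi _ (H91.pm_mi v)).2]
  have sM : ∀ v, Mi v → s v = δ v := fun v hv => by
    simp only [hs, hv.1, hv.2, map_zero, zero_smul, zero_add, add_zero, H91.pm_of hv]
  refine ⟨α, (H77.au_bij ⟨m, hα⟩).1, fun c => ac_ext fun w => ?_, fun p hp => ?_, fun x hx => ?_⟩
  · obtain ⟨v, rfl⟩ := su w
    have : φ c = c := by
      rcases d.ph with e | e <;> rw [e]
      · rfl
      · exact c.2
    rw [se, CE.acz, CE.acz, sa, sm, s0, map_mul, this, sL]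
  · rw [mem_PP, ← s0, se, mem_PP.1 hp]
  · have k : ∀ w : V, w iL = 0 → ac (α x) w = w + bt w (δ (cv x)) • ee 0 := fun w hw => by
      obtain ⟨v, rfl⟩ := su w
      rw [sL, EmbeddingLike.map_eq_zero_iff] at hw
      rw [se, ac_QQ hx hw, sa, sm, s0, ← sb, sM _ (cv_mi x)]
    have q : α x ∈ QQ n F := QQ_iff.2 fun w hw => ⟨_, k w hw, by
      rintro rfl; exact B3b.b0 (d.mi _ (cv_mi x)).2⟩
    refine ⟨q, funext fun j => ?_⟩
    by_cases j0 : j = 0
    · rw [j0, (cv_mi _).1, (d.mi _ (cv_mi x)).1]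
    · have hw : (ee j.rev : V) iL = 0 := by
        rw [B3b.ee_ap, if_neg fun e => j0 (by rw [← Fin.rev_rev j, ← e, B3b.rL])]
      have := (ac_QQ q hw).symm.trans (k _ hw)
      have := CE.e00 (add_left_cancel this)
      rw [ee_bt, ee_bt, Fin.rev_rev] at this
      exact σ.injective this

theorem partA (e : Em ι) (h2 : 𝐪 = 2) (z : Nz ι g) : ∃ (α : X →* X) (v : X), (∀ c, α (zz c) = zz c) ∧
    ∀ p ∈ PP n F, g * ι v * ι p * (g * ι v)⁻¹ = ι (α p) := by
  obtain ⟨δ, φ, d⟩ := H80.exDl e h2 z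
  obtain ⟨α, inj, az, aP, aQ⟩ := exα d
  have cz : ∀ c, g * ι (zz c) * g⁻¹ = ι (zz c) := fun c => by
    rw [z.cZ _ (H91.zZ c), mul_inv_cancel_right]
  have ex : ∀ x ∈ QQ n F, ∃ a, g * ι x * g⁻¹ = ι (α x) * ι (zz a) := fun x hx => by
    obtain ⟨x', hx', e1, e2⟩ := d.act x hx
    obtain ⟨a, rfl⟩ := S670.Q_eq (aQ x hx).1 hx' (e2.trans (aQ x hx).2.symm)
    exact ⟨a, by rw [e1, map_mul]⟩
  have ml : ∀ x y a b, y ∈ QQ n F → g * ι x * g⁻¹ = ι (α x) * ι (zz a) → g * ι y * g⁻¹ = ι (α y) * ι (zz b) →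
      g * ι (x * y) * g⁻¹ = ι (α (x * y)) * ι (zz (a + b)) := fun x y a b hy h1 h3 => by
    calc _ = g * ι x * g⁻¹ * (g * ι y * g⁻¹) := by rw [map_mul]; group
      _ = _ := by
        rw [h1, h3, ← H91.zm, ← map_mul, ← map_mul, ← map_mul, ← map_mul, map_mul α, mul_assoc, ← mul_assoc (zz a),
          ← H91.zc (aQ y hy).1]
        simp only [mul_assoc]
  have cvv : ∀ x y a b, x ∈ QQ n F → y ∈ QQ n F → cv y = cv x → g * ι x * g⁻¹ = ι (α x) * ι (zz a) →
      g * ι y * g⁻¹ = ι (α y) * ι (zz b) → a = b := fun x y a b hx hy k h1 h3 => by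
    obtain ⟨c, rfl⟩ := S670.Q_eq hx hy k
    have := ml x (zz c) a 0 (ZZ_le_QQ (H91.zZ c)) h1 (by rw [cz, az, H91.z0, map_one, mul_one])
    rw [h3, add_zero] at this
    exact (H91.uniq e (mul_left_cancel this)).symm
  choose xq xQ xc using fun w : V => cv_surj (H91.pm_mi w)
  choose η hη using fun w : V => ex _ (xQ w)
  have ad : ∀ u v, η (u + v) = η u + η v := fun u v =>
    cvv _ _ _ _ (xQ _) (mul_mem (xQ u) (xQ v)) (by rw [cv_mul (xQ u) (xQ v), xc, xc, xc, H91.pm_add]) (hη _)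
      (ml _ _ _ _ (xQ v) (hη u) (hη v))
  obtain ⟨u, hu⟩ := rep h2 (AddMonoidHom.mk' η ad)
  have onQ : ∀ x ∈ QQ n F, g * ι (xq u) * ι x * (g * ι (xq u))⁻¹ = ι (α x) := fun x hx => by
    obtain ⟨c, hc, k⟩ := H91.cjQ (xQ u) hx
    obtain ⟨a, ha⟩ := ex x hx
    have e1 : a = η (cv x) := cvv _ _ _ _ hx (xQ _) (by rw [xc, H91.pm_of (cv_mi x)]) ha (hη _)
    have e2 : c = a := by
      refine Subtype.ext ?_
      have b : bt (cv x) u = bt (cv x) (H91.pm u) := by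
        conv_lhs => rw [dec u]
        simp only [zero_smul, zero_add, add_zero, bt_add_right, bt_smul_right, bt_ee, B3b.r0, B3b.rL, (cv_mi x).1,
          (cv_mi x).2, mul_zero]
      have := hu (cv x)
      rw [b, bt_symm (H91.pm u), sg_sg, add_comm (σ _)] at this
      rw [hc, xc, e1]; exact this.symm
    calc _ = g * ι (xq u * x * (xq u)⁻¹) * g⁻¹ := by simp only [map_mul, map_inv]; group
      _ = g * ι x * g⁻¹ * (g * ι (zz c) * g⁻¹) := by rw [k, map_mul]; group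
      _ = _ := by rw [ha, cz, e2, mul_assoc, ← map_mul, CE.zsq, map_one, mul_one]
  refine ⟨α, xq u, az, ?_⟩
  set y := g * ι (xq u) with hy
  have sQ : ∀ x' ∈ QQ n F, ∃ x ∈ QQ n F, α x = x' := fun x' hx' => by
    obtain ⟨x, k⟩ := Finite.surjective_of_injective (f := fun x : QQ n F => (⟨α x, (aQ x x.2).1⟩ : QQ n F))
      (fun a b k => Subtype.ext (inj (congrArg Subtype.val k))) ⟨x', hx'⟩
    exact ⟨x, x.2, congrArg Subtype.val k⟩
  have key : ∀ p ∈ PP n F, ∃ c, y * ι p * y⁻¹ = ι (α p) * ι (zz c) := fun p hp => by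
    have m : xq u * p * (xq u)⁻¹ ∈ PP n F := mul_mem (mul_mem (QQ_le (xQ u)) hp) (inv_mem (QQ_le (xQ u)))
    obtain ⟨p', hp', k⟩ := (mem_normalizer_iff.1 z.nP _).1 (mem_map_of_mem ι m)
    have k' : y * ι p * y⁻¹ = ι p' := by rw [k, hy]; simp only [map_mul, map_inv]; group
    have cn : Cn ι (QQ n F) (ι ((α p)⁻¹ * p')) := fun x' hx' => by
      obtain ⟨x, hx, rfl⟩ := sQ x' hx'
      have := onQ _ ((mem_normalizer_iff.1 (PP_nQ hp) x).1 hx)
      simp only [map_mul, map_inv] at this ⊢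
      rw [← k', ← onQ x hx]
      calc _ = (ι (α p))⁻¹ * (y * (ι p * ι x * (ι p)⁻¹) * y⁻¹) * (y * ι p * y⁻¹) := by group
        _ = _ := by rw [this, ← onQ x hx]; group
    obtain ⟨c, k0, hk, e1⟩ := cQ e (le_normalizer ⟨_, rfl⟩) cn
    have mP : (α p)⁻¹ * p' * (zz c)⁻¹ ∈ PP n F :=
      mul_mem (mul_mem (inv_mem (aP p hp)) hp') (inv_mem (QQ_le (ZZ_le_QQ (H91.zZ c))))
    have := PP_cc mP (e.cen.1 (by rw [map_mul, e1, map_inv, mul_inv_cancel_right]; exact hk))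
    exact ⟨c, by rw [k', ← map_mul, ← mul_inv_eq_one.1 this, mul_inv_cancel_left]⟩
  intro p hp
  rw [← PP_pf] at hp
  refine (commutator_le (H₃ := ((MulAut.conj y).toMonoidHom.comp ι).eqLocus (ι.comp α))).2 ?_ hp
  intro a ha b hb
  obtain ⟨c, h1⟩ := key a ha
  obtain ⟨c', h3⟩ := key b hb
  change ((MulAut.conj y).toMonoidHom.comp ι) _ = (ι.comp α) _
  rw [map_commutatorElement, map_commutatorElement]
  change ⁅y * ι a * y⁻¹, y * ι b * y⁻¹⁆ = ⁅ι (α a), ι (α b)⁆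
  rw [h1, h3, ← map_mul, ← map_mul, ← map_commutatorElement, ← map_commutatorElement]
  congr 1
  have c1 : Commute (α b) (zz c) := PP_cen (aP b hb) c
  have c2 : Commute (α a) (zz c') := PP_cen (aP a ha) c'
  have c3 : Commute (zz c : X) (zz c') := PP_cen (QQ_le (ZZ_le_QQ (H91.zZ c))) c'
  simp only [commutatorElement_def, _root_.mul_inv_rev]
  calc _ = α a * (zz c * (α b * zz c') * (zz c)⁻¹) * ((α a)⁻¹ * (zz c')⁻¹) * (α b)⁻¹ := by group
    _ = _ := by
      rw [(c1.symm.mul_right c3).eq, mul_inv_cancel_right, c2.inv_inv.eq]; group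

theorem s6b (h : C2 ι t) (h2 : 𝐪 = 2) {c : K0 F} (hc : c ≠ 0) (e : g * t * g⁻¹ = t * ι (zz c))
    (k : g ∈ 𝐍((ZZ n F).map ι)) : ∃ c' y, c' ≠ 0 ∧ D1 ι t c' y := by
  have c1 : ∀ a : K0 F, a ≠ 0 → a = 1 := fun a ha =>
    Subtype.ext ((H80.k01 h2 a.2).resolve_left fun e => ha (Subtype.ext e))
  obtain ⟨nP, nQ⟩ := H24.nv h.toC1 e k
  have cZ : Cn ι (ZZ n F) g := fun x hx => by
    obtain ⟨a, rfl⟩ := mem_ZZ.1 hx
    obtain ⟨x', hx', e1⟩ := (mem_normalizer_iff.1 k _).1 (mem_map_of_mem ι hx)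
    obtain ⟨b, rfl⟩ := mem_ZZ.1 hx'
    by_cases ha : a = 0
    · rw [ha, H91.z0, map_one, mul_one, one_mul]
    by_cases hb : b = 0
    · rw [hb, H91.z0, map_one, eq_comm, conj_eq_one_iff, ← map_one ι, ← H91.z0] at e1
      exact absurd (H91.uniq h.em e1) ha
    rw [c1 b hb, ← c1 a ha] at e1
    exact mul_inv_eq_iff_eq_mul.1 e1.symm
  obtain ⟨α, v, az, hα⟩ := partA h.em h2 ⟨nP, nQ, cZ⟩
  obtain ⟨d, d1, d2⟩ := partB h.toC1 α (g := g * ι v) (by
    rw [az, ← c1 c hc, ← e, mul_assoc g, ← h.tc]; group) hα 1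
  obtain ⟨y, hy⟩ := H78.partC h.toC1 d1 d2
  exact ⟨1, y, one_ne_zero, hy⟩

end H18
end UMS
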