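import Cfsg.Agent.Lib.UMS.S6B69

set_option autoImplicit false
set_option linter.unusedSectionVars false

namespace UMS

open Subgroup H69 Cfsg Matrix U4S
open LMS (XX GX iL kk MM au tw Sg)
open scoped MatrixGroups commutatorElement

universe u
variable {G : Type*} [Group G] [Finite G] {F : Type u} [Field F] [CharP F 2] [Fintype F] [Hs F] {n : ℕ} [Ok n F]
  {ι ψ χ : XU n F →* G} {t : G} {E : Subgroup G}

local notation "X" => XU n F
local notation "V" => VV n F
local notation "𝐪" => Nat.card (K0 F)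
local notation "I" => Fin (n + 3)
local notation "Mx" => Matrix (Fin (n + 3)) (Fin (n + 3)) F

theorem s6b (h : C2 ι t) (h4 : Nat.card F = 4) {g : G} {c : K0 F} (hc : c ≠ 0)
    (e : g * t * g⁻¹ = t * ι (zz c)) (k : g ∈ 𝐍((ZZ n F).map ι)) : ∃ c' y, c' ≠ 0 ∧ D1 ι t c' y := by
  have h2 : 𝐪 = 2 := by
    have := card_F (F := F)
    rw [h4] at this
    exact (Nat.pow_left_injective two_ne_zero (this.symm.trans (by norm_num : 4 = 2 ^ 2)))
  obtain ⟨y, hy⟩ := B69.s6b h h2 hc e k
  exact ⟨c, y, hc, hy⟩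

end UMS
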