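import Cfsg.Agent.Lib.UMS.Zf33
import Cfsg.Agent.Lib.UMS.S6D24

/-! From an element acting on `P` as an automorphism of `X` to one centralising a plane stabiliser. -/

set_option autoImplicit false
set_option linter.unusedSectionVars false

namespace UMS
namespace H33

open Subgroup H69 Cfsg Matrix U4S
open LMS (XX GX iL kk MM au tw Sg)
open scoped MatrixGroups commutatorElement

universe u
variable {G : Type*} [Group G] [Finite G] {F : Type u} [Field F] [CharP F 2] [Fintype F] [Hs F] {n : ℕ} [Ok n F]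
  {ι : XU n F →* G} {t g : G}

local notation "X" => XU n F
local notation "V" => VV n F

/-- centralises `S`, translates `t` by `x` -/
def DS (ι : X →* G) (t : G) (S : Subgroup X) (x : X) (d : G) : Prop :=
  x ∈ S ∧ Cn ι S d ∧ d * t * d⁻¹ = t * ι x

theorem DS.mul {S : Subgroup X} {x y : X} {d e : G} (a : DS ι t S x d) (b : DS ι t S y e) :
    DS ι t S (x * y) (d * e) := by
  refine ⟨mul_mem a.1 b.1, fun z hz => (show Commute d (ι z) from a.2.1 z hz).mul_left (b.2.1 z hz), ?_⟩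
  calc _ = d * (e * t * e⁻¹) * d⁻¹ := by group
    _ = d * t * d⁻¹ * (d * ι y * d⁻¹) := by rw [b.2.2]; group
    _ = _ := by rw [a.2.2, a.2.1 y b.1, map_mul]; group

theorem stepB (h : C1 ι t) (α : X ≃* X) {c : K0 F} (e : g * t * g⁻¹ = t * ι (zz c))
    (hP : ∀ x, α x ∈ PP n F ↔ x ∈ PP n F) (hz : α (zz c) = zz c)
    (k : ∀ p ∈ PP n F, g * ι p * g⁻¹ = ι (α p)) (a : F) :
    ∃ d, DS ι t (St {ee 0, ee 1}) (zz c * tc (ee 1 + a • ee 0) c) d := by
  have o : Ot (ee 0 : V) (ee 1) := WIT.ot01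
  have hw : Is (ee 1 + a • ee 0 : V) := by simpa using o.symm.is (a := 1) (b := a) (Or.inl one_ne_zero)
  have b0 : bt (ee 0 : V) (ee 1 + a • ee 0) = 0 := by
    rw [bt_add_right, bt_smul_right, o.1, o.2.2.1, mul_zero, add_zero]
  have b1 : bt (ee 1 : V) (ee 1 + a • ee 0) = 0 := by
    rw [bt_add_right, bt_smul_right, o.2.1, o.symm.2.2.1, mul_zero, add_zero]
  obtain ⟨y, hy⟩ := wit1 hw
  have mP : ∀ {x : X}, x ∈ PP n F ↔ ac x (ee 0) = ee 0 := ⟨fun h => h _ rfl, fun h _ e => e ▸ h⟩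
  have k' : ∀ p ∈ PP n F, g * ι (α.symm p) * g⁻¹ = ι p := fun p hp => by
    rw [k _ ((hP _).1 (by rwa [α.apply_symm_apply])), α.apply_symm_apply]
  have zP : zz c ∈ PP n F := tc_St o.1 o.1 c
  have wP : tc (ee 1 + a • ee 0) c ∈ PP n F := tc_St hw.1 b0 c
  refine ⟨g * ι (α.symm y) * g⁻¹ * (ι y)⁻¹, mul_mem (ozu o c).1 (mem_St.2 ?_), fun s hs => ?_, ?_⟩
  · rintro _ (rfl | rfl)
    exacts [wP _ rfl, tc_St hw.1 b1 c _ rfl]
  · have s0 : ac s (ee 0) = ee 0 := hs _ (Or.inl rfl)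
    have s1 : ac s (ee 1) = ee 1 := hs _ (Or.inr rfl)
    have q := k' (y⁻¹ * s * y) (mP.2 (by rw [ac_mul, ac_mul, hy, ac_add, ac_smul, s0, s1, ← hy, H12.ac_inv]))
    have q' := k' s (mP.2 s0)
    simp only [map_mul, map_inv] at q
    calc _ = g * ι (α.symm y) * g⁻¹ * ((ι y)⁻¹ * ι s * ι y) * (ι y)⁻¹ := by group
      _ = g * ι (α.symm s) * g⁻¹ * (g * ι (α.symm y) * g⁻¹ * (ι y)⁻¹) := by rw [← q]; group
      _ = _ := by rw [q']
  · have gz : g * ι (zz c) * g⁻¹ = ι (zz c) := by rw [k _ zP, hz]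
    have z2 : ι (zz c) * ι (zz c) = 1 := xx (isu o) c
    have e' : g⁻¹ * t * g = t * ι (zz c) := by
      have : t = g * (t * ι (zz c)) * g⁻¹ := by rw [← conj_mul, e, gz, mul_assoc, z2, mul_one]
      conv_lhs => rw [this]
      group
    have q := k' _ wP
    rw [← hy, ← tc_cj o.1, map_mul α.symm, map_mul α.symm, map_inv α.symm, show α.symm (tc (ee 0) c) = zz c from
      α.symm_apply_eq.2 hz.symm, tc_cj o.1, hy, map_mul, map_mul, map_inv] at q
    have c1 : (ι y)⁻¹ * t * ι y = t := by rw [mul_assoc, h.tc, inv_mul_cancel_left]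
    have c2 : ι (α.symm y) * t * (ι (α.symm y))⁻¹ = t := by rw [← h.tc, mul_inv_cancel_right]
    calc _ = g * (ι (α.symm y) * (g⁻¹ * ((ι y)⁻¹ * t * ι y) * g) * (ι (α.symm y))⁻¹) * g⁻¹ := by group
      _ = _ := by rw [c1, e', ← conj_mul (b := ι _), c2, ← conj_mul, e, q, map_mul, mul_assoc]

theorem partB (h : C1 ι t) (α : X ≃* X) {c : K0 F} (e : g * t * g⁻¹ = t * ι (zz c))
    (hP : ∀ x, α x ∈ PP n F ↔ x ∈ PP n F) (hz : α (zz c) = zz c)
    (k : ∀ p ∈ PP n F, g * ι p * g⁻¹ = ι (α p)) :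
    ∃ d, Cn ι (St {ee 0, ee 1}) d ∧ d * t * d⁻¹ = t * ι (zz c) := by
  have o : Ot (ee 0 : V) (ee 1) := WIT.ot01
  obtain ⟨ω, hω⟩ := ex_om (F := F)
  obtain ⟨_, a0⟩ := stepB h α e hP hz k 0
  obtain ⟨_, a1⟩ := stepB h α e hP hz k 1
  obtain ⟨_, a2⟩ := stepB h α e hP hz k ω
  obtain ⟨_, a3⟩ := stepB h α e hP hz k (ω + 1)
  have m := ((a0.mul a1).mul a2).mul a3
  have f := D24.five o.symm hω c
  have c0 := (ozu o c).2.1
  have z2 : zz c * zz c = (1 : X) := tc_sq o.1 c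
  have cm : ∀ {x d}, DS ι t (St {ee 0, ee 1}) (zz c * x) d → ∀ r : X, x * (zz c * r) = zz c * (x * r) :=
    fun {x _} q r => (c0 x ((mul_mem_cancel_left (ozu o c).1).1 q.1)).left_comm r
  refine ⟨_, m.2.1, m.2.2.trans (congrArg (t * ι ·) ?_)⟩
  have zr : ∀ r : X, zz c * (zz c * r) = r := fun r => by rw [← mul_assoc, z2, one_mul]
  simp only [mul_assoc] at f ⊢
  rw [cm a2, cm a1, cm a1, cm a0, cm a0, cm a0, zr, zr, zero_smul, add_zero, one_smul, f, zz]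

end H33
end UMS
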