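import Cfsg.Agent.Lib.UMS.B7
import Cfsg.Agent.Lib.UMS.B3b

/-! An element centralising the stabiliser of an isotropic plane and translating `t`. -/

set_option autoImplicit false
set_option linter.unusedSectionVars false

namespace UMS.H38

open Subgroup H69 Cfsg Matrix U4S B3b
open LMS (XX GX iL kk MM au tw Sg)
open scoped MatrixGroups commutatorElement

universe u
variable {G : Type*} [Group G] [Finite G] {F : Type u} [Field F] [CharP F 2] [Fintype F] [Hs F] {n : ℕ} [Ok n F]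
  {ι : XU n F →* G} {t : G}

local notation "X" => XU n F
local notation "V" => VV n F

theorem partB0 (h : C1 ι t) {g : G} {α : X ≃* X} (e : g * t * g⁻¹ = t * ι (zz 1))
    (h1 : ∀ x, α x ∈ PP n F ↔ x ∈ PP n F) (h2 : ∀ a, α (zz a) = zz a) (h3 : ∀ p ∈ PP n F, g * ι p * g⁻¹ = ι (α p))
    (s : F) : ∃ d, Cn ι (St {ee 0, ee 1}) d ∧ d * t * d⁻¹ = t * ι (zz 1 * tc (s • ee 0 + ee 1) 1) := by
  obtain ⟨a1, a2, a3, a4, a5, -⟩ := i1 n F
  have wL : (s • ee 0 + ee 1 : V) iL = 0 := by simp [ee_ap, n0L.symm, a2.symm]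
  have eL : (ee 1 : V) iL = 0 := by simp [ee_ap, a2.symm]
  have ww : bt (s • ee 0 + ee 1 : V) (s • ee 0 + ee 1) = 0 := by
    simp only [bt_add_left, bt_add_right, bt_smul_left, bt_smul_right, b00, (is_ee (F := F) a3).1, b0 eL, b0' eL,
      mul_zero, add_zero]
  obtain ⟨x, hx⟩ := wit1 (v := (s • ee 0 + ee 1 : V)) ⟨ww, fun k => by simpa [ee_ap, a1] using congrFun k 1⟩
  have h3' : ∀ p ∈ PP n F, g⁻¹ * ι p * g = ι (α.symm p) := fun p hp => by
    have := h3 (α.symm p) ((h1 _).1 (by rwa [α.apply_symm_apply]))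
    rw [α.apply_symm_apply] at this
    rw [← this]; group
  have zP : (zz 1 : X) ∈ PP n F := QQ_le (ZZ_le_QQ (mem_ZZ.2 ⟨_, rfl⟩))
  have z1 : α.symm (zz 1) = zz 1 := by rw [α.symm_apply_eq, h2]
  have back : ∀ p ∈ PP n F, g * ι (α.symm p) * g⁻¹ = ι p := fun p hp => by rw [← h3' p hp]; group
  refine ⟨g * ι (α.symm x) * g⁻¹ * (ι x)⁻¹, fun p hp => ?_, ?_⟩
  · have p0 : ac p (ee 0) = ee 0 := mem_St.1 hp _ (Or.inl rfl)
    have p1 : ac p (ee 1) = ee 1 := mem_St.1 hp _ (Or.inr rfl)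
    have m : x⁻¹ * p * x ∈ PP n F := mem_PP.2 (by
      rw [ac_mul, ac_mul, hx, ac_add, ac_smul, p0, p1, ← hx, ← ac_mul, inv_mul_cancel, ac_one])
    have k1 := h3' _ m
    have k2 := back p (mem_PP.2 p0)
    simp only [map_mul, map_inv] at k1
    rw [← mul_inv_eq_iff_eq_mul]
    calc _ = g * ι (α.symm x) * (g⁻¹ * ((ι x)⁻¹ * ι p * ι x) * g) * (ι (α.symm x))⁻¹ * g⁻¹ := by group
      _ = g * ι (α.symm p) * g⁻¹ := by rw [k1]; group
      _ = _ := k2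
  · have e1 : g⁻¹ * t * g = t * ι (zz 1) := by
      have k := h3' _ zP
      rw [z1] at k
      have : t = g * t * g⁻¹ * ι (zz 1) := by rw [e, mul_assoc, ← map_mul, zz, tc_sq b00, map_one, mul_one]
      calc _ = g⁻¹ * (g * t * g⁻¹ * ι (zz 1)) * g := by rw [← this]
        _ = t * (g⁻¹ * ι (zz 1) * g) := by group
        _ = _ := by rw [k]
    have e2 : x * zz 1 * x⁻¹ = tc (s • ee 0 + ee 1) 1 := by rw [zz, tc_cj b00, hx]
    have k2 := back _ (tc_PP ww wL 1)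
    rw [← e2, map_mul α.symm, map_mul α.symm, map_inv α.symm, z1, map_mul, map_mul, map_inv] at k2
    have c1 : (ι x)⁻¹ * t * ι x = t := by rw [mul_assoc, h.tc, inv_mul_cancel_left]
    have c2 : ι (α.symm x) * t = t * ι (α.symm x) := (h.tc _).symm
    calc _ = g * (ι (α.symm x) * (g⁻¹ * ((ι x)⁻¹ * t * ι x) * g) * (ι (α.symm x))⁻¹) * g⁻¹ := by group
      _ = g * t * g⁻¹ * (g * (ι (α.symm x) * ι (zz 1) * (ι (α.symm x))⁻¹) * g⁻¹) := by
        rw [c1, e1, ← mul_assoc (ι (α.symm x)), c2]; group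
      _ = _ := by
        rw [e, k2, e2, map_mul, mul_assoc t]

theorem partB (h : C1 ι t) {g : G} {α : X ≃* X} (e : g * t * g⁻¹ = t * ι (zz 1))
    (h1 : ∀ x, α x ∈ PP n F ↔ x ∈ PP n F) (h2 : ∀ a, α (zz a) = zz a) (h3 : ∀ p ∈ PP n F, g * ι p * g⁻¹ = ι (α p)) :
    ∃ d, Cn ι (St {ee 0, ee 1}) d ∧ d * t * d⁻¹ = t * ι (zz 1) := by
  obtain ⟨a1, a2, a3, a4, a5, -⟩ := i1 n F
  have eL : (ee 1 : V) iL = 0 := by simp [ee_ap, a2.symm]
  have e11 := (is_ee (F := F) a3).1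
  have mul : ∀ {d d' : G} {y y' : X}, y' ∈ St {ee 0, ee 1} → (Cn ι (St {ee 0, ee 1}) d ∧ d * t * d⁻¹ = t * ι y) →
      (Cn ι (St {ee 0, ee 1}) d' ∧ d' * t * d'⁻¹ = t * ι y') →
      Cn ι (St {ee 0, ee 1}) (d * d') ∧ d * d' * t * (d * d')⁻¹ = t * ι (y * y') := fun {d d' y y'} m a b =>
    ⟨fun x hx => by rw [mul_assoc, b.1 x hx, ← mul_assoc, a.1 x hx, mul_assoc], by
      calc _ = d * (d' * t * d'⁻¹) * d⁻¹ := by group
        _ = d * t * d⁻¹ * (d * ι y' * d⁻¹) := by rw [b.2]; group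
        _ = _ := by rw [a.2, a.1 _ m, mul_inv_cancel_right, map_mul, mul_assoc]⟩
  have ww : ∀ s : F, bt (s • ee 0 + ee 1 : V) (s • ee 0 + ee 1) = 0 := fun s => by
    simp only [bt_add_left, bt_add_right, bt_smul_left, bt_smul_right, b00, e11, b0 eL, b0' eL, mul_zero, add_zero]
  have wL : ∀ s : F, (s • ee 0 + ee 1 : V) iL = 0 := fun s => by simp [ee_ap, n0L.symm, a2.symm]
  have m : ∀ s : F, (zz 1 * tc (s • ee 0 + ee 1) 1 : X) ∈ St {ee 0, ee 1} := fun s => mem_St.2 (by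
    rintro _ (rfl | rfl)
    · rw [ac_mul, ac_tc (ww s), b0 (wL s), zz, mul_zero, zero_smul, add_zero, ac_tc b00, b00]; simp
    · rw [ac_mul, ac_tc (ww s), bt_add_right, bt_smul_right, e11, b0' eL, zz]
      simp only [mul_zero, add_zero, zero_smul]
      rw [ac_tc b00, b0' eL]; simp)
  obtain ⟨ω, hω⟩ := ex_om (F := F)
  obtain ⟨d1, k1⟩ := partB0 h e h1 h2 h3 ω
  obtain ⟨d2, k2⟩ := partB0 h e h1 h2 h3 1
  obtain ⟨d3, k3⟩ := partB0 h e h1 h2 h3 (ω + 1)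
  obtain ⟨d4, k4⟩ := partB0 h e h1 h2 h3 0
  have k := mul (mul_mem (m _) (m _)) (mul (m _) k1 k2) (mul (m _) k3 k4)
  have c : ∀ s s' : F, (zz 1 * tc (s • ee 0 + ee 1) 1 : X) * (zz 1 * tc (s' • ee 0 + ee 1) 1) =
      tc (s • ee 0 + ee 1) 1 * tc (s' • ee 0 + ee 1) 1 := fun s s' => by
    rw [← PP_cen (tc_PP (ww s) (wL s) 1), mul_assoc, ← mul_assoc (zz 1), zz, tc_sq b00, one_mul]
  rw [c, c, one_smul, zero_smul, zero_add, four (c := 1) b00 e11 (b0 eL) hω] at k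
  exact ⟨_, k⟩

end UMS.H38
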