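import Cfsg.Agent.Lib.UMS.S6A41
import Cfsg.Agent.Lib.UMS.S6B18
import Cfsg.Agent.Lib.UMS.S6C78
import Cfsg.Agent.Lib.UMS.Au62
import Cfsg.Agent.Lib.UMS.CE94
import Cfsg.Agent.Lib.UMS.AU

set_option autoImplicit false
set_option linter.unusedSectionVars false

namespace UMS.H41

open Subgroup H69 Cfsg Matrix U4S S670 AU45
open LMS (XX GX iL kk MM au tw Sg)
open scoped MatrixGroups commutatorElement

universe u
variable {G : Type*} [Group G] [Finite G] {F : Type u} [Field F] [CharP F 2] [Fintype F] [Hs F] {n : ℕ} [Ok n F]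
  {ι : XU n F →* G} {g t : G}

local notation "X" => XU n F
local notation "V" => VV n F
local notation "𝐪" => Nat.card (K0 F)
local notation "I" => Fin (n + 3)
local notation "Q" => QQ n F
local notation "P0" => PP n F

theorem dec (v : V) : v = v 0 • ee 0 + v iL • ee iL + pr v := by
  ext j
  simp only [Pi.add_apply, Pi.smul_apply, pr, B3.ee_ap, smul_eq_mul]
  by_cases h0 : j = 0
  · simp [h0, B3.n0L]
  by_cases hL : j = iL
  · simp [hL, B3.n0L.symm]
  · simp [h0, hL]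

theorem pr_add (u v : V) : pr (u + v) = pr u + pr v := by
  ext j
  simp only [pr, Pi.add_apply]
  split_ifs <;> simp

theorem bt3 (a b a' b' : F) {v w : V} (hv : Mi v) (hw : Mi w) :
    bt (a • ee 0 + b • ee iL + v) (a' • ee 0 + b' • ee iL + w) = a * σ b' + b * σ a' + bt v w := by
  simp only [H12.bt_add_l, H12.bt_add_r, H12.bt_smul_l, H12.bt_smul_r, B3.b0, B3.bL, B3.e00, B3.e0L, B3.eL0, B3.eLL,
    hv.1, hv.2, Pi.add_apply, Pi.smul_apply, smul_eq_mul, B3.b0' w, B3.bL' w, hw.1, hw.2, map_zero]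
  ring

/-- extension of `δ` to an automorphism -/
theorem exα {δ : V → V} {φ : RingAut F} (d : Dl ι g δ φ) : ∃ α : X →* X, (∀ c, α (zz c) = zz c) ∧
    (∀ p ∈ P0, α p ∈ P0) ∧ ∀ x ∈ Q, α x ∈ Q ∧ cv (α x) = δ (cv x) := by
  have f2 : ∀ a, φ (φ a) = a := fun a => by
    rcases d.ph with rfl | rfl
    exacts [rfl, sg_sg a]
  have f0 : ∀ c : K0 F, φ c = c := fun c => by
    rcases d.ph with rfl | rfl
    exacts [rfl, c.2]
  have m : ∀ v : V, Mi fun i => φ (pr v i) := fun v =>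
    ⟨(congrArg φ (mi_pr v).1).trans (map_zero _), (congrArg φ (mi_pr v).2).trans (map_zero _)⟩
  let L : V →ₗ[F] V :=
    { toFun := fun v => v 0 • ee 0 + v iL • ee iL + δ fun i => φ (pr v i)
      map_add' := fun u v => by
        have : (fun i => φ (pr (u + v) i)) = (fun i => φ (pr u i)) + fun i => φ (pr v i) := by
          ext i; rw [pr_add, Pi.add_apply, map_add, Pi.add_apply]
        rw [this, d.add _ _ (m u) (m v), Pi.add_apply, Pi.add_apply, add_smul, add_smul]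
        abel
      map_smul' := fun a v => by
        have : (fun i => φ (pr (a • v) i)) = φ a • fun i => φ (pr v i) := by
          ext i; rw [pr_smul, Pi.smul_apply, smul_eq_mul, map_mul, Pi.smul_apply, smul_eq_mul]
        rw [this, d.smul _ _ (m v), f2, RingHom.id_apply, smul_add, smul_add, smul_smul, smul_smul]
        rfl }
  have hM : ∀ v, LinearMap.toMatrix' L *ᵥ v = v 0 • ee 0 + v iL • ee iL + δ fun i => φ (pr v i) := fun v =>
    LinearMap.toMatrix'_mulVec L v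
  have iso : H12.ad (LinearMap.toMatrix' L) * LinearMap.toMatrix' L = 1 := H12.iso_ad fun u v => by
    rw [hM, hM, bt3 _ _ _ _ (d.mi _ (m u)) (d.mi _ (m v)), d.iso _ _ (m u) (m v), bt_map, f2,
      ← bt3 _ _ _ _ (mi_pr u) (mi_pr v), ← dec, ← dec]
  obtain ⟨g0, iso, hT⟩ : ∃ g0 : GX n F, H12.ad g0.1 * g0.1 = 1 ∧
      ∀ v, T g0 φ v = φ (v 0) • ee 0 + φ (v iL) • ee iL + δ (pr v) := by
    refine ⟨⟨_, _, mul_eq_one_comm.1 iso, iso⟩, iso, fun v => (hM _).trans ?_⟩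
    congr 2
    ext i
    simp only [pr]
    split_ifs
    exacts [map_zero _, f2 _]
  clear hM
  clear_value L
  have d0 : δ 0 = 0 := by simpa using d.add 0 0 ⟨rfl, rfl⟩ ⟨rfl, rfl⟩
  have p0 : pr (ee 0 : V) = 0 := by
    ext i; simp only [pr, B3.ee_ap]; split_ifs with h k <;> first | rfl | exact absurd (Or.inl k) h
  have pL : pr (ee iL : V) = 0 := by
    ext i; simp only [pr, B3.ee_ap]; split_ifs with h k <;> first | rfl | exact absurd (Or.inr k) h
  have T0 : T g0 φ (ee 0) = ee 0 := by rw [hT, p0, d0, B3.e00, B3.e0L]; simp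
  have TL : T g0 φ (ee iL) = ee iL := by rw [hT, pL, d0, B3.eL0, B3.eLL]; simp
  have Tm : ∀ w, Mi w → T g0 φ w = δ w := fun w hw => by rw [hT, pr_mi hw, hw.1, hw.2]; simp
  have TiL : ∀ v, T g0 φ v iL = φ (v iL) := fun v => by
    have := bt_T iso φ v (ee 0)
    rwa [T0, B3.b0, B3.b0] at this
  obtain ⟨α, hα⟩ : ∃ α : X →* X, ∀ x v, ac (α x) (T g0 φ v) = T g0 φ (ac x v) :=
    ⟨(H62.giH (⟨g0, iso⟩ : H62.GI F n)).toMonoidHom.comp (H62.frU φ), ac_T fun x => rfl⟩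
  refine ⟨α, fun c => H12.ac_ext fun v => ?_, fun p hp => mem_PP.2 ?_, fun x hx => ⟨QQ_iff.2 fun v hv => ?_, ?_⟩⟩
  · obtain ⟨u, rfl⟩ := T_surj g0 φ v
    rw [hα, B3.ac_zz, B3.ac_zz, T_add, T_smul, T0, TiL, map_mul, f0]
  · have := hα p (ee 0)
    rwa [mem_PP.1 hp, T0] at this
  · obtain ⟨u, rfl⟩ := T_surj g0 φ v
    obtain ⟨a, h1, h2⟩ := QQ_iff.1 hx u (by rwa [TiL, EmbeddingLike.map_eq_zero_iff] at hv)
    exact ⟨φ a, by rw [hα, h1, T_add, T_smul, T0], fun k => by rw [h2 (T_inj g0 φ (k.trans T0.symm)), map_zero]⟩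
  · refine B3.cv_eq (s := φ (x.1.1 0 iL)) (d.mi _ (cv_mi x)) ?_
    have := hα x (ee iL)
    rwa [B3.qL hx, T_add, T_add, T_smul, T0, TL, Tm _ (cv_mi x)] at this

/-- additive functions on the middle vectors -/
theorem exTr (h2 : 𝐪 = 2) {l : V → K0 F} (ad : ∀ v w, Mi v → Mi w → l (v + w) = l v + l w) :
    ∃ u, Mi u ∧ ∀ w, Mi w → Tr u w = l w := by
  obtain ⟨ω, hω⟩ := ex_om (F := F)
  have sq : σ ω = ω * ω := by rw [sg_pow, h2, sq]
  have w1 : ω * ω = ω + 1 := by rw [← sq, ← hω, ← add_assoc, CharTwo.add_self_eq_zero, zero_add]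
  have tw : (2 : F) = 0 := CharTwo.two_eq_zero
  have l0 : l 0 = 0 := by simpa using ad 0 0 ⟨rfl, rfl⟩ ⟨rfl, rfl⟩
  have a1 : ∀ v w, Mi v → Mi w → (l (ω • (v + w)) : F) + σ ω * l (v + w) =
      (l (ω • v) + σ ω * l v) + (l (ω • w) + σ ω * l w) := fun v w hv hw => by
    rw [smul_add, ad _ _ (mi_smul hv _) (mi_smul hw _), ad _ _ hv hw]; push_cast; ring
  have a2 : ∀ w, Mi w → (l (ω • ω • w) : F) + σ ω * l (ω • w) = ω * (l (ω • w) + σ ω * l w) := fun w hw => by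
    rw [smul_smul, w1, add_smul, one_smul, ad _ _ (mi_smul hw _) hw]; push_cast
    linear_combination ((l (ω • w) : F) - ω * l w) * sq + ((l (ω • w) : F) - (ω + 1) * l w) * w1 +
      ((l (ω • w) : F) - ω * l w) * tw
  let μ : V →ₗ[F] F :=
    { toFun := fun v => l (ω • pr v) + σ ω * l (pr v)
      map_add' := fun u v => by rw [pr_add, a1 _ _ (mi_pr u) (mi_pr v)]
      map_smul' := fun a v => by
        obtain ⟨x, y, rfl⟩ := dec_om hω a
        rw [pr_smul, RingHom.id_apply, smul_eq_mul]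
        rcases two h2 x with rfl | rfl <;> rcases two h2 y with rfl | rfl
        · simp [l0]
        · simpa using a2 _ (mi_pr v)
        · simp
        · rw [OneMemClass.coe_one, one_mul, add_smul, one_smul, a1 _ _ (mi_pr v) (mi_smul (mi_pr v) _),
            a2 _ (mi_pr v), add_mul, one_mul] }
  have hμ : ∀ v, bt v (fun j => σ (μ (ee j.rev))) = μ v := fun v => by
    conv_rhs => rw [← Finset.univ_sum_single v, map_sum]
    refine Finset.sum_congr rfl fun j _ => ?_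
    dsimp only
    rw [Fin.rev_rev, sg_sg, ← smul_eq_mul, ← map_smul, ee, ← Pi.single_smul, smul_eq_mul, mul_one]
  refine ⟨pr fun j => σ (μ (ee j.rev)), mi_pr _, fun w hw => Subtype.ext ?_⟩
  have e : bt w (pr fun j => σ (μ (ee j.rev))) = l (ω • w) + σ ω * l w := by
    have := hμ w
    rw [dec fun j => σ (μ (ee j.rev)), H12.bt_add_r, H12.bt_add_r, H12.bt_smul_r, H12.bt_smul_r, B3.b0, B3.bL, hw.1,
      hw.2, mul_zero, mul_zero, zero_add, zero_add] at this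
    rw [this]
    change (l (ω • pr w) : F) + σ ω * l (pr w) = _
    rw [pr_mi hw]
  change bt _ w + σ (bt _ w) = _
  rw [H12.bt_symm, sg_sg, e, map_add, map_mul, sg_sg, mem_K0.1 (l _).2, mem_K0.1 (l _).2]
  linear_combination (l w : F) * hω + (l (ω • w) : F) * tw

theorem cenQ {y : X} (hy : y ∈ P0) (c : ∀ x ∈ Q, y * x = x * y) : ∃ c, y = zz c := by
  refine H94.cenQ (QQ_iff.2 fun v hv => ?_) c
  obtain ⟨x, hx, e⟩ := cv_surj (mi_pr v)
  have k := cvj hy hx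
  rw [c x hx, mul_inv_cancel_right, e] at k
  have k1 : ac y (pr v) iL = 0 := by rw [← B3.b0 (ac y (pr v)), ← mem_PP.1 hy, H12.bt_ac, B3.b0, (mi_pr v).2]
  refine ⟨ac y (pr v) 0, ?_, fun z => ?_⟩
  · conv_lhs => rw [dec v, hv, zero_smul, add_zero, H12.ac_add, H12.ac_smul, mem_PP.1 hy, dec (ac y (pr v)), k1, ← k]
    conv_rhs => rw [dec v, hv]
    rw [pr_add, pr_add, pr_smul, pr_smul, pr_mi (mi_pr v)]
    have p0 : pr (ee 0 : V) = 0 := by
      ext i; simp only [pr, B3.ee_ap]; split_ifs with h k <;> first | rfl | exact absurd (Or.inl k) h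
    simp only [p0, zero_smul, smul_zero, add_zero, zero_add]
    abel
  · have p0 : pr (ee 0 : V) = 0 := by
      ext i; simp only [pr, B3.ee_ap]; split_ifs with h k <;> first | rfl | exact absurd (Or.inl k) h
    rw [z, p0, H12.ac_zero]; rfl

theorem partA (e : Em ι) (h2 : 𝐪 = 2) (z : Nz ι g) : ∃ α : X →* X, (∀ c, α (zz c) = zz c) ∧
    ∃ q : X, ∀ p ∈ P0, g * ι q * ι p * (g * ι q)⁻¹ = ι (α p) := by
  obtain ⟨δ, φ, d⟩ := exDl e h2 z
  obtain ⟨α, a1, a2, a3⟩ := exα d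
  have cz : ∀ c, g * ι (zz c) = ι (zz c) * g := fun c => z.cZ _ (mem_ZZ.2 ⟨c, rfl⟩)
  have ex : ∀ x ∈ Q, ∃ c, g * ι x * g⁻¹ = ι (α x * zz c) := fun x hx => by
    obtain ⟨x', h1, h2, h3⟩ := d.act x hx
    obtain ⟨c, k⟩ := Q_eq (a3 x hx).1 h1 (h3.trans (a3 x hx).2.symm)
    exact ⟨c, k ▸ h2⟩
  choose! η hη using ex
  choose! s s1 s2 using fun w hw => cv_surj (n := n) (F := F) (w := w) hw
  have mul : ∀ x ∈ Q, ∀ y ∈ Q, η (x * y) = η x + η y := fun x hx y hy => z_inj e (by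
    have := hη _ (mul_mem hx hy)
    rw [map_mul, show g * (ι x * ι y) * g⁻¹ = g * ι x * g⁻¹ * (g * ι y * g⁻¹) by group, hη x hx, hη y hy, ← map_mul,
      mul_assoc, ← mul_assoc (zz _), ← PP_cen (QQ_le (a3 y hy).1), mul_assoc, zz_mul, ← mul_assoc, ← map_mul α,
      map_mul, map_mul ι (α _), mul_right_inj] at this
    exact this.symm)
  have z0 : ∀ c, η (zz c) = 0 := fun c => z_inj e (by
    have := hη _ (B3.zzQ c)
    rw [cz, mul_inv_cancel_right, a1, map_mul, left_eq_mul] at this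
    rw [this, zz_zero, map_one])
  have wd : ∀ x ∈ Q, η (s (cv x)) = η x := fun x hx => by
    obtain ⟨c, k⟩ := Q_eq hx (s1 _ (cv_mi x)) (s2 _ (cv_mi x))
    rw [k, mul _ hx _ (B3.zzQ c), z0, add_zero]
  obtain ⟨u, hu, tu⟩ := exTr h2 (l := fun w => η (s w)) fun v w hv hw => by
    rw [← mul _ (s1 v hv) _ (s1 w hw), ← wd _ (mul_mem (s1 v hv) (s1 w hw)), cv_mul (s1 v hv) (s1 w hw), s2 v hv,
      s2 w hw]
  have onQ : ∀ x ∈ Q, g * ι (s u) * ι x * (g * ι (s u))⁻¹ = ι (α x) := fun x hx => by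
    have k := i_comm (ι := ι) (s1 u hu) hx
    rw [Bf, s2 u hu, tu _ (cv_mi x), wd x hx] at k
    have k2 : ι (s u) * ι (zz (η x)) = ι (zz (η x)) * ι (s u) := by
      rw [← map_mul, ← map_mul, PP_cen (QQ_le (s1 u hu))]
    calc _ = g * (ι x * (ι (s u) * ((ι x * ι (s u))⁻¹ * (ι (s u) * ι x))) * (ι (s u))⁻¹) * g⁻¹ := by group
      _ = g * ι x * g⁻¹ * (g * ι (zz (η x))) * g⁻¹ := by rw [← k, k2]; group
      _ = _ := by rw [cz, hη x hx, mul_assoc, mul_inv_cancel_right, ← map_mul, mul_assoc, zz_sq, mul_one]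
  refine ⟨α, a1, s u, ?_⟩
  have nP : g * ι (s u) ∈ 𝐍((P0).map ι) :=
    mul_mem z.nP (le_normalizer (mem_map_of_mem ι (QQ_le (s1 u hu))))
  generalize g * ι (s u) = a at onQ nP
  have sj : ∀ x ∈ Q, ∃ y ∈ Q, α y = x := by
    have inj : Function.Injective fun y : Q => (⟨α y, (a3 _ y.2).1⟩ : Q) := fun y y' k =>
      Subtype.ext (e.inj2 (p2Q y.2) (p2Q y'.2) (by
        have := (onQ _ y.2).trans ((congrArg (fun w : Q => ι w.1) k).trans (onQ _ y'.2).symm)
        simpa using this))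
    intro x hx
    obtain ⟨y, k⟩ := Finite.injective_iff_surjective.1 inj ⟨x, hx⟩
    exact ⟨y, y.2, congrArg Subtype.val k⟩
  have cen : ∀ p ∈ P0, ∃ c, a * ι p * a⁻¹ = ι (α p * zz c) := fun p hp => by
    obtain ⟨p', hp', k⟩ := (mem_normalizer_iff.1 nP _).1 (mem_map_of_mem ι hp)
    obtain ⟨c, hc⟩ := cenQ (mul_mem (inv_mem (a2 p hp)) hp') fun x hx => by
      obtain ⟨y, hy, rfl⟩ := sj x hx
      refine (e.comm2 (p2Q hx) ?_).symm
      have k1 := onQ _ ((mem_normalizer_iff.1 (PP_nQ hp) _).1 hy)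
      simp only [map_mul, map_inv] at k1 ⊢
      rw [k]
      calc _ = (ι (α p))⁻¹ * (ι (α p) * ι (α y) * (ι (α p))⁻¹) * (a * ι p * a⁻¹) := by group
        _ = _ := by rw [← k1, ← onQ y hy]; group
    exact ⟨c, by rw [← hc, mul_inv_cancel_left, k]⟩
  intro p hp
  rw [← PP_pf] at hp
  refine (show _ ≤ (cι ι a).eqLocus (ι.comp α) from commutator_le.2 fun x hx y hy => ?_) hp
  change cι ι a _ = ι (α _)
  obtain ⟨c, k⟩ := cen x hx
  obtain ⟨c', k'⟩ := cen y hy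
  rw [map_commutatorElement, cι_apply, cι_apply, k, k', ← map_commutatorElement, map_commutatorElement α,
    B1b.cmm (PP_cen (a2 x hx) c) (PP_cen (a2 x hx) c') (PP_cen (a2 y hy) c) (PP_cen (a2 y hy) c'),
    (commutatorElement_eq_one_iff_mul_comm (g₁ := zz c)).2 (by rw [zz_mul, zz_mul, add_comm c]), mul_one]

theorem s6b (h : C1 ι t) (h2 : 𝐪 = 2) {c : K0 F} (hc : c ≠ 0) (e : g * t * g⁻¹ = t * ι (zz c))
    (k : g ∈ 𝐍((ZZ n F).map ι)) : ∃ c' y, c' ≠ 0 ∧ D1 ι t c' y := by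
  obtain rfl := (two h2 c).resolve_left hc
  obtain ⟨k1, k2⟩ := H24.nv h e k
  have gz : g * ι (zz 1) * g⁻¹ = ι (zz 1) := by
    obtain ⟨x, hx, e1⟩ := (mem_normalizer_iff.1 k _).1 (mem_map_of_mem ι (mem_ZZ.2 ⟨1, rfl⟩))
    obtain ⟨c, rfl⟩ := mem_ZZ.1 hx
    rcases two h2 c with rfl | rfl
    · rw [zz_zero, map_one, eq_comm, conj_eq_one_iff] at e1
      exact absurd (z_inj h.em (e1.trans (by rw [zz_zero, map_one] : _ = ι (zz 0)))) one_ne_zero
    · exact e1.symm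
  obtain ⟨α, a1, q, a2⟩ := partA h.em h2 ⟨k1, k2, fun x hx => by
    obtain ⟨c, rfl⟩ := mem_ZZ.1 hx
    rcases two h2 c with rfl | rfl
    · rw [zz_zero, map_one, mul_one, one_mul]
    · exact mul_inv_eq_iff_eq_mul.1 gz⟩
  obtain ⟨d, d1, d2⟩ := H18.partB h α (g := g * ι q) (by
    rw [a1, ← e, mul_assoc g, ← h.tc]; group) a2 1
  obtain ⟨y, hy⟩ := H78.partC h d1 d2
  exact ⟨1, y, one_ne_zero, hy⟩

end UMS.H41
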