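import Cfsg.Agent.Lib.UMS.Defs2
import Cfsg.Agent.Lib.UMS.B3b
import Cfsg.Agent.Lib.UMS.B6
import Cfsg.Agent.Lib.UMS.S670
import Cfsg.Agent.Lib.UMS.S6C91
import Cfsg.Agent.Lib.UMS.Au62

set_option autoImplicit false
set_option linter.unusedSectionVars false

namespace UMS

open Subgroup H69 Cfsg Matrix U4S
open LMS (XX GX iL kk MM au tw Sg)
open scoped MatrixGroups commutatorElement

universe u
variable {G : Type*} [Group G] [Finite G] {F : Type u} [Field F] [CharP F 2] [Fintype F] [Hs F] {n : ℕ} [Ok n F]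
  {ι ψ χ : XU n F →* G} {t : G} {E : Subgroup G}

local notation "X" => XU n F
local notation "V" => VV n F
local notation "𝐪" => Nat.card (K0 F)
local notation "I" => Fin (n + 3)
local notation "Mx" => Matrix (Fin (n + 3)) (Fin (n + 3)) F

namespace S6L

open H91 (pm_mi pm_of pm_add rev0)

local notation "pm" => H91.pm

theorem L0 : (0 : I) ≠ iL := S670.L0

theorem dec (w : V) : w = pm w + w 0 • ee 0 + w iL • ee iL := by
  ext j
  by_cases j0 : j = 0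
  · simp [j0, H91.pm, ee]
  by_cases jL : j = iL
  · simp [jL, H91.pm, ee, L0.symm]
  simp [H91.pm, ee, j0, jL]

theorem btd {a b : V} (ha : Mi a) (hb : Mi b) (x y x' y' : F) :
    bt (a + x • ee 0 + y • ee iL) (b + x' • ee 0 + y' • ee iL) = bt a b + x * σ y' + y * σ x' := by
  have r : (iL : I).rev = 0 := Fin.rev_last _
  simp only [bt_add_left, bt_add_right, bt_smul_left, bt_smul_right, ee_bt, bt_ee, r, rev0]
  simp [ee, ha.1, ha.2, hb.1, hb.2, L0.symm]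
  ring

theorem pm_smul (a : F) (w : V) : pm (a • w) = a • pm w := by
  ext j
  by_cases e : j = 0 ∨ j = iL <;> simp [H91.pm, e]

theorem exM {s : V → V} (ad : ∀ u v, s (u + v) = s u + s v) (sm : ∀ (a : F) v, s (a • v) = a • s v)
    (fm : ∀ u v, bt (s u) (s v) = bt u v) : ∃ g : H62.GI F n, ∀ v, g.1.1 *ᵥ v = s v := by
  let M : Mx := LinearMap.toMatrix' ⟨⟨s, ad⟩, sm⟩
  have hM : ∀ w : V, M *ᵥ w = s w := fun w => LinearMap.toMatrix'_mulVec _ w
  have iso : H12.ad M * M = 1 := H12.iso_ad fun u v => by rw [hM, hM, fm]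
  exact ⟨⟨⟨M, H12.ad M, mul_eq_one_comm.1 iso, iso⟩, iso⟩, hM⟩

theorem odd_units : Odd (Nat.card Fˣ) := by
  obtain ⟨f, h0, hf⟩ := q_pow (F := F)
  rw [Nat.card_units, card_F, hf]
  exact Nat.Even.sub_odd (Nat.one_le_iff_ne_zero.2 (by positivity))
    ((Nat.even_pow.2 ⟨Nat.even_pow.2 ⟨even_two, h0.ne'⟩, two_ne_zero⟩)) odd_one

end S6L

open S6L in
theorem s6l (e : Em ι) {g : G} (k : Nz ι g) {δ : V → V} (d : Dl ι g δ 1) (t2 : t * t = 1)
    (tc : ∀ x, t * ι x = ι x * t) (h : g * t * g⁻¹ = t * ι (zz 1)) : ∃ y, D1 ι t 1 y := by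
  have f0 : δ 0 = 0 := by simpa using d.smul 0 0 ⟨rfl, rfl⟩
  obtain ⟨M, hM⟩ := exM (s := fun v : V => δ (H91.pm v) + v 0 • ee 0 + v iL • ee iL)
    (fun u v => by
      rw [H91.pm_add, d.add _ _ (H91.pm_mi _) (H91.pm_mi _), Pi.add_apply, Pi.add_apply, add_smul, add_smul]
      abel)
    (fun a v => by rw [pm_smul, d.smul _ _ (H91.pm_mi _)]; simp [smul_smul])
    (fun u v => by
      rw [btd (d.mi _ (H91.pm_mi _)) (d.mi _ (H91.pm_mi _)), d.iso _ _ (H91.pm_mi _) (H91.pm_mi _)]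
      conv_rhs => rw [dec u, dec v, btd (H91.pm_mi _) (H91.pm_mi _)]
      rfl)
  have M0 : M.1.1 *ᵥ ee 0 = ee 0 := by
    have : H91.pm (ee 0 : V) = 0 := by
      ext j
      by_cases j0 : j = 0 <;> simp [H91.pm, ee, j0]
    rw [hM, this, f0]
    simp [ee, L0.symm]
  have M1 : ∀ v : V, Mi v → M.1.1 *ᵥ v = δ v := fun v hv => by
    rw [hM, H91.pm_of hv, hv.1, hv.2]; simp
  have A : ∀ j : ℕ, (M ^ j).1.1 *ᵥ ee 0 = ee 0 ∧ ∀ x ∈ QQ n F, ∃ x' ∈ QQ n F,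
      g ^ j * ι x * (g ^ j)⁻¹ = ι x' ∧ cv x' = (M ^ j).1.1 *ᵥ cv x := fun j => by
    induction j with
    | zero => exact ⟨by simp, fun x hx => ⟨x, hx, by simp, by simp⟩⟩
    | succ j ih =>
      have m : ∀ v : V, (M ^ (j + 1)).1.1 *ᵥ v = M.1.1 *ᵥ ((M ^ j).1.1 *ᵥ v) := fun v => by
        rw [pow_succ', mulVec_mulVec]; rfl
      refine ⟨by rw [m, ih.1, M0], fun x hx => ?_⟩
      obtain ⟨x1, a1, a2, a3⟩ := ih.2 x hx
      obtain ⟨x2, b1, b2, b3⟩ := d.act x1 a1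
      exact ⟨x2, b1, by rw [← b2, ← a2, pow_succ']; group, by rw [m, ← a3, M1 _ (cv_mi _), b3]⟩
  obtain ⟨j, hj⟩ := odd_units (F := F)
  obtain ⟨u, hu, -⟩ := H62.ex_su (g := M ^ (2 * j + 1)) (by
    rw [← hj, Subgroup.coe_pow, map_pow, pow_card_eq_one'])
  have hu' : ∀ v : V, ac u v = (M ^ (2 * j + 1)).1.1 *ᵥ v := fun v => by rw [← hu]; rfl
  have up : u ∈ PP n F := mem_PP.2 ((hu' _).trans (A _).1)
  have uz : ∀ c, Commute (ι u) (ι (zz c)) := fun c => (show Commute u (zz c) from PP_cen up c).map ι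
  have gz : Commute g (ι (zz 1)) := k.cZ _ (H91.zZ 1)
  have gt : Commute (g * g) t := by
    refine mul_inv_eq_iff_eq_mul.1 ?_
    calc _ = g * (g * t * g⁻¹) * g⁻¹ := by group
      _ = g * (t * ι (zz 1)) * g⁻¹ := by rw [h]
      _ = g * t * g⁻¹ * (g * ι (zz 1) * g⁻¹) := by group
      _ = _ := by rw [h, gz.eq, mul_inv_cancel_right, mul_assoc, ← map_mul, S670.zz_sq, map_one, mul_one]
  refine ⟨(ι u)⁻¹ * g ^ (2 * j + 1), fun x hx => ?_, fun x hx => ?_, ?_⟩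
  · obtain ⟨c, rfl⟩ := mem_ZZ.1 hx
    exact (uz c).inv_left.mul_left ((show Commute g (ι (zz c)) from k.cZ _ hx).pow_left _)
  · obtain ⟨x', a1, a2, a3⟩ := (A (2 * j + 1)).2 x hx
    obtain ⟨c, hc⟩ := S670.Q_eq ((mem_normalizer_iff.1 (PP_nQ up) x).1 hx) a1 (funext fun i => by
      by_cases i0 : i = 0
      · rw [i0, (cv_mi _).1, (cv_mi _).1]
      · rw [cv_cj up hx i0, a3, hu'])
    refine ⟨c, ?_⟩
    calc _ = (ι u)⁻¹ * (g ^ (2 * j + 1) * ι x * (g ^ (2 * j + 1))⁻¹) * ι u := by group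
      _ = ι x * ((ι u)⁻¹ * (ι (zz c) * ι u)) := by rw [a2, hc, map_mul, map_mul, map_mul, map_inv]; group
      _ = _ := by rw [← (uz c).eq, inv_mul_cancel_left]
  · calc _ = (ι u)⁻¹ * (g * ((g * g) ^ j * t * ((g * g) ^ j)⁻¹) * g⁻¹) * ι u := by
          rw [pow_succ', pow_mul, sq]; group
      _ = (ι u)⁻¹ * (t * ι u) * ι (zz 1) := by
          rw [(gt.pow_left j).eq, mul_inv_cancel_right, h, mul_assoc, mul_assoc, ← (uz 1).eq]; group
      _ = _ := by rw [tc, inv_mul_cancel_left]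

end UMS
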