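import Cfsg.Agent.Lib.UMS.DEL
import Cfsg.Agent.Lib.UMS.S6L
import Cfsg.Agent.Lib.UMS.FIB
import Cfsg.Agent.Lib.UMS.S6S
import Cfsg.Agent.Lib.UMS.SAM
import Cfsg.Agent.Lib.UMS.F24

set_option autoImplicit false
set_option linter.unusedSectionVars false

namespace UMS

open Subgroup H69 Cfsg Matrix U4S
open LMS (XX GX iL kk MM au tw Sg)
open scoped MatrixGroups commutatorElement

universe u
variable {G : Type*} [Group G] [Finite G] {F : Type u} [Field F] [CharP F 2] [Fintype F] [Hs F] {n : ℕ} [Ok n F]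
  {ι ψ χ : XU n F →* G} {t : G} {E : Subgroup G}

local notation "X" => XU n F
local notation "V" => VV n F
local notation "𝐪" => Nat.card (K0 F)
local notation "I" => Fin (n + 3)

namespace H47

theorem k01 (h4 : Nat.card F = 4) {c : K0 F} (hc : c ≠ 0) : c = 1 := by
  have h2 : 𝐪 = 2 := Nat.pow_left_injective two_ne_zero ((card_F (F := F)).symm.trans h4)
  exact ((Nat.card_eq_two_iff' (0 : K0 F)).1 h2).unique hc one_ne_zero

theorem n01 : (1 : I) ≠ 0 := by simp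
theorem n1L : (1 : I) ≠ iL := by simp [Fin.ext_iff]
theorem n1r (h : 3 ≤ n) : (1 : I) ≠ Fin.rev 1 := by simp [Fin.ext_iff]; omega
theorem r0 : (Fin.rev 0 : I) = iL := Fin.rev_zero _
theorem mi1 : Mi (ee 1 : V) := ⟨Pi.single_eq_of_ne n01.symm _, Pi.single_eq_of_ne n1L.symm _⟩
theorem mir : Mi (ee (Fin.rev 1) : V) :=
  ⟨Pi.single_eq_of_ne (by simp [Fin.ext_iff]) _, Pi.single_eq_of_ne (by simp [Fin.ext_iff]) _⟩
theorem is1 : Is (ee 1 : V) := is_ee (n1r (Ok.h3 (F := F)))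
theorem is0 : Is (ee 0 : V) := is_ee (by simp [Fin.ext_iff])
theorem b1r : bt (ee 1 : V) (ee (Fin.rev 1)) = 1 := by
  rw [bt_ee, Fin.rev_rev]; exact Pi.single_eq_same _ _
theorem mis {v : V} (h : Mi v) (a : F) : Mi (a • v) := ⟨by simp [h.1], by simp [h.2]⟩
theorem b0 {v : V} (h : v iL = 0) : bt v (ee 0) = 0 := by rw [bt_ee, r0, h]
theorem b0' {v : V} (h : v iL = 0) : bt (ee 0) v = 0 := by rw [ee_bt, r0, h, map_zero]

theorem nz (h : C1 ι t) {g : G} {c : K0 F} (e : g * t * g⁻¹ = t * ι (zz c)) (z : Cn ι (ZZ n F) g) : Nz ι g :=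
  have := H24.nv h e (centralizer_le_normalizer _ (by rintro _ ⟨x, hx, rfl⟩; exact (z x hx).symm))
  ⟨this.1, this.2, z⟩

theorem cz (e : Em ι) (h4 : Nat.card F = 4) {g : G} (k : g ∈ 𝐍((ZZ n F).map ι)) : Cn ι (ZZ n F) g := by
  intro x hx
  obtain ⟨y, hy, q⟩ := (mem_normalizer_iff.1 k _).1 (mem_map_of_mem ι hx)
  obtain ⟨a, rfl⟩ := mem_ZZ.1 hx
  obtain ⟨b, rfl⟩ := mem_ZZ.1 hy
  by_cases a0 : a = 0
  · rw [a0, zz, tc_zero, map_one, one_mul, mul_one]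
  by_cases b0 : b = 0
  · rw [b0, zz, tc_zero, map_one, eq_comm, conj_eq_one_iff] at q
    exact absurd (tc_cen is0 (e q)) a0
  rw [k01 h4 b0, ← k01 h4 a0] at q
  exact mul_inv_eq_iff_eq_mul.1 q.symm

theorem fin (h : C1 ι t) (h4 : Nat.card F = 4) {y : G} (k : Cn ι (JD n F 2) y)
    (e : y * t * y⁻¹ = t * ι (zz 1)) : ∃ y', D1 ι t 1 y' := by
  have z := nz h e fun x hx => k x (ZZ_le_JD two_pos (by omega) hx)
  obtain ⟨δ, φ, d⟩ := del h.em h4 z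
  have q : ∀ b : F, δ (b • ee 1) = b • ee 1 := fun b => by
    obtain ⟨m, c⟩ := sh_QQ (mis (mi1 (n := n)) b) (by rw [bt_smul_left, bt_smul_right, is1.1, mul_zero, mul_zero])
    obtain ⟨x', m', e1, e2⟩ := d.act _ m
    have j : sh (ee 0) (b • ee 1) ∈ JD n F 2 := mem_JD2.2 ⟨0, 0, σ b, by
      rw [tc_zero, tc_zero, one_mul, one_mul, sh_smul, Hs.sg.2]⟩
    rw [k _ j, mul_inv_cancel_right] at e1
    rw [← h.em.inj2 (P2.of_mem isP_QQ m) (P2.of_mem isP_QQ m') e1, c] at e2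
    exact e2.symm
  obtain rfl : φ = 1 := RingEquiv.ext fun b => by
    have q1 := q 1
    have q2 := q b
    rw [one_smul] at q1
    rw [d.smul b _ mi1, q1] at q2
    simpa [ee] using congrFun q2 1
  exact s6l h.em z d h.t2 h.tc e

theorem s6b (h : C2 ι t) (h4 : Nat.card F = 4) {g : G} {c : K0 F} (hc : c ≠ 0)
    (e : g * t * g⁻¹ = t * ι (zz c)) (k : g ∈ 𝐍((ZZ n F).map ι)) : ∃ c' y, c' ≠ 0 ∧ D1 ι t c' y := by
  obtain rfl := k01 h4 hc
  have z := cz h.em h4 k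
  have N := nz h.toC1 e z
  obtain ⟨δ, φ, d⟩ := del h.em h4 N
  obtain ⟨c, f⟩ := fib2 h.em h4 N d
  by_cases c0 : c = 0
  swap
  · obtain rfl := k01 h4 c0
    exact (s6s h.em h4 d z f).elim
  obtain ⟨a, ea⟩ := f _ is1 mi1
  rw [c0, zz, tc_zero, mul_one] at ea
  have m1 := d.mi _ mi1
  have wL : (δ (ee 1) + a • ee 0 : V) iL = 0 := by
    rw [Pi.add_apply, m1.2, Pi.smul_apply, ee, Pi.single_eq_of_ne (Fin.last_pos.ne'), smul_zero, add_zero]
  have w0 : ∀ b : F, δ (ee 1) + a • ee 0 ≠ b • ee 0 := fun b q => by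
    have := congrArg (bt · (δ (ee (Fin.rev 1)))) q
    simp only [bt_add_left, bt_smul_left, b0' (d.mi _ mir).2, d.iso _ _ mi1 mir, b1r, map_one, mul_zero,
      add_zero] at this
    exact one_ne_zero this
  obtain ⟨p, hp, ep⟩ := PP_tr (v := δ (ee 1) + a • ee 0) ⟨by
    rw [bt_add_right, bt_smul_right, b0 wL, bt_add_left, bt_smul_left, b0' m1.2, d.iso _ _ mi1 mi1, is1.1,
      map_zero]; simp, fun q => w0 0 (by rw [q, zero_smul])⟩ wL w0
  rw [← ep, ← tc_cj is1.1, map_mul, map_mul, map_inv] at ea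
  have pz : ∀ c, ι p * ι (zz c) = ι (zz c) * ι p := fun c => by rw [← map_mul, PP_cen hp, map_mul]
  have e' : (ι p)⁻¹ * g * t * ((ι p)⁻¹ * g)⁻¹ = t * ι (zz 1) := by
    calc _ = (ι p)⁻¹ * (g * t * g⁻¹) * ι p := by group
      _ = (ι p)⁻¹ * (t * ι p) * ι (zz 1) := by rw [e, mul_assoc, mul_assoc t, ← pz]; group
      _ = _ := by rw [h.tc]; group
  have z' : Cn ι (ZZ n F) ((ι p)⁻¹ * g) := fun x hx => by
    obtain ⟨b, rfl⟩ := mem_ZZ.1 hx
    exact (Commute.mul_left (Commute.inv_left (pz b)) (z _ hx) :)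
  have N' := nz h.toC1 e' z'
  have f1 : (ι p)⁻¹ * g * ι (tc (ee 1) 1) * ((ι p)⁻¹ * g)⁻¹ = ι (tc (ee 1) 1) := by
    calc _ = (ι p)⁻¹ * (g * ι (tc (ee 1) 1) * g⁻¹) * ι p := by group
      _ = _ := by rw [ea]; group
  generalize (ι p)⁻¹ * g = g' at e' z' N' f1
  obtain ⟨y, ky, ey⟩ := sam h.toC1 h4 e' z' fun b => by
    obtain ⟨x, hx, cx⟩ := cv_surj (mis (mir (n := n)) (σ b))
    obtain ⟨x', hx', q⟩ := (mem_normalizer_iff.1 N'.nQ _).1 (mem_map_of_mem ι hx)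
    have a1 := ac_QQ hx mi1.2
    rw [cx, bt_smul_right, b1r, mul_one, Hs.sg.2] at a1
    refine ⟨bt (ee 1) (cv x'), ?_⟩
    rw [← a1, ← ac_QQ hx' mi1.2, ← tc_cj is1.1, ← tc_cj is1.1]
    simp only [map_mul, map_inv]
    rw [q]
    conv_rhs => rw [← f1]
    group
  obtain ⟨y', d'⟩ := fin h.toC1 h4 ky ey
  exact ⟨1, y', one_ne_zero, d'⟩

end H47

end UMS
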