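import Cfsg.Agent.Lib.UMS.S6D24
import Cfsg.Agent.Lib.UMS.B3
import Cfsg.Agent.Lib.UMS.WIT
import Cfsg.Agent.Lib.UMS.AU
import Cfsg.Agent.Lib.UMS.W2h87

set_option autoImplicit false
set_option linter.unusedSectionVars false
set_option linter.unnecessarySeqFocus false

namespace UMS.H53

open Subgroup H69 Cfsg Matrix U4S
open LMS (XX GX iL kk MM au tw Sg)
open scoped MatrixGroups commutatorElement

universe u
variable {G : Type*} [Group G] [Finite G] {F : Type u} [Field F] [CharP F 2] [Fintype F] [Hs F] {n : ℕ} [Ok n F]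
  {ι ψ χ : XU n F →* G} {t : G} {E : Subgroup G}

local notation "X" => XU n F
local notation "V" => VV n F
local notation "I" => Fin (n + 3)

theorem is0 : Is (ee 0 : V) := is_ee fun e => by simpa using congrArg Fin.val e

theorem pair (h : C1 ι t) {g : G} {c : K0 F} (e : g * t * g⁻¹ = t * ι (zz c)) {α : X ≃* X}
    (hP : ∀ x, α x ∈ PP n F → x ∈ PP n F) (hz : α (zz c) = zz c) (a : ∀ p ∈ PP n F, g * ι p * g⁻¹ = ι (α p))
    {w : V} (hw : Is w) (o : bt (ee 0) w = 0) :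
    ∃ d, (∀ y ∈ PP n F, ac y w = w → d * ι y = ι y * d) ∧ d * t * d⁻¹ = t * ι (zz c * tc w c) := by
  obtain ⟨x', rfl⟩ := wit1 hw
  obtain ⟨x, rfl⟩ := α.surjective x'
  have zP : (zz c : X) ∈ PP n F := tc_St is0.1 is0.1 c
  have z2 : (zz c : X) * zz c = 1 := tc_sq is0.1 c
  refine ⟨g * ι x * g⁻¹ * (ι (α x))⁻¹, fun y hy k => ?_, ?_⟩
  · obtain ⟨y, rfl⟩ := α.surjective y
    have h1 : x⁻¹ * y * x ∈ PP n F := hP _ (mem_PP.2 (by
      rw [map_mul, map_mul, ac_mul, ac_mul, k, ← ac_mul, map_inv, inv_mul_cancel, ac_one]))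
    have h2 := a _ h1
    have h3 := a _ (hP _ hy)
    simp only [map_mul, map_inv] at h2
    calc _ = g * ι x * g⁻¹ * ((ι (α x))⁻¹ * ι (α y) * ι (α x)) * (ι (α x))⁻¹ := by group
      _ = g * ι y * g⁻¹ * (g * ι x * g⁻¹ * (ι (α x))⁻¹) := by rw [← h2]; group
      _ = _ := by rw [h3]
  · have h1 : α (x * zz c * x⁻¹) = tc (ac (α x) (ee 0)) c := by
      rw [map_mul, map_mul, map_inv, hz]; exact tc_cj is0.1 c _
    have h2 := a _ (hP _ (h1 ▸ tc_St hw.1 o c))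
    have h3 : g⁻¹ * t * g = t * ι (zz c) := by
      have : g * (t * ι (zz c)) * g⁻¹ = t := by
        calc _ = g * t * g⁻¹ * (g * ι (zz c) * g⁻¹) := by group
          _ = t := by rw [e, a _ zP, hz, mul_assoc, ← map_mul, z2, map_one, mul_one]
      conv_lhs => rw [← this]
      group
    have h4 : ∀ u, ι u * t * (ι u)⁻¹ = t := fun u => by rw [← h.tc, mul_inv_cancel_right]
    have h5 : (ι (α x))⁻¹ * t * ι (α x) = t := by simpa using h4 (α x)⁻¹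
    rw [h1] at h2
    simp only [map_mul, map_inv] at h2 ⊢
    calc _ = g * ι x * (g⁻¹ * ((ι (α x))⁻¹ * t * ι (α x)) * g) * (ι x)⁻¹ * g⁻¹ := by group
      _ = g * (ι x * t * (ι x)⁻¹) * g⁻¹ * (g * (ι x * ι (zz c) * (ι x)⁻¹) * g⁻¹) := by rw [h5, h3]; group
      _ = _ := by rw [h4, e, h2, mul_assoc]

theorem partB (h : C1 ι t) {g : G} {c : K0 F} (e : g * t * g⁻¹ = t * ι (zz c)) {α : X ≃* X}
    (hP : ∀ x, α x ∈ PP n F → x ∈ PP n F) (hz : α (zz c) = zz c) (a : ∀ p ∈ PP n F, g * ι p * g⁻¹ = ι (α p)) :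
    ∃ d, Cn ι (St {ee 0, ee 1}) d ∧ d * t * d⁻¹ = t * ι (zz c) := by
  have h3 := Ok.h3 (n := n) (F := F)
  have o : Ot (ee 1 : V) (ee 0) := by
    have := (ot_ee (F := F) (n := n) (i := 0) (j := Fin.rev 1) (by
      refine ⟨?_, ?_, ?_, ?_⟩ <;> simp [Fin.ext_iff] <;> omega)).symm
    rwa [Fin.rev_rev] at this
  obtain ⟨ω, hω⟩ := ex_om (F := F)
  have b01 : bt (ee 0 : V) (ee 1) = 0 := o.symm.2.2.1
  have key : ∀ b : F, ∃ d y, (Cn ι (St {ee 0, ee 1}) d ∧ d * t * d⁻¹ = t * ι y ∧ y ∈ St {ee 0, ee 1}) ∧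
      y = zz c * tc (ee 1 + b • ee 0) c := fun b => by
    have i : Is (ee 1 + b • ee 0 : V) := by simpa using o.is (a := 1) (b := b) (.inl one_ne_zero)
    have p0 : bt (ee 0 : V) (ee 1 + b • ee 0) = 0 := by rw [bt_add_right, bt_smul_right, b01, is0.1, mul_zero, add_zero]
    have p1 : bt (ee 1 : V) (ee 1 + b • ee 0) = 0 := by
      rw [bt_add_right, bt_smul_right, o.1, o.2.2.1, mul_zero, add_zero]
    obtain ⟨d, h1, h2⟩ := pair h e hP hz a i p0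
    refine ⟨d, _, ⟨fun y hy => h1 y (mem_PP.2 (hy _ (.inl rfl))) ?_, h2, mul_mem ?_ ?_⟩, rfl⟩
    · rw [ac_add, ac_smul, hy _ (.inl rfl), hy _ (.inr rfl)]
    · rintro _ (rfl | rfl)
      exacts [tc_St is0.1 is0.1 c _ rfl, tc_St is0.1 o.2.2.1 c _ rfl]
    · rintro _ (rfl | rfl)
      exacts [tc_St i.1 p0 c _ rfl, tc_St i.1 p1 c _ rfl]
  have mul : ∀ {d d' : G} {y y' : X}, (Cn ι (St {ee 0, ee 1}) d ∧ d * t * d⁻¹ = t * ι y ∧ y ∈ St {ee 0, ee 1}) →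
      (Cn ι (St {ee 0, ee 1}) d' ∧ d' * t * d'⁻¹ = t * ι y' ∧ y' ∈ St {ee 0, ee 1}) →
      (Cn ι (St {ee 0, ee 1}) (d * d') ∧ d * d' * t * (d * d')⁻¹ = t * ι (y * y') ∧ y * y' ∈ St {ee 0, ee 1}) := by
    intro d d' y y' k k'
    refine ⟨fun x hx => by rw [mul_assoc, k'.1 x hx, ← mul_assoc, k.1 x hx, mul_assoc], ?_, mul_mem k.2.2 k'.2.2⟩
    calc _ = d * (d' * t * d'⁻¹) * d⁻¹ := by group
      _ = d * t * d⁻¹ * (d * ι y' * d⁻¹) := by rw [k'.2.1]; group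
      _ = _ := by rw [k.2.1, k.1 _ k'.2.2, mul_inv_cancel_right, map_mul, mul_assoc]
  obtain ⟨d0, y0, k0, e0⟩ := key 0
  obtain ⟨d1, y1, k1, e1⟩ := key 1
  obtain ⟨d2, y2, k2, e2⟩ := key ω
  obtain ⟨d3, y3, k3, e3⟩ := key (ω + 1)
  have k := mul (mul (mul k0 k1) k2) k3
  refine ⟨_, k.1, k.2.1.trans ?_⟩
  have f := D24.five o hω c
  have z2 : (zz c : X) * zz c = 1 := tc_sq is0.1 c
  have cz : ∀ {y : X}, y ∈ St {ee 0, ee 1} → y * zz c = zz c * y := fun hy => PP_cen (mem_PP.2 (hy _ (.inl rfl))) c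
  have q : ∀ {y y' s s' : X}, y ∈ St {ee 0, ee 1} → y = zz c * s → y' = zz c * s' → y * y' = s * s' := by
    intro y y' s s' hy r r'
    rw [r', ← mul_assoc, cz hy, r, ← mul_assoc, z2, one_mul]
  rw [zero_smul, add_zero] at e0
  rw [one_smul] at e1
  rw [mul_assoc (y0 * y1), q k0.2.2 e0 e1, q k2.2.2 e2 e3, ← mul_assoc, f]
  rfl

theorem au_PP {α : X →* X} {φ : RingAut F} (h : Au α φ) (hz : α (zz 1) = zz 1) (x : X) (k : α x ∈ PP n F) :
    x ∈ PP n F := by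
  obtain ⟨s, s1, s2, s3, s4⟩ := H87.semi h
  have e := s4 (zz 1) (ee iL)
  have b : bt (ee iL : V) (ee 0) = 1 := by rw [bt_ee, Fin.rev_zero]; exact Pi.single_eq_same _ _
  rw [hz, zz, ac_tc is0.1, ac_tc is0.1, b, s1, s2, add_right_inj, OneMemClass.coe_one, one_mul, one_mul, map_one,
    one_smul] at e
  have e' := s4 x (ee 0)
  rw [← e, ac_smul, mem_PP.1 k, e] at e'
  have := s3 (ac x (ee 0) + ee 0) (by rw [s1, ← e']; ext i; exact CharTwo.add_self_eq_zero _)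
  refine mem_PP.2 (funext fun i => ?_)
  exact CharTwo.add_eq_zero.1 (congrFun this i)

theorem partB' (h : C1 ι t) {g : G} (e : g * t * g⁻¹ = t * ι (zz 1)) {α : X →* X} {φ : RingAut F} (u : Au α φ)
    (hz : α (zz 1) = zz 1) (a : ∀ p ∈ PP n F, g * ι p * g⁻¹ = ι (α p)) :
    ∃ d, Cn ι (St {ee 0, ee 1}) d ∧ d * t * d⁻¹ = t * ι (zz 1) :=
  partB h e (α := MulEquiv.ofBijective α u.bij) (au_PP u hz) hz a

end UMS.H53
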