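import Cfsg.Agent.Lib.UMS.F24
import Cfsg.Agent.Lib.UMS.S6C91
import Cfsg.Agent.Lib.UMS.S6D24
import Cfsg.Agent.Lib.UMS.S670
import Cfsg.Agent.Lib.UMS.Au62
import Cfsg.Agent.Lib.UMS.H12b
import Cfsg.Agent.Lib.UMS.S6B18
import Cfsg.Agent.Lib.UMS.S6C78

/-! The translation of `t` by `z` over the field with four elements. -/

set_option autoImplicit false
set_option linter.unusedSectionVars false
set_option linter.unusedSimpArgs false

namespace UMS.S56

open Subgroup H69 Cfsg Matrix U4S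
open LMS (XX GX iL kk MM au tw Sg)
open scoped MatrixGroups commutatorElement
open H91 (pm_mi pm_of pm_add vv zm zc cjQ)

universe u
variable {G : Type*} [Group G] [Finite G] {F : Type u} [Field F] [CharP F 2] [Fintype F] [Hs F] {n : ℕ} [Ok n F]
  {ι : XU n F →* G} {t : G}

local notation "X" => XU n F
local notation "V" => VV n F
local notation "𝐪" => Nat.card (K0 F)
local notation "I" => Fin (n + 3)
local notation "Mx" => Matrix (Fin (n + 3)) (Fin (n + 3)) F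
local notation "pn" => H91.pm

theorem k01 (h2 : 𝐪 = 2) (c : K0 F) : c = 0 ∨ c = 1 := by
  obtain ⟨y, -, hy⟩ := (Nat.card_eq_two_iff' (0 : K0 F)).1 h2
  by_cases k : c = 0
  · exact Or.inl k
  · exact Or.inr ((hy c k).trans (hy 1 one_ne_zero).symm)

theorem f01 (h2 : 𝐪 = 2) {a : F} (h : σ a = a) : a = 0 ∨ a = 1 :=
  (k01 h2 ⟨a, mem_K0.2 h⟩).imp (congrArg Subtype.val) (congrArg Subtype.val)

theorem f4 (h2 : 𝐪 = 2) {ω : F} (h : ω + σ ω = 1) (a : F) : a = 0 ∨ a = 1 ∨ a = ω ∨ a = ω + 1 := by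
  obtain ⟨x, y, rfl⟩ := dec_om h a
  rcases k01 h2 x with rfl | rfl <;> rcases k01 h2 y with rfl | rfl <;> simp [add_comm]

theorem so {ω : F} (h : ω + σ ω = 1) : σ ω = ω + 1 := by
  rw [← h, ← add_assoc, CharTwo.add_self_eq_zero, zero_add]

theorem oo (h2 : 𝐪 = 2) {ω : F} (h : ω + σ ω = 1) : ω * ω = ω + 1 := by rw [← so h, sg_pow, h2, sq]

theorem injP (e : Em ι) {x y : X} (hx : x ∈ PP n F) (hy : y ∈ PP n F) (h : ι x = ι y) : x = y :=
  mul_inv_eq_one.1 (PP_cc (mul_mem hx (inv_mem hy)) (e (by rw [MonoidHom.mem_ker, map_mul, map_inv, h, mul_inv_cancel])))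

theorem mi_add {u v : V} (hu : Mi u) (hv : Mi v) : Mi (u + v) :=
  ⟨by rw [Pi.add_apply, hu.1, hv.1, add_zero], by rw [Pi.add_apply, hu.2, hv.2, add_zero]⟩

theorem mi_ext {u v : V} (hu : Mi u) (hv : Mi v) (h : ∀ j, j ≠ 0 → u j = v j) : u = v := funext fun j => by
  by_cases k : j = 0
  · rw [k, hu.1, hv.1]
  · exact h j k

theorem dec (u : V) : u = u 0 • ee 0 + u iL • ee iL + pn u := funext fun j => by
  have := B3.n0L (n := n)
  by_cases a : j = 0
  · simp [a, H91.pm, B3.ee_ap, this]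
  · by_cases b : j = iL
    · simp [b, H91.pm, B3.ee_ap, this.symm]
    · simp [a, b, H91.pm, B3.ee_ap]

theorem pm_smul (a : F) (u : V) : pn (a • u) = a • pn u := funext fun j => by
  simp only [H91.pm, Pi.smul_apply]; split_ifs <;> simp

theorem ex_w {u : V} (hu : Mi u) (u0 : u ≠ 0) (a : F) : ∃ w, Mi w ∧ bt w u = a := by
  obtain ⟨y, hy⟩ : ∃ y : V, bt y u ≠ 0 := not_forall.1 fun k => u0 (bt_nd k)
  have e : bt (pn y) u = bt y u := by
    conv_rhs => rw [dec y]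
    rw [bt_add_left, bt_add_left, bt_smul_left, bt_smul_left, B3.b0', B3.bL', hu.1, hu.2, map_zero, mul_zero, mul_zero,
      zero_add, zero_add]
  exact ⟨(a * (bt y u)⁻¹) • pn y, S670.mi_smul (pm_mi y) _, by rw [bt_smul_left, e, inv_mul_cancel_right₀ hy]⟩

/-- an additive map of order three that commutes with the transvections is a scalar -/
theorem scal (h2 : 𝐪 = 2) {ω : F} (hω : ω + σ ω = 1) {c : V → V}
    (c1 : ∀ v w, Mi v → Mi w → c (v + w) = c v + c w) (c2 : ∀ w, Mi w → c (c w) = c w + w)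
    (c3 : ∀ u w, Mi u → bt u u = 0 → Mi w → c (bt w u • u) = bt (c w) u • u) :
    ∃ l, (l = ω ∨ l = ω + 1) ∧ ∀ w, Mi w → c w = l • w := by
  have m0 : Mi (0 : V) := ⟨rfl, rfl⟩
  have z : c 0 = 0 := by
    have := c1 0 0 m0 m0
    rw [add_zero] at this
    exact left_eq_add.1 this
  have A : ∀ u, Mi u → bt u u = 0 → u ≠ 0 → ∃ l, (l = ω ∨ l = ω + 1) ∧ c u = l • u := fun u hu uu u0 => by
    obtain ⟨w, hw, e⟩ := ex_w hu u0 1
    have k := c3 u w hu uu hw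
    rw [e, one_smul] at k
    have k2 := c2 u hu
    rcases f4 h2 hω (bt (c w) u) with r | r | r | r <;> rw [r] at k
    · rw [k, zero_smul, z, zero_add] at k2; exact (u0 k2.symm).elim
    · rw [one_smul] at k; rw [k, k, vv] at k2; exact (u0 k2).elim
    exacts [⟨_, Or.inl rfl, k⟩, ⟨_, Or.inr rfl, k⟩]
  have B : ∀ u l, Mi u → u ≠ 0 → (l = ω ∨ l = ω + 1) → c u = l • u → ∀ a : F, c (a • u) = l • a • u :=
    fun u l hu u0 hl k a => by
      have hl' : l + σ l = 1 := by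
        rcases hl with rfl | rfl
        · exact hω
        · rw [map_add, map_one, add_add_add_comm, hω, CharTwo.add_self_eq_zero, add_zero]
      have k2 := c2 u hu
      rw [k] at k2
      have k3 : c (l • u) = l • l • u := by rw [k2, smul_smul, oo h2 hl', add_smul, one_smul]
      rcases f4 h2 hl' a with rfl | rfl | rfl | rfl
      · rw [zero_smul, z, smul_zero]
      · rw [one_smul, k]
      · exact k3
      · rw [add_smul, one_smul, c1 _ _ (S670.mi_smul hu _) hu, k3, k, smul_add]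
  have C : ∀ u u' l l', Mi u → bt u u = 0 → u ≠ 0 → Mi u' → bt u' u' = 0 → u' ≠ 0 → (l = ω ∨ l = ω + 1) →
      (l' = ω ∨ l' = ω + 1) → c u = l • u → c u' = l' • u' → l = l' := fun u u' l l' hu uu u0 hu' uu' u0' hl hl' k k' => by
    by_cases e : bt u' u = 0
    · by_cases e' : u + u' = 0
      · have : u' = u := by rw [← vv u, add_right_inj] at e'; exact e'
        rw [this, k] at k'
        exact smul_left_injective F u0 k'
      obtain ⟨m, hm, k''⟩ := A _ (mi_add hu hu') (by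
        rw [bt_add_left, bt_add_right, bt_add_right, uu, uu', e, H12.bt_sw e]; simp) e'
      rw [c1 _ _ hu hu', k, k', smul_add] at k''
      by_contra ne
      have : m = l ∨ m = l' := by
        rcases hl with rfl | rfl <;> rcases hl' with rfl | rfl <;> tauto
      rcases this with rfl | rfl
      · exact ne (smul_left_injective F u0' (add_left_cancel k'')).symm
      · exact ne (smul_left_injective F u0 (add_right_cancel k''))
    · have := c3 u u' hu uu hu'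
      rw [B u l hu u0 hl k, k', bt_smul_left, smul_smul] at this
      exact mul_right_cancel₀ e (smul_left_injective F u0 this)
  obtain ⟨i0, iL', ir, -⟩ := B3b.i1 n F
  have m1 : Mi (ee 1 : V) := by simpa using B3b.mi_ee i0 iL' (1 : F)
  obtain ⟨l, hl, k⟩ := A _ m1 (is_ee ir).1 (is_ee ir).2
  refine ⟨l, hl, fun w hw => (B3b.span (P := fun w => Mi w ∧ c w = l • w) (fun u v a b => ⟨mi_add a.1 b.1, ?_⟩)
    (fun w hw ww => ⟨hw, ?_⟩) hw).2⟩
  · rw [c1 _ _ a.1 b.1, a.2, b.2, smul_add]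
  · by_cases e : w = 0
    · rw [e, z, smul_zero]
    · obtain ⟨l', hl', k'⟩ := A w hw ww e
      rw [C _ _ _ _ m1 (is_ee ir).1 (is_ee ir).2 hw ww e hl hl' k k', k']

theorem exDl (e : Em ι) (h2 : 𝐪 = 2) {g : G} (nP : g ∈ 𝐍((PP n F).map ι)) (nQ : g ∈ 𝐍((QQ n F).map ι))
    (cz : ∀ c, g * ι (zz c) * g⁻¹ = ι (zz c)) : ∃ (δ : V → V) (φ : RingAut F), (∀ a, φ (φ a) = a) ∧
      (∀ w, Mi (δ w)) ∧ (∀ v w, Mi v → Mi w → δ (v + w) = δ v + δ w) ∧ (∀ (a : F) w, Mi w → δ (a • w) = φ a • δ w) ∧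
      (∀ v w, Mi v → Mi w → bt (δ v) (δ w) = φ (bt v w)) ∧
      ∀ x ∈ QQ n F, ∀ x' ∈ QQ n F, g * ι x * g⁻¹ = ι x' → cv x' = δ (cv x) := by
  obtain ⟨ω, hω⟩ := ex_om (F := F)
  choose xq xq1 xq2 using fun w : V => cv_surj (pm_mi w)
  choose θ θ1 θ2 using fun (w : V) => S670.exQ nQ (xq1 w)
  have wd : ∀ x ∈ QQ n F, ∀ x' ∈ QQ n F, g * ι x * g⁻¹ = ι x' → cv x' = cv (θ (cv x)) := fun x hx x' hx' k => by
    obtain ⟨c, ec⟩ := S670.Q_eq (xq1 (cv x)) hx (by rw [xq2, pm_of (cv_mi x)])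
    have : x' = θ (cv x) * zz c := injP e (QQ_le hx') (QQ_le (mul_mem (θ1 _) (B3.zzQ c))) (by
      rw [← k, map_mul, ← θ2, ← cz c, conj_mul, ← map_mul, ← ec])
    rw [this, cv_mul (θ1 _) (B3.zzQ c), B3.cv_zz, add_zero]
  obtain ⟨δ, hδ⟩ : ∃ δ : V → V, ∀ w, δ w = cv (θ w) := ⟨_, fun _ => rfl⟩
  simp only [← hδ] at wd
  have mi : ∀ w, Mi (δ w) := fun w => hδ w ▸ cv_mi _
  have ex : ∀ w, Mi w → ∃ x ∈ QQ n F, ∃ x' ∈ QQ n F, g * ι x * g⁻¹ = ι x' ∧ cv x = w ∧ cv x' = δ w := fun w hw =>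
    ⟨_, xq1 w, _, θ1 w, θ2 w, by rw [xq2, pm_of hw], (hδ w).symm⟩
  have ad : ∀ v w, Mi v → Mi w → δ (v + w) = δ v + δ w := fun v w hv hw => by
    obtain ⟨x, hx, x', hx', k, rfl, k2⟩ := ex v hv
    obtain ⟨y, hy, y', hy', l, rfl, l2⟩ := ex w hw
    rw [← cv_mul hx hy, ← wd _ (mul_mem hx hy) _ (mul_mem hx' hy') (by rw [map_mul, map_mul, ← k, ← l, conj_mul]),
      cv_mul hx' hy', k2, l2]
  have nr : ∀ w, Mi w → bt (δ w) (δ w) = bt w w := fun w hw => by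
    obtain ⟨x, hx, x', hx', k, rfl, k2⟩ := ex w hw
    obtain ⟨c, c1, c2⟩ := sq_QQ hx
    obtain ⟨d, d1, d2⟩ := sq_QQ hx'
    rw [← k2, ← c1, ← d1, S670.z_inj e (a := d) (b := c) (by rw [← d2, map_mul, ← k, conj_mul, ← map_mul, c2, cz])]
  have su : ∀ v, Mi v → ∃ w, Mi w ∧ δ w = v := fun v hv => by
    obtain ⟨x', hx', rfl⟩ := cv_surj hv
    obtain ⟨x, hx, k⟩ := S670.exQ (inv_mem nQ) hx'
    exact ⟨_, cv_mi x, (wd x hx x' hx' (by rw [← k]; group)).symm⟩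
  have inj : ∀ v w, Mi v → Mi w → δ v = δ w → v = w := fun v w hv hw k => by
    obtain ⟨x, hx, x', hx', k1, k2, k3⟩ := ex _ (mi_add hv hw)
    rw [ad v w hv hw, k, vv] at k3
    obtain ⟨c, rfl⟩ := mem_ZZ.1 ((cv_ker hx').1 k3)
    rw [← cz c, mul_left_inj, mul_right_inj] at k1
    rw [injP e (QQ_le hx) (QQ_le hx') k1, B3.cv_zz, ← vv w, add_left_inj] at k2
    exact k2.symm
  choose! ε ε1 ε2 using su
  have ε3 : ∀ w, Mi w → ε (δ w) = w := fun w hw => inj _ _ (ε1 _ (mi w)) hw (ε2 _ (mi w))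
  have εa : ∀ v w, Mi v → Mi w → ε (v + w) = ε v + ε w := fun v w hv hw => by
    rw [← ε3 _ (mi_add (ε1 v hv) (ε1 w hw)), ad _ _ (ε1 v hv) (ε1 w hw), ε2 v hv, ε2 w hw]
  have sm := fun (w : V) (hw : Mi w) (a : F) => S670.mi_smul hw a
  obtain ⟨l, hl, k⟩ := scal h2 hω (c := fun v => δ (ω • ε v))
    (fun v w hv hw => by rw [εa v w hv hw, smul_add, ad _ _ (sm _ (ε1 v hv) _) (sm _ (ε1 w hw) _)])
    (fun w hw => by
      rw [ε3 _ (sm _ (ε1 w hw) _), smul_smul, oo h2 hω, add_smul, one_smul, ad _ _ (sm _ (ε1 w hw) _) (ε1 w hw),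
        ε2 w hw])
    (fun u w hu uu hw => by
      have lP := B3b.tc_PP uu hu.2 (1 : K0 F)
      obtain ⟨p, hp, ep⟩ := conj_mem_of_mem_normalizer (inv_mem nP) (mem_map_of_mem ι lP)
      have E : ∀ w, Mi w → δ (pn (ac p w)) = δ w + bt (δ w) u • u := fun w hw => by
        obtain ⟨x, hx, x', hx', k, rfl, k2⟩ := ex w hw
        have a1 := wd _ (conj_mem_of_mem_normalizer (PP_nQ hp) hx) _ (conj_mem_of_mem_normalizer (PP_nQ lP) hx') (by
          simp only [map_mul, map_inv, ← k, ep]; group)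
        have a2 : cv (p * x * p⁻¹) = pn (ac p (cv x)) := funext fun j => by
          unfold H91.pm
          split_ifs with a
          · rcases a with rfl | rfl
            exacts [B3.cv0 _, B3.cvL _]
          · exact cv_cj hp hx fun b => a (Or.inl b)
        rw [← a2, ← a1, ← k2]
        refine mi_ext (cv_mi _) (mi_add (cv_mi _) (sm _ hu _)) fun j hj => ?_
        rw [cv_cj lP hx' hj, ac_tc uu, OneMemClass.coe_one, one_mul]
      have m0 := ε1 w hw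
      have a1 : ε (bt w u • u) = pn (ac p (ε w)) + ε w := by
        rw [← ε3 _ (mi_add (pm_mi _) m0), ad _ _ (pm_mi _) m0, E _ m0, ε2 w hw, add_right_comm, vv, zero_add]
      rw [a1, smul_add, ad _ _ (sm _ (pm_mi _) _) (sm _ m0 _), ← pm_smul, ← ac_smul, E _ (sm _ m0 _), add_right_comm,
        vv, zero_add])
  have k1 : ∀ w, Mi w → δ (ω • w) = l • δ w := fun w hw => by rw [← k _ (mi w), ε3 w hw]
  have d0 : δ 0 = 0 := by
    have := ad 0 0 ⟨rfl, rfl⟩ ⟨rfl, rfl⟩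
    rw [add_zero] at this
    exact left_eq_add.1 this
  obtain ⟨φ, p1, p2, p3, p4⟩ : ∃ φ : RingAut F, (∀ a, φ (φ a) = a) ∧ φ ω = l ∧ (∀ a, φ a + σ (φ a) = a + σ a) ∧
      ∀ a, σ (φ a) = φ (σ a) := by
    rcases hl with rfl | rfl
    exacts [⟨1, fun _ => rfl, rfl, fun _ => rfl, fun _ => rfl⟩,
      ⟨σ, sg_sg, so hω, fun a => by rw [sg_sg, add_comm], fun _ => rfl⟩]
  have sl : ∀ (a : F) w, Mi w → δ (a • w) = φ a • δ w := fun a w hw => by
    rcases f4 h2 hω a with rfl | rfl | rfl | rfl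
    · rw [zero_smul, d0, map_zero, zero_smul]
    · rw [one_smul, map_one, one_smul]
    · rw [k1 w hw, p2]
    · rw [add_smul, one_smul, ad _ _ (sm _ hw _) hw, k1 w hw, map_add, map_one, p2, add_smul, one_smul]
  have tr : ∀ v w, Mi v → Mi w → bt (δ v) (δ w) + σ (bt (δ v) (δ w)) = bt v w + σ (bt v w) := fun v w hv hw => by
    have := nr _ (mi_add hv hw)
    rw [ad v w hv hw] at this
    simp only [bt_add_left, bt_add_right, nr v hv, nr w hw] at this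
    rw [← bt_symm, ← bt_symm]
    linear_combination this
  refine ⟨δ, φ, p1, mi, ad, sl, fun v w hv hw => ?_, wd⟩
  have t1 := tr v w hv hw
  have t2 := tr _ w (sm _ hv ω) hw
  rw [sl ω v hv, bt_smul_left, bt_smul_left, ← p3 (ω * bt v w), map_mul φ, map_mul σ, map_mul σ] at t2
  rw [← p3 (bt v w)] at t1
  have t3 : φ ω + σ (φ ω) = 1 := by rw [p3, hω]
  have t4 : (2 : F) = 0 := CharTwo.two_eq_zero
  linear_combination t2 + σ (φ ω) * t1 - (bt (δ v) (δ w) + φ (bt v w)) * t3 +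
    (φ ω * φ (bt v w) - σ (φ ω) * σ (bt (δ v) (δ w)) + σ (φ ω) * σ (φ (bt v w)) + σ (φ ω) * φ (bt v w) -
      φ (bt v w)) * t4

theorem exM {δ : V → V} {φ : RingAut F} (p1 : ∀ a, φ (φ a) = a) (mi : ∀ w, Mi (δ w))
    (ad : ∀ v w, Mi v → Mi w → δ (v + w) = δ v + δ w) (sl : ∀ (a : F) w, Mi w → δ (a • w) = φ a • δ w)
    (iso : ∀ v w, Mi v → Mi w → bt (δ v) (δ w) = φ (bt v w)) : ∃ α : X ≃* X, (∀ x, α x ∈ PP n F ↔ x ∈ PP n F) ∧
      ∀ x ∈ QQ n F, α x ∈ QQ n F ∧ cv (α x) = δ (cv x) := by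
  let s : V → V := fun u i => φ (u i)
  have s1 : ∀ u, s (s u) = u := fun u => funext fun i => p1 _
  have s2 : ∀ u v, s (u + v) = s u + s v := fun u v => funext fun i => map_add φ _ _
  have s3 : ∀ (a : F) u, s (a • u) = φ a • s u := fun a u => funext fun i => map_mul φ _ _
  have s4 : ∀ i, s (ee i) = ee i := CL.ee_map φ
  have s5 : ∀ u, Mi u → Mi (s u) := fun u hu => ⟨(congrArg φ hu.1).trans (map_zero φ), (congrArg φ hu.2).trans (map_zero φ)⟩
  have s6 : ∀ u v, bt (s u) (s v) = φ (bt u v) := fun u v => by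
    simp only [bt, map_sum, map_mul, s, H62.σ_comm]
  let D : V →ₗ[F] V :=
    { toFun := fun u => u 0 • ee 0 + u iL • ee iL + δ (s (pn u))
      map_add' := fun u v => by
        rw [pm_add, s2, ad _ _ (s5 _ (pm_mi _)) (s5 _ (pm_mi _)), Pi.add_apply, Pi.add_apply]; module
      map_smul' := fun a u => by
        rw [pm_smul, s3, sl _ _ (s5 _ (pm_mi _)), p1, Pi.smul_apply, Pi.smul_apply, RingHom.id_apply, smul_eq_mul,
          smul_eq_mul]; module }
  obtain ⟨M, hM⟩ : ∃ M : Mx, ∀ u, M *ᵥ u = u 0 • ee 0 + u iL • ee iL + δ (s (pn u)) :=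
    ⟨LinearMap.toMatrix' D, fun u => LinearMap.toMatrix'_mulVec D u⟩
  have bb : ∀ (a b c d : F) (v w : V), Mi v → Mi w →
      bt (a • ee 0 + b • ee iL + v) (c • ee 0 + d • ee iL + w) = a * σ d + b * σ c + bt v w := fun a b c d v w hv hw => by
    simp only [bt_add_left, bt_add_right, bt_smul_left, bt_smul_right, B3.b0, B3.bL, B3.b0', B3.bL', hv.1, hv.2, hw.1,
      hw.2, B3.e00, B3.e0L, B3.eL0, B3.eLL, map_zero, map_one, Pi.add_apply, Pi.smul_apply, smul_eq_mul]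
    ring
  have un : H12.ad M * M = 1 := H12.iso_ad fun u v => by
    rw [hM, hM, bb _ _ _ _ _ _ (mi _) (mi _), iso _ _ (s5 _ (pm_mi _)) (s5 _ (pm_mi _)), s6, p1]
    conv_rhs => rw [dec u, dec v, bb _ _ _ _ _ _ (pm_mi _) (pm_mi _)]
  have un' := mul_eq_one_comm.1 un
  let g : H62.GI F n := ⟨⟨M, H12.ad M, un', un⟩, H62.mem_GI.2 un⟩
  let β : X →* X := (H62.giH g).toMonoidHom.comp (H62.frU φ)
  have hβ : ∀ x, (β x).1 = au g.1 φ false x.1 := fun x => rfl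
  have se : ∀ x v, ac (β x) (M *ᵥ s v) = M *ᵥ s (ac x v) := CE.semi hβ
  have d0 : δ 0 = 0 := by
    have := ad 0 0 ⟨rfl, rfl⟩ ⟨rfl, rfl⟩
    rw [add_zero] at this
    exact left_eq_add.1 this
  have z0 : s 0 = 0 := funext fun _ => map_zero φ
  have p0 : pn (ee 0 : V) = 0 := funext fun j => by unfold H91.pm; split_ifs with a <;> simp_all [B3.ee_ap]
  have pL : pn (ee iL : V) = 0 := funext fun j => by unfold H91.pm; split_ifs with a <;> simp_all [B3.ee_ap]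
  have M0 : M *ᵥ ee 0 = ee 0 := by rw [hM, p0, z0, d0, B3.e00, B3.e0L]; simp
  have ML : M *ᵥ ee iL = ee iL := by rw [hM, pL, z0, d0, B3.eL0, B3.eLL]; simp
  have Mm : ∀ w, Mi w → M *ᵥ s w = δ w := fun w hw => by
    rw [hM, (s5 w hw).1, (s5 w hw).2, pm_of (s5 w hw), s1]; simp
  have Mi' : ∀ u v, M *ᵥ s u = M *ᵥ s v → u = v := fun u v k => by
    have := congrArg (fun y => s (H12.ad M *ᵥ y)) k
    simpa only [mulVec_mulVec, un, one_mulVec, s1] using this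
  refine ⟨MulEquiv.ofBijective β (Au.bij ⟨g.1, hβ⟩), fun x => ?_, fun x hx => ⟨QQ_iff.2 fun v hv => ?_, ?_⟩⟩
  · change β x ∈ _ ↔ _
    have := se x (ee 0)
    rw [s4, M0] at this
    rw [mem_PP, mem_PP, this]
    exact ⟨fun k => Mi' _ _ (by rw [k, s4, M0]), fun k => by rw [k, s4, M0]⟩
  · change ∃ a : F, ac (β x) v = _ ∧ _
    obtain ⟨v', rfl⟩ : ∃ v', v = M *ᵥ s v' := ⟨s (H12.ad M *ᵥ v), by rw [s1, mulVec_mulVec, un', one_mulVec]⟩
    have h' : v' iL = 0 := by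
      rw [← B3.b0 (M *ᵥ s v'), ← M0, H12.bt_ad, mulVec_mulVec, un, one_mulVec, ← s4, s6, B3.b0] at hv
      exact (map_eq_zero φ).1 hv
    obtain ⟨a, a1, a2⟩ := QQ_iff.1 hx v' h'
    refine ⟨φ a, by rw [se, a1, s2, s3, s4, mulVec_add, mulVec_smul, M0], fun k => ?_⟩
    rw [a2 (Mi' _ _ (by rw [k, s4, M0])), map_zero]
  · change cv (β x) = _
    have := se x (ee iL)
    rw [s4, ML, B3.qL hx, s2, s2, s3, s4, s4, mulVec_add, mulVec_add, mulVec_smul, M0, ML, Mm _ (cv_mi x)] at this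
    exact B3.cv_eq (mi _) this

theorem ex_u (h2 : 𝐪 = 2) (η : V →+ K0 F) : ∃ u : V, ∀ w, (η w : F) = bt u w + σ (bt u w) := by
  obtain ⟨ω, hω⟩ := ex_om (F := F)
  have t4 : (2 : F) = 0 := CharTwo.two_eq_zero
  have A : ∀ j : I, ∃ γ : F, ∀ a : F, (η (a • ee j) : F) = γ * σ a + σ (γ * σ a) := fun j => by
    refine ⟨ω * η (ee j) + η (ω • ee j), fun a => ?_⟩
    have a1 : σ (η (ee j) : F) = η (ee j) := (η (ee j)).2
    have a2 : σ (η (ω • ee j) : F) = η (ω • ee j) := (η (ω • ee j)).2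
    have o1 := so hω
    have o2 := oo h2 hω
    rcases f4 h2 hω a with rfl | rfl | rfl | rfl <;>
      simp only [zero_smul, one_smul, add_smul, map_zero, map_one, map_add, map_mul, a1, a2, o1, mul_zero, add_zero,
        ZeroMemClass.coe_zero, Subfield.coe_add]
    · linear_combination -(ω * (η (ee j) : F) + η (ω • ee j)) * t4
    · linear_combination -((η (ee j) : F) * (a * a + 2 * a + 1) + η (a • ee j) * (a + 1)) * t4
    · linear_combination -((η (ee j) : F) * (ω * ω + 3 * ω + 1) + η (ω • ee j) * (ω + 2)) * t4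
  choose γ hγ using A
  refine ⟨fun j => γ j.rev, fun w => ?_⟩
  have e : w = ∑ j, w j • (ee j : V) := pi_eq_sum_univ' w
  conv_lhs => rw [e, map_sum, AddSubmonoidClass.coe_finsetSum]
  simp only [hγ, Finset.sum_add_distrib, bt, map_sum]
  rw [← Equiv.sum_comp Fin.revPerm (fun j => γ j * σ (w j)), ← Equiv.sum_comp Fin.revPerm (fun j => σ (γ j * σ (w j)))]
  rfl

theorem partA (e : Em ι) (h2 : 𝐪 = 2) {g : G} (nP : g ∈ 𝐍((PP n F).map ι)) (nQ : g ∈ 𝐍((QQ n F).map ι))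
    (cz : ∀ c, g * ι (zz c) * g⁻¹ = ι (zz c)) : ∃ v ∈ QQ n F, ∃ α : X →* X,
      ∀ p ∈ PP n F, ι v * g * ι p * (ι v * g)⁻¹ = ι (α p) := by
  obtain ⟨δ, φ, p1, mi, ad, sl, iso, wd⟩ := exDl e h2 nP nQ cz
  obtain ⟨α, a1, a2⟩ := exM p1 mi ad sl iso
  have az : ∀ c, α (zz c) = zz c := fun c => by
    obtain ⟨d, hd⟩ := mem_ZZ.1 ((cv_ker (a2 _ (B3.zzQ c)).1).1 (by
      rw [(a2 _ (B3.zzQ c)).2, ← wd _ (B3.zzQ c) _ (B3.zzQ c) (cz c), B3.cv_zz]))
    rcases k01 h2 c with rfl | rfl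
    · rw [H91.z0, map_one]
    · rcases k01 h2 d with rfl | rfl
      · rw [H91.z0, map_eq_one_iff _ α.injective, ← H91.z0] at hd
        exact (one_ne_zero (tc_inj H91.is0 hd)).elim
      · exact hd
  have ev : ∀ x ∈ QQ n F, ∃ c, g * ι x * g⁻¹ = ι (α x * zz c) := fun x hx => by
    obtain ⟨x', hx', k⟩ := S670.exQ nQ hx
    obtain ⟨c, rfl⟩ := S670.Q_eq (a2 x hx).1 hx' (by rw [wd x hx x' hx' k, (a2 x hx).2])
    exact ⟨c, k⟩
  choose! c hc using ev
  have uq : ∀ x ∈ QQ n F, ∀ d, g * ι x * g⁻¹ = ι (α x * zz d) → c x = d := fun x hx d k => by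
    rw [hc x hx, map_mul, map_mul, mul_right_inj] at k
    exact S670.z_inj e k
  have cm : ∀ x ∈ QQ n F, ∀ y ∈ QQ n F, c (x * y) = c x + c y := fun x hx y hy => uq _ (mul_mem hx hy) _ (by
    rw [map_mul, ← conj_mul, hc x hx, hc y hy, ← map_mul, map_mul α, ← zm, mul_assoc, ← mul_assoc (zz (c x)),
      ← zc (a2 y hy).1, mul_assoc, mul_assoc])
  have cc : ∀ x ∈ QQ n F, ∀ y ∈ QQ n F, cv y = cv x → c y = c x := fun x hx y hy k => by
    obtain ⟨d, rfl⟩ := S670.Q_eq hx hy k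
    rw [cm x hx _ (B3.zzQ d), uq _ (B3.zzQ d) 0 (by rw [H91.z0, mul_one, az, cz]), add_zero]
  have sQ : ∀ y ∈ QQ n F, ∃ x ∈ QQ n F, α x = y := fun y hy => by
    have : (QQ n F).map (α : X →* X) = QQ n F := eq_of_le_of_card_ge (map_le_iff_le_comap.2 fun x hx => (a2 x hx).1)
      (card_map_of_injective α.injective).ge
    exact this.ge hy
  choose! ρ r1 r2 using sQ
  choose xq xq1 xq2 using fun w : V => cv_surj (pm_mi w)
  have cr : ∀ x ∈ QQ n F, ∀ y ∈ QQ n F, cv y = cv x → c (ρ y) = c (ρ x) := fun x hx y hy k => by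
    obtain ⟨d, rfl⟩ := S670.Q_eq hx hy k
    have : ρ (x * zz d) = ρ x * zz d := α.injective (by rw [r2 _ hy, map_mul, r2 x hx, az])
    rw [this]
    exact cc _ (r1 x hx) _ (mul_mem (r1 x hx) (B3.zzQ d)) (by rw [cv_mul (r1 x hx) (B3.zzQ d), B3.cv_zz, add_zero])
  let η : V →+ K0 F := AddMonoidHom.mk' (fun w => c (ρ (xq w))) fun v w => by
    have m := mul_mem (xq1 v) (xq1 w)
    have : ρ (xq v * xq w) = ρ (xq v) * ρ (xq w) := α.injective (by
      rw [r2 _ m, map_mul, r2 _ (xq1 v), r2 _ (xq1 w)])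
    rw [← cm _ (r1 _ (xq1 v)) _ (r1 _ (xq1 w)), ← this]
    exact cr _ m _ (xq1 _) (by rw [cv_mul (xq1 v) (xq1 w), xq2, xq2, xq2, pm_add])
  obtain ⟨u, hu⟩ := ex_u h2 η
  have hη : ∀ w, η (pn w) = η w := fun w => cr _ (xq1 _) _ (xq1 _) (by rw [xq2, xq2, pm_of (pm_mi w)])
  obtain ⟨v, hv, ev⟩ := cv_surj (pm_mi u)
  have Q1 : ∀ x ∈ QQ n F, ι v * g * ι x * (ι v * g)⁻¹ = ι (α x) := fun x hx => by
    obtain ⟨d, d1, d2⟩ := cjQ hv (a2 x hx).1
    have m := cv_mi (α x)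
    have e1 : bt (pn u) (cv (α x)) = bt u (cv (α x)) := by
      conv_rhs => rw [dec u]
      rw [bt_add_left, bt_add_left, bt_smul_left, bt_smul_left, B3.b0', B3.bL', m.1, m.2, map_zero, mul_zero, mul_zero,
        zero_add, zero_add]
    rw [ev, e1, ← hu] at d1
    have e2 : d = c x := by
      rw [Subtype.ext d1]
      have := cr _ (a2 x hx).1 _ (xq1 (cv (α x))) (by rw [xq2, pm_of m])
      rwa [show ρ (α x) = x from α.injective (r2 _ (a2 x hx).1)] at this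
    calc _ = ι v * (g * ι x * g⁻¹) * (ι v)⁻¹ := by group
      _ = ι (v * α x * v⁻¹ * (v * zz (c x) * v⁻¹)) := by rw [hc x hx]; simp only [map_mul, map_inv]; group
      _ = _ := by rw [d2, zc hv, mul_inv_cancel_right, e2, mul_assoc, zm, k0_add, H91.z0, mul_one]
  refine ⟨v, hv, α, ?_⟩
  have nP' : ι v * g ∈ 𝐍((PP n F).map ι) := mul_mem (le_normalizer (mem_map_of_mem ι (QQ_le hv))) nP
  generalize ι v * g = g' at Q1 nP'
  have P1 : ∀ p ∈ PP n F, ∃ d, g' * ι p * g'⁻¹ = ι (α p * zz d) := fun p hp => by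
    obtain ⟨p', hp', k⟩ := conj_mem_of_mem_normalizer nP' (mem_map_of_mem ι hp)
    have rP := mul_mem (inv_mem ((a1 p).2 hp)) hp'
    obtain ⟨d, k', hk, ek⟩ := cQ e (a := ι ((α p)⁻¹ * p')) (le_normalizer ⟨_, rfl⟩) fun y hy => by
      have b1 := Q1 _ (conj_mem_of_mem_normalizer (PP_nQ hp) (r1 y hy))
      have b2 := Q1 _ (r1 y hy)
      rw [r2 y hy] at b2
      simp only [map_mul, map_inv, r2 y hy] at b1 ⊢
      rw [k]
      calc _ = (ι (α p))⁻¹ * (g' * (ι p * ι (ρ y) * (ι p)⁻¹) * g'⁻¹) * (g' * ι p * g'⁻¹) := by rw [← b2]; group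
        _ = _ := by rw [b1]; group
    have m := mul_mem rP (inv_mem (QQ_le (B3.zzQ d)))
    have := PP_cc m (e.cen.1 (by rw [map_mul, ek, map_inv, mul_inv_cancel_right]; exact hk))
    exact ⟨d, by rw [← k, ← mul_inv_eq_one.1 this, mul_inv_cancel_left]⟩
  have : PP n F ≤ (cι ι g').eqLocus (ι.comp (α : X →* X)) := by
    rw [← PP_pf]
    refine commutator_le.2 fun p hp r hr => ?_
    obtain ⟨d, k⟩ := P1 p hp
    obtain ⟨d', k'⟩ := P1 r hr
    change cι ι g' ⁅p, r⁆ = ι (α ⁅p, r⁆)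
    rw [map_commutatorElement, cι_apply, cι_apply, k, k', ← map_commutatorElement, map_commutatorElement α]
    congr 1
    have c1 := PP_cen ((a1 p).2 hp)
    have c2 := PP_cen ((a1 r).2 hr)
    have c3 : ∀ d, (zz d : X) * (α p)⁻¹ = (α p)⁻¹ * zz d := fun d => (PP_cen (inv_mem ((a1 p).2 hp)) d).symm
    have c4 := PP_cen (QQ_le (B3.zzQ (n := n) d')) d
    calc _ = α p * (zz d * α r) * zz d' * (zz d)⁻¹ * (α p)⁻¹ * (zz d')⁻¹ * (α r)⁻¹ := by
          rw [commutatorElement_def]; group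
      _ = α p * α r * (zz d * zz d') * (zz d)⁻¹ * (α p)⁻¹ * (zz d')⁻¹ * (α r)⁻¹ := by rw [← c2]; group
      _ = α p * α r * (zz d' * (α p)⁻¹) * (zz d')⁻¹ * (α r)⁻¹ := by rw [← c4]; group
      _ = _ := by rw [c3, commutatorElement_def]; group
  exact fun p hp => this hp

theorem s6b (h : C1 ι t) (h2 : 𝐪 = 2) {g : G} {c : K0 F} (hc : c ≠ 0) (e : g * t * g⁻¹ = t * ι (zz c))
    (k : g ∈ 𝐍((ZZ n F).map ι)) : ∃ c' y, c' ≠ 0 ∧ D1 ι t c' y := by
  obtain rfl := (k01 h2 c).resolve_left hc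
  obtain ⟨nP, nQ⟩ := H24.nv h e k
  have cz : ∀ c, g * ι (zz c) * g⁻¹ = ι (zz c) := fun c => by
    rcases k01 h2 c with rfl | rfl
    · rw [H91.z0, map_one, mul_one, mul_inv_cancel]
    · obtain ⟨x, hx, ex⟩ := conj_mem_of_mem_normalizer k (mem_map_of_mem ι (H91.zZ 1))
      obtain ⟨d, rfl⟩ := mem_ZZ.1 hx
      rcases k01 h2 d with rfl | rfl
      · rw [H91.z0, map_one, eq_comm, conj_eq_one_iff, ← map_one ι, ← H91.z0] at ex
        exact (one_ne_zero (S670.z_inj h.em ex)).elim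
      · exact ex.symm
  obtain ⟨v, hv, α, hα⟩ := partA h.em h2 nP nQ cz
  have zP := QQ_le (B3.zzQ (n := n) (1 : K0 F))
  have c1 : ι v * ι (zz 1) * (ι v)⁻¹ = ι (zz 1) := by
    rw [← map_mul, zc hv, map_mul, mul_inv_cancel_right]
  obtain ⟨d, d1, d2⟩ := H18.partB h α (g := ι v * g) (by
    rw [← hα _ zP]
    calc _ = ι v * (g * t * g⁻¹) * (ι v)⁻¹ := by group
      _ = ι v * t * (g * ι (zz 1) * g⁻¹) * (ι v)⁻¹ := by rw [e, cz]; group
      _ = _ := by rw [← h.tc]; group) hα 1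
  obtain ⟨y, hy⟩ := H78.partC h d1 d2
  exact ⟨1, y, one_ne_zero, hy⟩

end UMS.S56
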