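import Cfsg.Agent.Lib.UMS.S6D24
import Cfsg.Agent.Lib.UMS.CE

set_option autoImplicit false
set_option linter.unusedSectionVars false

namespace UMS

open Subgroup H69 Cfsg Matrix U4S
open LMS (XX GX iL kk MM au tw Sg)
open scoped MatrixGroups commutatorElement

universe u
variable {G : Type*} [Group G] [Finite G] {F : Type u} [Field F] [CharP F 2] [Fintype F] [Hs F] {n : ℕ} [Ok n F]
  {ι ψ χ : XU n F →* G} {t : G} {E : Subgroup G}

local notation "X" => XU n F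
local notation "V" => VV n F
local notation "𝐪" => Nat.card (K0 F)
local notation "I" => Fin (n + 3)
local notation "Mx" => Matrix (Fin (n + 3)) (Fin (n + 3)) F

namespace H58

theorem ot01 : Ot (ee 1 : V) (ee 0) := by
  have h3 : 3 ≤ n := Ok.h3 F
  have : Sh (1 : I) iL := by
    refine ⟨?_, ?_, ?_, ?_⟩ <;> intro k <;> have := congrArg Fin.val k <;> simp at this <;> omega
  have o := ot_ee (F := F) this
  rwa [show (iL : I).rev = 0 from Fin.rev_last _] at o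

theorem one (h : C1 ι t) {g : G} {c : K0 F} {α : X →* X} (hb : Function.Surjective α) (e : g * t * g⁻¹ = t * ι (zz c))
    (hP : ∀ x, α x ∈ PP n F → x ∈ PP n F) (hz : α (zz c) = zz c) (ha : ∀ p ∈ PP n F, g * ι p * g⁻¹ = ι (α p)) (a : F) :
    ∃ d, Cn ι (St {ee 0, ee 1}) d ∧ d * t * d⁻¹ = t * ι (zz c * tc (ee 1 + a • ee 0) c) := by
  have o := ot01 (n := n) (F := F)
  have iw : Is (ee 1 + a • ee 0 : V) := by simpa using o.is (a := 1) (b := a) (Or.inl one_ne_zero)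
  obtain ⟨x', hx⟩ := wit1 iw
  obtain ⟨x, rfl⟩ := hb x'
  have zP : (zz c : X) ∈ PP n F := QQ_le (ZZ_le_QQ (mem_ZZ.2 ⟨c, rfl⟩))
  refine ⟨g * ι x * g⁻¹ * (ι (α x))⁻¹, fun y hy => ?_, ?_⟩
  · obtain ⟨y, rfl⟩ := hb y
    have y0 := mem_St.1 hy (ee 0) (by simp)
    have y1 := mem_St.1 hy (ee 1) (by simp)
    have p1 := ha _ (hP y (mem_PP.2 y0))
    have p2 := ha (x⁻¹ * y * x) (hP _ (mem_PP.2 (by
      rw [map_mul, map_mul, map_inv, ac_mul, ac_mul, hx, ac_add, ac_smul, y0, y1, ← hx, ← ac_mul, inv_mul_cancel, ac_one])))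
    simp only [map_mul, map_inv] at p2
    calc _ = g * ι x * g⁻¹ * ((ι (α x))⁻¹ * ι (α y) * ι (α x)) * (ι (α x))⁻¹ := by group
      _ = _ := by rw [← p2, ← p1]; group
  · have z1 := ha _ zP
    rw [hz] at z1
    have z2 : ι (zz c : X) * ι (zz c) = 1 := by rw [← map_mul, CE.zsq, map_one]
    have e' : g⁻¹ * t * g = t * ι (zz c) := by
      calc _ = g⁻¹ * (t * ι (zz c) * ι (zz c)) * g := by rw [mul_assoc t, z2, mul_one]
        _ = g⁻¹ * (g * t * g⁻¹ * (g * ι (zz c) * g⁻¹)) * g := by rw [e, z1]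
        _ = _ := by group
    have q : α (x * zz c * x⁻¹) = tc (ee 1 + a • ee 0) c := by
      rw [map_mul, map_mul, map_inv, hz, ← hx]; exact tc_cj CE.b00 c _
    have b : bt (ee 0 : V) (ee 1 + a • ee 0) = 0 := by
      rw [bt_add_right, bt_smul_right, CE.b00, o.symm.2.2.1, mul_zero, add_zero]
    have p := ha (x * zz c * x⁻¹) (hP _ (by rw [q]; exact tc_St iw.1 b c))
    rw [q] at p
    have c1 : (ι (α x))⁻¹ * t * ι (α x) = t := by rw [mul_assoc, h.tc, inv_mul_cancel_left]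
    have c2 : ι x * t * (ι x)⁻¹ = t := by rw [← h.tc, mul_inv_cancel_right]
    calc _ = g * ι x * (g⁻¹ * ((ι (α x))⁻¹ * t * ι (α x)) * g) * (ι x)⁻¹ * g⁻¹ := by group
      _ = g * (ι x * t * (ι x)⁻¹) * g⁻¹ * (g * (ι x * ι (zz c) * (ι x)⁻¹) * g⁻¹) := by rw [c1, e']; group
      _ = _ := by rw [c2, e, map_mul, ← p, map_mul, map_mul, map_inv, mul_assoc]

/-- an element centralising the stabiliser of two vectors -/
theorem partB (h : C1 ι t) {g : G} {c : K0 F} {α : X →* X} (hb : Function.Surjective α) (e : g * t * g⁻¹ = t * ι (zz c))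
    (hP : ∀ x, α x ∈ PP n F → x ∈ PP n F) (hz : α (zz c) = zz c) (ha : ∀ p ∈ PP n F, g * ι p * g⁻¹ = ι (α p)) :
    ∃ d, Cn ι (St {ee 0, ee 1}) d ∧ d * t * d⁻¹ = t * ι (zz c) := by
  have o := ot01 (n := n) (F := F)
  obtain ⟨ω, hω⟩ := ex_om (F := F)
  have mul : ∀ {d d' : G} {y y' : X}, Cn ι (St {ee 0, ee 1}) d ∧ d * t * d⁻¹ = t * ι y →
      Cn ι (St {ee 0, ee 1}) d' ∧ d' * t * d'⁻¹ = t * ι y' → y' ∈ (St {ee 0, ee 1} : Subgroup X) →
      Cn ι (St {ee 0, ee 1}) (d * d') ∧ d * d' * t * (d * d')⁻¹ = t * ι (y * y') := by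
    rintro d d' y y' ⟨p, q⟩ ⟨p', q'⟩ m
    refine ⟨fun x hx => by rw [mul_assoc, p' x hx, ← mul_assoc, p x hx, mul_assoc], ?_⟩
    calc _ = d * (d' * t * d'⁻¹) * d⁻¹ := by group
      _ = d * t * d⁻¹ * (d * ι y' * d⁻¹) := by rw [q']; group
      _ = _ := by rw [q, p y' m, mul_inv_cancel_right, map_mul, mul_assoc]
  have b : ∀ (a : F) (u : V), u ∈ ({ee 0, ee 1} : Set V) → bt u (ee 1 + a • ee 0) = 0 ∧ bt u (ee 0) = 0 := by
    rintro a _ (rfl | rfl)
    · exact ⟨by rw [bt_add_right, bt_smul_right, CE.b00, o.symm.2.2.1, mul_zero, add_zero], CE.b00⟩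
    · exact ⟨by rw [bt_add_right, bt_smul_right, o.1, o.2.2.1, mul_zero, add_zero], o.2.2.1⟩
  have iw : ∀ a : F, bt (ee 1 + a • ee 0 : V) (ee 1 + a • ee 0) = 0 := fun a => by
    rw [bt_add_left, bt_smul_left, (b a _ (by simp)).1, (b a _ (by simp)).1, mul_zero, add_zero]
  have m : ∀ a : F, zz c * tc (ee 1 + a • ee 0) c ∈ (St {ee 0, ee 1} : Subgroup X) := fun a =>
    mul_mem (fun u hu => tc_St CE.b00 (b a u hu).2 c u rfl) fun u hu => tc_St (iw a) (b a u hu).1 c u rfl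
  have cm : ∀ a : F, tc (ee 1 + a • ee 0) c * zz c = (zz c : X) * tc (ee 1 + a • ee 0) c := fun a =>
    PP_cen (tc_St (iw a) (b a _ (by simp)).1 c) c
  obtain ⟨d1, h1⟩ := one h hb e hP hz ha 0
  obtain ⟨d2, h2⟩ := one h hb e hP hz ha 1
  obtain ⟨d3, h3⟩ := one h hb e hP hz ha ω
  obtain ⟨d4, h4⟩ := one h hb e hP hz ha (ω + 1)
  have k := mul (mul (mul h1 h2 (m _)) h3 (m _)) h4 (m _)
  refine ⟨_, k.1, k.2.trans ?_⟩
  congr 2
  have f := D24.five o hω c
  have c1 := cm 0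
  have c3 := cm ω
  have c2 := cm 1
  have z := CE.zsq (n := n) c
  simp only [zero_smul, add_zero, one_smul] at c1 c2 ⊢
  change _ = zz c at f
  generalize tc (ee 1 : V) c = A at *
  generalize tc (ee 1 + ee 0 : V) c = B at *
  generalize tc (ee 1 + ω • ee 0 : V) c = C at *
  generalize tc (ee 1 + (ω + 1) • ee 0 : V) c = D at *
  calc _ = zz c * (A * zz c) * B * (zz c * (C * zz c) * D) := by group
    _ = zz c * zz c * A * B * (zz c * zz c * C * D) := by rw [c1, c3]; group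
    _ = _ := by rw [z, one_mul, one_mul, ← mul_assoc, f]

/-- an automorphism fixing the highest root element preserves the stabiliser -/
theorem au_PP {α : X →* X} {φ : RingAut F} (U : Au α φ) (fx : α (zz (1 : K0 F)) = zz (1 : K0 F)) (x : X)
    (hx : α x ∈ PP n F) : x ∈ PP n F := by
  obtain ⟨g, μ, -, hg, -⟩ := U.form
  have z := CE.semi hg (zz (1 : K0 F)) (ee iL)
  have eL : (ee iL : V) iL = 1 := Pi.single_eq_same _ _
  have sa : (g.1 *ᵥ fun i => φ ((ee iL + ee 0 : V) i)) =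
      (g.1 *ᵥ fun i => φ ((ee iL : V) i)) + g.1 *ᵥ fun i => φ ((ee 0 : V) i) := by
    rw [← mulVec_add]; congr 1; funext i; simp
  rw [fx, CE.acz, CE.acz, eL, OneMemClass.coe_one, one_mul, one_mul, one_smul, sa] at z
  have hl := add_left_cancel z
  have q := CE.semi hg x (ee 0)
  rw [← hl, ac_smul, mem_PP.1 hx, hl] at q
  have q' := congrArg (fun u => (g⁻¹).1 *ᵥ u) q
  simp only [mulVec_mulVec, Units.inv_mul, one_mulVec] at q'
  exact mem_PP.2 (funext fun i => φ.injective (congrFun q' i).symm)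

/-- the form for `q = 2` and an automorphism of shape `Au` -/
theorem partB' (h : C1 ι t) {g : G} {α : X →* X} {φ : RingAut F} (U : Au α φ) (e : g * t * g⁻¹ = t * ι (zz 1))
    (hz : α (zz 1) = zz 1) {x : X} (ha : ∀ p ∈ PP n F, g * ι x * ι p * (g * ι x)⁻¹ = ι (α p)) :
    ∃ d, Cn ι (St {ee 0, ee 1}) d ∧ d * t * d⁻¹ = t * ι (zz 1) :=
  partB h U.bij.2 (g := g * ι x) (by rw [← e, mul_assoc g, ← h.tc]; group) (au_PP U hz) hz ha

end H58

end UMS
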