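import Cfsg.Agent.Lib.UMS.S6D24

/-! Transport of an element that acts on the parabolic as an automorphism. -/

set_option autoImplicit false
set_option linter.unusedSectionVars false

namespace UMS
namespace H63

open Subgroup H69 Cfsg Matrix U4S
open LMS (XX GX iL kk MM au tw Sg)
open scoped MatrixGroups commutatorElement

universe u
variable {G : Type*} [Group G] [Finite G] {F : Type u} [Field F] [CharP F 2] [Fintype F] [Hs F] {n : ℕ} [Ok n F]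
  {ι : XU n F →* G} {t : G}

local notation "X" => XU n F
local notation "V" => VV n F

theorem pp_iff {x : X} : x ∈ PP n F ↔ ac x (ee 0) = ee 0 :=
  ⟨fun h => h _ rfl, fun h _ k => by rw [Set.mem_singleton_iff.1 k]; exact h⟩

theorem partB1 (h : C1 ι t) {g : G} {c : K0 F} (e : g * t * g⁻¹ = t * ι (zz c)) (α : X ≃* X)
    (hP : ∀ x, α x ∈ PP n F ↔ x ∈ PP n F) (hz : ∀ a, α (zz a) = zz a)
    (ha : ∀ p ∈ PP n F, g * ι p * g⁻¹ = ι (α p)) {w : V} (hw : Is w) (h0 : bt (ee 0) w = 0) :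
    ∃ d, (∀ s : X, ac s (ee 0) = ee 0 → ac s w = w → d * ι s = ι s * d) ∧
      d * t * d⁻¹ = t * ι (zz c) * ι (tc w c) := by
  obtain ⟨y, hy⟩ := wit1 hw
  obtain ⟨x, rfl⟩ := α.surjective y
  have b0 : bt (ee 0 : V) (ee 0) = 0 := WIT.ot01.1
  have zP : zz c ∈ PP n F := tc_St b0 b0 c
  have z2 : ι (zz c) * ι (zz c) = 1 := by rw [← map_mul, zz, tc_sq b0, map_one]
  have e1 : g⁻¹ * t * g = t * ι (zz c) := by
    have k := ha _ zP
    rw [hz] at k
    have : g * (t * ι (zz c)) * g⁻¹ = t := by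
      calc _ = (g * t * g⁻¹) * (g * ι (zz c) * g⁻¹) := by group
        _ = t := by rw [e, k, mul_assoc, z2, mul_one]
    conv_lhs => rw [← this]
    group
  refine ⟨g * ι x * g⁻¹ * (ι (α x))⁻¹, fun s s0 sw => ?_, ?_⟩
  · obtain ⟨s, rfl⟩ := α.surjective s
    have k1 := ha s ((hP s).1 (pp_iff.2 s0))
    have k2 := ha (x⁻¹ * s * x) ((hP _).1 (pp_iff.2 (by
      rw [map_mul, map_mul, map_inv, ac_mul, ac_mul, hy, sw, ← hy, ← ac_mul, inv_mul_cancel, ac_one])))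
    simp only [map_mul, map_inv] at k2
    calc _ = g * ι x * g⁻¹ * ((ι (α x))⁻¹ * ι (α s) * ι (α x)) * (ι (α x))⁻¹ := by group
      _ = (g * ι s * g⁻¹) * (g * ι x * g⁻¹ * (ι (α x))⁻¹) := by rw [← k2]; group
      _ = _ := by rw [k1]
  · have k0 : α (x * zz c * x⁻¹) = tc w c := by rw [map_mul, map_mul, map_inv, hz, zz, tc_cj b0, hy]
    have k := ha (x * zz c * x⁻¹) ((hP _).1 (by rw [k0]; exact tc_St hw.1 h0 c))
    rw [k0, map_mul, map_mul, map_inv] at k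
    have t1 : (ι (α x))⁻¹ * t * ι (α x) = t := by rw [mul_assoc, h.tc]; group
    have t2 : ι x * t * (ι x)⁻¹ = t := by rw [← h.tc]; group
    calc _ = g * ι x * (g⁻¹ * ((ι (α x))⁻¹ * t * ι (α x)) * g) * (ι x)⁻¹ * g⁻¹ := by group
      _ = (g * (ι x * t * (ι x)⁻¹) * g⁻¹) * (g * (ι x * ι (zz c) * (ι x)⁻¹) * g⁻¹) := by rw [t1, e1]; group
      _ = _ := by rw [t2, e, k]

theorem partB (h : C1 ι t) {g : G} {c : K0 F} (e : g * t * g⁻¹ = t * ι (zz c)) (α : X ≃* X)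
    (hP : ∀ x, α x ∈ PP n F ↔ x ∈ PP n F) (hz : ∀ a, α (zz a) = zz a)
    (ha : ∀ p ∈ PP n F, g * ι p * g⁻¹ = ι (α p)) :
    ∃ d, Cn ι (St {ee 0, ee 1}) d ∧ d * t * d⁻¹ = t * ι (zz c) := by
  have o : Ot (ee 1 : V) (ee 0) := WIT.ot01.symm
  have b0 : ∀ a : F, bt (ee 0) (ee 1 + a • ee 0 : V) = 0 := fun a => by
    rw [bt_add_right, bt_smul_right, o.symm.2.2.1, o.2.1, mul_zero, add_zero]
  have b1 : ∀ a : F, bt (ee 1) (ee 1 + a • ee 0 : V) = 0 := fun a => by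
    rw [bt_add_right, bt_smul_right, o.2.2.1, o.1, mul_zero, add_zero]
  have i : ∀ a : F, Is (ee 1 + a • ee 0 : V) := fun a => by
    simpa using o.is (a := 1) (b := a) (Or.inl one_ne_zero)
  let S : Subgroup X := St {ee 0, ee 1}
  have m : ∀ {v : V} (c : K0 F), bt v v = 0 → bt (ee 0) v = 0 → bt (ee 1) v = 0 → tc v c ∈ S := fun c k k0 k1 u hu => by
    rcases hu with rfl | rfl
    exacts [tc_St k k0 c _ rfl, tc_St k k1 c _ rfl]
  have zS : zz c ∈ S := m c o.2.1 o.2.1 o.2.2.1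
  let A : X → Prop := fun y => y ∈ S ∧ ∃ d, Cn ι S d ∧ d * t * d⁻¹ = t * ι y
  have Am : ∀ x y, A x → A y → A (x * y) := by
    rintro x y ⟨hx, d, d1, d2⟩ ⟨hy, d', d3, d4⟩
    refine ⟨S.mul_mem hx hy, d * d', fun s hs => by rw [mul_assoc, d3 s hs, ← mul_assoc, d1 s hs, mul_assoc], ?_⟩
    calc _ = d * (d' * t * d'⁻¹) * d⁻¹ := by group
      _ = (d * t * d⁻¹) * (d * ι y * d⁻¹) := by rw [d4]; group
      _ = _ := by rw [d2, d1 y hy, map_mul]; group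
  have B : ∀ a : F, A (zz c * tc (ee 1 + a • ee 0) c) := fun a => by
    obtain ⟨d, d1, d2⟩ := partB1 h e α hP hz ha (i a) (b0 a)
    refine ⟨S.mul_mem zS (m c (i a).1 (b0 a) (b1 a)), d, fun s hs => d1 s (hs _ (Or.inl rfl)) ?_, by
      rw [d2, map_mul, mul_assoc]⟩
    rw [ac_add, ac_smul, hs _ (Or.inl rfl), hs _ (Or.inr rfl)]
  obtain ⟨ω, hω⟩ := ex_om (F := F)
  have k := (Am _ _ (Am _ _ (B 0) (B 1)) (Am _ _ (B ω) (B (ω + 1)))).2
  have q : ∀ a a' : F, zz c * tc (ee 1 + a • ee 0 : V) c * (zz c * tc (ee 1 + a' • ee 0) c) =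
      tc (ee 1 + a • ee 0) c * tc (ee 1 + a' • ee 0) c := fun a a' => by
    rw [zz, tc_comm o.2.1 (i a).1 (b0 a), mul_assoc, ← mul_assoc (tc (ee 0) c), tc_sq o.2.1, one_mul]
  rwa [q, q, zero_smul, add_zero, one_smul, ← mul_assoc, D24.five o hω] at k

end H63
end UMS
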