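import Cfsg.Agent.Lib.UMS.A265
import Cfsg.Agent.Lib.UMS.S6A41
import Cfsg.Agent.Lib.UMS.S6B38
import Cfsg.Agent.Lib.UMS.S6C78

set_option autoImplicit false
set_option linter.unusedSectionVars false

namespace UMS.H65

open Subgroup H69 Cfsg Matrix U4S
open LMS (XX GX iL kk MM au tw Sg)
open scoped MatrixGroups commutatorElement

universe u
variable {G : Type*} [Group G] [Finite G] {F : Type u} [Field F] [CharP F 2] [Fintype F] [Hs F] {n : ℕ} [Ok n F]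
  {ι : XU n F →* G} {t : G}

theorem s6b (h : C2 ι t) (h2 : Nat.card (K0 F) = 2) (g : G) (c : K0 F) (hc : c ≠ 0)
    (e : g * t * g⁻¹ = t * ι (zz c)) (k : g ∈ 𝐍((ZZ n F).map ι)) : ∃ c' y, c' ≠ 0 ∧ D1 ι t c' y := by
  obtain rfl : c = 1 := (k01 h2 c).resolve_left hc
  have cz : Cn ι (ZZ n F) g := fun x hx => by
    obtain ⟨a, rfl⟩ := mem_ZZ.1 hx
    obtain ⟨y, hy, e1⟩ := (mem_normalizer_iff.1 k _).1 (⟨_, hx, rfl⟩ : ι (zz a) ∈ (ZZ n F).map ι)
    obtain ⟨b, rfl⟩ := mem_ZZ.1 hy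
    have : b = a := by
      rcases k01 h2 a with rfl | rfl <;> rcases k01 h2 b with rfl | rfl
      · rfl
      · rw [H91.z0, map_one, mul_one, mul_inv_cancel, ← map_one ι, ← H91.z0] at e1
        exact H91.uniq h.em e1
      · rw [H91.z0, map_one, eq_comm, conj_eq_one_iff, ← map_one ι, ← H91.z0] at e1
        exact (H91.uniq h.em e1).symm
      · rfl
    rw [this] at e1
    exact mul_inv_eq_iff_eq_mul.1 e1.symm
  have z : Nz ι g := ⟨(H24.nv h.toC1 e k).1, (H24.nv h.toC1 e k).2, cz⟩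
  obtain ⟨δ, φ, d⟩ := H41.exDl h.em h2 z
  obtain ⟨x, α, h1, h3, h4⟩ := ofDl h.em h2 z d
  obtain ⟨d', k1, k2⟩ := H38.partB h.toC1 (g := g * ι x) (by
    rw [← e, mul_assoc g, ← h.tc]; group) h1 h3 h4
  obtain ⟨y, hy⟩ := H78.partC h.toC1 k1 k2
  exact ⟨1, y, one_ne_zero, hy⟩

end UMS.H65
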