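import Cfsg.Agent.Lib.UMS.F24
import Cfsg.Agent.Lib.UMS.S6C91
import Cfsg.Agent.Lib.UMS.Au62

/-! The case `q = 2` of the element `D1`. -/

set_option autoImplicit false
set_option linter.unusedSimpArgs false
set_option linter.unusedSectionVars false

namespace UMS

open Subgroup H69 Cfsg Matrix U4S
open LMS (XX GX iL kk MM au tw Sg)
open scoped MatrixGroups commutatorElement

universe u
variable {G : Type*} [Group G] [Finite G] {F : Type u} [Field F] [CharP F 2] [Fintype F] [Hs F] {n : ℕ} [Ok n F]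
  {ι ψ χ : XU n F →* G} {t : G} {E : Subgroup G}

local notation "X" => XU n F
local notation "V" => VV n F
local notation "I" => Fin (n + 3)
local notation "𝐪" => Nat.card (K0 F)
local notation "Mx" => Matrix (Fin (n + 3)) (Fin (n + 3)) F

namespace B69

open H91 (pm_mi pm_of pm_add zm zZ is0 cjQ vv)

structure Th (θ θ' : X → X) : Prop where
  p : ∀ x ∈ PP n F, θ x ∈ PP n F
  p' : ∀ x ∈ PP n F, θ' x ∈ PP n F
  mul : ∀ x ∈ PP n F, ∀ y ∈ PP n F, θ (x * y) = θ x * θ y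
  l : ∀ x ∈ PP n F, θ' (θ x) = x
  r : ∀ x ∈ PP n F, θ (θ' x) = x
  q : ∀ x ∈ QQ n F, θ x ∈ QQ n F
  q' : ∀ x ∈ QQ n F, θ' x ∈ QQ n F
  z : ∀ c, θ (zz c) = zz c

variable {θ θ' : XU n F → XU n F}

theorem zP (c : K0 F) : (zz c : X) ∈ PP n F := QQ_le (ZZ_le_QQ (zZ c))

theorem Th.symm (h : Th θ θ') : Th θ' θ where
  p := h.p'
  p' := h.p
  mul x hx y hy := by
    rw [← h.l _ (mul_mem (h.p' x hx) (h.p' y hy)), h.mul _ (h.p' x hx) _ (h.p' y hy), h.r x hx, h.r y hy]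
  l := h.r
  r := h.l
  q := h.q'
  q' := h.q
  z c := by rw [← h.z c, h.l _ (zP c), h.z]

theorem Th.one (h : Th θ θ') : θ 1 = 1 := by rw [← H91.z0, h.z]

theorem Th.inv (h : Th θ θ') {x : X} (hx : x ∈ PP n F) : θ x⁻¹ = (θ x)⁻¹ :=
  eq_inv_of_mul_eq_one_left (by rw [← h.mul _ (inv_mem hx) _ hx, inv_mul_cancel, h.one])

theorem Th.cj (h : Th θ θ') {p x : X} (hp : p ∈ PP n F) (hx : x ∈ PP n F) :
    θ (p * x * p⁻¹) = θ p * θ x * (θ p)⁻¹ := by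
  rw [h.mul _ (mul_mem hp hx) _ (inv_mem hp), h.mul _ hp _ hx, h.inv hp]

theorem cvz {x y : X} (hx : x ∈ QQ n F) (hy : y ∈ QQ n F) (e : cv x = cv y) : ∃ c, x = y * zz c := by
  have h1 : cv (1 : X) = 0 := by rw [← H91.z0, B3.cv_zz]
  have h2 : cv y⁻¹ + cv y = 0 := by rw [← cv_mul (inv_mem hy) hy, inv_mul_cancel, h1]
  obtain ⟨c, hc⟩ := mem_ZZ.1 ((cv_ker (mul_mem (inv_mem hy) hx)).1 (by rw [cv_mul (inv_mem hy) hx, e, h2]))
  exact ⟨c, by rw [← hc, mul_inv_cancel_left]⟩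

theorem cv_z {x : X} (hx : x ∈ QQ n F) (c : K0 F) : cv (x * zz c) = cv x := by
  rw [cv_mul hx (B3.zzQ c), B3.cv_zz, add_zero]

theorem cv_cj' {p x : X} (hp : p ∈ PP n F) (hx : x ∈ QQ n F) : cv (p * x * p⁻¹) = H91.pm (ac p (cv x)) := by
  ext j
  unfold H91.pm
  split_ifs with e
  · rcases e with rfl | rfl
    exacts [(cv_mi _).1, (cv_mi _).2]
  · exact cv_cj hp hx (not_or.1 e).1

theorem cjm {p x : X} (hp : p ∈ PP n F) (hx : x ∈ QQ n F) : p * x * p⁻¹ ∈ QQ n F :=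
  (mem_normalizer_iff.1 (PP_nQ hp) x).1 hx

theorem pm_smul (a : F) (w : V) : H91.pm (a • w) = a • H91.pm w := by
  ext j; simp only [H91.pm, Pi.smul_apply]; split_ifs <;> simp

theorem mi_smul (a : F) {w : V} (h : Mi w) : Mi (a • w) := ⟨by simp [h.1], by simp [h.2]⟩
theorem mi_add {u w : V} (h : Mi u) (k : Mi w) : Mi (u + w) := ⟨by simp [h.1, k.1], by simp [h.2, k.2]⟩

theorem Th.ex (h : Th θ θ') : ∃ T : V → V, (∀ x ∈ QQ n F, cv (θ x) = T (cv x)) := by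
  choose s hs hs' using fun w : V => cv_surj (pm_mi w)
  refine ⟨fun w => cv (θ (s w)), fun x hx => ?_⟩
  obtain ⟨c, e⟩ := cvz hx (hs (cv x)) (by rw [hs', pm_of (cv_mi x)])
  conv_lhs => rw [e, h.mul _ (QQ_le (hs _)) _ (zP c), h.z, cv_z (h.q _ (hs _))]

section
variable {T T' : VV n F → VV n F}

theorem Th.mi (h : Th θ θ') (k : ∀ x ∈ QQ n F, cv (θ x) = T (cv x)) {w : V} (hw : Mi w) : Mi (T w) := by
  obtain ⟨x, hx, rfl⟩ := cv_surj hw
  rw [← k x hx]; exact cv_mi _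

theorem Th.add (h : Th θ θ') (k : ∀ x ∈ QQ n F, cv (θ x) = T (cv x)) {u w : V} (hu : Mi u) (hw : Mi w) :
    T (u + w) = T u + T w := by
  obtain ⟨x, hx, rfl⟩ := cv_surj hu
  obtain ⟨y, hy, rfl⟩ := cv_surj hw
  rw [← cv_mul hx hy, ← k _ (mul_mem hx hy), h.mul _ (QQ_le hx) _ (QQ_le hy), cv_mul (h.q x hx) (h.q y hy), k x hx,
    k y hy]

theorem Th.zero (h : Th θ θ') (k : ∀ x ∈ QQ n F, cv (θ x) = T (cv x)) : T 0 = 0 := by
  rw [← B3.cv_zz (0 : K0 F), ← k _ (B3.zzQ 0), h.z]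

theorem Th.tr (h : Th θ θ') (k : ∀ x ∈ QQ n F, cv (θ x) = T (cv x)) {u w : V} (hu : Mi u) (hw : Mi w) :
    bt (T u) (T w) + σ (bt (T u) (T w)) = bt u w + σ (bt u w) := by
  obtain ⟨x, hx, rfl⟩ := cv_surj hu
  obtain ⟨y, hy, rfl⟩ := cv_surj hw
  obtain ⟨c, e1, e2⟩ := comm_QQ hx hy
  obtain ⟨d, f1, f2⟩ := comm_QQ (h.q x hx) (h.q y hy)
  rw [← h.mul _ (QQ_le hx) _ (QQ_le hy), e2, h.mul _ (QQ_le (mul_mem hy hx)) _ (zP c), h.z,
    h.mul _ (QQ_le hy) _ (QQ_le hx)] at f2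
  rw [← k x hx, ← k y hy, ← f1, ← e1, tc_inj is0 (mul_left_cancel f2)]

theorem Th.eqv (h : Th θ θ') (k : ∀ x ∈ QQ n F, cv (θ x) = T (cv x)) {p : X} (hp : p ∈ PP n F) {w : V} (hw : Mi w) :
    T (H91.pm (ac p w)) = H91.pm (ac (θ p) (T w)) := by
  obtain ⟨x, hx, rfl⟩ := cv_surj hw
  rw [← cv_cj' hp hx, ← k _ (cjm hp hx), h.cj hp (QQ_le hx), cv_cj' (h.p p hp) (h.q x hx), k x hx]

theorem Th.lT (h : Th θ θ') (k : ∀ x ∈ QQ n F, cv (θ x) = T (cv x)) (k' : ∀ x ∈ QQ n F, cv (θ' x) = T' (cv x))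
    {w : V} (hw : Mi w) : T' (T w) = w := by
  obtain ⟨x, hx, rfl⟩ := cv_surj hw
  rw [← k x hx, ← k' _ (h.q x hx), h.l x (QQ_le hx)]

theorem mi1 {j : I} (h0 : j ≠ 0) (hL : j ≠ iL) : Mi (ee j : V) := by
  have := H91.mi_ee (F := F) h0 hL 1
  rwa [one_smul] at this

theorem Th.sc (h : Th θ θ') (k : ∀ x ∈ QQ n F, cv (θ x) = T (cv x)) (ω : F) :
    ∃ l : F, ∀ u, Mi u → T (ω • u) = l • T u := by
  obtain ⟨T', k'⟩ := h.symm.ex
  obtain ⟨a1, a2, a3, a4, a5, -⟩ := B3b.i1 n F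
  have m : ∀ w, Mi w → Mi (ω • T' w) := fun w hw => mi_smul _ (h.symm.mi k' hw)
  have cm : ∀ p ∈ PP n F, ∀ w, Mi w → T (ω • T' (H91.pm (ac p w))) = H91.pm (ac p (T (ω • T' w))) := fun p hp w hw => by
    rw [h.symm.eqv k' hp hw, ← pm_smul, ← ac_smul, h.eqv k (h.p' p hp) (m w hw), h.r p hp]
  have ad : ∀ u w, Mi u → Mi w → T (ω • T' (u + w)) = T (ω • T' u) + T (ω • T' w) := fun u w hu hw => by
    rw [h.symm.add k' hu hw, smul_add, h.add k (m u hu) (m w hw)]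
  have i1 : Is (ee 1 : V) := is_ee a3
  have m1 : Mi (ee 1 : V) := mi1 a1 a2
  have mr : Mi (ee (Fin.rev 1) : V) := mi1 a4 a5
  obtain ⟨l, hl⟩ : ∃ l : F, T (ω • T' (ee 1)) = l • ee 1 := by
    have := cm _ (B3b.tc_PP i1.1 m1.2 1) _ mr
    rw [ac_tc i1.1, ac_tc i1.1, bt_ee, B3.ee_ap, if_pos rfl, OneMemClass.coe_one, one_mul, one_smul,
      pm_of (mi_add mr m1), ad _ _ mr m1, pm_of (mi_add (h.mi k (m _ mr)) (mi_smul _ m1))] at this
    exact ⟨_, add_left_cancel this⟩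
  have all : ∀ w, Mi w → Mi w ∧ T (ω • T' w) = l • w := fun w hw => by
    refine B3b.span (P := fun w => Mi w ∧ T (ω • T' w) = l • w) (fun u v hu hv => ⟨mi_add hu.1 hv.1, by
      rw [ad _ _ hu.1 hv.1, hu.2, hv.2, smul_add]⟩) (fun v hv iv => ⟨hv, ?_⟩) hw
    by_cases e : v = 0
    · rw [e, h.symm.zero k', smul_zero, h.zero k, smul_zero]
    · obtain ⟨j, hj⟩ := Function.ne_iff.1 e
      obtain ⟨p, hp, rfl⟩ := B3b.tr iv hv.2 (j := j) (fun e => hj (e ▸ hv.1)) hj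
      have := cm p hp _ m1
      rwa [hl, ac_smul, pm_smul, pm_of hv] at this
  exact ⟨l, fun u hu => by rw [← (all _ (h.mi k hu)).2, h.lT k k' hu]⟩

theorem Th.semi (two : ∀ c : K0 F, c = 0 ∨ c = 1) (h : Th θ θ') (k : ∀ x ∈ QQ n F, cv (θ x) = T (cv x)) :
    ∃ φ : RingAut F, (φ = 1 ∨ φ = σ) ∧ (∀ (a : F) u, Mi u → T (a • u) = φ a • T u) ∧
      ∀ u w, Mi u → Mi w → bt (T u) (T w) = φ (bt u w) := by
  obtain ⟨ω, hω⟩ := ex_om (F := F)
  obtain ⟨l, hl⟩ := h.sc k ω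
  obtain ⟨T', k'⟩ := h.symm.ex
  obtain ⟨a1, a2, -⟩ := B3b.i1 n F
  have m1 : Mi (ee 1 : V) := mi1 a1 a2
  have t2 : (2 : F) = 0 := CharTwo.two_eq_zero
  have n1 : ω * σ ω = 1 := by
    rcases two (nm ω) with e | e
    · rw [nm_zero.1 e] at hω; simp at hω
    · exact congrArg Subtype.val e
  have ne : T (ee 1) ≠ 0 := fun e => by
    have := h.lT k k' m1
    rw [e, h.symm.zero k'] at this
    exact (is_ee (F := F) (B3b.i1 n F).2.2.1).2 this.symm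
  have l2 : (l + ω) * (l + σ ω) = 0 := by
    have e1 : ω • ω • (ee 1 : V) = ω • ee 1 + ee 1 := by
      rw [smul_smul, show ω * ω = ω + 1 by linear_combination ω * hω - n1 - t2, add_smul, one_smul]
    have := hl _ (mi_smul ω m1)
    rw [e1, h.add k (mi_smul ω m1) m1, hl _ m1, smul_smul] at this
    have e2 : (l * l - (l + 1)) • T (ee 1) = 0 := by rw [sub_smul, ← this, add_smul, one_smul, sub_self]
    have e3 := (smul_eq_zero.1 e2).resolve_right ne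
    linear_combination e3 + l * hω + n1 + (l + 1) * t2
  obtain ⟨φ, h1, h2⟩ : ∃ φ : RingAut F, (φ = 1 ∨ φ = σ) ∧ φ ω = l := by
    rcases mul_eq_zero.1 l2 with e | e
    · exact ⟨1, .inl rfl, by change ω = l; linear_combination e - l * t2⟩
    · exact ⟨σ, .inr rfl, by linear_combination e - l * t2⟩
  have tr : ∀ a : F, φ a + σ (φ a) = a + σ a := fun a => by
    rcases h1 with rfl | rfl
    · rfl
    · rw [sg_sg, add_comm]
  have sm : ∀ (a : F) u, Mi u → T (a • u) = φ a • T u := fun a u hu => by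
    obtain ⟨x, y, rfl⟩ := dec_om hω a
    rcases two x with rfl | rfl <;> rcases two y with rfl | rfl <;>
      simp [h.zero k, hl u hu, h2, add_smul, h.add k hu (mi_smul ω hu)]
  refine ⟨φ, h1, sm, fun u w hu hw => ?_⟩
  have e1 := h.tr k hu hw
  have e2 := h.tr k (mi_smul ω hu) hw
  rw [hl u hu, bt_smul_left, bt_smul_left, ← tr (ω * _), map_mul φ, h2, map_mul, map_mul] at e2
  rw [← tr (bt u w)] at e1
  have e3 := tr ω
  rw [h2, hω] at e3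
  linear_combination e2 + σ l * e1 - (bt (T u) (T w) - φ (bt u w)) * e3 -
    σ l * (σ (bt (T u) (T w)) - σ (φ (bt u w))) * t2

end


theorem dec (v : V) : v = v 0 • ee 0 + H91.pm v + v iL • ee iL := by
  ext j
  simp only [H91.pm, Pi.add_apply, Pi.smul_apply, B3.ee_ap, smul_eq_mul]
  by_cases h0 : j = 0
  · simp [h0, B3.n0L]
  · by_cases hL : j = iL
    · simp [hL, B3.n0L.symm]
    · simp [h0, hL]

theorem bt3 {a b : V} (ha : Mi a) (hb : Mi b) (x y x' y' : F) :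
    bt (x • ee 0 + a + y • ee iL) (x' • ee 0 + b + y' • ee iL) = x * σ y' + y * σ x' + bt a b := by
  simp only [bt_add_left, bt_add_right, bt_smul_left, bt_smul_right, B3.b0, B3.bL, B3.b0', B3.bL', ha.1, ha.2, hb.1,
    hb.2, B3.e00, B3.e0L, B3.eL0, B3.eLL, map_zero, map_one, Pi.add_apply, Pi.smul_apply, smul_eq_mul]
  ring

theorem Th.al0 (two : ∀ c : K0 F, c = 0 ∨ c = 1) (h : Th θ θ') : ∃ α : X →* X, Function.Bijective α ∧
    (∀ x ∈ PP n F, α x ∈ PP n F) ∧ (∀ c, α (zz c) = zz c) ∧ ∀ x ∈ QQ n F, α x ∈ QQ n F ∧ cv (α x) = cv (θ x) := by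
  obtain ⟨T, k⟩ := h.ex
  obtain ⟨φ, h1, sm, bb⟩ := h.semi two k
  have ff : ∀ a, φ (φ a) = a := fun a => by
    rcases h1 with rfl | rfl
    exacts [rfl, sg_sg a]
  have f0 : ∀ c : K0 F, φ c = c := fun c => by
    rcases h1 with rfl | rfl
    exacts [rfl, c.2]
  have pf : ∀ v : V, H91.pm (fun i => φ (v i)) = fun i => φ (H91.pm v i) := fun v => by
    ext j; simp only [H91.pm]; split_ifs <;> simp
  have bf : ∀ u v : V, bt (fun i => φ (u i)) (fun i => φ (v i)) = φ (bt u v) := fun u v => by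
    simp only [bt, map_sum, map_mul, H62.σ_comm]
  let f : V →ₗ[F] V :=
    { toFun := fun v => v 0 • ee 0 + T (H91.pm fun i => φ (v i)) + v iL • ee iL
      map_add' := fun u v => by
        rw [show (fun i => φ ((u + v) i)) = (fun i => φ (u i)) + fun i => φ (v i) from funext fun i => map_add φ _ _,
          pm_add, h.add k (pm_mi _) (pm_mi _), Pi.add_apply, Pi.add_apply, add_smul, add_smul]
        abel
      map_smul' := fun a v => by
        rw [show (fun i => φ ((a • v) i)) = φ a • fun i => φ (v i) from funext fun i => map_mul φ _ _,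
          pm_smul, sm _ _ (pm_mi _), ff, RingHom.id_apply, smul_add, smul_add, smul_smul, smul_smul]
        rfl }
  have fv : ∀ v, f v = v 0 • ee 0 + T (H91.pm fun i => φ (v i)) + v iL • ee iL := fun _ => rfl
  have iso : H12.ad (LinearMap.toMatrix' f) * LinearMap.toMatrix' f = 1 := H12.iso_ad fun u v => by
    rw [LinearMap.toMatrix'_mulVec, LinearMap.toMatrix'_mulVec, fv, fv, bt3 (h.mi k (pm_mi _)) (h.mi k (pm_mi _)),
      bb _ _ (pm_mi _) (pm_mi _), pf, pf, bf, ff]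
    conv_rhs => rw [dec u, dec v, bt3 (pm_mi _) (pm_mi _)]
  let g : H62.GI F n := ⟨⟨LinearMap.toMatrix' f, H12.ad (LinearMap.toMatrix' f), mul_eq_one_comm.1 iso, iso⟩, iso⟩
  let α : X →* X := (H62.giH g).toMonoidHom.comp (H62.frU φ)
  let S : V → V := fun v => φ (v 0) • ee 0 + T (H91.pm v) + φ (v iL) • ee iL
  have Sf : ∀ v, S v = LinearMap.toMatrix' f *ᵥ fun i => φ (v i) := fun v => by
    rw [LinearMap.toMatrix'_mulVec, fv]; simp only [ff, S]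
  have key : ∀ x v, ac (α x) (S v) = S (ac x v) := fun x v => by
    rw [Sf, Sf]
    change (LinearMap.toMatrix' f * x.1.1.map φ * H12.ad (LinearMap.toMatrix' f)) *ᵥ _ = _
    rw [mulVec_mulVec, mul_assoc, iso, mul_one, ← mulVec_mulVec]
    congr 1
    ext i
    simp [ac, mulVec, dotProduct, map_sum]
  have p0 : H91.pm (ee 0 : V) = 0 := by ext j; simp only [H91.pm, B3.ee_ap]; split_ifs <;> simp_all
  have pL : H91.pm (ee iL : V) = 0 := by ext j; simp only [H91.pm, B3.ee_ap]; split_ifs <;> simp_all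
  have S0 : S (ee 0) = ee 0 := by simp only [S, p0, h.zero k, B3.e00, B3.e0L]; simp
  have SL : S (ee iL) = ee iL := by simp only [S, pL, h.zero k, B3.eL0, B3.eLL]; simp
  have Sa : ∀ v (a : F), S (v + a • ee 0) = S v + φ a • ee 0 := fun v a => by
    simp only [S, pm_add, pm_smul, p0, Pi.add_apply, Pi.smul_apply, B3.e00, B3.e0L, smul_eq_mul, mul_one, mul_zero,
      add_zero, smul_zero, map_add, add_smul]
    abel
  have aQ : ∀ x ∈ QQ n F, α x ∈ QQ n F := fun x hx => B3.qiff fun v hv => by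
    obtain ⟨w, rfl⟩ : ∃ w, S w = v := ⟨fun i => φ ((H12.ad (LinearMap.toMatrix' f) *ᵥ v) i), by
      refine (Sf fun i => φ ((H12.ad (LinearMap.toMatrix' f) *ᵥ v) i)).trans ?_
      simp only [ff]; rw [mulVec_mulVec, mul_eq_one_comm.1 iso, one_mulVec]⟩
    have wL : w iL = 0 := by simpa [S, B3.e0L, B3.eLL, (h.mi k (pm_mi w)).2] using hv
    have e := key x w
    rw [ac_QQ hx wL, Sa] at e
    refine ⟨_, e, fun e' => ?_⟩
    rw [e', ← S0, key, B3.q0 hx, S0] at e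
    exact (smul_eq_zero.1 (left_eq_add.1 e)).resolve_right is0.2
  have aL : ∀ x ∈ QQ n F, ac (α x) (ee iL) = ee iL + T (cv x) + φ (x.1.1 0 iL) • ee 0 := fun x hx => by
    rw [← SL, key, B3.qL hx, Sa, SL]
    simp only [S, pm_add, pL, pm_of (cv_mi x), Pi.add_apply, B3.eL0, B3.eLL, (cv_mi x).1, (cv_mi x).2]
    simp [add_comm]
  have cvα : ∀ x ∈ QQ n F, cv (α x) = T (cv x) := fun x hx => B3.cv_eq (h.mi k (cv_mi x)) (aL x hx)
  refine ⟨α, ((H62.au_giH g).comp (H62.au_frU φ)).bij, fun x hx => mem_PP.2 (by rw [← S0, key, mem_PP.1 hx]),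
    fun c => B3.qext (aQ _ (B3.zzQ c)) (B3.zzQ c) (by rw [cvα _ (B3.zzQ c), B3.cv_zz, h.zero k]) ?_,
    fun x hx => ⟨aQ x hx, by rw [cvα x hx, k x hx]⟩⟩
  rw [← B3.ac_ee, aL _ (B3.zzQ c), B3.cv_zz, h.zero k, B3.zz0, f0]
  simp [B3.eL0, B3.e00]

theorem rep (two : ∀ c : K0 F, c = 0 ∨ c = 1) (η : V →+ K0 F) :
    ∃ u, Mi u ∧ ∀ w, Mi w → (η w : F) = bt w u + σ (bt w u) := by
  obtain ⟨ω, hω⟩ := ex_om (F := F)
  have t2 : (2 : F) = 0 := CharTwo.two_eq_zero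
  have : ∀ j : I, ∃ γ : F, (j = 0 ∨ j = iL → γ = 0) ∧
      (¬ (j = 0 ∨ j = iL) → ∀ l : F, (η (l • ee j) : F) = l * γ + σ (l * γ)) := fun j => by
    by_cases e : j = 0 ∨ j = iL
    · exact ⟨0, fun _ => rfl, fun k => (k e).elim⟩
    · refine ⟨η (ee j) * σ ω + η (ω • ee j), fun k => (e k).elim, fun _ l => ?_⟩
      obtain ⟨x, y, rfl⟩ := dec_om hω l
      have a1 : σ (η (ee j) : F) = η (ee j) := (η (ee j)).2
      have a2 : σ (η (ω • ee j) : F) = η (ω • ee j) := (η (ω • ee j)).2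
      rcases two x with rfl | rfl <;> rcases two y with rfl | rfl <;>
        simp only [ZeroMemClass.coe_zero, OneMemClass.coe_one, zero_mul, one_mul, add_zero, zero_add, zero_smul,
          one_smul, map_zero, add_smul, map_add, map_mul, map_one, a1, a2, sg_sg, AddMemClass.coe_add]
      · linear_combination -(η (ω • ee j) : F) * hω - (η (ee j) * ω * σ ω) * t2
      · linear_combination -(η (ee j) : F) * hω - (η (ω • ee j) : F) * t2
      · linear_combination -(η (ee j) + η (ω • ee j) : F) * hω - (η (ω • ee j) + η (ee j) * ω * σ ω : F) * t2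
  choose γ g0 g1 using this
  refine ⟨fun i => σ (γ i.rev), ⟨by simp only [B3.r0]; rw [g0 _ (.inr rfl), map_zero], by
      simp only [B3.rL]; rw [g0 _ (.inl rfl), map_zero]⟩, fun w hw => ?_⟩
  have e : w = ∑ j, w j • (ee j : V) := by
    ext i; simp [ee, Finset.sum_apply, Pi.single_apply]
  conv_lhs => rw [e, map_sum]
  rw [bt, map_sum, ← Finset.sum_add_distrib]
  push_cast
  refine Finset.sum_congr rfl fun j _ => ?_
  rw [sg_sg, Fin.rev_rev]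
  by_cases e : j = 0 ∨ j = iL
  · have : w j = 0 := by
      rcases e with rfl | rfl
      exacts [hw.1, hw.2]
    simp [this]
  · exact g1 j e _

theorem cenP {d : X} (hd : d ∈ PP n F) (c : ∀ y ∈ QQ n F, d * y = y * d) : ∃ a, d = zz a := by
  obtain ⟨a, k, hk, e⟩ := cQ (ι := MonoidHom.id X) (by intro x hx; rw [show x = 1 from hx]; exact one_mem _)
    (a := d) (le_normalizer ⟨d, rfl⟩) c
  have : k = 1 := PP_cc ((mul_mem_cancel_right (zP a)).1 (e ▸ hd)) (mem_center_iff.2 fun y => hk y ⟨y, rfl⟩)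
  exact ⟨a, by rw [e, this, one_mul]; rfl⟩

theorem Th.al (two : ∀ c : K0 F, c = 0 ∨ c = 1) (h : Th θ θ') : ∃ α : X →* X, Function.Bijective α ∧
    ∀ x ∈ PP n F, α x = θ x := by
  obtain ⟨α, bj, aP, az, aQ⟩ := h.al0 two
  obtain ⟨T, k⟩ := h.ex
  choose s hs hs' using fun w : V => cv_surj (pm_mi w)
  choose η hη using fun w => cvz (h.q _ (hs w)) (aQ _ (hs w)).1 (aQ _ (hs w)).2.symm
  have ev : ∀ x ∈ QQ n F, θ x = α x * zz (η (cv x)) := fun x hx => by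
    obtain ⟨c, e⟩ := cvz hx (hs (cv x)) (by rw [hs', pm_of (cv_mi x)])
    conv_lhs => rw [e, h.mul _ (QQ_le (hs _)) _ (zP c), h.z, hη, mul_assoc, zm, add_comm (η _), ← zm, ← mul_assoc, ← az c,
      ← map_mul, ← e]
  obtain ⟨u, hu, r⟩ := rep two (AddMonoidHom.mk' (fun w => η (H91.pm w)) fun w w' => by
    have := ev _ (mul_mem (hs w) (hs w'))
    rw [h.mul _ (QQ_le (hs w)) _ (QQ_le (hs w')), ev _ (hs w), ev _ (hs w'), cv_mul (hs w) (hs w'), hs', hs',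
      map_mul, mul_assoc, ← mul_assoc (zz _), ← PP_cen (aP _ (QQ_le (hs w'))), mul_assoc, zm, ← mul_assoc] at this
    rw [pm_add]
    exact (tc_inj is0 (mul_left_cancel this)).symm)
  obtain ⟨v, hv, rfl⟩ := cv_surj hu
  have eQ : ∀ x ∈ QQ n F, cn (θ v) (α x) = θ x := fun x hx => by
    obtain ⟨c, e1, e2⟩ := cjQ (h.q v hv) (aQ x hx).1
    have := r _ (cv_mi x)
    rw [AddMonoidHom.mk'_apply, pm_of (cv_mi x)] at this
    rw [cn_apply, e2, ev x hx, show c = η (cv x) from Subtype.ext (by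
      rw [e1, (aQ x hx).2, k v hv, k x hx, h.tr k hu (cv_mi x), this, bt_symm (cv x) (cv v), sg_sg, add_comm])]
  have bP : ∀ x ∈ PP n F, cn (θ v) (α x) ∈ PP n F := fun x hx =>
    mul_mem (mul_mem (h.p _ (QQ_le hv)) (aP x hx)) (inv_mem (h.p _ (QQ_le hv)))
  obtain ⟨β, hβ⟩ : ∃ β : X →* X, ∀ x, β x = cn (θ v) (α x) := ⟨(cn (θ v)).comp α, fun _ => rfl⟩
  simp only [← hβ] at eQ bP
  have ex : ∀ p ∈ PP n F, ∃ a, θ p = β p * zz a := fun p hp => by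
    obtain ⟨a, e⟩ := cenP (mul_mem (inv_mem (bP p hp)) (h.p p hp)) fun y hy => by
      have e1 := eQ _ (cjm hp (h.q' y hy))
      rw [h.cj hp (QQ_le (h.q' y hy)), map_mul, map_mul, map_inv, eQ _ (h.q' y hy), h.r y (QQ_le hy)] at e1
      calc _ = (β p)⁻¹ * (θ p * y * (θ p)⁻¹) * θ p := by group
        _ = _ := by rw [← e1]; group
    exact ⟨a, by rw [← e, mul_inv_cancel_left]⟩
  let K : Subgroup X :=
    { carrier := {p | p ∈ PP n F ∧ β p = θ p}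
      one_mem' := ⟨one_mem _, by rw [map_one, h.one]⟩
      mul_mem' := fun {a b} ha hb => ⟨mul_mem ha.1 hb.1, by rw [map_mul, ha.2, hb.2, h.mul a ha.1 b hb.1]⟩
      inv_mem' := fun {a} ha => ⟨inv_mem ha.1, by rw [map_inv, ha.2, h.inv ha.1]⟩ }
  have le : ⁅PP n F, PP n F⁆ ≤ K := commutator_le.2 fun a ha b hb => by
    refine ⟨mul_mem (mul_mem (mul_mem ha hb) (inv_mem ha)) (inv_mem hb), ?_⟩
    obtain ⟨x, e1⟩ := ex a ha
    obtain ⟨y, e2⟩ := ex b hb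
    rw [map_commutatorElement, commutatorElement_def, commutatorElement_def,
      h.mul _ (mul_mem (mul_mem ha hb) (inv_mem ha)) _ (inv_mem hb), h.cj ha hb, h.inv hb, e1, e2]
    have c1 := PP_cen (bP b hb) x
    have c2 := PP_cen (bP a ha) y
    have c3 := PP_cen (zP (n := n) y) x
    symm
    calc _ = β a * (zz x * (β b * zz y)) * ((zz x)⁻¹ * (β a)⁻¹) * (β b * zz y)⁻¹ := by group
      _ = β a * (β b * zz y * zz x) * ((zz x)⁻¹ * (β a)⁻¹) * (β b * zz y)⁻¹ := by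
        rw [PP_cen (mul_mem (bP b hb) (zP y)) x]
      _ = β a * β b * (zz y * (β a)⁻¹) * (zz y)⁻¹ * (β b)⁻¹ := by group
      _ = _ := by rw [← PP_cen (inv_mem (bP a ha)) y]; group
  refine ⟨β, ?_, fun x hx => (le (PP_pf.ge hx)).2⟩
  rw [show β = (cn (θ v)).comp α from MonoidHom.ext hβ]
  exact (cn_au (θ v)).bij.comp bj


theorem injP (e : Em ι) {x y : X} (hx : x ∈ PP n F) (hy : y ∈ PP n F) (h : ι x = ι y) : x = y :=
  mul_inv_eq_one.1 (PP_cc (mul_mem hx (inv_mem hy)) (e (by rw [MonoidHom.mem_ker, map_mul, map_inv, h, mul_inv_cancel])))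

theorem exTh (e : Em ι) {g : G} (hP : g ∈ 𝐍((PP n F).map ι)) (hQ : g ∈ 𝐍((QQ n F).map ι))
    (hz : ∀ c, g * ι (zz c) * g⁻¹ = ι (zz c)) :
    ∃ θ θ' : X → X, Th θ θ' ∧ ∀ x ∈ PP n F, g * ι x * g⁻¹ = ι (θ x) := by
  have ex : ∀ a : G, a ∈ 𝐍((PP n F).map ι) → ∀ x : X, ∃ y, x ∈ PP n F → y ∈ PP n F ∧ a * ι x * a⁻¹ = ι y :=
    fun a ha x => by
      by_cases hx : x ∈ PP n F
      · obtain ⟨y, hy, k⟩ := (mem_normalizer_iff.1 ha _).1 (mem_map_of_mem ι hx)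
        exact ⟨y, fun _ => ⟨hy, k.symm⟩⟩
      · exact ⟨1, fun k => (hx k).elim⟩
  have eq : ∀ a : G, a ∈ 𝐍((QQ n F).map ι) → ∀ x ∈ QQ n F, ∀ y ∈ PP n F, a * ι x * a⁻¹ = ι y → y ∈ QQ n F :=
    fun a ha x hx y hy k => by
      obtain ⟨y', hy', k'⟩ := (mem_normalizer_iff.1 ha _).1 (mem_map_of_mem ι hx)
      rw [injP e hy (QQ_le hy') (k.symm.trans k'.symm)]; exact hy'
  choose θ h using ex g hP
  choose θ' h' using ex g⁻¹ (inv_mem hP)
  refine ⟨θ, θ', ⟨fun x hx => (h x hx).1, fun x hx => (h' x hx).1, fun x hx y hy => ?_, fun x hx => ?_,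
    fun x hx => ?_, fun x hx => eq g hQ x hx _ (h x (QQ_le hx)).1 (h x (QQ_le hx)).2,
    fun x hx => eq _ (inv_mem hQ) x hx _ (h' x (QQ_le hx)).1 (h' x (QQ_le hx)).2, fun c => ?_⟩,
    fun x hx => (h x hx).2⟩
  · refine injP e (h _ (mul_mem hx hy)).1 (mul_mem (h x hx).1 (h y hy).1) ?_
    rw [← (h _ (mul_mem hx hy)).2, map_mul, map_mul, ← (h x hx).2, ← (h y hy).2]; group
  · refine injP e (h' _ (h x hx).1).1 hx ?_
    rw [← (h' _ (h x hx).1).2, ← (h x hx).2]; group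
  · refine injP e (h _ (h' x hx).1).1 hx ?_
    rw [← (h _ (h' x hx).1).2, ← (h' x hx).2]; group
  · exact injP e (h _ (zP c)).1 (zP c) (by rw [← (h _ (zP c)).2, hz])

theorem ot01 : Ot (ee 0 : V) (ee 1) := by
  obtain ⟨a1, -, a3, a4, -⟩ := B3b.i1 n F
  exact H76.ot_ee a1.symm (by rw [B3.r0]; exact B3.n0L) a3 a4.symm

theorem mS {u v : V} {x : X} : x ∈ St {u, v} ↔ ac x u = u ∧ ac x v = v := by
  simp [mem_St]

theorem tcS {u v w : V} (hw : bt w w = 0) (h1 : bt u w = 0) (h2 : bt v w = 0) (c : K0 F) : tc w c ∈ St {u, v} :=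
  mS.2 ⟨by rw [ac_tc hw, h1, mul_zero, zero_smul, add_zero], by rw [ac_tc hw, h2, mul_zero, zero_smul, add_zero]⟩

theorem exY (two : ∀ c : K0 F, c = 0 ∨ c = 1) (h : C2 ι t) {g : G} (e : g * t * g⁻¹ = t * ι (zz 1))
    (k : g ∈ 𝐍((ZZ n F).map ι)) {u v : V} (o : Ot u v) :
    ∃ y, Cn ι (St {u, v}) y ∧ y * t * y⁻¹ = t * ι (tc u 1 * tc v 1) := by
  obtain ⟨hP, hQ⟩ := H24.nv h.toC1 e k
  obtain ⟨θ, θ', th, hθ⟩ := exTh h.em hP hQ fun c => by
    rcases two c with rfl | rfl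
    · rw [H91.z0, map_one, mul_one, mul_inv_cancel]
    · obtain ⟨y, hy, k'⟩ := (mem_normalizer_iff.1 k _).1 (mem_map_of_mem ι (zZ 1))
      obtain ⟨d, rfl⟩ := mem_ZZ.1 hy
      rcases two d with rfl | rfl
      · rw [H91.z0, map_one, eq_comm, conj_eq_one_iff, ← map_one ι, ← H91.z0] at k'
        exact absurd (H91.uniq h.em k') one_ne_zero
      · exact k'.symm
  obtain ⟨α, bj, hα⟩ := th.al two
  have o1 : Ot (ee 0 : V) (ee 1) := ot01
  obtain ⟨b, hb⟩ := wit1 (v := (ee 1 : V)) ⟨o1.2.1, (is_ee (B3b.i1 n F).2.2.1).2⟩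
  obtain ⟨a, ha⟩ := bj.2 b
  have key : ∀ x ∈ St {(ee 0 : V), ee 1}, g * ι a * g⁻¹ * ι (b⁻¹ * x * b) * (g * ι a * g⁻¹)⁻¹ = ι x := fun x hx => by
    have hx' := mS.1 hx
    have xP : x ∈ PP n F := mem_PP.2 hx'.1
    have m : b⁻¹ * x * b ∈ PP n F := mem_PP.2 (by rw [ac_mul, ac_mul, hb, hx'.2, ← hb, B3.ac_inv])
    have e1 : a * θ' (b⁻¹ * x * b) * a⁻¹ = θ' x := bj.1 (by
      rw [map_mul, map_mul, map_inv, ha, hα _ (th.p' _ m), hα _ (th.p' _ xP), th.r _ m, th.r _ xP]; group)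
    conv_lhs => rw [← th.r _ m, ← hθ _ (th.p' _ m)]
    conv_rhs => rw [← th.r _ xP, ← hθ _ (th.p' _ xP), ← e1, map_mul, map_mul, map_inv]
    group
  have e1 : (tc (ee 1) 1 : X) = b * zz 1 * b⁻¹ := by rw [zz, tc_cj is0.1, hb]
  have e2 := key _ (tcS o1.2.1 o1.2.2.1 o1.2.1 1)
  rw [show b⁻¹ * tc (ee 1) 1 * b = zz 1 by rw [e1]; group] at e2
  have e3 : t = g * t * g⁻¹ * ι (zz 1) := by rw [e, mul_assoc, ← map_mul, H24.zz_sq, map_one, mul_one]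
  have e4 : g * ι a * g⁻¹ * t * (g * ι a * g⁻¹)⁻¹ = t * ι (zz 1 * tc (ee 1) 1) := by
    calc _ = g * ι a * g⁻¹ * (g * t * g⁻¹ * ι (zz 1)) * (g * ι a * g⁻¹)⁻¹ := by rw [← e3]
      _ = g * (ι a * t) * g⁻¹ * ι (zz 1) * (g * ι a * g⁻¹)⁻¹ := by group
      _ = g * t * g⁻¹ * (g * ι a * g⁻¹ * ι (zz 1) * (g * ι a * g⁻¹)⁻¹) := by rw [← h.tc]; group
      _ = _ := by rw [e2, e, map_mul, mul_assoc]
  obtain ⟨l, l0, l1⟩ := wit2 o
  refine ⟨ι l * (g * ι a * g⁻¹ * (ι b)⁻¹) * (ι l)⁻¹, fun x hx => ?_, ?_⟩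
  · have hx' := mS.1 hx
    have := key (l⁻¹ * x * l) (mS.2 ⟨by rw [ac_mul, ac_mul, l0, hx'.1, ← l0, B3.ac_inv],
      by rw [ac_mul, ac_mul, l1, hx'.2, ← l1, B3.ac_inv]⟩)
    simp only [map_mul, map_inv] at this
    calc _ = ι l * (g * ι a * g⁻¹ * ((ι b)⁻¹ * ((ι l)⁻¹ * ι x * ι l) * ι b) * (g * ι a * g⁻¹)⁻¹) *
        (g * ι a * g⁻¹ * (ι b)⁻¹ * (ι l)⁻¹) := by group
      _ = _ := by rw [this]; group
  · calc _ = ι l * (g * ι a * g⁻¹ * ((ι b)⁻¹ * ((ι l)⁻¹ * (t * ι l)) * ι b) * (g * ι a * g⁻¹)⁻¹) * (ι l)⁻¹ := by group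
      _ = ι l * t * ι (zz 1 * tc (ee 1) 1) * (ι l)⁻¹ := by
        rw [h.tc, inv_mul_cancel_left, mul_assoc (ι b)⁻¹, h.tc, inv_mul_cancel_left, e4, mul_assoc (ι l) t]
      _ = _ := by
        rw [← h.tc, ← l0, ← l1, ← tc_cj is0.1, ← tc_cj o1.2.1, zz]
        simp only [map_mul, map_inv]; group

theorem otc {u v : V} (o : Ot u v) {a b : F} (h : a ≠ b) : Ot (a • u + v) (b • u + v) := by
  have e : bt v u = 0 := by rw [bt_symm, o.2.2.1, map_zero]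
  refine ⟨?_, ?_, ?_, LinearIndependent.pair_iff.2 fun x y k => ?_⟩
  iterate 3 simp only [bt_add_left, bt_add_right, bt_smul_left, bt_smul_right, o.1, o.2.1, o.2.2.1, e, mul_zero, add_zero]
  obtain ⟨k1, k2⟩ := LinearIndependent.pair_iff.1 o.2.2.2 (x * a + y * b) (x + y) (by rw [← k]; module)
  have : x = 0 := (mul_eq_zero.1 (show x * (a - b) = 0 by linear_combination k1 - b * k2)).resolve_right (sub_ne_zero.2 h)
  exact ⟨this, by rw [← k2, this, zero_add]⟩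

theorem exY1 (two : ∀ c : K0 F, c = 0 ∨ c = 1) (h : C2 ι t) {g : G} (e : g * t * g⁻¹ = t * ι (zz 1))
    (k : g ∈ 𝐍((ZZ n F).map ι)) : ∃ y, Cn ι (St {ee 0, ee 1}) y ∧ y * t * y⁻¹ = t * ι (zz 1) := by
  obtain ⟨ω, hω⟩ := ex_om (F := F)
  have o : Ot (ee 0 : V) (ee 1) := ot01
  have n1 : ω ≠ 1 := fun e => by rw [e, map_one, CharTwo.add_self_eq_zero] at hω; exact zero_ne_one hω
  have o1 := otc o n1
  have o2 := otc o (a := ω + 1) (b := 0) fun e => n1 (by rw [← CharTwo.add_eq_zero]; exact e)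
  rw [one_smul] at o1
  rw [zero_smul, zero_add] at o2
  obtain ⟨y, c1, e1⟩ := exY two h e k o1
  obtain ⟨y', c2, e2⟩ := exY two h e k o2
  have c1' : Cn ι (St {ee 0, ee 1}) y := fun x hx => c1 x (mS.2 ⟨by rw [ac_add, ac_smul, (mS.1 hx).1, (mS.1 hx).2],
    by rw [ac_add, (mS.1 hx).1, (mS.1 hx).2]⟩)
  have c2' : Cn ι (St {ee 0, ee 1}) y' := fun x hx => c2 x (mS.2 ⟨by rw [ac_add, ac_smul, (mS.1 hx).1, (mS.1 hx).2],
    (mS.1 hx).2⟩)
  have e0 : bt (ee 1 : V) (ee 0) = 0 := by rw [bt_symm, o.2.2.1, map_zero]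
  refine ⟨y * y', fun x hx => by rw [mul_assoc, c2' x hx, ← mul_assoc, c1' x hx, mul_assoc], ?_⟩
  have m := c1' _ (mul_mem (tcS o2.1 (by rw [bt_add_right, bt_smul_right, o.1, o.2.2.1]; simp)
    (by rw [bt_add_right, bt_smul_right, e0, o.2.1]; simp) 1) (tcS o.2.1 o.2.2.1 o.2.1 1))
  calc _ = y * (y' * t * y'⁻¹) * y⁻¹ := by group
    _ = y * t * y⁻¹ * (y * ι (tc ((ω + 1) • ee 0 + ee 1) 1 * tc (ee 1) 1) * y⁻¹) := by rw [e2]; group
    _ = _ := by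
      rw [m, mul_inv_cancel_right, e1, mul_assoc, ← map_mul, B3b.four o.1 o.2.1 o.2.2.1 (c := 1) hω, zz]

theorem s6b' (two : ∀ c : K0 F, c = 0 ∨ c = 1) (h : C2 ι t) {g : G} (e : g * t * g⁻¹ = t * ι (zz 1))
    (k : g ∈ 𝐍((ZZ n F).map ι)) : ∃ y, D1 ι t 1 y := by
  obtain ⟨y, c, e⟩ := exY1 two h e k
  have o : Ot (ee 0 : V) (ee 1) := ot01
  obtain ⟨a1, a2, a3, a4, a5, a6, a7, -, a8, a9⟩ := B3b.i1 n F
  have e0 : bt (ee 1 : V) (ee 0) = 0 := by rw [bt_symm, o.2.2.1, map_zero]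
  have cz : ∀ a, y * ι (zz a) = ι (zz a) * y := fun a => c _ (tcS o.1 o.1 e0 a)
  obtain ⟨hP, hQ⟩ := H24.nv h.toC1 e (centralizer_le_normalizer _ (by
    rintro _ ⟨x, hx, rfl⟩
    obtain ⟨a, rfl⟩ := mem_ZZ.1 hx
    exact (cz a).symm))
  obtain ⟨θ, θ', th, hθ⟩ := exTh h.em hP hQ fun a => by rw [cz, mul_inv_cancel_right]
  obtain ⟨T, k⟩ := th.ex
  obtain ⟨φ, -, sm, bb⟩ := th.semi two k
  have fx : ∀ w, Mi w → w (Fin.rev 1) = 0 → T w = w := fun w hw k1 => by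
    obtain ⟨x, hx, rfl⟩ := cv_surj hw
    have m : x ∈ St {(ee 0 : V), ee 1} := mS.2 ⟨B3.q0 hx, by
      rw [ac_QQ hx (mi1 a1 a2).2, ee_bt, k1, map_zero, zero_smul, add_zero]⟩
    rw [← k x hx, ← injP h.em (QQ_le hx) (th.p x (QQ_le hx)) (by rw [← hθ x (QQ_le hx), c x m, mul_inv_cancel_right])]
  have m1 : Mi (ee 1 : V) := mi1 a1 a2
  have mr : Mi (ee (Fin.rev 1) : V) := mi1 a4 a5
  have z1 : (ee 1 : V) (Fin.rev 1) = 0 := by rw [B3.ee_ap, if_neg a3.symm]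
  have f1 : ∀ a, φ a = a := fun a => by
    have := sm a _ m1
    rw [fx _ m1 z1, fx _ (mi_smul a m1) (by rw [Pi.smul_apply, z1, smul_zero])] at this
    simpa [B3.ee_ap] using (congrFun this 1).symm
  obtain ⟨d, hd⟩ : ∃ d : F, T (ee (Fin.rev 1)) = ee (Fin.rev 1) + d • ee 1 := by
    refine ⟨T (ee (Fin.rev 1)) 1, funext fun j => ?_⟩
    by_cases j1 : j = 1
    · simp [j1, B3.ee_ap, a3]
    by_cases j0 : j = 0
    · rw [j0, (th.mi k mr).1, (mi_add mr (mi_smul _ m1)).1]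
    by_cases jL : j = iL
    · rw [jL, (th.mi k mr).2, (mi_add mr (mi_smul _ m1)).2]
    have mj : Mi (ee j.rev : V) := mi1 (fun e => jL (by rw [← B3.r0, ← e, Fin.rev_rev]))
      fun e => j0 (by rw [← B3.rL, ← e, Fin.rev_rev])
    have := bb _ _ mr mj
    rw [fx _ mj (by rw [B3.ee_ap, if_neg fun e => j1 (Fin.rev_injective e).symm]), bt_ee, bt_ee, f1, Fin.rev_rev] at this
    rw [this, Pi.add_apply, Pi.smul_apply, B3.ee_ap 1, if_neg j1, smul_zero, add_zero]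
  have dK : d ∈ K0 F := by
    have := bb _ _ mr mr
    rw [hd, f1, bt_add_left, bt_add_right, bt_add_right, bt_smul_left, bt_smul_left, bt_smul_right, bt_smul_right,
      o.2.1, bt_ee _ 1, bt_ee (ee 1), Fin.rev_rev, B3.ee_ap, B3.ee_ap, if_pos rfl, if_pos rfl] at this
    rw [mem_K0]
    linear_combination this - d * (CharTwo.two_eq_zero : (2 : F) = 0)
  have al : ∀ w, Mi w → ac (tc (ee 1) ⟨d, dK⟩) (T w) = w := fun w hw => by
    have m := mi_add hw (mi_smul (w (Fin.rev 1)) mr)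
    have e1 := th.add k hw (mi_smul (w (Fin.rev 1)) mr)
    rw [fx _ m (by simp [B3.ee_ap, CharTwo.add_self_eq_zero]), sm _ _ mr, f1, hd, smul_add, smul_smul, ← add_assoc,
      add_right_comm, add_left_inj] at e1
    have e2 := congrFun e1 (Fin.rev 1)
    rw [Pi.add_apply, Pi.smul_apply, z1, smul_zero, add_zero] at e2
    rw [ac_tc o.2.1, bt_ee, mul_comm, ← e2]
    exact e1.symm
  have tP := B3b.tc_PP o.2.1 m1.2 ⟨d, dK⟩
  refine ⟨ι (tc (ee 1) ⟨d, dK⟩) * y, fun x hx => ?_, fun x hx => ?_, ?_⟩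
  · obtain ⟨a, rfl⟩ := mem_ZZ.1 hx
    rw [mul_assoc, cz, ← mul_assoc, ← map_mul, PP_cen tP, map_mul, mul_assoc]
  · obtain ⟨a, ha⟩ := cvz (cjm tP (th.q x hx)) hx (by rw [cv_cj' tP (th.q x hx), k x hx, al _ (cv_mi x), pm_of (cv_mi x)])
    refine ⟨a, ?_⟩
    rw [← map_mul, ← ha, map_mul, map_mul, map_inv, ← hθ x (QQ_le hx)]; group
  · calc _ = ι (tc (ee 1) ⟨d, dK⟩) * (y * t * y⁻¹) * (ι (tc (ee 1) ⟨d, dK⟩))⁻¹ := by group
      _ = _ := by rw [e, ← mul_assoc, ← h.tc, mul_assoc t, ← map_mul, PP_cen tP, map_mul, ← mul_assoc,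
        mul_inv_cancel_right]

theorem two_of (h2 : 𝐪 = 2) (c : K0 F) : c = 0 ∨ c = 1 := by
  obtain ⟨y, -, hy⟩ := (Nat.card_eq_two_iff' (0 : K0 F)).1 h2
  by_cases e : c = 0
  · exact .inl e
  · exact .inr ((hy c e).trans (hy 1 one_ne_zero).symm)

theorem s6b (h : C2 ι t) (h2 : 𝐪 = 2) {g : G} {c : K0 F} (hc : c ≠ 0) (e : g * t * g⁻¹ = t * ι (zz c))
    (k : g ∈ 𝐍((ZZ n F).map ι)) : ∃ y, D1 ι t c y := by
  obtain rfl := (two_of h2 c).resolve_left hc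
  exact s6b' (two_of h2) h e k

end B69

end UMS
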