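import Cfsg.Agent.Lib.UMS.F24
import Cfsg.Agent.Lib.UMS.S670
import Cfsg.Agent.Lib.UMS.S6C91
import Cfsg.Agent.Lib.UMS.Au62
import Cfsg.Agent.Lib.UMS.HY
import Cfsg.Agent.Lib.LMS.SA

set_option autoImplicit false
set_option linter.unusedSectionVars false
set_option linter.unusedVariables false

namespace UMS.S97

open Subgroup H69 Cfsg Matrix U4S
open LMS (XX GX iL kk MM au tw Sg)
open scoped MatrixGroups commutatorElement
open UMS.S670 (Tr Bf e0 z_inj form exQ Q_eq mi_smul Tr_nd)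

universe u
variable {G : Type*} [Group G] [Finite G] {F : Type u} [Field F] [CharP F 2] [Fintype F] [Hs F] {n : ℕ} [Ok n F]
  {ι ψ : XU n F →* G} {t : G}

local notation "X" => XU n F
local notation "V" => VV n F
local notation "I" => Fin (n + 3)
local notation "Q" => QQ n F
local notation "P" => PP n F

theorem Tr_val (u v : V) : (Tr u v : F) = bt u v + σ (bt u v) := rfl
theorem zP (c : K0 F) : (zz c : X) ∈ P := QQ_le (B3.zzQ c)
theorem is1 : Is (ee 1 : V) := is_ee (B3b.i1 n F).2.2.1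
theorem mi1 : Mi (ee 1 : V) := by simpa using B3b.mi_ee (B3b.i1 n F).1 (B3b.i1 n F).2.1 (1 : F)
theorem mi_add {u v : V} (h : Mi u) (k : Mi v) : Mi (u + v) :=
  ⟨by rw [Pi.add_apply, h.1, k.1, add_zero], by rw [Pi.add_apply, h.2, k.2, add_zero]⟩

theorem injP (e : Em ι) {x y : X} (hx : x ∈ P) (hy : y ∈ P) (h : ι x = ι y) : x = y :=
  mul_inv_eq_one.1 (PP_cc (mul_mem hx (inv_mem hy)) (e (by rw [MonoidHom.mem_ker, map_mul, map_inv, h, mul_inv_cancel])))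

theorem trE (e : Em ι) {g : G} (c : Cn ι (ZZ n F) g) {x w x' w' : X} (hx : x ∈ Q) (hw : w ∈ Q) (hx' : x' ∈ Q)
    (hw' : w' ∈ Q) (h1 : g * ι x * g⁻¹ = ι x') (h2 : g * ι w * g⁻¹ = ι w') :
    bt (cv x') (cv w') + σ (bt (cv x') (cv w')) = bt (cv x) (cv w) + σ (bt (cv x) (cv w)) := by
  have := form hx hw hx' hw' h1 h2
  rw [c _ (H91.zZ _), mul_inv_cancel_right] at this
  exact (congrArg Subtype.val (z_inj e this)).symm

theorem nmE (e : Em ι) {g : G} (c : Cn ι (ZZ n F) g) {x x' : X} (hx : x ∈ Q) (hx' : x' ∈ Q)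
    (h1 : g * ι x * g⁻¹ = ι x') : bt (cv x') (cv x') = bt (cv x) (cv x) := by
  obtain ⟨a, ha, k⟩ := sq_QQ hx
  obtain ⟨b, hb, k'⟩ := sq_QQ hx'
  have : ι (zz b) = ι (zz a) := by
    rw [← k', map_mul, ← h1, conj_mul, ← map_mul, k, c _ (H91.zZ _), mul_inv_cancel_right]
  rw [← ha, ← hb, z_inj e this]

theorem s4 (h : C1 ι t) {y : G} {c : K0 F} (k : Cn ι (St {ee 0, ee 1}) y) (e : y * t * y⁻¹ = t * ι (zz c)) :
    ∃ y, D1 ι t c y := by
  have two : (2 : F) = 0 := CharTwo.two_eq_zero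
  obtain ⟨i1, i2, i3, i4, i5, -⟩ := B3b.i1 n F
  have cZ : Cn ι (ZZ n F) y := fun x hx => k x (by
    obtain ⟨a, rfl⟩ := mem_ZZ.1 hx
    rintro _ (rfl | rfl)
    · exact mem_PP.1 (zP a)
    · rw [B3.ac_zz, mi1.2, mul_zero, zero_smul, add_zero])
  have nQ := (H24.nv h e (centralizer_le_normalizer _ (by
    rintro _ ⟨x, hx, rfl⟩
    exact (cZ x hx).symm))).2
  have A : ∀ x ∈ Q, ∀ x' ∈ Q, y * ι x * y⁻¹ = ι x' → ∃ l : F, cv x' = cv x + l • ee 1 := fun x hx x' hx' e1 => by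
    refine ⟨(cv x' + cv x) 1, ?_⟩
    have : ∀ j : I, j ≠ 1 → cv x' j = cv x j := fun j j1 => by
      by_cases j0 : j = 0
      · rw [j0, (cv_mi _).1, (cv_mi _).1]
      by_cases jL : j = iL
      · rw [jL, (cv_mi _).2, (cv_mi _).2]
      have a1 : j.rev ≠ 0 := fun k => jL (by rw [← Fin.rev_rev j, k]; rfl)
      have a2 : j.rev ≠ iL := fun k => j0 (by rw [← Fin.rev_rev j, k]; exact Fin.rev_last _)
      have k1 : ∀ a : F, σ a * cv x' j + a * σ (cv x' j) = σ a * cv x j + a * σ (cv x j) := fun a => by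
        obtain ⟨w, hw, ew⟩ := cv_surj (B3b.mi_ee a1 a2 a)
        have := trE h.em cZ hx hw hx' hw e1 (by
          rw [k w, mul_inv_cancel_right]
          rintro _ (rfl | rfl)
          · exact mem_PP.1 (QQ_le hw)
          · rw [ac_QQ hw mi1.2, ew, bt_smul_right, bt_ee, Fin.rev_rev, B3.ee_ap, if_neg j1, mul_zero, zero_smul,
              add_zero])
        rwa [ew, bt_smul_right, bt_smul_right, bt_ee, bt_ee, Fin.rev_rev, map_mul, map_mul, sg_sg] at this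
      obtain ⟨ω, hω⟩ := ex_om (F := F)
      have k2 := k1 1
      have k3 := k1 ω
      rw [map_one] at k2
      linear_combination k3 + ω * k2 - (cv x' j - cv x j) * hω - ω * (σ (cv x' j) - σ (cv x j)) * two
    ext j
    by_cases j1 : j = 1
    · subst j1
      simp only [Pi.add_apply, Pi.smul_apply, B3.ee_ap, if_true, smul_eq_mul, mul_one]
      linear_combination (-cv x 1) * two
    · simp [this j j1, B3.ee_ap, j1]
  obtain ⟨ω, hω⟩ := ex_om (F := F)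
  have B : ∀ x ∈ Q, ∀ w ∈ Q, ∀ x' ∈ Q, ∀ w' ∈ Q, y * ι x * y⁻¹ = ι x' → y * ι w * y⁻¹ = ι w' → ∀ l m : F,
      cv x' = cv x + l • ee 1 → cv w' = cv w + m • ee 1 →
      σ m * cv x (Fin.rev 1) + l * σ (cv w (Fin.rev 1)) + (m * σ (cv x (Fin.rev 1)) + σ l * cv w (Fin.rev 1)) = 0 :=
    fun x hx w hw x' hx' w' hw' e1 e2 l m k1 k2 => by
      have := trE h.em cZ hx hw hx' hw' e1 e2
      rw [k1, k2] at this
      simp only [bt_add_left, bt_add_right, bt_smul_left, bt_smul_right, is1.1, bt_ee (cv x), ee_bt (cv w), map_add,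
        map_mul, sg_sg, mul_zero, add_zero] at this
      linear_combination this
  have C : ∀ x ∈ Q, ∀ x' ∈ Q, y * ι x * y⁻¹ = ι x' → ∀ l : F, cv x' = cv x + l • ee 1 →
      σ l * cv x (Fin.rev 1) + l * σ (cv x (Fin.rev 1)) = 0 := fun x hx x' hx' e1 l k1 => by
    have := nmE h.em cZ hx hx' e1
    rw [k1] at this
    simp only [bt_add_left, bt_add_right, bt_smul_left, bt_smul_right, is1.1, bt_ee (cv x), ee_bt (cv x), mul_zero,
      add_zero] at this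
    linear_combination this
  obtain ⟨x1, h1, v1⟩ := cv_surj (B3b.mi_ee i4 i5 (1 : F))
  obtain ⟨x2, h2, v2⟩ := cv_surj (B3b.mi_ee i4 i5 ω)
  obtain ⟨y1, g1, e1⟩ := exQ nQ h1
  obtain ⟨y2, g2, e2⟩ := exQ nQ h2
  obtain ⟨l1, k1⟩ := A _ h1 _ g1 e1
  obtain ⟨l2, k2⟩ := A _ h2 _ g2 e2
  have u1 : cv x1 (Fin.rev 1) = 1 := by rw [v1]; simp [B3.ee_ap]
  have u2 : cv x2 (Fin.rev 1) = ω := by rw [v2]; simp [B3.ee_ap]
  have c1 := C _ h1 _ g1 e1 _ k1
  have c2 := C _ h2 _ g2 e2 _ k2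
  have c3 := B _ h1 _ h2 _ g1 _ g2 e1 e2 _ _ k1 k2
  rw [u1, map_one] at c1
  rw [u2] at c2
  rw [u1, u2, map_one] at c3
  have s1 : σ l1 = l1 := by linear_combination c1 - l1 * two
  have s2 : l2 = l1 * ω := by
    rw [s1] at c3
    linear_combination c2 - ω * c3 - (l2 - l1 * ω) * hω + l2 * ω * two
  have D : ∀ x ∈ Q, ∀ x' ∈ Q, y * ι x * y⁻¹ = ι x' → cv x' = cv x + (l1 * cv x (Fin.rev 1)) • ee 1 :=
    fun x hx x' hx' e3 => by
      obtain ⟨l, k3⟩ := A x hx x' hx' e3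
      have d1 := B _ hx _ h1 _ hx' _ g1 e3 e1 _ _ k3 k1
      have d2 := B _ hx _ h2 _ hx' _ g2 e3 e2 _ _ k3 k2
      rw [u1, map_one, s1] at d1
      rw [u2, s2, map_mul, s1] at d2
      have : l = l1 * cv x (Fin.rev 1) := by
        linear_combination d2 - ω * d1 - (l + l1 * cv x (Fin.rev 1)) * hω +
          (ω * l + ω * l1 * cv x (Fin.rev 1) - l1 * cv x (Fin.rev 1)) * two
      rw [k3, this]
  have hp : (tc (ee 1) ⟨l1, s1⟩ : X) ∈ P := B3b.tc_PP is1.1 mi1.2 _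
  generalize hr : (tc (ee 1) ⟨l1, s1⟩ : X) = r at hp
  have r2 : r * r = 1 := hr ▸ tc_sq is1.1 _
  refine ⟨ι r * y, fun x hx => ?_, fun x hx => ?_, ?_⟩
  · obtain ⟨a, rfl⟩ := mem_ZZ.1 hx
    rw [mul_assoc, cZ _ hx, ← mul_assoc, ← map_mul, PP_cen hp, map_mul, mul_assoc]
  · obtain ⟨x', hx', e3⟩ := exQ nQ hx
    have m : r * x' * r⁻¹ ∈ Q := (mem_normalizer_iff.1 (PP_nQ hp) x').1 hx'
    obtain ⟨a, ha⟩ := Q_eq hx m (by
      ext j
      by_cases j0 : j = 0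
      · rw [j0, (cv_mi _).1, (cv_mi _).1]
      rw [cv_cj hp hx' j0, ← hr, ac_tc is1.1, D x hx x' hx' e3, bt_add_left, bt_smul_left, is1.1, bt_ee, mul_zero,
        add_zero, add_assoc, B3b.two, add_zero])
    refine ⟨a, ?_⟩
    rw [← map_mul, ← ha, map_mul, map_mul, map_inv, ← e3]; group
  · calc _ = ι r * (y * t * y⁻¹) * (ι r)⁻¹ := by group
      _ = _ := by rw [e, ← mul_assoc, ← h.tc, mul_assoc t, ← map_mul, PP_cen hp, map_mul]; group

theorem s3 (h : C1 ι t) (cs : ∀ x, t * ι (zz 1) * ψ x = ψ x * (t * ι (zz 1))) (e : ∀ p ∈ P, ψ p = ι p) :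
    ∃ y, Cn ι (St {ee 0, ee 1}) y ∧ y * t * y⁻¹ = t * ι (zz 1) := by
  have b1 : bt (ee 0 : V) (ee 1) = 0 := B3b.b0 mi1.2
  have b2 : bt (ee 1 : V) (ee 0) = 0 := B3b.b0' mi1.2
  have iso : ∀ a : F, Is (a • ee 0 + ee 1 : V) := fun a => ⟨by
    simp only [bt_add_left, bt_add_right, bt_smul_left, bt_smul_right, e0.1, is1.1, b1, b2, mul_zero, add_zero], fun k => by
    have := congrFun k 1
    simp [B3.ee_ap, (B3b.i1 n F).1] at this⟩
  have vL : ∀ a : F, (a • ee 0 + ee 1 : V) iL = 0 := fun a => by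
    rw [Pi.add_apply, Pi.smul_apply, B3.e0L, mi1.2, smul_zero, add_zero]
  have tS : ∀ a : F, (tc (a • ee 0 + ee 1) 1 : X) ∈ St {ee 0, ee 1} := fun a => by
    rintro _ (rfl | rfl)
    · exact mem_PP.1 (B3b.tc_PP (iso a).1 (vL a) 1)
    · rw [ac_tc (iso a).1, bt_add_right, bt_smul_right, b2, is1.1, mul_zero, add_zero, mul_zero, zero_smul, add_zero]
  have zS : (zz 1 : X) ∈ St {ee 0, ee 1} := by
    rintro _ (rfl | rfl)
    · exact mem_PP.1 (zP 1)
    · rw [B3.ac_zz, mi1.2, mul_zero, zero_smul, add_zero]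
  have A : ∀ a : F, ∃ y, Cn ι (St {ee 0, ee 1}) y ∧ y * t * y⁻¹ = t * ι (zz 1 * tc (a • ee 0 + ee 1) 1) := fun a => by
    obtain ⟨b, hb⟩ := H76.tr_Is e0 (iso a)
    refine ⟨ψ b * (ι b)⁻¹, fun x hx => ?_, ?_⟩
    · have x0 : ac x (ee 0) = ee 0 := hx _ (Or.inl rfl)
      have x1 : ac x (ee 1) = ee 1 := hx _ (Or.inr rfl)
      have m : b⁻¹ * x * b ∈ P := by
        rw [mem_PP, ac_mul, ac_mul, hb, ac_add, H12.ac_smul, x0, x1, ← hb, B3.ac_inv]
      have e1 := e _ m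
      have e2 := e x (mem_PP.2 x0)
      simp only [map_mul, map_inv] at e1
      calc _ = ψ b * ((ι b)⁻¹ * ι x * ι b) * (ι b)⁻¹ := by group
        _ = _ := by rw [← e1, e2]; group
    · have t1 : t = t * ι (zz 1) * ψ (zz 1) := by
        rw [e _ (zP 1), mul_assoc, ← map_mul, S670.zz_sq, map_one, mul_one]
      have t2 : ψ (b * zz 1 * b⁻¹) = ι (tc (a • ee 0 + ee 1) 1) := by
        rw [zz, tc_cj e0.1, hb, e _ (B3b.tc_PP (iso a).1 (vL a) 1)]
      calc _ = ψ b * ((ι b)⁻¹ * (t * ι b)) * (ψ b)⁻¹ := by group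
        _ = ψ b * (t * ι (zz 1) * ψ (zz 1)) * (ψ b)⁻¹ := by rw [h.tc, inv_mul_cancel_left, ← t1]
        _ = _ := by rw [← mul_assoc, ← cs, map_mul ι, ← t2, map_mul, map_mul, map_inv]; group
  have M : ∀ {y y' : G} {u u' : X}, u' ∈ St {ee 0, ee 1} → Cn ι (St {ee 0, ee 1}) y ∧ y * t * y⁻¹ = t * ι u →
      Cn ι (St {ee 0, ee 1}) y' ∧ y' * t * y'⁻¹ = t * ι u' →
      Cn ι (St {ee 0, ee 1}) (y * y') ∧ y * y' * t * (y * y')⁻¹ = t * ι (u * u') := fun {y y' u u'} hu k k' =>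
    ⟨fun x hx => by rw [mul_assoc, k'.1 x hx, ← mul_assoc, k.1 x hx, mul_assoc], by
      calc _ = y * (y' * t * y'⁻¹) * y⁻¹ := by group
        _ = y * t * y⁻¹ * (y * ι u' * y⁻¹) := by rw [k'.2]; group
        _ = _ := by rw [k.2, k.1 _ hu, mul_inv_cancel_right, map_mul, mul_assoc]⟩
  obtain ⟨ω, hω⟩ := ex_om (F := F)
  obtain ⟨y1, k1⟩ := A ω
  obtain ⟨y2, k2⟩ := A 1
  obtain ⟨y3, k3⟩ := A (ω + 1)
  obtain ⟨y4, k4⟩ := A 0
  have k := M (mul_mem (mul_mem zS (tS _)) (mul_mem zS (tS _))) (M (mul_mem zS (tS _)) k1 k2)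
    (M (mul_mem zS (tS _)) k3 k4)
  have z : ∀ a b : F, zz 1 * tc (a • ee 0 + ee 1) 1 * (zz 1 * tc (b • ee 0 + ee 1) 1) =
      (tc (a • ee 0 + ee 1) 1 * tc (b • ee 0 + ee 1) 1 : X) := fun a b => by
    rw [← PP_cen (B3b.tc_PP (iso a).1 (vL a) 1), mul_assoc, ← mul_assoc (zz 1), S670.zz_sq, one_mul]
  rw [z, z, one_smul, zero_smul, zero_add, B3b.four e0.1 is1.1 b1 (c := 1) hω] at k
  exact ⟨_, k⟩

theorem s2 (e : Em ι) (q2 : ∀ c : K0 F, c = 0 ∨ c = 1) (hP : ∀ p ∈ P, ∃ p' ∈ P, ψ p = ι p')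
    (hQ : ∀ x ∈ Q, ∃ c, ψ x = ι (x * zz c)) (hZ : ∀ c, ψ (zz c) = ι (zz c)) :
    ∃ v : X, ∀ p ∈ P, ψ (v * p * v⁻¹) = ι p := by
  have two : (2 : F) = 0 := CharTwo.two_eq_zero
  choose s hs hs' using fun w : V => cv_surj (H91.pm_mi w)
  choose η0 hη0 using fun w => hQ _ (hs w)
  have ev : ∀ x ∈ Q, ∀ w, cv x = H91.pm w → ψ x = ι (x * zz (η0 w)) := fun x hx w k => by
    obtain ⟨a, rfl⟩ := Q_eq (hs w) hx (k.trans (hs' w).symm)
    rw [map_mul, hη0, hZ, ← map_mul, mul_assoc, mul_assoc, PP_cen (zP _)]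
  let η : V →+ K0 F := AddMonoidHom.mk' η0 fun w w' => by
    have := ev _ (mul_mem (hs w) (hs w')) (w + w') (by rw [cv_mul (hs w) (hs w'), hs', hs', H91.pm_add])
    rw [map_mul, hη0, hη0, ← map_mul, mul_assoc, ← mul_assoc (zz _), ← PP_cen (QQ_le (hs w')), mul_assoc,
      S670.zz_mul, ← mul_assoc, map_mul, map_mul ι (_ * _)] at this
    exact (z_inj e (mul_left_cancel this)).symm
  have hη : ∀ x ∈ Q, ψ x = ι (x * zz (η (cv x))) := fun x hx => ev x hx _ (H91.pm_of (cv_mi x)).symm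
  obtain ⟨ω, hω⟩ := ex_om (F := F)
  have lin : ∀ j : I, ∃ γ : F, ∀ l : F, (η (l • ee j) : F) = l * γ + σ (l * γ) := fun j => by
    refine ⟨η (ω • ee j) + η (ee j) + η (ee j) * ω, fun l => ?_⟩
    obtain ⟨a, b, rfl⟩ := dec_om hω l
    have p1 : σ (η (ω • ee j) : F) = η (ω • ee j) := (η (ω • ee j)).2
    have p2 : σ (η (ee j) : F) = η (ee j) := (η (ee j)).2
    have w2 : σ ω = ω + 1 := by linear_combination hω - ω * two
    rcases q2 a with rfl | rfl <;> rcases q2 b with rfl | rfl <;>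
      simp only [ZeroMemClass.coe_zero, OneMemClass.coe_one, zero_mul, one_mul, add_zero, zero_add, zero_smul,
        one_smul, add_smul, map_zero, map_add, map_mul, p1, p2, w2, map_one, AddMemClass.coe_add] <;>
      generalize (η (ω • ee j) : F) = A <;> generalize (η (ee j) : F) = B
    · linear_combination (-ω ^ 2 * B - 2 * ω * B - ω * A - B) * two
    · linear_combination (-ω * B - A - B) * two
    · linear_combination (-ω ^ 2 * B - 3 * ω * B - ω * A - A - 2 * B) * two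
  have : ∀ j : I, ∃ γ : F, (j = 0 ∨ j = iL → γ = 0) ∧
      (¬ (j = 0 ∨ j = iL) → ∀ l : F, (η (l • ee j) : F) = l * γ + σ (l * γ)) := fun j => by
    by_cases k : j = 0 ∨ j = iL
    · exact ⟨0, fun _ => rfl, fun k' => (k' k).elim⟩
    · obtain ⟨γ, g⟩ := lin j
      exact ⟨γ, fun k' => (k k').elim, fun _ => g⟩
  choose γ g0 g1 using this
  obtain ⟨v, hv, ev⟩ := cv_surj (show Mi (fun i => σ (γ i.rev) : V) from
    ⟨by simp only [H91.rev0]; rw [g0 _ (.inr rfl), map_zero], by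
      simp only [← H91.rev0, Fin.rev_rev]; rw [g0 _ (.inl rfl), map_zero]⟩)
  have key : ∀ w : V, Mi w → (η w : F) = bt w (cv v) + σ (bt w (cv v)) := fun w hw => by
    have e : w = ∑ j, w j • (ee j : V) := by
      ext i; simp [ee, Finset.sum_apply, Pi.single_apply]
    conv_lhs => rw [e, map_sum]
    rw [ev, bt, map_sum, ← Finset.sum_add_distrib]
    push_cast
    refine Finset.sum_congr rfl fun j _ => ?_
    rw [sg_sg, Fin.rev_rev]
    by_cases e : j = 0 ∨ j = iL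
    · have : w j = 0 := by
        rcases e with rfl | rfl
        exacts [hw.1, hw.2]
      simp [this]
    · exact g1 j e _
  have q1 : ∀ x ∈ Q, ψ (cn v x) = ι x := fun x hx => by
    obtain ⟨b, e1, e2⟩ := H91.cjQ hv hx
    have : b = η (cv x) := Subtype.ext (by rw [e1, key _ (cv_mi x), bt_symm (cv x) (cv v), sg_sg, add_comm])
    rw [cn_apply, e2, map_mul, hη x hx, hZ, ← map_mul, this, mul_assoc, S670.zz_sq, mul_one]
  have p1 : ∀ p ∈ P, ∃ a, ψ (cn v p) = ι (zz a * p) := fun p hp => by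
    obtain ⟨p', hp', e1⟩ := hP (cn v p) (mul_mem (mul_mem (QQ_le hv) hp) (inv_mem (QQ_le hv)))
    obtain ⟨a, k, hk, e2⟩ := cQ e (le_normalizer (⟨p' * p⁻¹, rfl⟩ : ι (p' * p⁻¹) ∈ ι.range)) fun x hx => by
      have k1 := q1 _ ((mem_normalizer_iff.1 (inv_mem (PP_nQ hp)) x).1 hx)
      have k2 := q1 x hx
      rw [inv_inv] at k1
      have k3 : ψ (cn v x) = ψ (cn v p) * ψ (cn v (p⁻¹ * x * p)) * (ψ (cn v p))⁻¹ := by
        simp only [map_mul, map_inv]; group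
      rw [k1, k2, e1] at k3
      simp only [map_mul, map_inv] at k3 ⊢
      conv_rhs => rw [k3]
      group
    have e3 : p' * p⁻¹ * (zz a)⁻¹ = 1 := PP_cc (mul_mem (mul_mem hp' (inv_mem hp)) (inv_mem (zP a)))
      (e.cen.1 (by rwa [map_mul, map_inv, e2, mul_inv_cancel_right]))
    exact ⟨a, by rw [e1, ← mul_inv_eq_one.1 e3, inv_mul_cancel_right]⟩
  have le : ⁅P, P⁆ ≤ (ψ.comp (cn v)).eqLocus ι := commutator_le.2 fun p hp q hq => by
    obtain ⟨a, ea⟩ := p1 p hp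
    obtain ⟨b, eb⟩ := p1 q hq
    change ψ (cn v ⁅p, q⁆) = ι ⁅p, q⁆
    rw [map_commutatorElement, map_commutatorElement, ea, eb, ← map_commutatorElement,
      LMS.SA.comm_cen (PP_cen hp a).symm (PP_cen hq a).symm (PP_cen hp b).symm (PP_cen hq b).symm
        (PP_cen (zP a) b)]
  rw [PP_pf] at le
  exact ⟨v, fun p hp => le hp⟩

theorem exθ (e : Em ι) {g : G} (nQ : g ∈ 𝐍((Q).map ι)) (cZ : Cn ι (ZZ n F) g) : ∃ θ : V →+ V, (∀ w, Mi (θ w)) ∧
    ∀ x ∈ Q, ∀ x' ∈ Q, g * ι x * g⁻¹ = ι x' → cv x' = θ (cv x) := by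
  choose s hs hs' using fun w : V => cv_surj (H91.pm_mi w)
  choose r hr hr' using fun w : V => exQ nQ (hs w)
  have ev : ∀ x ∈ Q, ∀ x' ∈ Q, g * ι x * g⁻¹ = ι x' → ∀ w, cv x = H91.pm w → cv x' = cv (r w) :=
    fun x hx x' hx' k w k' => by
      obtain ⟨a, rfl⟩ := Q_eq (hs w) hx (k'.trans (hs' w).symm)
      have : x' = r w * zz a := injP e (QQ_le hx') (mul_mem (QQ_le (hr w)) (zP a)) (by
        rw [← k, map_mul, map_mul, ← hr', ← conj_mul, cZ _ (H91.zZ a), mul_inv_cancel_right])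
      rw [this, cv_mul (hr w) (B3.zzQ a), B3.cv_zz, add_zero]
  refine ⟨AddMonoidHom.mk' (fun w => cv (r w)) fun w w' => ?_, fun w => cv_mi _, fun x hx x' hx' k =>
    ev x hx x' hx' k _ (H91.pm_of (cv_mi x)).symm⟩
  rw [← cv_mul (hr w) (hr w')]
  exact (ev _ (mul_mem (hs w) (hs w')) _ (mul_mem (hr w) (hr w')) (by rw [map_mul, map_mul, ← hr', ← hr', conj_mul]) _
    (by rw [cv_mul (hs w) (hs w'), hs', hs', H91.pm_add])).symm

theorem semi (e : Em ι) (q2 : ∀ c : K0 F, c = 0 ∨ c = 1) {g : G} (nP : g ∈ 𝐍((P).map ι)) (nQ : g ∈ 𝐍((Q).map ι))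
    (cZ : Cn ι (ZZ n F) g) {θ : V →+ V} (mi : ∀ w, Mi (θ w))
    (ev : ∀ x ∈ Q, ∀ x' ∈ Q, g * ι x * g⁻¹ = ι x' → cv x' = θ (cv x)) : ∃ φ : RingAut F, (φ = 1 ∨ φ = σ) ∧
    (∀ a w, Mi w → θ (a • w) = φ a • θ w) ∧ ∀ u v, Mi u → Mi v → bt (θ u) (θ v) = φ (bt u v) := by
  have two : (2 : F) = 0 := CharTwo.two_eq_zero
  obtain ⟨i1, i2, i3, i4, i5, i6, i7, i8, i9, i10⟩ := B3b.i1 n F
  obtain ⟨ω, hω⟩ := ex_om (F := F)
  have w2 : σ ω = ω + 1 := by linear_combination hω - ω * two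
  have w0 : ω ≠ 0 := fun k => by rw [k, map_zero, add_zero] at hω; exact zero_ne_one hω
  have w1 : ω + 1 ≠ 0 := w2 ▸ (map_ne_zero _).2 w0
  have tr : ∀ u v, Mi u → Mi v → bt (θ u) (θ v) + σ (bt (θ u) (θ v)) = bt u v + σ (bt u v) := fun u v hu hv => by
    obtain ⟨x, hx, rfl⟩ := cv_surj hu
    obtain ⟨w, hw, rfl⟩ := cv_surj hv
    obtain ⟨x', hx', k⟩ := exQ nQ hx
    obtain ⟨w', hw', k'⟩ := exQ nQ hw
    rw [← ev x hx x' hx' k, ← ev w hw w' hw' k']
    exact trE e cZ hx hw hx' hw' k k'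
  have inj : ∀ v, Mi v → θ v = 0 → v = 0 := fun v hv k => Tr_nd hv ⟨rfl, rfl⟩ fun w hw => Subtype.ext (by
    rw [Tr_val, Tr_val, ← tr v w hv hw, k, B3.bz, B3.bz])
  have sur : ∀ w, Mi w → ∃ u, Mi u ∧ θ u = w := fun w hw => by
    obtain ⟨x', hx', rfl⟩ := cv_surj hw
    obtain ⟨x, hx, k⟩ := exQ (inv_mem nQ) hx'
    exact ⟨_, cv_mi x, (ev x hx x' hx' (by rw [← k]; group)).symm⟩
  have key : ∀ v, Mi v → bt v v = 0 → θ (ω • v) = ω • θ v ∨ θ (ω • v) = (ω + 1) • θ v := fun v hv vv => by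
    by_cases v0 : v = 0
    · left; simp [v0]
    have hN : (tc v 1 : X) ∈ P := B3b.tc_PP vv hv.2 1
    obtain ⟨N', hN', eN⟩ := (mem_normalizer_iff.1 nP _).1 (mem_map_of_mem ι hN)
    have D : ∀ w, Mi w → ∀ j, j ≠ 0 → ac N' (θ w) j = θ w j + θ (bt w v • v) j := fun w hw j j0 => by
      obtain ⟨x, hx, rfl⟩ := cv_surj hw
      obtain ⟨x', hx', k⟩ := exQ nQ hx
      have := ev _ ((mem_normalizer_iff.1 (PP_nQ hN) x).1 hx) _ ((mem_normalizer_iff.1 (PP_nQ hN') x').1 hx') (by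
        simp only [map_mul, map_inv]
        rw [eN, ← k]; group)
      have e1 : cv (tc v 1 * x * (tc v 1)⁻¹) = cv x + bt (cv x) v • v := by
        ext i
        by_cases i0 : i = 0
        · rw [i0, (cv_mi _).1]; simp [(cv_mi x).1, hv.1]
        · rw [cv_cj hN hx i0, ac_tc vv]; simp
      rw [← ev x hx x' hx' k, ← cv_cj hN' hx' j0, this, e1, map_add, ← ev x hx x' hx' k, Pi.add_apply]
    obtain ⟨j, hj⟩ := Function.ne_iff.1 v0
    have j0 : j.rev ≠ 0 := fun k => hj (by rw [← Fin.rev_rev j, k]; exact hv.2)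
    have jL : j.rev ≠ iL := fun k => hj (by rw [← Fin.rev_rev j, k, B3.rL]; exact hv.1)
    have m1 := B3b.mi_ee j0 jL (σ (v j))⁻¹
    have b1 : bt ((σ (v j))⁻¹ • ee j.rev) v = 1 := by
      rw [bt_smul_left, ee_bt, Fin.rev_rev, inv_mul_cancel₀ ((map_ne_zero _).2 hj)]
    generalize (σ (v j))⁻¹ • (ee j.rev : V) = u at m1 b1
    obtain ⟨u', m2, e2⟩ := sur _ (mi_smul (mi u) ω)
    have e3 : θ (bt u' v • v) = ω • θ v := by
      ext i
      by_cases i0 : i = 0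
      · rw [i0, (mi _).1, Pi.smul_apply, (mi _).1, smul_zero]
      have d1 := D u m1 i i0
      have d2 := D u' m2 i i0
      rw [b1, one_smul] at d1
      rw [e2, H12.ac_smul, Pi.smul_apply, Pi.smul_apply, d1, smul_add, add_right_inj] at d2
      exact d2.symm
    obtain ⟨a, b, k⟩ := dec_om hω (bt u' v)
    rw [k] at e3
    rcases q2 a with rfl | rfl <;> rcases q2 b with rfl | rfl <;>
      simp only [ZeroMemClass.coe_zero, OneMemClass.coe_one, zero_mul, one_mul, add_zero, zero_add, zero_smul,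
        one_smul, add_smul, map_zero, map_add] at e3
    · exact absurd (inj v hv ((smul_eq_zero.1 e3.symm).resolve_left w0)) v0
    · exact Or.inl e3
    · refine absurd (inj v hv ((smul_eq_zero.1 (?_ : (ω + 1) • θ v = 0)).resolve_left w1)) v0
      rw [add_smul, one_smul, ← e3, B3b.two]
    · right
      rw [add_smul, one_smul, ← e3, add_right_comm, B3b.two, zero_add]
  have same : ∀ μ : F, (μ = ω ∨ μ = ω + 1) → ∀ u v, Mi u → Mi v → Is u → bt v v = 0 → bt u v = 0 →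
      θ (ω • u) = μ • θ u → θ (ω • v) = μ • θ v := fun μ hμ u v hu hv uu vv uv k => by
    have key' : ∀ v, Mi v → bt v v = 0 → θ (ω • v) = μ • θ v ∨ θ (ω • v) = (μ + 1) • θ v := fun v hv vv => by
      rcases hμ with rfl | rfl
      · exact key v hv vv
      · rw [add_assoc, CharTwo.add_self_eq_zero, add_zero]; exact (key v hv vv).symm
    refine (key' v hv vv).elim id fun k1 => ?_
    rcases key' (u + v) (mi_add hu hv) (by
      rw [bt_add_left, bt_add_right, bt_add_right, uu.1, vv, bt_symm u v, uv, map_zero]; simp) with k2 | k2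
    · rwa [smul_add, map_add, map_add, k, smul_add, add_right_inj] at k2
    · rw [smul_add, map_add, map_add, k, k1, smul_add, add_left_inj, add_smul, one_smul, left_eq_add] at k2
      exact absurd (inj u hu k2) uu.2
  obtain ⟨φ, hφ, k1⟩ : ∃ φ : RingAut F, (φ = 1 ∨ φ = σ) ∧ θ (ω • ee 1) = φ ω • θ (ee 1) := by
    rcases key _ mi1 is1.1 with k | k
    exacts [⟨1, Or.inl rfl, k⟩, ⟨σ, Or.inr rfl, w2 ▸ k⟩]
  have hμ : φ ω = ω ∨ φ ω = ω + 1 := hφ.imp (fun k => by rw [k]; rfl) fun k => by rw [k, w2]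
  have all : ∀ w, Mi w → θ (ω • w) = φ ω • θ w := fun w hw => @B3b.span F _ _ _ _ n _ (fun w => θ (ω • w) = φ ω • θ w)
    (fun u v hu hv => by rw [smul_add, map_add, map_add, hu, hv, smul_add]) (fun v hv vv => by
      by_cases b : bt (ee 1) v = 0
      · exact same _ hμ _ _ mi1 hv is1 vv b k1
      have m2 : Mi (ee 2 : V) := by simpa using B3b.mi_ee i6 i7 (1 : F)
      have b1 : bt (ee 1 : V) (ee 2) = 0 := by rw [bt_ee, B3.ee_ap, if_neg i10]
      have b2 : bt (ee 2 : V) (ee 1) = 0 := by rw [bt_symm, b1, map_zero]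
      have iz : Is (ee 2 + (bt (ee 2) v * (bt (ee 1) v)⁻¹) • ee 1 : V) := ⟨by
        simp only [bt_add_left, bt_add_right, bt_smul_left, bt_smul_right, (is_ee i8).1, is1.1, b1, b2, mul_zero,
          add_zero], fun k => by
        have := congrFun k 2
        simp [B3.ee_ap, i9] at this⟩
      have mz := mi_add m2 (mi_smul mi1 (bt (ee 2) v * (bt (ee 1) v)⁻¹))
      refine same _ hμ _ _ mz hv iz vv ?_ (same _ hμ _ _ mi1 mz is1 iz.1 ?_ k1)
      · rw [bt_add_left, bt_smul_left, inv_mul_cancel_right₀ b, CharTwo.add_self_eq_zero]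
      · rw [bt_add_right, bt_smul_right, b1, is1.1, mul_zero, add_zero]) w hw
  refine ⟨φ, hφ, fun a w hw => ?_, fun u v hu hv => ?_⟩
  · obtain ⟨x, y, rfl⟩ := dec_om hω a
    rcases q2 x with rfl | rfl <;> rcases q2 y with rfl | rfl <;>
      simp only [ZeroMemClass.coe_zero, OneMemClass.coe_one, zero_mul, one_mul, add_zero, zero_add, zero_smul,
        one_smul, add_smul, map_zero, map_add, map_one, all w hw]
  · have t1 := tr u v hu hv
    have t2 := tr _ v (mi_smul hu ω) hv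
    rw [all u hu, bt_smul_left, bt_smul_left, map_mul, map_mul, w2] at t2
    generalize bt (θ u) (θ v) = p at t1 t2 ⊢
    generalize bt u v = r at t1 t2 ⊢
    rcases hφ with rfl | rfl
    · change ω * p + σ ω * σ p = _ at t2
      change p = r
      rw [w2] at t2
      linear_combination t2 - (ω + 1) * t1 + (p - r) * two
    · rw [sg_sg, w2] at t2
      linear_combination t2 - ω * t1

theorem dec (u : V) : u = u 0 • ee 0 + u iL • ee iL + H91.pm u := by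
  ext j
  by_cases j0 : j = 0
  · simp [j0, H91.pm, B3.e00, B3.eL0]
  by_cases jL : j = iL
  · simp [jL, H91.pm, B3.e0L, B3.eLL]
  · simp [H91.pm, B3.ee_ap, j0, jL]

theorem btd (a b a' b' : F) {w w' : V} (h : Mi w) (k : Mi w') :
    bt (a • ee 0 + b • ee iL + w) (a' • ee 0 + b' • ee iL + w') = a * σ b' + b * σ a' + bt w w' := by
  simp only [bt_add_left, bt_add_right, bt_smul_left, bt_smul_right, B3.b0, B3.bL, B3.b0' w', B3.bL' w', B3.e00, B3.e0L,
    B3.eL0, B3.eLL, h.1, h.2, k.1, k.2, map_zero, mul_zero, mul_one, add_zero, zero_add, Pi.add_apply, Pi.smul_apply,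
    smul_eq_mul]
  ring

theorem s1 (e : Em ι) (q2 : ∀ c : K0 F, c = 0 ∨ c = 1) {g : G} (nP : g ∈ 𝐍((P).map ι)) (nQ : g ∈ 𝐍((Q).map ι))
    (cZ : Cn ι (ZZ n F) g) : ∃ α : X →* X, (∀ p ∈ P, α p ∈ P) ∧ (∀ c, α (zz c) = zz c) ∧
      ∀ x ∈ Q, ∃ c, ι (α x) = g * ι x * g⁻¹ * ι (zz c) := by
  obtain ⟨θ, mi, ev⟩ := exθ e nQ cZ
  obtain ⟨φ, hφ, sm, fm⟩ := semi e q2 nP nQ cZ mi ev
  have ff : ∀ a, φ (φ a) = a := fun a => by
    rcases hφ with rfl | rfl
    exacts [rfl, sg_sg a]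
  have fk : ∀ c : K0 F, φ c = c := fun c => by
    rcases hφ with rfl | rfl
    exacts [rfl, c.2]
  have bf : ∀ u v : V, φ (bt (H91.pm fun i => φ (u i)) (H91.pm fun i => φ (v i))) = bt (H91.pm u) (H91.pm v) :=
    fun u v => by
      rw [bt, bt, map_sum]
      refine Finset.sum_congr rfl fun j _ => ?_
      rw [map_mul, ← H62.σ_comm]
      simp only [H91.pm, apply_ite φ, map_zero, ff]
  let L : V →ₗ[F] V :=
    { toFun := fun v => v 0 • ee 0 + v iL • ee iL + θ (H91.pm fun i => φ (v i))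
      map_add' := fun u v => by
        have : (fun i => φ ((u + v) i)) = (fun i => φ (u i)) + fun i => φ (v i) := funext fun i => map_add φ _ _
        rw [this, H91.pm_add, map_add, Pi.add_apply, Pi.add_apply, add_smul, add_smul]; abel
      map_smul' := fun a v => by
        have : (H91.pm fun i => φ ((a • v) i) : V) = φ a • H91.pm fun i => φ (v i) := by
          ext i; simp [H91.pm]
        rw [this, sm _ _ (H91.pm_mi _), ff, Pi.smul_apply, Pi.smul_apply, RingHom.id_apply, smul_add, smul_add,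
          smul_smul, smul_smul, smul_eq_mul, smul_eq_mul] }
  have hL : ∀ v, LinearMap.toMatrix' L *ᵥ v = v 0 • ee 0 + v iL • ee iL + θ (H91.pm fun i => φ (v i)) := fun v =>
    LinearMap.toMatrix'_mulVec L v
  generalize LinearMap.toMatrix' L = M at hL
  have un : H12.ad M * M = 1 := H12.iso_ad fun u v => by
    rw [hL, hL, btd _ _ _ _ (mi _) (mi _), fm _ _ (H91.pm_mi _) (H91.pm_mi _), bf]
    conv_rhs => rw [dec u, dec v, btd _ _ _ _ (H91.pm_mi _) (H91.pm_mi _)]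
  have un' : M * H12.ad M = 1 := mul_eq_one_comm.1 un
  let g0 : H62.GI F n := ⟨⟨M, H12.ad M, un', un⟩, H62.mem_GI.2 un⟩
  obtain ⟨α, hα⟩ : ∃ α : X →* X, ∀ x v, ac (α x) (M *ᵥ fun i => φ (v i)) = M *ᵥ fun i => φ (ac x v i) := by
    refine ⟨(H62.giH g0).toMonoidHom.comp (H62.frU φ), fun x v => ?_⟩
    change (M * x.1.1.map φ * H12.ad M) *ᵥ (M *ᵥ _) = _
    rw [mulVec_mulVec, mul_assoc, un, mul_one, ← mulVec_mulVec]
    exact congrArg _ (funext fun i => (RingHom.map_mulVec (φ : F →+* F) x.1.1 v i).symm)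
  obtain ⟨T, hT, T1, T2⟩ : ∃ T : V →+ V, (∀ x v, ac (α x) (T v) = T (ac x v)) ∧
      (∀ v, T v = φ (v 0) • ee 0 + φ (v iL) • ee iL + θ (H91.pm v)) ∧ Function.Surjective T := by
    refine ⟨AddMonoidHom.mk' (fun v => M *ᵥ fun i => φ (v i)) fun u v => ?_, hα, fun v => ?_, fun v => ?_⟩
    · rw [← mulVec_add]; exact congrArg _ (funext fun i => map_add φ _ _)
    · rw [AddMonoidHom.mk'_apply, hL]; simp only [ff]
    · refine ⟨fun i => φ ((H12.ad M *ᵥ v) i), ?_⟩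
      rw [AddMonoidHom.mk'_apply]
      simp only [ff]
      rw [mulVec_mulVec, un', one_mulVec]
  have p0 : ∀ a : F, H91.pm (a • ee 0 : V) = 0 := fun a => by
    ext j; by_cases j0 : j = 0 <;> simp [H91.pm, B3.ee_ap, j0]
  have pL : H91.pm (ee iL : V) = 0 := by
    ext j; by_cases j0 : j = iL <;> simp [H91.pm, B3.ee_ap, j0]
  have T0 : ∀ a : F, T (a • ee 0) = φ a • ee 0 := fun a => by
    rw [T1, p0]; simp [B3.e00, B3.e0L]
  have T00 : T (ee 0) = ee 0 := by simpa using T0 1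
  have TL : T (ee iL) = ee iL := by rw [T1, pL]; simp [B3.eL0, B3.eLL]
  have TM : ∀ w, Mi w → T w = θ w := fun w hw => by rw [T1, H91.pm_of hw, hw.1, hw.2]; simp
  have aP : ∀ p ∈ P, α p ∈ P := fun p hp => mem_PP.2 (by rw [← T00, hT, mem_PP.1 hp])
  have aQ : ∀ x ∈ Q, α x ∈ Q := fun x hx => B3.qiff fun v hv => by
    by_cases k : v = ee 0
    · exact ⟨0, by rw [k, mem_PP.1 (aP x (QQ_le hx)), zero_smul, add_zero], fun _ => rfl⟩
    obtain ⟨u, rfl⟩ := T2 v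
    have : u iL = 0 := by
      rw [T1] at hv
      simpa [B3.e0L, B3.eLL, (mi _).2] using hv
    exact ⟨_, by rw [hT, ac_QQ hx this, map_add, T0], fun k' => absurd k' k⟩
  have aL : ∀ x ∈ Q, ac (α x) (ee iL) = ee iL + θ (cv x) + φ (x.1.1 0 iL) • ee 0 := fun x hx => by
    rw [← TL, hT, B3.qL hx, map_add, map_add, T0, TM _ (cv_mi x), TL]
  have aC : ∀ x ∈ Q, cv (α x) = θ (cv x) := fun x hx => B3.cv_eq (mi _) (aL x hx)
  refine ⟨α, aP, fun c => B3.qext (aQ _ (B3.zzQ c)) (B3.zzQ c) (by rw [aC _ (B3.zzQ c), B3.cv_zz, map_zero]) ?_,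
    fun x hx => ?_⟩
  · rw [← B3.ac_ee, aL _ (B3.zzQ c), B3.zz0, fk]
    simp [B3.e00, B3.eL0, (mi _).1]
  · obtain ⟨x', hx', k⟩ := exQ nQ hx
    obtain ⟨c, hc⟩ := Q_eq hx' (aQ x hx) ((aC x hx).trans (ev x hx x' hx' k).symm)
    exact ⟨c, by rw [hc, map_mul, k]⟩

theorem s6b (h : C1 ι t) (h2 : Nat.card (K0 F) = 2) {g : G} {c : K0 F} (hc : c ≠ 0)
    (e : g * t * g⁻¹ = t * ι (zz c)) (k : g ∈ 𝐍((ZZ n F).map ι)) : ∃ c' y, c' ≠ 0 ∧ D1 ι t c' y := by
  have q2 : ∀ c : K0 F, c = 0 ∨ c = 1 := fun c => by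
    obtain ⟨y, -, hy⟩ := (Nat.card_eq_two_iff' (0 : K0 F)).1 h2
    exact or_iff_not_imp_left.2 fun k => (hy c k).trans (hy 1 one_ne_zero).symm
  obtain rfl := (q2 c).resolve_left hc
  obtain ⟨nP, nQ⟩ := H24.nv h e k
  have cZ : Cn ι (ZZ n F) g := fun x hx => by
    obtain ⟨y, hy, k1⟩ := (mem_normalizer_iff.1 k _).1 (mem_map_of_mem ι hx)
    obtain ⟨a, rfl⟩ := mem_ZZ.1 hx
    obtain ⟨b, rfl⟩ := mem_ZZ.1 hy
    rcases q2 a with rfl | rfl
    · rw [S670.zz_zero, map_one, mul_one, one_mul]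
    rcases q2 b with rfl | rfl
    · rw [S670.zz_zero, map_one, eq_comm, conj_eq_one_iff, ← map_one ι, ← S670.zz_zero] at k1
      exact absurd (z_inj h.em k1) one_ne_zero
    · exact mul_inv_eq_iff_eq_mul.1 k1.symm
  obtain ⟨α, aP, aZ, aQ⟩ := s1 h.em q2 (inv_mem nP) (inv_mem nQ) fun x hx => (Commute.inv_left (cZ x hx)).eq
  have gz : ∀ c, g * ι (zz c) * g⁻¹ = ι (zz c) := fun c => by rw [cZ _ (H91.zZ c), mul_inv_cancel_right]
  obtain ⟨v, hv⟩ := s2 (ψ := (cι ι g).comp α) h.em q2 (fun p hp => by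
      obtain ⟨y, hy, k1⟩ := (mem_normalizer_iff.1 nP _).1 (mem_map_of_mem ι (aP p hp))
      exact ⟨y, hy, k1.symm⟩) (fun x hx => by
      obtain ⟨c, hc⟩ := aQ x hx
      exact ⟨c, by rw [MonoidHom.comp_apply, cι_apply, hc, map_mul, ← conj_mul, gz]; group⟩)
    fun c => by rw [MonoidHom.comp_apply, aZ, cι_apply, gz]
  obtain ⟨y, k1, k2⟩ := s3 (ψ := ((cι ι g).comp α).comp (cn v)) h (fun x => by
    rw [← e, MonoidHom.comp_apply, MonoidHom.comp_apply, cι_apply, conj_mul, conj_mul, h.tc]) hv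
  obtain ⟨y', k3⟩ := s4 h k1 k2
  exact ⟨1, y', one_ne_zero, k3⟩

end UMS.S97
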