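import Cfsg.Agent.Lib.UMS.F24
import Cfsg.Agent.Lib.UMS.S670
import Cfsg.Agent.Lib.UMS.B3b

/-! An element centralising the stabiliser of two basis vectors is corrected to one centralising `Q / Z`. -/

set_option autoImplicit false
set_option linter.unusedSectionVars false

namespace UMS.H89

open Subgroup H69 Cfsg Matrix U4S
open LMS (XX GX iL kk MM au tw Sg)
open scoped MatrixGroups commutatorElement

universe u
variable {G : Type*} [Group G] [Finite G] {F : Type u} [Field F] [CharP F 2] [Fintype F] [Hs F] {n : ℕ} [Ok n F]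
  {ι : XU n F →* G} {t d : G}

local notation "X" => XU n F
local notation "V" => VV n F
local notation "I" => Fin (n + 3)
local notation "Q" => QQ n F
local notation "rr" => Fin.rev (1 : Fin (n + 3))

theorem zSt (c : K0 F) : (zz c : X) ∈ St {ee 0, ee 1} := by
  have i := B3b.i1 n F
  rintro v (rfl | rfl)
  · rw [B3.ac_zz, B3.e0L, mul_zero, zero_smul, add_zero]
  · rw [B3.ac_zz, B3.ee_ap, if_neg i.2.1.symm, mul_zero, zero_smul, add_zero]

theorem qSt {x : X} (hx : x ∈ Q) (h : cv x rr = 0) : x ∈ St {ee 0, ee 1} := by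
  have i := B3b.i1 n F
  rintro v (rfl | rfl)
  · exact B3.q0 hx
  · rw [ac_QQ hx (by rw [B3.ee_ap, if_neg i.2.1.symm]), ee_bt, h, map_zero, zero_smul, add_zero]

theorem trP (e : Em ι) (k : Cn ι (St {ee 0, ee 1}) d) {x w x' w' : X} (hx : x ∈ Q) (hw : w ∈ Q) (hx' : x' ∈ Q)
    (hw' : w' ∈ Q) (h1 : d * ι x * d⁻¹ = ι x') (h2 : d * ι w * d⁻¹ = ι w') :
    bt (cv x) (cv w) + σ (bt (cv x) (cv w)) = bt (cv x') (cv w') + σ (bt (cv x') (cv w')) := by
  have := S670.form hx hw hx' hw' h1 h2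
  rw [k _ (zSt _), mul_inv_cancel_right] at this
  exact congrArg Subtype.val (S670.z_inj e this)

theorem nmP (e : Em ι) (k : Cn ι (St {ee 0, ee 1}) d) {x x' : X} (hx : x ∈ Q) (hx' : x' ∈ Q)
    (h1 : d * ι x * d⁻¹ = ι x') : bt (cv x) (cv x) = bt (cv x') (cv x') := by
  obtain ⟨c, hc, e1⟩ := sq_QQ hx
  obtain ⟨c', hc', e2⟩ := sq_QQ hx'
  have : d * ι (x * x) * d⁻¹ = ι (x' * x') := by rw [map_mul, map_mul, ← h1]; group
  rw [e1, e2, k _ (zSt _), mul_inv_cancel_right] at this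
  rw [← hc, ← hc', S670.z_inj e this]

theorem shape (e : Em ι) (k : Cn ι (St {ee 0, ee 1}) d) {x x' : X} (hx : x ∈ Q) (hx' : x' ∈ Q)
    (h1 : d * ι x * d⁻¹ = ι x') : ∃ l : F, cv x' = cv x + l • ee 1 := by
  obtain ⟨ω, hω⟩ := ex_om (F := F)
  have two : (2 : F) = 0 := CharTwo.two_eq_zero
  refine ⟨cv x' 1 - cv x 1, funext fun j => ?_⟩
  rw [Pi.add_apply, Pi.smul_apply, B3.ee_ap, smul_eq_mul]
  by_cases j1 : j = 1
  · rw [if_pos j1, j1]; ring
  rw [if_neg j1, mul_zero, add_zero]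
  by_cases j0 : j = 0
  · rw [j0, B3.cv0, B3.cv0]
  by_cases jL : j = iL
  · rw [jL, B3.cvL, B3.cvL]
  have a1 : j.rev ≠ 0 := fun k => jL (by rw [← Fin.rev_rev j, k]; rfl)
  have a2 : j.rev ≠ iL := fun k => j0 (by rw [← Fin.rev_rev j, k]; exact Fin.rev_last _)
  have kk : ∀ a : F, σ a * cv x j + a * σ (cv x j) = σ a * cv x' j + a * σ (cv x' j) := fun a => by
    obtain ⟨w, hw, ew⟩ := cv_surj (B3b.mi_ee a1 a2 a)
    have hs : w ∈ St {ee 0, ee 1} := qSt hw (by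
      rw [ew, Pi.smul_apply, B3.ee_ap, if_neg fun k => j1 (Fin.rev_inj.1 k).symm, smul_zero])
    have := trP e k hx hw hx' hw h1 (by rw [k _ hs, mul_inv_cancel_right])
    rwa [ew, bt_smul_right, bt_smul_right, bt_ee, bt_ee, Fin.rev_rev, map_mul, map_mul, sg_sg] at this
  have k1 := kk 1
  have k2 := kk ω
  rw [map_one] at k1
  linear_combination -k2 - ω * k1 + (cv x j - cv x' j) * hω + ω * (σ (cv x j) - σ (cv x' j)) * two

theorem const (e : Em ι) (k : Cn ι (St {ee 0, ee 1}) d) (hg : d ∈ 𝐍((Q).map ι)) : ∃ c : K0 F, ∀ x ∈ Q, ∀ x' ∈ Q,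
    d * ι x * d⁻¹ = ι x' → cv x' = cv x + ((c : F) * cv x rr) • ee 1 := by
  obtain ⟨ω, hω⟩ := ex_om (F := F)
  have two : (2 : F) = 0 := CharTwo.two_eq_zero
  have i := B3b.i1 n F
  have e1r : (ee 1 : V) rr = 0 := by rw [B3.ee_ap, if_neg i.2.2.1.symm]
  have e11 : (ee 1 : V) 1 = 1 := by rw [B3.ee_ap, if_pos rfl]
  have err : (ee rr : V) rr = 1 := by rw [B3.ee_ap, if_pos rfl]
  have er1 : (ee rr : V) 1 = 0 := by rw [B3.ee_ap, if_neg i.2.2.1]
  have N : ∀ x ∈ Q, ∀ x' ∈ Q, d * ι x * d⁻¹ = ι x' → ∀ l : F, cv x' = cv x + l • ee 1 →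
      σ l * cv x rr + l * σ (cv x rr) = 0 := fun x hx x' hx' h l hl => by
    have := nmP e k hx hx' h
    rw [hl, bt_add_left, bt_add_right, bt_add_right, bt_smul_left, bt_smul_left, bt_smul_right, bt_smul_right,
      bt_ee, bt_ee, ee_bt, e1r] at this
    linear_combination -this
  have T : ∀ a : F, ∃ m : F, σ m * a + m * σ a = 0 ∧ ∀ x ∈ Q, ∀ x' ∈ Q, d * ι x * d⁻¹ = ι x' → ∀ l : F,
      cv x' = cv x + l • ee 1 → σ m * cv x rr + σ a * l + (m * σ (cv x rr) + a * σ l) = 0 ∧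
        ∃ w ∈ Q, ∃ w' ∈ Q, d * ι w * d⁻¹ = ι w' ∧ cv w' = cv w + m • ee 1 ∧ cv w rr = a := fun a => by
    obtain ⟨w, hw, ew⟩ := cv_surj (B3b.mi_ee i.2.2.2.1 i.2.2.2.2.1 a)
    obtain ⟨w', hw', h2⟩ := S670.exQ hg hw
    obtain ⟨m, hm⟩ := shape e k hw hw' h2
    have wr : cv w rr = a := by rw [ew, Pi.smul_apply, err, smul_eq_mul, mul_one]
    refine ⟨m, by simpa only [wr] using N w hw w' hw' h2 m hm, fun x hx x' hx' h l hl => ⟨?_, w, hw, w', hw', h2, hm, wr⟩⟩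
    have := trP e k hx hw hx' hw' h h2
    rw [hl, hm, ew] at this
    simp only [bt_add_left, bt_add_right, bt_smul_left, bt_smul_right, bt_ee, Fin.rev_rev, Pi.add_apply,
      Pi.smul_apply, smul_eq_mul, e1r, e11, map_add, map_mul, sg_sg, mul_zero, mul_one, map_zero, add_zero] at this
    linear_combination -this
  obtain ⟨c, hc, h1⟩ := T 1
  obtain ⟨m, hm, h2⟩ := T ω
  rw [map_one] at hc h1
  have cK : σ c = c := by linear_combination hc - c * two
  refine ⟨⟨c, mem_K0.2 cK⟩, fun x hx x' hx' h => ?_⟩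
  obtain ⟨l, hl⟩ := shape e k hx hx' h
  obtain ⟨a2, w, hw, w', hw', hw2, hm', wr⟩ := h2 x hx x' hx' h l hl
  have a1 := (h1 x hx x' hx' h l hl).1
  have a3 := (h1 w hw w' hw' hw2 m hm').1
  rw [wr, cK] at a3
  rw [cK] at a1
  have sm : σ m = m + c := by linear_combination a3 - c * hω - (m + c) * two
  have em : m = c * ω := by
    rw [sm] at hm
    linear_combination hm - m * hω - c * ω * two
  have sl : σ l = l + c * cv x rr + c * σ (cv x rr) := by
    linear_combination a1 - (l + c * cv x rr + c * σ (cv x rr)) * two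
  rw [hl]
  congr 2
  change l = c * cv x rr
  rw [sm, sl, em] at a2
  linear_combination a2 - l * hω - (c * ω * cv x rr + c * ω * σ (cv x rr) + c * cv x rr) * two

theorem partC (h : C1 ι t) {c : K0 F} (k : Cn ι (St {ee 0, ee 1}) d) (e : d * t * d⁻¹ = t * ι (zz c)) :
    ∃ y, D1 ι t c y := by
  have two : (2 : F) = 0 := CharTwo.two_eq_zero
  have i := B3b.i1 n F
  have kZ : Cn ι (ZZ n F) d := fun x hx => by
    obtain ⟨a, rfl⟩ := mem_ZZ.1 hx
    exact k _ (zSt a)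
  have nZ : d ∈ 𝐍((ZZ n F).map ι) := mem_normalizer_of_cj_le fun u hu => by
    obtain ⟨v, ⟨x, hx, rfl⟩, rfl⟩ := mem_cj'.1 hu
    rw [kZ x hx, mul_inv_cancel_right]
    exact ⟨x, hx, rfl⟩
  have hg := (H24.nv h e nZ).2
  obtain ⟨c0, hc⟩ := const h.em k hg
  have b1 : bt (ee 1 : V) (ee 1) = 0 := (is_ee i.2.2.1).1
  have hT : tc (ee 1 : V) c0 ∈ PP n F := B3b.tc_PP b1 (by rw [B3.ee_ap, if_neg i.2.1.symm]) c0
  refine ⟨ι (tc (ee 1) c0) * d, fun x hx => ?_, fun x hx => ?_, ?_⟩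
  · obtain ⟨a, rfl⟩ := mem_ZZ.1 hx
    rw [mul_assoc, k _ (zSt a), ← mul_assoc, ← map_mul, PP_cen hT, map_mul, mul_assoc]
  · obtain ⟨x', hx', h1⟩ := S670.exQ hg hx
    have hq : tc (ee 1) c0 * x' * (tc (ee 1) c0)⁻¹ ∈ Q := (mem_normalizer_iff.1 (PP_nQ hT) x').1 hx'
    obtain ⟨a, ha⟩ := S670.Q_eq hx hq (funext fun j => by
      by_cases j0 : j = 0
      · rw [j0, B3.cv0, B3.cv0]
      rw [cv_cj hT hx' j0, ac_tc b1, bt_ee, hc x hx x' hx' h1]
      simp only [Pi.add_apply, Pi.smul_apply, smul_eq_mul]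
      rw [B3.ee_ap 1 rr, if_neg i.2.2.1.symm]
      linear_combination (c0 : F) * cv x rr * (ee 1 : V) j * two)
    refine ⟨a, ?_⟩
    rw [← map_mul, ← ha, map_mul, map_mul, map_inv, ← h1]
    group
  · calc ι (tc (ee 1) c0) * d * t * (ι (tc (ee 1) c0) * d)⁻¹
        = ι (tc (ee 1) c0) * (d * t * d⁻¹) * (ι (tc (ee 1) c0))⁻¹ := by group
      _ = t * ι (zz c) := by
        rw [e, ← mul_assoc, ← h.tc, mul_assoc t, ← map_mul, PP_cen hT, map_mul, mul_assoc, mul_inv_cancel_right]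

end UMS.H89
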