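import Cfsg.Agent.Lib.UMS.HY
import Cfsg.Agent.Lib.UMS.B33
import Cfsg.Agent.Lib.UMS.Aut62
import Cfsg.Agent.Lib.LMS.SA
import Cfsg.Agent.Lib.UMS.CE

set_option autoImplicit false
set_option linter.unusedSectionVars false
set_option linter.unusedVariables false

namespace UMS.H97

open Subgroup H69 Cfsg Matrix U4S
open LMS (XX GX iL kk MM au tw Sg)
open scoped MatrixGroups commutatorElement

universe u
variable {G : Type*} [Group G] [Finite G] {F : Type u} [Field F] [CharP F 2] [Fintype F] [Hs F] {n : ℕ} [Ok n F]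
  {ι : XU n F →* G} {t : G}

local notation "X" => XU n F
local notation "V" => VV n F

instance : CharP (K0 F) 2 := inferInstanceAs (CharP (K0 F).toSubring 2)

theorem mem_St {v : V} {x : X} : x ∈ St {v} ↔ ac x v = v :=
  ⟨fun h => h v rfl, fun h _ e => e ▸ h⟩

theorem cen_two {x : X} (h : x ∈ center X) (p : P2 x) : x = 1 := by
  obtain ⟨a, ha⟩ := B33.mem_center.1 h
  obtain ⟨j, hj⟩ := p
  have e : ∀ m : ℕ, (x ^ m).1.1 = a ^ m • (1 : Matrix _ _ F) := fun m => by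
    induction m with
    | zero => simp
    | succ m ih => rw [pow_succ, H12.mul_val, ih, ha, smul_mul_smul_comm, one_mul, pow_succ]
  have e1 := congrFun (congrFun (e (2 ^ j)) 0) 0
  rw [hj, H12.one_val] at e1
  simp only [one_apply_eq, Matrix.smul_apply, smul_eq_mul, mul_one] at e1
  have : (a - 1) ^ 2 ^ j = 0 := by rw [sub_pow_char_pow, ← e1, one_pow, sub_self]
  rw [sub_eq_zero.1 (pow_eq_zero_iff (by positivity) |>.1 this), one_smul] at ha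
  exact H12.xext ha

theorem inj2 (e : Em ι) {x y : X} (hx : P2 x) (hy : P2 y) (h : ι x = ι y) : x = y := by
  have z : x * y⁻¹ ∈ center X := e (by rw [MonoidHom.mem_ker, map_mul, map_inv, h, mul_inv_cancel])
  have c : Commute x y⁻¹ := by
    have := mem_center_iff.1 z y⁻¹
    exact (mul_right_cancel (b := y⁻¹) (by rw [mul_assoc y⁻¹, this])).symm
  obtain ⟨a, ha⟩ := hx
  obtain ⟨b, hb⟩ := hy
  refine mul_inv_eq_one.1 (cen_two z ⟨a + b, ?_⟩)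
  rw [c.mul_pow, inv_pow, pow_add, pow_mul, ha, mul_comm (2 ^ a), pow_mul, hb, one_pow, one_pow, inv_one,
    mul_one]

theorem tc_St {u v : V} (hu : bt u u = 0) (h : bt v u = 0) (c : K0 F) : tc u c ∈ St {v} := by
  rw [mem_St, H12.ac_tc hu, h, mul_zero, zero_smul, add_zero]

theorem tc_one {v : V} (hv : Is v) {c : K0 F} (h : tc v c = 1) : c = 0 := by
  obtain ⟨u, -, hu⟩ := H76.ex_hyp hv
  have := H12.ac_tc hv.1 c u
  rw [h, H12.ac_one, hu, mul_one, left_eq_add, smul_eq_zero] at this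
  exact Subtype.ext (this.resolve_right hv.2)

theorem tc_inj (e : Em ι) {v : V} (hv : Is v) {c : K0 F} (h : ι (tc v c) = 1) : c = 0 :=
  tc_one hv (cen_two (e h) (P2.of_sq (H12.tc_sq hv.1 c)))

theorem em_cen (e : Em ι) {x : X} (p : P2 x) (h : ι x ∈ 𝐂(ι.range)) : x = 1 := by
  refine cen_two (mem_center_iff.2 fun y => ?_) p
  exact mul_inv_eq_iff_eq_mul.1 (inj2 e (p.cjg y) p (by
    rw [map_mul, map_mul, map_inv, h (ι y) ⟨y, rfl⟩, mul_inv_cancel_right]))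

theorem tC (h : C1 ι t) : t ∈ 𝐂(ι.range) := by
  rintro _ ⟨x, rfl⟩; exact (h.tc x).symm

theorem t_not (h : C1 ι t) : t ∉ ι.range := by
  rintro ⟨x, rfl⟩
  obtain ⟨y, p, e⟩ := LMS.B5.odd_lift ι x (P2.of_sq h.t2)
  exact h.t1 (by rw [← e, em_cen h.em p (e ▸ tC h), map_one])

theorem od (h : C2 ι t) : ∃ O : Subgroup G, (∀ o, o ∈ O ↔ Oo ι t o) ∧ Odd (Nat.card O) ∧
    ∀ c ∈ 𝐂(ι.range), c * t = t * c → ∃ o, Oo ι t o ∧ (c = o ∨ c = t * o) := by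
  have hS : IsSylowIn 2 (zpowers t) (𝐂(ι.range) ⊓ centralizer {t}) :=
    ⟨(zpowers_le).2 (mem_inf.2 ⟨tC h.toC1, mem_centralizer_singleton_iff.2 rfl⟩),
      (P2.of_sq h.t2).isP, fun R h1 h2 h3 => le_antisymm (fun r hr => by
        rcases h.two r (h2 hr).1 (mem_centralizer_singleton_iff.1 (h2 hr).2) (P2.of_mem h3 hr) with
          e | e
        · exact e ▸ one_mem _
        · exact e ▸ mem_zpowers t) h1⟩
  obtain ⟨O, o1, o2, o3⟩ := cent_split hS ((zpowers_le).2 (mem_centralizer_iff_commute.2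
    fun a ha => mem_centralizer_singleton_iff.1 ha.2))
  have m : ∀ o, o ∈ O ↔ Oo ι t o := fun c => by
    rw [o1, mem_inf, mem_centralizer_singleton_iff, and_assoc]; rfl
  refine ⟨O, m, o2, fun c hc ht => ?_⟩
  obtain ⟨p, hp, o, ho, e⟩ := o3 c (mem_inf.2 ⟨hc, mem_centralizer_singleton_iff.2 ht⟩)
  rcases (mem_zp h.t2).1 hp with rfl | rfl
  · exact ⟨o, (m o).1 ho, Or.inl (by simpa using e)⟩
  · exact ⟨o, (m o).1 ho, Or.inr e⟩

theorem cS (e : Em ι) {a : G} (ha : a ∈ 𝐍(ι.range)) {v : V} (hv : Is v) (h : Cn ι (St {v}) a) :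
    ∃ c, ∃ k ∈ 𝐂(ι.range), a = k * ι (tc v c) := cP e ha hv h

theorem co_cj {d : G} (k : CO ι t d) (x : X) : CO ι t (ι x * d * (ι x)⁻¹) := fun o ho =>
  have c : Commute (ι x) o := ho.1 _ ⟨x, rfl⟩
  ((c.mul_left (k o ho)).mul_left c.inv_left).eq

theorem xS {v : V} (hv : Is v) (a : K0 F) : tc v a ∈ St {v} := tc_St hv.1 hv.1 a

theorem xsq {v : V} (hv : Is v) (a : K0 F) : ι (tc v a) * ι (tc v a) = 1 := by rw [← map_mul, H12.tc_sq hv.1, map_one]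

theorem txsq (h : C1 ι t) {v : V} (hv : Is v) (a : K0 F) : t * ι (tc v a) * (t * ι (tc v a)) = 1 := by
  rw [mul_assoc, ← mul_assoc (ι _), ← h.tc, mul_assoc, xsq hv, mul_one, h.t2]

theorem d0_mul {v : V} (hv : Is v) {c c' : K0 F} {d e : G} (h : D0 ι t v c d) (k : D0 ι t v c' e) :
    D0 ι t v (c + c') (d * e) := by
  refine ⟨fun x hx => by rw [mul_assoc, k.1 x hx, ← mul_assoc, h.1 x hx, mul_assoc], ?_⟩
  calc _ = d * (e * t * e⁻¹) * d⁻¹ := by group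
    _ = d * t * d⁻¹ * (d * ι (tc v c') * d⁻¹) := by rw [k.2]; group
    _ = _ := by rw [h.2, h.1 _ (xS hv c'), mul_inv_cancel_right, mul_assoc, ← map_mul, H12.tc_mul hv.1]

theorem d0_inv {v : V} (hv : Is v) {c : K0 F} {d : G} (h : D0 ι t v c d) : D0 ι t v c d⁻¹ := by
  refine ⟨fun x hx => (Commute.inv_left (h.1 x hx)).eq, ?_⟩
  calc _ = d⁻¹ * (t * ι (tc v c)) * (ι (tc v c) * d) := by
        rw [inv_inv, mul_assoc, mul_assoc, mul_assoc, ← mul_assoc (ι _), xsq hv, one_mul]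
    _ = d⁻¹ * (d * t * d⁻¹) * (d * ι (tc v c)) := by rw [h.2, h.1 _ (xS hv c)]
    _ = _ := by group

theorem d0_uniq (h : C1 ι t) {v : V} (hv : Is v) {c c' : K0 F} {d : G} (k : D0 ι t v c d) (k' : D0 ι t v c' d) :
    c = c' := by
  have e : ι (tc v (c + c')) = 1 := by
    rw [← H12.tc_mul hv.1, map_mul, mul_left_cancel (k.2.symm.trans k'.2), xsq hv]
  exact CharTwo.add_eq_zero.1 (tc_inj h.em hv e)

theorem sv_inv {v : V} (hv : Is v) {c : K0 F} {d : G} (k : SV ι t v c d) : SV ι t v c d⁻¹ :=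
  ⟨d0_inv hv k.1, fun o ho => (Commute.inv_left (k.2.1 o ho)).eq, k.2.2.imp fun j e => by rw [inv_pow, e, inv_one]⟩

theorem sv_x (h : C1 ι t) {v : V} (hv : Is v) (a : K0 F) : SV ι t v 0 (ι (tc v a)) ∧ Xs ι t v 0 (ι (tc v a)) := by
  have d0 : D0 ι t v 0 (ι (tc v a)) := ⟨fun x hx => by
    rw [← map_mul, ← map_mul, eq_comm, ← mul_inv_eq_iff_eq_mul.1 ((H12.cj_tc x hv.1 a).trans (by rw [mem_St.1 hx]))], by
    rw [← h.tc, mul_inv_cancel_right, H12.tc_zero hv.1, map_one, mul_one]⟩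
  have co : CO ι t (ι (tc v a)) := fun o ho => ho.1 _ ⟨_, rfl⟩
  exact ⟨⟨d0, co, P2.of_sq (xsq hv a)⟩, d0, co, xsq hv a, fun b e => t_not h
    ⟨tc v a * (tc v b)⁻¹, by rw [map_mul, map_inv, e, mul_inv_cancel_right]⟩⟩

theorem sv_t (h : C1 ι t) {v : V} (hv : Is v) : SV ι t v 0 t :=
  ⟨⟨fun x _ => h.tc x, by rw [mul_inv_cancel_right, H12.tc_zero hv.1, map_one, mul_one]⟩, fun o ho => ho.2.1.symm,
    P2.of_sq h.t2⟩

theorem xs_sv {v : V} {c : K0 F} {d : G} (k : Xs ι t v c d) : SV ι t v c d :=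
  ⟨k.1, k.2.1, P2.of_sq k.2.2.1⟩

theorem d0_tr (h : C1 ι t) {v : V} (hv : Is v) {c : K0 F} {d : G} (k : D0 ι t v c d) (x : X) :
    D0 ι t (ac x v) c (ι x * d * (ι x)⁻¹) := by
  refine ⟨fun y hy => ?_, ?_⟩
  · have hz : x⁻¹ * y * x ∈ St {v} := by rw [mem_St, H12.ac_mul, H12.ac_mul, mem_St.1 hy, H12.ac_inv]
    have := k.1 _ hz
    rw [map_mul, map_mul, map_inv] at this
    calc _ = ι x * (d * ((ι x)⁻¹ * ι y * ι x)) * (ι x)⁻¹ := by group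
      _ = _ := by rw [this]; group
  · have c : (ι x)⁻¹ * t * ι x = t := by rw [mul_assoc, h.tc, inv_mul_cancel_left]
    calc _ = ι x * (d * ((ι x)⁻¹ * t * ι x) * d⁻¹) * (ι x)⁻¹ := by group
      _ = _ := by rw [c, k.2, ← H12.cj_tc x hv.1, map_mul, map_mul, map_inv, ← mul_assoc, ← h.tc]; group

theorem sv_tr (h : C1 ι t) {v : V} (hv : Is v) {c : K0 F} {d : G} (k : SV ι t v c d) (x : X) :
    SV ι t (ac x v) c (ι x * d * (ι x)⁻¹) :=
  ⟨d0_tr h hv k.1 x, co_cj k.2.1 x, k.2.2.cjg _⟩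

theorem xs_tr (h : C1 ι t) {v : V} (hv : Is v) {c : K0 F} {d : G} (k : Xs ι t v c d) (x : X) :
    Xs ι t (ac x v) c (ι x * d * (ι x)⁻¹) :=
  ⟨d0_tr h hv k.1 x, co_cj k.2.1 x, by rw [conj_mul, k.2.2.1, mul_one, mul_inv_cancel], fun a e1 => by
    rw [← H12.cj_tc x hv.1, map_mul, map_mul, map_inv, ← mul_assoc, ← mul_assoc, h.tc x, mul_left_inj, mul_assoc,
      mul_right_inj] at e1
    exact k.2.2.2 a e1⟩

theorem St_smul {v : V} {a : F} (ha : a ≠ 0) : St {a • v} = St {v} :=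
  Subgroup.ext fun x => by rw [mem_St, mem_St, H12.ac_smul, (smul_right_injective _ ha).eq_iff]

theorem nm_ne {a : F} (ha : a ≠ 0) : nm a ≠ 0 := fun e =>
  mul_ne_zero ha ((map_ne_zero _).2 ha) (congrArg Subtype.val e)

theorem d0_smul {v : V} (hv : Is v) {a : F} (ha : a ≠ 0) {c : K0 F} {d : G} :
    D0 ι t (a • v) c d ↔ D0 ι t v (c * nm a) d := by
  rw [D0, D0, St_smul ha, H12.tc_smul hv.1]

theorem sv_smul {v : V} (hv : Is v) {a : F} (ha : a ≠ 0) {c : K0 F} {d : G} :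
    SV ι t (a • v) c d ↔ SV ι t v (c * nm a) d := by
  rw [SV, SV, d0_smul hv ha]

theorem xs_smul {v : V} (hv : Is v) {a : F} (ha : a ≠ 0) {c : K0 F} {d : G} :
    Xs ι t (a • v) c d ↔ Xs ι t v (c * nm a) d := by
  rw [Xs, Xs, d0_smul hv ha]
  refine and_congr_right' (and_congr_right' (and_congr_right' ⟨fun k b => ?_, fun k b => ?_⟩))
  · have := k (b * (nm a)⁻¹)
    rwa [H12.tc_smul hv.1, inv_mul_cancel_right₀ (nm_ne ha)] at this
  · rw [H12.tc_smul hv.1]; exact k _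

theorem oo_d0 {v : V} (hv : Is v) {o : G} (ho : Oo ι t o) : D0 ι t v 0 o :=
  ⟨fun x _ => (ho.1 _ ⟨x, rfl⟩).symm, by rw [ho.2.1, mul_inv_cancel_right, H12.tc_zero hv.1, map_one, mul_one]⟩

theorem zero {v : V} {c : K0 F} {d : G} (k : D0 ι t v (c + c) d) : D0 ι t v 0 d :=
  CharTwo.add_self_eq_zero c ▸ k

theorem d0_ker (h : C2 ι t) {v : V} (hv : Is v) {d : G} (k : D0 ι t v 0 d) :
    ∃ a o, Oo ι t o ∧ (d = ι (tc v a) * o ∨ d = t * ι (tc v a) * o) := by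
  have c : d * t = t * d := by
    have := k.2
    rwa [H12.tc_zero hv.1, map_one, mul_one, mul_inv_eq_iff_eq_mul] at this
  obtain ⟨a, z, hz, rfl⟩ := cS h.em (h.CN d c) hv k.1
  obtain ⟨O, -, -, hO⟩ := od h
  obtain ⟨o, ho, e⟩ := hO z hz (by
    rw [mul_assoc, ← h.tc, ← mul_assoc, ← mul_assoc] at c
    exact mul_right_cancel c)
  have c1 : ι (tc v a) * o = o * ι (tc v a) := ho.1 _ ⟨_, rfl⟩
  exact ⟨a, o, ho, e.imp (fun e => by rw [e, c1]) fun e => by rw [e, mul_assoc, mul_assoc, c1]⟩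

theorem ker' (h : C2 ι t) {v : V} (hv : Is v) {d : G} (k : D0 ι t v 0 d) :
    ∃ u o, Oo ι t o ∧ u * u = 1 ∧ Commute u o ∧ d = u * o ∧ ∃ a, u = ι (tc v a) ∨ u = t * ι (tc v a) := by
  obtain ⟨a, o, ho, e | e⟩ := d0_ker h hv k
  · exact ⟨_, o, ho, xsq hv a, ho.1 _ ⟨_, rfl⟩, e, a, Or.inl rfl⟩
  · exact ⟨_, o, ho, txsq h.toC1 hv a, Commute.mul_left ho.2.1.symm (ho.1 _ ⟨_, rfl⟩), e, a, Or.inr rfl⟩

theorem d0_nO (h : C2 ι t) {v : V} (hv : Is v) {c : K0 F} {d o : G} (k : D0 ι t v c d) (ho : Oo ι t o) :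
    Oo ι t (d * o * d⁻¹) := by
  obtain ⟨u, o', ho', u2, c, e, -⟩ := ker' h hv
    (zero (d0_mul hv (add_zero c ▸ d0_mul hv k (oo_d0 hv ho) : D0 ι t v c (d * o)) (d0_inv hv k)))
  have : Odd (orderOf (u * o')) := by
    rw [← e]
    exact (orderOf_injective (MulAut.conj d).toMonoidHom (MulAut.conj d).injective o).symm ▸ ho.2.2
  rwa [e, LMS.SA.odd_kill u2 c ho'.2.2 this, one_mul]

theorem two (h : C2 ι t) {v : V} (hv : Is v) :
    (∀ {a b : G} {c c' : K0 F}, D0 ι t v c a → CO ι t a → D0 ι t v c' b → CO ι t b → P2 a → P2 b → P2 (a * b)) ∧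
    ∀ {d : G} {c : K0 F}, D0 ι t v c d → CO ι t d → ∃ z, Oo ι t z ∧ CO ι t z ∧ P2 (d * z⁻¹) := by
  obtain ⟨O, hO, oO, -⟩ := od h
  let D : Subgroup G :=
    { carrier := {d | (∃ c, D0 ι t v c d) ∧ CO ι t d}
      one_mem' := ⟨⟨0, by simpa [H12.tc_zero hv.1] using (sv_x h.toC1 hv 0).1.1⟩, fun o _ => by simp⟩
      mul_mem' := fun ⟨⟨_, a1⟩, a2⟩ ⟨⟨_, b1⟩, b2⟩ =>
        ⟨⟨_, d0_mul hv a1 b1⟩, fun o ho => (Commute.mul_left (a2 o ho) (b2 o ho)).eq⟩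
      inv_mem' := fun ⟨⟨_, a1⟩, a2⟩ => ⟨⟨_, d0_inv hv a1⟩, fun o ho => (Commute.inv_left (a2 o ho)).eq⟩ }
  obtain ⟨k1, k2⟩ := LMS.two_sub (D := D) (Z := O ⊓ D) (fun z hz d hd => hd.2 z ((hO z).1 hz.1))
    (Odd.of_dvd_nat oO (card_dvd_of_le inf_le_left)) fun d hd => ⟨2, by
      obtain ⟨c, hc⟩ := hd.1
      obtain ⟨u, o, ho, u2, cm, e, -⟩ := ker' h hv (zero (d0_mul hv hc hc))
      rw [show 2 ^ 2 = 2 * 2 from rfl, pow_mul, sq d, e, cm.mul_pow, sq u, u2, one_mul]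
      exact pow_mem ((hO o).2 ho) 2, pow_mem hd _⟩
  exact ⟨fun a1 a2 b1 b2 => k1 _ ⟨⟨_, a1⟩, a2⟩ _ ⟨⟨_, b1⟩, b2⟩, fun d1 d2 =>
    let ⟨z, hz, _, p⟩ := k2 _ ⟨⟨_, d1⟩, d2⟩; ⟨z, (hO z).1 hz.1, hz.2.2, p⟩⟩

theorem d0_sv (h : C2 ι t) {v : V} (hv : Is v) {c : K0 F} {d : G} (k : D0 ι t v c d) (k' : CO ι t d) :
    ∃ w o, SV ι t v c w ∧ Oo ι t o ∧ d = w * o := by
  obtain ⟨z, hz, cz, p⟩ := (two h hv).2 k k'
  exact ⟨d * z⁻¹, z, ⟨add_zero c ▸ d0_mul hv k (d0_inv hv (oo_d0 hv hz)),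
    fun o ho => (Commute.mul_left (k' o ho) (Commute.inv_left (cz o ho))).eq, p⟩, hz, by simp⟩

theorem sv_mul (h : C2 ι t) {v : V} (hv : Is v) {c c' : K0 F} {d e : G} (k : SV ι t v c d) (k' : SV ι t v c' e) :
    SV ι t v (c + c') (d * e) :=
  ⟨d0_mul hv k.1 k'.1, fun o ho => (Commute.mul_left (k.2.1 o ho) (k'.2.1 o ho)).eq,
    (two h hv).1 k.1 k.2.1 k'.1 k'.2.1 k.2.2 k'.2.2⟩

theorem sv_ker (h : C2 ι t) {v : V} (hv : Is v) {d : G} (k : SV ι t v 0 d) :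
    ∃ a, d = ι (tc v a) ∨ d = t * ι (tc v a) := by
  obtain ⟨u, o, ho, u2, c, rfl, e⟩ := ker' h hv k.1
  obtain ⟨m, hm⟩ := k.2.2
  have : P2 o := ⟨m + 1, by
    have := congrArg (· ^ 2) hm
    simp only [one_pow] at this
    rwa [← pow_mul, mul_comm, pow_mul, c.mul_pow, sq u, u2, one_mul, ← pow_mul, ← pow_succ'] at this⟩
  rwa [this.eq_one ho.2.2, mul_one]

theorem sv_sq (h : C2 ι t) {v : V} (hv : Is v) {c : K0 F} {d : G} (k : SV ι t v c d) : ∃ a, d * d = ι (tc v a) := by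
  have k2 := sv_mul h hv k k
  rw [CharTwo.add_self_eq_zero] at k2
  obtain ⟨a, e | e⟩ := sv_ker h hv k2
  · exact ⟨a, e⟩
  have c1 : d * t = t * d := by
    have : d * (t * ι (tc v a)) = t * ι (tc v a) * d := by rw [← e, mul_assoc]
    rw [mul_assoc, ← k.1.1 _ (xS hv a), ← mul_assoc, ← mul_assoc] at this
    exact mul_right_cancel this
  have k3 : SV ι t v 0 d := ⟨⟨k.1.1, by rw [c1, mul_inv_cancel_right, H12.tc_zero hv.1, map_one, mul_one]⟩, k.2⟩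
  refine ⟨0, ?_⟩
  rw [H12.tc_zero hv.1, map_one]
  obtain ⟨b, rfl | rfl⟩ := sv_ker h hv k3
  exacts [xsq hv b, txsq h.toC1 hv b]

theorem xs_ker (h : C2 ι t) {v : V} (hv : Is v) {d : G} (k : Xs ι t v 0 d) : ∃ a, d = ι (tc v a) :=
  let ⟨a, e⟩ := sv_ker h hv (xs_sv k); ⟨a, e.resolve_right (k.2.2.2 a)⟩

theorem c4_uniq (h : C4 ι t) {v : V} (hv : Is v) {c : K0 F} (hc : c ≠ 0) {u : G} (u2 : u * u = 1)
    (k : D0 ι t v c u) : Xs ι t v c u := by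
  obtain ⟨w, hw⟩ := h.xe v hv c
  obtain ⟨a, o, ho, e⟩ := d0_ker h.toC2 hv (zero (d0_mul hv hw.1 k))
  have hw' := h.mul v hv _ _ _ _ hw (sv_x h.toC1 hv a).2
  rw [add_zero] at hw'
  have wi : w⁻¹ = w := inv_eq_of_mul_eq_one_right hw.2.2.1
  rcases e with e | e
  · rw [← eq_inv_mul_iff_mul_eq, wi, ← mul_assoc] at e
    have c1 : Commute (w * ι (tc v a)) o := hw'.2.1 o ho
    rw [e, ← pow_two, c1.mul_pow, pow_two, hw'.2.2.1, one_mul, pow_two] at u2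
    rwa [e, (P2.of_sq u2).eq_one ho.2.2, mul_one]
  · rw [← eq_inv_mul_iff_mul_eq, wi, ← mul_assoc, ← mul_assoc] at e
    have c0 : Commute (w * t) (ι (tc v a)) := Commute.mul_left (hw.1.1 _ (xS hv a)) (h.tc _)
    have c1 : Commute (w * t * ι (tc v a)) o :=
      (Commute.mul_left (hw.2.1 o ho) ho.2.1.symm).mul_left (ho.1 _ ⟨_, rfl⟩)
    have e2 : (w * t) ^ 2 = ι (tc v c) := by
      rw [pow_two, ← mul_assoc]
      nth_rw 2 [← wi]
      rw [hw.1.2, h.tc, mul_assoc, h.t2, mul_one]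
    rw [e, ← pow_two, c1.mul_pow, c0.mul_pow, pow_two (ι _), xsq hv, mul_one, e2, mul_eq_one_iff_eq_inv] at u2
    exact absurd (tc_one hv (em_cen h.em (P2.of_sq (H12.tc_sq hv.1 c)) (u2 ▸ inv_mem (pow_mem ho.1 2)))) hc

end UMS.H97
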