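import Cfsg.Agent.Lib.UMS.RKM
import Cfsg.Agent.Lib.UMS.GD
import Cfsg.Agent.Lib.UMS.B4

set_option autoImplicit false
set_option linter.unusedSectionVars false

namespace UMS

open Subgroup H69 Cfsg Matrix U4S
open LMS (XX GX iL kk MM au tw Sg)
open scoped MatrixGroups commutatorElement

universe u
variable {G : Type*} [Group G] [Finite G] {F : Type u} [Field F] [CharP F 2] [Fintype F] [Hs F] {n : ℕ} [Ok n F]
  {ι ψ χ : XU n F →* G} {t : G} {E : Subgroup G}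

local notation "X" => XU n F
local notation "V" => VV n F
local notation "𝐪" => Nat.card (K0 F)
local notation "I" => Fin (n + 3)
local notation "Mx" => Matrix (Fin (n + 3)) (Fin (n + 3)) F


namespace W1A

theorem cJ (e : Em ψ) (t2 : t * t = 1) (i : Inn ψ.range t) :
    ∃ J : Subgroup X, IsJ J ∧ J.map ψ ≤ centralizer {t} := by
  obtain ⟨u, k, u2, -, hk, e'⟩ := e.deci i t2
  obtain ⟨z, hz⟩ := inv_J u2
  refine ⟨JD n F (kk n) ^ᶜ z⁻¹, isJ_kk.cj _, ?_⟩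
  rintro _ ⟨x, hx, rfl⟩
  have hu : u ∈ JD n F (kk n) ^ᶜ z⁻¹ := by
    have := cj_mem z⁻¹ hz
    simpa [mul_assoc] using this
  have c := (isJ_kk.cj z⁻¹).el.comm hx hu
  have c2 := hk (ψ x) ⟨x, rfl⟩
  rw [mem_centralizer_singleton_iff, e', ← mul_assoc, c2, mul_assoc, ← map_mul, c, map_mul, mul_assoc]

theorem fx {α : X →* X} {P : Subgroup X} (hP : ∀ p ∈ P, α p = p) {y : X} (hy : y ∈ ⁅P, P⁆) : α y = y :=
  hP y (commutator_le.2 (fun a ha b hb => by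
    rw [commutatorElement_def]
    exact P.mul_mem (P.mul_mem (P.mul_mem ha hb) (P.inv_mem ha)) (P.inv_mem hb)) hy)

end W1A

theorem w1a (p : Pa ψ χ) (h : C2 ι t) (hm : t ∈ Mo ψ χ) (i : Inn ψ.range t) : False := by
  obtain ⟨J, hJ, cJ⟩ := W1A.cJ p.e1 h.t2 i
  have q4 : 4 ≤ 𝐪 ^ kk n ^ 2 := four_le_MM
  by_cases i' : Inn χ.range t
  · obtain ⟨J', hJ', cJ'⟩ := W1A.cJ p.e2 h.t2 i'
    obtain ⟨el, cd, -⟩ := p.elJ hJ hJ'
    have := (h.toC1.rk el fun b hb => mem_centralizer_singleton_iff.1 (sup_le cJ cJ' hb)).1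
    rw [cd] at this
    nlinarith
  · obtain ⟨α, ha, o⟩ := p.e2.ou hm.2 h.t2 i'
    obtain ⟨P, -, hP, y, hy, y2, y1, -⟩ := gd_out o
    have cy := ha.fix (W1A.fx hP hy)
    have cz : (zpowers y).map χ ≤ centralizer {t} := by
      rw [MonoidHom.map_zpowers, zpowers_le, mem_centralizer_singleton_iff, cy]
    have el : El (J.map ψ ⊔ (zpowers y).map χ) := (hJ.el.map ψ).sup ((el_zpowers y2).map χ) (by
      rintro _ ⟨a, -, rfl⟩ _ ⟨b, -, rfl⟩; exact p.comm a b)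
    have cd := (p.isP hJ.el.isP (el_zpowers y2).isP).2
    rw [hJ.card, Nat.card_zpowers, orderOf_eq_prime (p := 2) (by rw [sq, y2]) y1] at cd
    have ct : ∀ b ∈ J.map ψ ⊔ (zpowers y).map χ, t * b = b * t := fun b hb =>
      (mem_centralizer_singleton_iff.1 (sup_le cJ cz hb)).symm
    have nt : t ∉ J.map ψ ⊔ (zpowers y).map χ := fun k => by
      obtain ⟨a, b, e⟩ := p.dec.1 (sup_le_sup (map_le_range ψ J) (map_le_range χ _) k)
      exact i' (inn_act.2 ⟨b, e ▸ (p.act1 a b).2⟩)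
    have el' : El (zpowers t ⊔ (J.map ψ ⊔ (zpowers y).map χ)) := (el_zpowers h.t2).sup el (by
      intro a ha b hb
      rcases (mem_zp h.t2).1 ha with rfl | rfl
      · rw [one_mul, mul_one]
      · exact ct b hb)
    have := (h.toC1.rk el' fun b hb => mem_centralizer_singleton_iff.1
      (sup_le (zpowers_le.2 (mem_centralizer_singleton_iff.2 rfl)) (sup_le cJ cz) hb)).1
    rw [card_zp_sup h.t2 ct nt, cd] at this
    omega

theorem w1b (p : Pa ψ χ) (h : C2 ι t) (hm : t ∈ Mo ψ χ) (o : ¬ Inn ψ.range t) (o' : ¬ Inn χ.range t) : False := by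
  obtain ⟨α, ha, ou⟩ := p.e1.ou hm.1 h.t2 o
  obtain ⟨α', ha', ou'⟩ := p.e2.ou hm.2 h.t2 o'
  obtain ⟨B, eB, fB, cB⟩ := hf ou
  obtain ⟨B', eB', fB', cB'⟩ := hf ou'
  have el : El (B.map ψ ⊔ B'.map χ) := (eB.map ψ).sup (eB'.map χ) (by
    rintro _ ⟨a, -, rfl⟩ _ ⟨b, -, rfl⟩; exact p.comm a b)
  have ct : B.map ψ ⊔ B'.map χ ≤ centralizer {t} := sup_le
    (by rintro _ ⟨x, hx, rfl⟩; exact mem_centralizer_singleton_iff.2 (ha.fix (fB x hx)).symm)
    (by rintro _ ⟨x, hx, rfl⟩; exact mem_centralizer_singleton_iff.2 (ha'.fix (fB' x hx)).symm)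
  have c := (h.toC1.rk el fun b hb => mem_centralizer_singleton_iff.1 (ct hb)).1
  rw [(p.isP eB.isP eB'.isP).2] at c
  have q2 : 2 ≤ 𝐪 := Finite.one_lt_card
  have k8 : 8 ≤ 𝐪 ^ kk n := le_trans (by norm_num : 8 ≤ 2 ^ 3)
    ((Nat.pow_le_pow_left q2 3).trans (Nat.pow_le_pow_right (by omega) (by have := Ok.h3 (n := n) (F := F); unfold kk; omega)))
  have q4 : 4 ≤ 𝐪 ^ kk n ^ 2 := four_le_MM
  rw [pow_add, ← sq] at cB cB'
  have e := Nat.mul_le_mul cB cB'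
  rw [← mul_pow, ← sq, Nat.pow_le_pow_iff_left two_ne_zero] at e
  nlinarith

end UMS
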