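import Cfsg.Agent.Lib.UMS.WP
import Cfsg.Agent.Lib.UMS.Ln81

set_option autoImplicit false
set_option linter.unusedSectionVars false

namespace UMS

open Subgroup H69 Cfsg Matrix U4S
open LMS (XX GX iL kk MM au tw Sg)
open scoped MatrixGroups commutatorElement

universe u
variable {G : Type*} [Group G] [Finite G] {F : Type u} [Field F] [CharP F 2] [Fintype F] [Hs F] {n : ℕ} [Ok n F]
  {ι ψ χ : XU n F →* G} {t : G} {E : Subgroup G}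

local notation "X" => XU n F
local notation "V" => VV n F
local notation "𝐪" => Nat.card (K0 F)
local notation "I" => Fin (n + 3)
local notation "Mx" => Matrix (Fin (n + 3)) (Fin (n + 3)) F

namespace W5

theorem p1 {Γ : Type*} [Group Γ] : P2 (1 : Γ) := ⟨0, one_pow _⟩

theorem sqc {Γ : Type*} [Group Γ] {a b : Γ} (c : IsConj a b) (h : a * a = 1) : b * b = 1 := by
  obtain ⟨g, rfl⟩ := isConj_iff.1 c
  calc g * a * g⁻¹ * (g * a * g⁻¹) = g * (a * a) * g⁻¹ := by group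
    _ = 1 := by rw [h]; group

theorem cjc {Γ : Type*} [Group Γ] (g a : Γ) : IsConj a (g * a * g⁻¹) := isConj_iff.2 ⟨g, rfl⟩

theorem pmul (p : Pa ψ χ) (a b c d : X) : ψ a * χ b * (ψ c * χ d) = ψ (a * c) * χ (b * d) := by
  rw [map_mul, map_mul, mul_assoc, ← mul_assoc (χ b), ← p.comm c b]; simp only [mul_assoc]

theorem cjp (p : Pa ψ χ) (a b y y' : X) : IsConj (ψ a * χ b) (ψ (y * a * y⁻¹) * χ (y' * b * y'⁻¹)) := by
  refine isConj_iff.2 ⟨ψ y * χ y', ?_⟩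
  rw [mul_inv_eq_iff_eq_mul, pmul p, pmul p, inv_mul_cancel_right, inv_mul_cancel_right]

theorem both (p : Pa ψ χ) {v : G} (v2 : v * v = 1) (h1 : v ∈ ψ.range) (h2 : v ∈ χ.range) : v = 1 := by
  obtain ⟨y, y2, e⟩ := p.e1.lifti h1 v2
  obtain ⟨y', y2', e'⟩ := p.e2.lifti h2 v2
  have := (p.uniq (a := y) (b := 1) (a' := 1) (b' := y') (P2.of_sq y2) p1 p1 (P2.of_sq y2')
    (by rw [map_one, map_one, mul_one, one_mul, e, e'])).1
  rw [← e, this, map_one]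

theorem cι_sq {ρ : X →* G} (g : G) {x : X} (h : x * x = 1) : g * ρ x * g⁻¹ * (g * ρ x * g⁻¹) = 1 :=
  sqc (cjc g _) (by rw [← map_mul, h, map_one])

theorem cι_one {ρ : X →* G} (e : Em ρ) {g : G} {x : X} (h : x * x = 1) : g * ρ x * g⁻¹ = 1 ↔ x = 1 := by
  constructor
  · intro k
    rw [conj_eq_one_iff] at k
    exact e.inj2 (P2.of_sq h) p1 (by rw [k, map_one])
  · rintro rfl
    simp

theorem dis (p : Pa ψ χ) {ρ : X →* G} (e : Em ρ) (g : G) :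
    ψ.range.comap (cι ρ g) ⊓ χ.range.comap (cι ρ g) ⊓ JD n F (kk n) = ⊥ := by
  rw [eq_bot_iff]
  intro x hx
  obtain ⟨hx, hJ⟩ := mem_inf.1 hx
  obtain ⟨h1, h2⟩ := mem_inf.1 hx
  have x2 := el_JD _ x hJ
  exact mem_bot.2 ((cι_one e x2).1 (both p (cι_sq g x2) h1 h2))

theorem JJ_Y (p : Pa ψ χ) {g : G} (k : ((JD n F (kk n)).map ψ ⊔ (JD n F (kk n)).map χ) ^ᶜ g ≤ 𝐍(ψ.range ⊔ χ.range)) :
    ∃ J J', IsJ J ∧ IsJ J' ∧ ((JD n F (kk n)).map ψ ⊔ (JD n F (kk n)).map χ) ^ᶜ g = J.map ψ ⊔ J'.map χ := by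
  obtain ⟨e, c, -⟩ := p.elJ isJ_kk isJ_kk
  exact p.rkm (e.cjg g) k (by rw [card_cj, c])

theorem JJ_Y' (p : Pa ψ χ) {g : G} (k : ((JD n F (kk n)).map ψ ⊔ (JD n F (kk n)).map χ) ^ᶜ g ≤ 𝐍(ψ.range ⊔ χ.range)) :
    ((JD n F (kk n)).map ψ ⊔ (JD n F (kk n)).map χ) ^ᶜ g ≤ ψ.range ⊔ χ.range := by
  obtain ⟨J, J', -, -, e⟩ := JJ_Y p k
  rw [e]
  exact sup_le_sup (map_le_range ψ J) (map_le_range χ J')

theorem exJ {J : Subgroup X} (h : IsJ J) : ∃ x ∈ J, x ≠ 1 := by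
  by_contra k
  push Not at k
  have e : J = ⊥ := (eq_bot_iff_forall J).2 k
  have c := h.card
  have := four_le_MM (n := n) (F := F)
  rw [e, card_bot] at c
  omega

theorem side (h : Wk ι ψ χ t) {ρ : X →* G} (e : Em ρ) (cl : ∀ x, rk x = 1 → Cl ψ (ρ x)) {g : G}
    (k : ∀ x ∈ JD n F (kk n), g * ρ x * g⁻¹ ∈ ψ.range ⊔ χ.range) :
    (∀ x ∈ JD n F (kk n), g * ρ x * g⁻¹ ∈ ψ.range) ∨ ∀ x ∈ JD n F (kk n), g * ρ x * g⁻¹ ∈ χ.range := by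
  refine L81.ln3' (dis h.pa e g) fun x hx r => ?_
  obtain ⟨y, -, hy⟩ := h.rank1 (IsConj.trans (cl x r) (cjc g _)) (k x hx)
  exact hy.imp (fun k => ⟨y, k.symm⟩) fun k => ⟨y, k.symm⟩

theorem cj_sup_le {g : G} {L : Subgroup G} (h1 : ∀ x ∈ JD n F (kk n), g * ψ x * g⁻¹ ∈ L)
    (h2 : ∀ x ∈ JD n F (kk n), g * χ x * g⁻¹ ∈ L) : ((JD n F (kk n)).map ψ ⊔ (JD n F (kk n)).map χ) ^ᶜ g ≤ L := by
  rw [cj_sup]
  refine sup_le (fun v hv => ?_) fun v hv => ?_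
  · obtain ⟨_, ⟨x, hx, rfl⟩, rfl⟩ := mem_cj'.1 hv
    exact h1 x hx
  · obtain ⟨_, ⟨x, hx, rfl⟩, rfl⟩ := mem_cj'.1 hv
    exact h2 x hx

theorem cc (h : Wk ι ψ χ t) {g : G}
    (k : ((JD n F (kk n)).map ψ ⊔ (JD n F (kk n)).map χ) ^ᶜ g ≤ 𝐍(ψ.range ⊔ χ.range)) {a b : X}
    (ha : a ∈ JD n F (kk n)) (hb : b ∈ JD n F (kk n)) : Pu ψ χ (g * (ψ a * χ b) * g⁻¹) ↔ a = 1 ∨ b = 1 := by
  have p := h.pa
  have hY := JJ_Y' p k
  obtain ⟨J, J', hJ, hJ', e⟩ := JJ_Y p k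
  have a2 := el_JD _ a ha
  have b2 := el_JD _ b hb
  have E : g * (ψ a * χ b) * g⁻¹ = g * ψ a * g⁻¹ * (g * χ b * g⁻¹) := by group
  rcases side h p.e1 (fun x r => (h.cl r).1) (fun x hx => hY (cj_mem g (mem_sup_left (mem_map_of_mem ψ hx)))) with
    k1 | k1 <;>
  rcases side h p.e2 (fun x r => (h.cl r).2) (fun x hx => hY (cj_mem g (mem_sup_right (mem_map_of_mem χ hx)))) with
    k2 | k2
  · exfalso
    obtain ⟨x, hx, x1⟩ := exJ hJ'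
    have x2 := hJ'.el x hx
    have := both p (v := χ x) (by rw [← map_mul, x2, map_one])
      (cj_sup_le k1 k2 (e ▸ mem_sup_right (mem_map_of_mem χ hx))) ⟨x, rfl⟩
    exact x1 (p.e2.inj2 (P2.of_sq x2) p1 (by rw [this, map_one]))
  · obtain ⟨c, c2, hc⟩ := p.e1.lifti (k1 a ha) (cι_sq g a2)
    obtain ⟨d, d2, hd⟩ := p.e2.lifti (k2 b hb) (cι_sq g b2)
    rw [E, ← hc, ← hd, p.pu (P2.of_sq c2) (P2.of_sq d2), ← cι_one p.e1 (g := g) a2, ← cι_one p.e2 (g := g) b2, ← hc, ← hd,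
      ← cι_one p.e1 (g := 1) c2, ← cι_one p.e2 (g := 1) d2]
    simp only [one_mul, inv_one, mul_one]
  · obtain ⟨c, c2, hc⟩ := p.e2.lifti (k1 a ha) (cι_sq g a2)
    obtain ⟨d, d2, hd⟩ := p.e1.lifti (k2 b hb) (cι_sq g b2)
    rw [E, ← hc, ← hd, ← p.comm, p.pu (P2.of_sq d2) (P2.of_sq c2), ← cι_one p.e1 (g := g) a2, ← cι_one p.e2 (g := g) b2,
      ← hc, ← hd, ← cι_one p.e2 (g := 1) c2, ← cι_one p.e1 (g := 1) d2]
    simp only [one_mul, inv_one, mul_one]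
    exact or_comm
  · exfalso
    obtain ⟨x, hx, x1⟩ := exJ hJ
    have x2 := hJ.el x hx
    have := both p (v := ψ x) (by rw [← map_mul, x2, map_one]) ⟨x, rfl⟩
      (cj_sup_le k1 k2 (e ▸ mem_sup_left (mem_map_of_mem ψ hx)))
    exact x1 (p.e1.inj2 (P2.of_sq x2) p1 (by rw [this, map_one]))

theorem key (h : Wk ι ψ χ t) {a b c d : X} (ha : a ∈ JD n F (kk n)) (hb : b ∈ JD n F (kk n)) (hc : c ∈ JD n F (kk n))
    (hd : d ∈ JD n F (kk n)) (k : IsConj (ψ c * χ d) (ψ a * χ b)) (o : c = 1 ∨ d = 1) : a = 1 ∨ b = 1 := by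
  haveI : Fact (Nat.Prime 2) := ⟨Nat.prime_two⟩
  obtain ⟨g, hg⟩ := isConj_iff.1 k
  have e := (h.pa.elJ (isJ_kk (n := n) (F := F)) isJ_kk).1
  have m : ∀ {a b : X}, a ∈ JD n F (kk n) → b ∈ JD n F (kk n) →
      (JD n F (kk n)).map ψ ⊔ (JD n F (kk n)).map χ ≤ centralizer {ψ a * χ b} := fun ha hb x hx =>
    mem_centralizer_singleton_iff.2
      (e.comm hx (mul_mem (mem_sup_left (mem_map_of_mem ψ ha)) (mem_sup_right (mem_map_of_mem χ hb))))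
  obtain ⟨S, hS, le⟩ := exists_isSylowIn_le e.isP (m ha hb)
  obtain ⟨y, hy, le'⟩ := hS.exists_cj_le (e.cjg g).isP (by
    rw [← hg, ← cj_centralizer_singleton]; exact cj_mono g (m hc hd))
  obtain ⟨w, -, hw⟩ := h.ct.into (mem_top t) hS.isP le_top
  rw [← cc h ((cj_mono w le).trans hw) ha hb]
  have k2 := (cj_mono w le').trans hw
  rw [cj_cj, cj_cj] at k2
  have := (cc h k2 hc hd).2 o
  have E : w * y * g * (ψ c * χ d) * (w * y * g)⁻¹ = w * (ψ a * χ b) * w⁻¹ := by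
    calc _ = w * (y * (g * (ψ c * χ d) * g⁻¹) * y⁻¹) * w⁻¹ := by group
      _ = _ := by rw [hg, mem_centralizer_singleton_iff.1 hy, mul_inv_cancel_right]
  rwa [E] at this

end W5

theorem Wk.n5 (h : Wk ι ψ χ t) {a b : X} (ha : a * a = 1) (hb : b * b = 1) (a1 : a ≠ 1) (b1 : b ≠ 1) {w : G}
    (p : Pu ψ χ w) : ¬ IsConj (ψ a * χ b) w := by
  intro k
  have w2 : w * w = 1 := W5.sqc k (by rw [W5.pmul h.pa, ha, hb, map_one, map_one, one_mul])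
  obtain ⟨c, d, c2, d2, rfl, o⟩ : ∃ c d : X, c * c = 1 ∧ d * d = 1 ∧ w = ψ c * χ d ∧ (c = 1 ∨ d = 1) := by
    rcases p with p | p
    · obtain ⟨c, c2, rfl⟩ := h.pa.e1.lifti p w2
      exact ⟨c, 1, c2, one_mul 1, by rw [map_one, mul_one], Or.inr rfl⟩
    · obtain ⟨c, c2, rfl⟩ := h.pa.e2.lifti p w2
      exact ⟨1, c, one_mul 1, c2, by rw [map_one, one_mul], Or.inl rfl⟩
  obtain ⟨x, hx⟩ := inv_J ha
  obtain ⟨y, hy⟩ := inv_J hb
  obtain ⟨x', hx'⟩ := inv_J c2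
  obtain ⟨y', hy'⟩ := inv_J d2
  have := W5.key h hx hy hx' hy' ((W5.cjp h.pa c d x' y').symm.trans (k.symm.trans (W5.cjp h.pa a b x y)))
    (by rwa [conj_eq_one_iff, conj_eq_one_iff])
  rw [conj_eq_one_iff, conj_eq_one_iff] at this
  exact this.elim a1 b1

end UMS
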