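import Cfsg.Agent.Lib.UMS.W5
import Cfsg.Agent.Lib.UMS.GD
import Cfsg.Agent.Lib.UMS.B4b

set_option autoImplicit false
set_option linter.unusedSectionVars false

namespace UMS

open Subgroup H69 Cfsg Matrix U4S
open LMS (XX GX iL kk MM au tw Sg)
open scoped MatrixGroups commutatorElement

universe u
variable {G : Type*} [Group G] [Finite G] {F : Type u} [Field F] [CharP F 2] [Fintype F] [Hs F] {n : ℕ} [Ok n F]
  {ι ψ χ : XU n F →* G} {t : G} {E : Subgroup G}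

local notation "X" => XU n F
local notation "V" => VV n F
local notation "𝐪" => Nat.card (K0 F)
local notation "I" => Fin (n + 3)
local notation "Mx" => Matrix (Fin (n + 3)) (Fin (n + 3)) F

namespace WE1

theorem zsq : (zz 1 : X) * zz 1 = 1 := rk_sq (rk_zz one_ne_zero).le

theorem z_ne : (zz 1 : X) ≠ 1 := fun e => by
  have := rk_zz (n := n) (F := F) one_ne_zero
  rw [rk_zero.2 e] at this
  exact zero_ne_one this

theorem cl_cj {v : G} (c : Cl ψ v) (g : G) : Cl ψ (g * v * g⁻¹) := IsConj.trans c (isConj_iff.2 ⟨g, rfl⟩)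

theorem cl_sq {v : G} (c : Cl ψ v) : v * v = 1 := by
  obtain ⟨g, rfl⟩ := isConj_iff.1 c
  have : ψ (zz 1) * ψ (zz 1) = 1 := by rw [← map_mul, zsq, map_one]
  calc _ = g * (ψ (zz 1) * ψ (zz 1)) * g⁻¹ := by group
    _ = 1 := by rw [this]; group

theorem cj_sq {y : G} (h : y * y = 1) (g : G) : g * y * g⁻¹ * (g * y * g⁻¹) = 1 := by
  calc _ = g * (y * y) * g⁻¹ := by group
    _ = 1 := by rw [h]; group

theorem map_sq (f : X →* G) {y : X} (h : y * y = 1) : f y * f y = 1 := by rw [← map_mul, h, map_one]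

theorem inY (p : Pa ψ χ) {P : Subgroup G} {g y : G} (k : P ^ᶜ g ≤ Mo ψ χ) (hy : y ∈ ⁅P, P⁆) (y2 : y * y = 1) :
    g * y * g⁻¹ ∈ ψ.range ⊔ χ.range :=
  p.comm_mem k (cj_commutator P P g ▸ cj_mem g hy) (P2.of_sq (cj_sq y2 g))

theorem map_comm (f : X →* G) {P : Subgroup X} {Q : Subgroup G} (h : P.map f ≤ Q) {y : X} (hy : y ∈ ⁅P, P⁆) :
    f y ∈ ⁅Q, Q⁆ := commutator_mono h h (map_commutator P P f ▸ mem_map_of_mem f hy)

end WE1

open WE1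

theorem Wk.tr (h : Wk ι ψ χ t) {v g y : G} (e : g * v * g⁻¹ = ψ (zz 1)) (p : Pu ψ χ y) (y2 : y * y = 1)
    (c : Cl ψ (y * v)) (k : g * y * g⁻¹ ∈ ψ.range ⊔ χ.range) : g * y * g⁻¹ ∈ ψ.range := by
  obtain ⟨a, b, ha, hb, e'⟩ := h.pa.deci k (cj_sq y2 g)
  by_cases b1 : b = 1
  · exact ⟨a, by rw [e', b1, map_one, mul_one]⟩
  by_cases a1 : a = 1
  · have c' := cl_cj c g
    have : g * (y * v) * g⁻¹ = ψ (zz 1) * χ b := by
      rw [h.pa.comm, ← e, ← one_mul (χ b), ← map_one ψ, ← a1, ← e']; group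
    rw [this] at c'
    exact ((h.pure zsq hb c').elim z_ne b1).elim
  · exact (h.n5 ha hb a1 b1 p (e' ▸ (isConj_iff.2 ⟨g, rfl⟩ : IsConj y (g * y * g⁻¹)).symm)).elim

theorem Wk.e1 (h : Wk ι ψ χ t) {v : G} (c : Cl ψ v) (g1 : Good ψ v) (g2 : Good χ v) : False := by
  obtain ⟨α, a1, P, p1, p2, y, y1, y2, y3, y4⟩ := g1
  obtain ⟨β, b1, Q, q1, q2, w, w1, w2, w3, w4⟩ := g2
  obtain ⟨g, e, k⟩ := h.ext c (h.pa.isP p1 q1).1 (by
    have : P.map ψ ⊔ Q.map χ ≤ centralizer {v} := sup_le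
      (by rintro _ ⟨x, hx, rfl⟩; exact mem_centralizer_singleton_iff.2 (a1.fix (p2 x hx)).symm)
      (by rintro _ ⟨x, hx, rfl⟩; exact mem_centralizer_singleton_iff.2 (b1.fix (q2 x hx)).symm)
    exact fun p hp => mem_centralizer_singleton_iff.1 (this hp))
  obtain ⟨x, hx⟩ := a1.tw y4
  obtain ⟨x', hx'⟩ := b1.tw w4
  have m1 := h.tr e (Or.inl ⟨y, rfl⟩) (map_sq ψ y2) (hx ▸ cl_cj c _)
    (inY h.pa k (map_comm ψ le_sup_left y1) (map_sq ψ y2))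
  have m2 := h.tr e (Or.inr ⟨w, rfl⟩) (map_sq χ w2) (hx' ▸ cl_cj c _)
    (inY h.pa k (map_comm χ le_sup_right w1) (map_sq χ w2))
  exact h.n5 y2 w2 y3 w3 (Or.inl (mul_mem m1 m2)) (isConj_iff.2 ⟨g, by group⟩)

theorem Wk.nsw (h : Wk ι ψ χ t) {v : G} (c : Cl ψ v) (m : v ∈ 𝐍(ψ.range ⊔ χ.range)) : v ∈ Mo ψ χ := by
  rcases h.pa.perm v m with k | ⟨k, -⟩
  · exact k
  exfalso
  have v2 := cl_sq c
  have vi : v⁻¹ = v := inv_eq_of_mul_eq_one_right v2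
  have s : ∀ x, v * ψ x * v⁻¹ ∈ χ.range := fun x => k ▸ cj_mem v ⟨x, rfl⟩
  have cm : ∀ x y, Commute (ψ x) (cι ψ v y) := fun x y => by
    obtain ⟨b, hb⟩ := s y
    rw [cι_apply, ← hb]; exact h.pa.comm x b
  let δ : X →* G := MonoidHom.mk' (fun x => ψ x * cι ψ v x) fun x y => by
    rw [map_mul, map_mul]; exact (cm y x).mul_mul_mul_comm _ _
  have dδ : ∀ x, δ x = ψ x * (v * ψ x * v⁻¹) := fun _ => rfl
  have dv : ∀ x, δ x * v = v * δ x := fun x => by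
    have e : δ x = v * ψ x * v⁻¹ * ψ x := (cm x x).eq
    conv_rhs => rw [e]
    rw [dδ, vi]
    simp only [mul_assoc]
    rw [v2, ← mul_assoc v v, v2, one_mul, mul_one]
  obtain ⟨g, e, hk⟩ := h.ext c (sylU.isP.map δ) (by rintro _ ⟨x, -, rfl⟩; exact dv x)
  have np : ∀ w : X, w * w = 1 → w ≠ 1 → ¬ Pu ψ χ (g * δ w * g⁻¹) := fun w w2 w1 p => by
    obtain ⟨b, b2, hb⟩ := h.pa.e2.lifti (s w) (cj_sq (map_sq ψ w2) v)
    refine h.n5 w2 b2 w1 (fun b1 => w1 ?_) p (isConj_iff.2 ⟨g, by rw [hb, dδ]⟩)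
    rw [b1, map_one, eq_comm, conj_eq_one_iff, ← map_one ψ] at hb
    exact h.pa.e1.inj2 (P2.of_sq w2) (P2.of_sq (one_mul 1)) hb
  have key : ∀ w ∈ ⁅UU n F, UU n F⁆, w * w = 1 → w ≠ 1 → ∃ b, g * δ w * g⁻¹ = χ b * (ψ (zz 1))⁻¹ := by
    intro w hw w2 w1
    have m1 := inY h.pa hk (map_comm δ le_rfl hw) (map_sq δ w2)
    have c1 : Cl ψ (δ w * v) := by
      have : δ w * v = ψ w * v * (ψ w)⁻¹ := by
        rw [dδ, inv_eq_of_mul_eq_one_right (map_sq ψ w2)]; group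
      exact this ▸ cl_cj c _
    have e1 : g * (δ w * v) * g⁻¹ = g * δ w * g⁻¹ * ψ (zz 1) := by rw [← e]; group
    obtain ⟨b, -, hb | hb⟩ := h.rank1 (cl_cj c1 g) (e1 ▸ mul_mem m1 (mem_sup_left ⟨_, rfl⟩))
    · rw [e1, ← eq_mul_inv_iff_mul_eq] at hb
      exact (np w w2 w1 (Or.inl (hb ▸ mul_mem ⟨_, rfl⟩ (inv_mem ⟨_, rfl⟩)))).elim
    · exact ⟨b, by rw [← hb, e1, mul_inv_cancel_right]⟩
  obtain ⟨x, hx, y, hy, x2, y2, xy, x1, y1, ne⟩ := four_U (n := n) (F := F)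
  obtain ⟨a, ha⟩ := key x hx x2 x1
  obtain ⟨b, hb⟩ := key y hy y2 y1
  refine np (x * y) ?_ (fun e => ne ?_) (Or.inr ⟨a * b, ?_⟩)
  · rw [mul_assoc, ← mul_assoc y, ← xy, mul_assoc, y2, mul_one, x2]
  · rw [eq_inv_of_mul_eq_one_left e, inv_eq_of_mul_eq_one_right y2]
  · have : g * δ (x * y) * g⁻¹ = g * δ x * g⁻¹ * (g * δ y * g⁻¹) := by rw [map_mul]; group
    rw [this, ha, hb, ← map_inv, inv_eq_of_mul_eq_one_right zsq, mul_assoc, ← mul_assoc (ψ _), h.pa.comm, mul_assoc,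
      map_sq ψ zsq, mul_one, map_mul]

theorem good_or (e : Em ψ) {v : G} (m : v ∈ 𝐍(ψ.range)) (v2 : v * v = 1) :
    v ∈ 𝐂(ψ.range) ∨ Good ψ v := by
  by_cases i : Inn ψ.range v
  · obtain ⟨u, k, u2, -, hk, rfl⟩ := e.deci i v2
    by_cases u1 : u = 1
    · exact Or.inl (by rwa [u1, map_one, mul_one])
    · refine Or.inr ⟨cn u, fun x => ?_, gd_inn u2 u1⟩
      have := mem_centralizer_iff.1 hk (ψ (cn u x)) ⟨_, rfl⟩
      calc k * ψ u * ψ x * (k * ψ u)⁻¹ = k * ψ (cn u x) * k⁻¹ := by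
            rw [cn_apply, map_mul, map_mul, map_inv]; group
        _ = _ := by rw [← this, mul_inv_cancel_right]
  · obtain ⟨α, a, o⟩ := e.ou m v2 i
    exact Or.inr ⟨_, a, gd_out o⟩

end UMS
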