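import Cfsg.Agent.Lib.UMS.WE1

set_option autoImplicit false
set_option linter.unusedSectionVars false

namespace UMS

open Subgroup H69 Cfsg Matrix U4S
open LMS (XX GX iL kk MM au tw Sg)
open scoped MatrixGroups commutatorElement

universe u
variable {G : Type*} [Group G] [Finite G] {F : Type u} [Field F] [CharP F 2] [Fintype F] [Hs F] {n : ℕ} [Ok n F]
  {ι ψ χ : XU n F →* G} {t : G} {E : Subgroup G}

local notation "X" => XU n F
local notation "V" => VV n F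
local notation "𝐪" => Nat.card (K0 F)
local notation "I" => Fin (n + 3)
local notation "Mx" => Matrix (Fin (n + 3)) (Fin (n + 3)) F

namespace WE2

theorem sq_of {v : G} (c : Cl ψ v) : v * v = 1 := by
  obtain ⟨g, rfl⟩ := isConj_iff.1 c
  calc _ = g * (ψ (zz 1) * ψ (zz 1)) * g⁻¹ := by group
    _ = 1 := by rw [← map_mul, WE1.zsq, map_one, mul_one, mul_inv_cancel]

theorem inn_of {L : Subgroup G} {v : G} (h : v ∈ 𝐂(L)) : Inn L v := ⟨1, one_mem _, v, h, (mul_one v).symm⟩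

theorem cj_sq {θ : X →* G} {y : X} (y2 : y * y = 1) (g : G) : g * θ y * g⁻¹ * (g * θ y * g⁻¹) = 1 := by
  calc _ = g * (θ y * θ y) * g⁻¹ := by group
    _ = 1 := by rw [← map_mul, y2, map_one, mul_one, mul_inv_cancel]

theorem mem_Y (p : Pa ψ χ) {θ : X →* G} {A : Subgroup X} {g : G} (k : A.map θ ^ᶜ g ≤ Mo ψ χ) {y : X}
    (hy : y ∈ ⁅A, A⁆) (y2 : y * y = 1) : g * θ y * g⁻¹ ∈ ψ.range ⊔ χ.range := by
  refine p.comm_mem k ?_ (P2.of_sq (cj_sq y2 g))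
  rw [← cj_commutator, ← Subgroup.map_commutator]
  exact mem_cj'.2 ⟨_, mem_map_of_mem θ hy, rfl⟩

theorem pure_of (h : Wk ι ψ χ t) {y : X} (y2 : y * y = 1) {g : G} (k : g * χ y * g⁻¹ ∈ ψ.range ⊔ χ.range) :
    Pu ψ χ (g * χ y * g⁻¹) := by
  obtain ⟨a, b, a2, b2, e⟩ := h.pa.deci k (cj_sq y2 g)
  rw [e, h.pa.pu (P2.of_sq a2) (P2.of_sq b2)]
  by_contra hh
  rw [not_or] at hh
  refine h.n5 a2 b2 hh.1 hh.2 (w := χ y) (Or.inr ⟨y, rfl⟩) ?_
  rw [← e]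
  exact (isConj_iff.2 ⟨g, rfl⟩).symm

end WE2

open WE2

theorem Wk.st1 (h : Wk ι ψ χ t) {v : G} (c : Cl ψ v) (m : v ∈ Mo ψ χ) (o : ¬ Inn ψ.range v) : v ∈ 𝐂(χ.range) := by
  have v2 := sq_of c
  rcases good_or h.pa.e1 m.1 v2 with k | k
  · exact absurd (inn_of k) o
  · rcases good_or h.pa.e2 m.2 v2 with k' | k'
    · exact k'
    · exact (h.e1 c k k').elim

theorem Wk.st2 (h : Wk ι ψ χ t) {v : G} (c : Cl ψ v) (m : v ∈ Mo ψ χ) (o : ¬ Inn ψ.range v) :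
    ∃ B : Subgroup X, IsPGroup 2 B ∧ (∀ b ∈ B, v * ψ b = ψ b * v) ∧ ∀ (g : G) (A : Subgroup X) (y : X),
      g * v * g⁻¹ = ψ (zz 1) → B.map ψ ^ᶜ g ≤ Mo ψ χ → A.map χ ^ᶜ g ≤ Mo ψ χ → y ∈ ⁅A, A⁆ → y * y = 1 →
        g * χ y * g⁻¹ ∈ χ.range := by
  have v2 := sq_of c
  rcases good_or h.pa.e1 m.1 v2 with k | ⟨α, ac, P, hP, fx, y1, m1, s1, n1, tw1⟩
  · exact absurd (inn_of k) o
  · refine ⟨P, hP, fun b hb => ac.fix (fx b hb), fun g A y e hB hA hy y2 => ?_⟩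
    by_cases y0 : y = 1
    · rw [y0, map_one, mul_one, mul_inv_cancel]; exact one_mem _
    rcases pure_of h y2 (mem_Y h.pa hA hy y2) with q | q
    · exfalso
      obtain ⟨x, hx⟩ := ac.tw tw1
      have c1 : Cl ψ (ψ y1 * v) := IsConj.trans c (isConj_iff.2 ⟨_, hx⟩)
      have q1 := h.tr e (y := ψ y1) (Or.inl ⟨y1, rfl⟩) (by rw [← map_mul, s1, map_one]) c1 (mem_Y h.pa hB m1 s1)
      refine h.n5 s1 y2 n1 y0 (w := g * (ψ y1 * χ y) * g⁻¹) (Or.inl ?_) (isConj_iff.2 ⟨g, rfl⟩)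
      have : g * (ψ y1 * χ y) * g⁻¹ = g * ψ y1 * g⁻¹ * (g * χ y * g⁻¹) := by group
      rw [this]
      exact mul_mem q1 q
    · exact q

theorem Wk.st3 (h : Wk ι ψ χ t) {v : G} (c : Cl ψ v) (m : v ∈ Mo ψ χ) (o : ¬ Inn ψ.range v) :
    IsConj (ι (zz 1)) (v * χ (zz 1)) := by
  obtain ⟨B, hB, fx, k⟩ := h.st2 c m o
  have vc := h.st1 c m o
  have hU : IsPGroup 2 (UU n F) := sylU.isP
  have cm : B.map ψ ≤ 𝐂((UU n F).map χ) := by
    rintro _ ⟨b, -, rfl⟩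
    rw [mem_centralizer_iff]
    rintro _ ⟨u, -, rfl⟩
    exact (h.pa.comm b u).symm
  have hP : IsPGroup 2 (B.map ψ ⊔ (UU n F).map χ : Subgroup G) :=
    isPGroup_sup_of_le_normalizer_right (hB.map ψ) (hU.map χ) (cm.trans (centralizer_le_normalizer _))
  have cv : B.map ψ ⊔ (UU n F).map χ ≤ centralizer {v} := by
    refine sup_le ?_ ?_
    · rintro _ ⟨b, hb, rfl⟩
      rw [mem_centralizer_singleton_iff]
      exact (fx b hb).symm
    · rintro _ ⟨u, -, rfl⟩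
      rw [mem_centralizer_singleton_iff]
      exact mem_centralizer_iff.1 vc _ ⟨u, rfl⟩
  obtain ⟨g, e, hg⟩ := h.ext c hP (fun p hp => mem_centralizer_singleton_iff.1 (cv hp))
  have rz : rk (zz 1 : X) = 1 := rk_zz one_ne_zero
  have z2 : (zz 1 : X) * zz 1 = 1 := WE1.zsq
  have q := k g (UU n F) (zz 1) e ((cj_mono g le_sup_left).trans hg) ((cj_mono g le_sup_right).trans hg)
    (zz_comm_U 1) z2
  have c1 : Cl ψ (g * χ (zz 1) * g⁻¹) := IsConj.trans (h.cl rz).2 (isConj_iff.2 ⟨g, rfl⟩)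
  obtain ⟨x, rx, ex | ex⟩ := h.rank1 c1 (mem_sup_right q)
  · exfalso
    have x2 : x * x = 1 := rk_sq rx.le
    rw [ex] at q
    obtain ⟨b, b2, eb⟩ := h.pa.e2.lifti q (by rw [← map_mul, x2, map_one])
    have := (h.pa.uniq (P2.of_sq x2) (P2.of_sq (mul_one 1)) (P2.of_sq (mul_one 1)) (P2.of_sq b2)
      (by rw [map_one, map_one, mul_one, one_mul, eb])).1
    rw [this, rk_zero.2 rfl] at rx
    exact zero_ne_one rx
  · have b := (h.bal z2 (rk_sq rx.le) (rz.trans rx.symm)).1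
    refine b.symm.trans (IsConj.symm (isConj_iff.2 ⟨g, ?_⟩))
    rw [← e, ← ex]
    group

end UMS
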