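import Cfsg.Agent.Lib.UMS.RKM
import Cfsg.Agent.Lib.UMS.CM
import Cfsg.Agent.Lib.UMS.CMG

set_option autoImplicit false
set_option linter.unusedSectionVars false

namespace UMS

open Subgroup H69 Cfsg Matrix U4S
open LMS (XX GX iL kk MM au tw Sg)
open scoped MatrixGroups commutatorElement

universe u
variable {G : Type*} [Group G] [Finite G] {F : Type u} [Field F] [CharP F 2] [Fintype F] [Hs F] {n : ℕ} [Ok n F]
  {ι ψ χ : XU n F →* G} {t : G} {E : Subgroup G}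

local notation "X" => XU n F
local notation "V" => VV n F
local notation "𝐪" => Nat.card (K0 F)
local notation "I" => Fin (n + 3)
local notation "Mx" => Matrix (Fin (n + 3)) (Fin (n + 3)) F

namespace WL

theorem mem2 (p : Pa ψ χ) {A B : Subgroup X} {y : G} :
    y ∈ A.map ψ ⊔ B.map χ ↔ ∃ a ∈ A, ∃ b ∈ B, y = ψ a * χ b := by
  rw [mem_sup_of_le_normalizer_left (le_normalizer_of_le_centralizer (by
    rintro _ ⟨b, -, rfl⟩ _ ⟨a, -, rfl⟩; exact p.comm a b))]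
  constructor
  · rintro ⟨_, ⟨a, ha, rfl⟩, _, ⟨b, hb, rfl⟩, rfl⟩; exact ⟨a, ha, b, hb, rfl⟩
  · rintro ⟨a, ha, b, hb, rfl⟩; exact ⟨_, ⟨a, ha, rfl⟩, _, ⟨b, hb, rfl⟩, rfl⟩

theorem exC {J : Subgroup X} (hJ : El J) {α : X →* X} (h : ∀ x ∈ J, α x ∈ J) :
    ∃ C ≤ J, ∀ y, y ∈ C ↔ ∃ x ∈ J, y = x * α x := by
  let f : J →* X := MonoidHom.mk' (fun x => x.1 * α x.1) fun a b => by
    have := hJ.comm b.2 (h a a.2)
    rw [coe_mul, map_mul]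
    calc (a : X) * b * (α a * α b) = a * (b * α a) * α b := by group
      _ = _ := by rw [this]; group
  refine ⟨f.range, ?_, fun y => ⟨?_, ?_⟩⟩
  · rintro _ ⟨x, rfl⟩; exact mul_mem x.2 (h _ x.2)
  · rintro ⟨x, rfl⟩; exact ⟨x, x.2, rfl⟩
  · rintro ⟨x, hx, rfl⟩; exact ⟨⟨x, hx⟩, rfl⟩

/-- the conjugated line -/
structure Dt (ψ χ : XU n F →* G) (J J' : Subgroup (XU n F)) (r : G) (C : Subgroup G) : Prop where
  p : Pa ψ χ
  j : IsJ J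
  j' : IsJ J'
  sq : r * r = 1
  m : r ∈ 𝐍(ψ.range ⊔ χ.range)
  nj : r ∈ 𝐍(J.map ψ ⊔ J'.map χ)
  card : Nat.card C = Nat.card (K0 F) ^ (2 * kk n - 2)
  cm : IsCm (J.map ψ ⊔ J'.map χ) r C

variable {J J' : Subgroup (XU n F)} {C : Subgroup G} {r : G}

theorem Dt.symm (h : Dt ψ χ J J' r C) : Dt χ ψ J' J r C :=
  ⟨h.p.symm, h.j', h.j, h.sq, sup_comm ψ.range _ ▸ h.m, sup_comm (J.map ψ) _ ▸ h.nj, h.card,
    sup_comm (J.map ψ) _ ▸ h.cm⟩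

theorem one_lt : 1 < 𝐪 := Finite.one_lt_card

theorem k3 (F : Type u) [h : Ok n F] : 3 ≤ kk n := by have := h.h3; unfold kk; omega

theorem Dt.mo (h : Dt ψ χ J J' r C) : r ∈ Mo ψ χ := by
  refine (h.p.perm r h.m).elim id fun k => ?_
  exfalso
  have P : ∀ x : J, P2 x.1 := fun x => P2.of_sq (h.j.el _ x.2)
  have e : ∀ x : J, ∃ y, P2 y ∧ χ y = r * ψ x * r⁻¹ := fun x =>
    h.p.e2.lift2 (k.1 ▸ cj_mem r ⟨x.1, rfl⟩) (((P x).elim fun j e => ⟨j, by rw [← map_pow, e, map_one]⟩ : P2 (ψ x)).cjg r)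
  choose y y2 ey using e
  let f : J → C := fun x => ⟨ψ x * (r * ψ x * r⁻¹), (h.cm _).2 ⟨_, mem_sup_left ⟨x.1, x.2, rfl⟩, rfl⟩⟩
  have i : Function.Injective f := fun x x' q => by
    have q' : ψ x * χ (y x) = ψ x' * χ (y x') := by rw [ey, ey]; exact congrArg Subtype.val q
    exact Subtype.ext (h.p.uniq (P x) (y2 x) (P x') (y2 x') q').1
  have c := Nat.card_le_card_of_injective f i
  rw [h.j.card, h.card, Nat.pow_le_pow_iff_right one_lt] at c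
  have := k3 (n := n) F
  have c' : kk n ^ 2 ≤ 2 * kk n := c.trans (Nat.sub_le _ _)
  nlinarith

theorem Dt.nJ (h : Dt ψ χ J J' r C) {α : X →* X} (a : Act ψ r α) : ∀ x ∈ J, α x ∈ J := fun x hx => by
  have := conj_mem_of_mem_normalizer h.nj (mem_sup_left (mem_map_of_mem ψ hx) : ψ x ∈ J.map ψ ⊔ J'.map χ)
  obtain ⟨u, hu, v, hv, e⟩ := (mem2 h.p).1 this
  rw [a x, ← mul_one (ψ _), ← χ.map_one] at e
  have x2 : α x * α x = 1 := by rw [← map_mul, h.j.el x hx, map_one]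
  rw [(h.p.uniq (P2.of_sq x2) (P2.of_sq (mul_one 1)) (P2.of_sq (h.j.el u hu)) (P2.of_sq (h.j'.el v hv)) e).1]
  exact hu

theorem Dt.sq' (h : Dt ψ χ J J' r C) {α : X →* X} (a : Act ψ r α) (x : X) : α (α x) = x := by
  have k : Act ψ (r * r) (MonoidHom.id _) := fun x => by rw [h.sq]; simp
  exact DFunLike.congr_fun ((a.mul a).uniq h.p.e1 k) x

theorem Dt.split (h : Dt ψ χ J J' r C) {α β : X →* X} (a : Act ψ r α) (b : Act χ r β) :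
    ∃ D D' : Subgroup X, (∀ y, y ∈ D ↔ ∃ x ∈ J, y = x * α x) ∧ (∀ y, y ∈ D' ↔ ∃ x ∈ J', y = x * β x) ∧
      C = D.map ψ ⊔ D'.map χ ∧ Nat.card D * Nat.card D' = 𝐪 ^ (2 * kk n - 2) := by
  obtain ⟨D, dl, hD⟩ := exC h.j.el (h.nJ a)
  obtain ⟨D', dl', hD'⟩ := exC h.j'.el (h.symm.nJ b)
  have f : ∀ u v, ψ u * χ v * (r * (ψ u * χ v) * r⁻¹) = ψ (u * α u) * χ (v * β v) := fun u v => by
    rw [map_mul, map_mul]
    calc ψ u * χ v * (r * (ψ u * χ v) * r⁻¹) = ψ u * (χ v * (r * ψ u * r⁻¹)) * (r * χ v * r⁻¹) := by group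
      _ = _ := by rw [a, b, ← h.p.comm]; group
  have e : C = D.map ψ ⊔ D'.map χ := by
    ext y
    rw [h.cm y, mem2 h.p]
    constructor
    · rintro ⟨w, hw, rfl⟩
      obtain ⟨u, hu, v, hv, rfl⟩ := (mem2 h.p).1 hw
      exact ⟨_, (hD _).2 ⟨u, hu, rfl⟩, _, (hD' _).2 ⟨v, hv, rfl⟩, f u v⟩
    · rintro ⟨u', hu', v', hv', rfl⟩
      obtain ⟨u, hu, rfl⟩ := (hD _).1 hu'
      obtain ⟨v, hv, rfl⟩ := (hD' _).1 hv'
      exact ⟨_, (mem2 h.p).2 ⟨u, hu, v, hv, rfl⟩, (f u v).symm⟩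
  exact ⟨D, D', hD, hD', e, by
    rw [← h.card, e, (h.p.isP (h.j.el.mono dl).isP (h.j'.el.mono dl').isP).2]⟩

theorem typ {α : X →* X} {φ : RingAut F} (u : Au α φ) (k : ∀ x, α (α x) = x) : Au α 1 ∨ Au α σ := by
  by_cases e : φ = 1
  · exact Or.inl (e ▸ u)
  have i : Au (α.comp α) 1 := by
    have := cn_au (1 : X)
    rwa [show cn (1 : X) = α.comp α from MonoidHom.ext fun x => by
      rw [cn_apply, MonoidHom.comp_apply, k, one_mul, inv_one, mul_one]] at this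
  have e2 := (u.comp u).uniq i
  have e3 : φ = σ := LMS.aut_inv (φ := φ) ⟨e, fun a => DFunLike.congr_fun e2 a⟩ Hs.sg
  exact Or.inr (e3 ▸ u)

theorem Dt.ng (h : Dt ψ χ J J' r C) (k : Dg ψ r) : C ≤ χ.range ∨ ∃ D, D ≤ J ∧ R1 D ∧ C = D.map ψ := by
  obtain ⟨α, a, u⟩ := k
  obtain ⟨β, φ', -, b⟩ := h.p.e2.act h.mo.2
  obtain ⟨D, D', hD, -, e, c⟩ := h.split a b
  obtain ⟨k1, k2⟩ := cm_lin h.j u (h.nJ a) (fun x _ => h.sq' a x) hD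
  rcases k1 with k1 | k1
  · left; rw [e, k1, Subgroup.map_bot, bot_sup_eq]; exact map_le_range _ _
  · right
    have p1 : 0 < Nat.card D' := Nat.card_pos
    have p2 : 0 < Nat.card D := Nat.card_pos
    have c1 : Nat.card D' = 1 := by nlinarith
    rw [c1, mul_one] at c
    rw [e, card_eq_one.1 c1, Subgroup.map_bot, sup_bot_eq]
    refine ⟨D, fun y hy => ?_, k2 c, rfl⟩
    obtain ⟨x, hx, rfl⟩ := (hD y).1 hy
    exact mul_mem hx (h.nJ a x hx)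

theorem Dt.side (h : Dt ψ χ J J' r C) : C ≤ ψ.range ∨ C ≤ χ.range := by
  obtain ⟨α, φ, u, a⟩ := h.p.e1.act h.mo.1
  obtain ⟨β, φ', u', b⟩ := h.p.e2.act h.mo.2
  rcases typ u (h.sq' a) with u | u
  · exact (h.ng ⟨α, a, u⟩).elim Or.inr fun ⟨D, _, _, k⟩ => Or.inl (k ▸ map_le_range _ _)
  rcases typ u' (h.symm.sq' b) with u' | u'
  · exact (h.symm.ng ⟨β, b, u'⟩).imp_right fun ⟨D, _, _, k⟩ => k ▸ map_le_range _ _
  obtain ⟨D, D', hD, hD', -, c⟩ := h.split a b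
  have c1 := cm_gr h.j u (h.nJ a) (fun x _ => h.sq' a x) hD
  have c2 := cm_gr h.j' u' (h.symm.nJ b) (fun x _ => h.symm.sq' b x) hD'
  have c3 := Nat.mul_le_mul c1 c2
  rw [c, ← pow_add, Nat.pow_le_pow_iff_right one_lt] at c3
  have := k3 (n := n) F
  omega

theorem Dt.rank (h : Dt ψ χ J J' r C) (k : C ≤ ψ.range) (g : Dg ψ r) : ∃ D, D ≤ J ∧ R1 D ∧ C = D.map ψ := by
  refine (h.ng g).elim (fun k' => ?_) id
  exfalso
  have b : C = ⊥ := eq_bot_iff.2 fun y hy => by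
    obtain ⟨v, hv, e⟩ := (h.cm y).1 hy
    have el := (h.p.elJ h.j h.j').1
    have y2 : y * y = 1 := el y (e ▸ mul_mem hv (conj_mem_of_mem_normalizer h.nj hv))
    obtain ⟨x, -, rfl⟩ := h.p.e2.lifti (k' hy) y2
    refine (P2.of_sq y2).eq_one (h.p.e1.cc (k hy) ?_)
    rintro _ ⟨u, rfl⟩
    exact h.p.comm u x
  have c := h.card
  rw [b, card_bot] at c
  have := k3 (n := n) F
  have := Nat.one_lt_pow (n := 2 * kk n - 2) (by omega) (one_lt (F := F))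
  omega

theorem dt (p : Pa ψ χ) {J J' C : Subgroup X} {r : X} (hJ : IsJ J) (hJ' : IsJ J') (l : Ln J r C) {g : G}
    (h1 : (J.map ψ ⊔ J'.map χ) ^ᶜ g ≤ 𝐍(ψ.range ⊔ χ.range)) (h2 : g * ψ r * g⁻¹ ∈ 𝐍(ψ.range ⊔ χ.range)) :
    ∃ K K', (J.map ψ ⊔ J'.map χ) ^ᶜ g = K.map ψ ⊔ K'.map χ ∧ Dt ψ χ K K' (g * ψ r * g⁻¹) (C.map ψ ^ᶜ g) := by
  obtain ⟨el, cd, -⟩ := p.elJ hJ hJ'
  obtain ⟨K, K', hK, hK', e⟩ := p.rkm (el.cjg g) h1 (by rw [card_cj, cd])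
  have f : ∀ r u v, ψ r * (ψ u * χ v) * (ψ r)⁻¹ = ψ (r * u * r⁻¹) * χ v := fun r u v => by
    rw [map_mul, map_mul, mul_assoc, mul_assoc, ← map_inv, ← p.comm]; group
  have nj : ψ r ∈ 𝐍(J.map ψ ⊔ J'.map χ) := by
    refine mem_normalizer_fintype fun y hy => ?_
    obtain ⟨u, hu, v, hv, rfl⟩ := (mem2 p).1 hy
    exact (mem2 p).2 ⟨_, conj_mem_of_mem_normalizer l.nJ hu, v, hv, f r u v⟩
  have f2 : ∀ r u, ∀ v ∈ J', ψ u * χ v * (ψ r * (ψ u * χ v) * (ψ r)⁻¹) = ψ (u * (r * u * r⁻¹)) :=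
    fun r u v hv => by
      rw [f, mul_assoc, ← mul_assoc (χ v), ← p.comm, mul_assoc, ← map_mul χ, hJ'.el v hv, map_one, mul_one,
        ← map_mul]
  refine ⟨K, K', e, p, hK, hK', ?_, h2, ?_, ?_, ?_⟩
  · rw [conj_mul, ← map_mul, l.sq, map_one, mul_one, mul_inv_cancel]
  · rw [← e, ← cj_normalizer]; exact cj_mem g nj
  · rw [card_cj, p.e1.card2 (hJ.el.mono l.le).isP, l.card]
  · intro y
    rw [← e]
    constructor
    · rintro ⟨_, ⟨c, hc, rfl⟩, rfl⟩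
      obtain ⟨u, hu, rfl⟩ := (l.cm c).1 hc
      refine ⟨g * ψ u * g⁻¹, cj_mem g (mem_sup_left (mem_map_of_mem ψ hu)), ?_⟩
      simp only [MulEquiv.coe_toMonoidHom, MulAut.conj_apply, map_mul ψ, map_inv ψ]; group
    · rintro ⟨_, ⟨w, hw, rfl⟩, rfl⟩
      obtain ⟨u, hu, v, hv, rfl⟩ := (mem2 p).1 hw
      refine ⟨_, ⟨_, (l.cm _).2 ⟨u, hu, rfl⟩, rfl⟩, ?_⟩
      rw [← f2 r u v hv]
      simp only [MulEquiv.coe_toMonoidHom, MulAut.conj_apply]; group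

end WL

open WL in
theorem wl (p : Pa ψ χ) {J J' C : Subgroup X} {r : X} (hJ : IsJ J) (hJ' : IsJ J') (l : Ln J r C) {g : G}
    (h1 : (J.map ψ ⊔ J'.map χ) ^ᶜ g ≤ 𝐍(ψ.range ⊔ χ.range)) (h2 : g * ψ r * g⁻¹ ∈ 𝐍(ψ.range ⊔ χ.range)) :
    (C.map ψ ^ᶜ g ≤ ψ.range ∧ (Dg ψ (g * ψ r * g⁻¹) → ∃ D, R1 D ∧ C.map ψ ^ᶜ g = D.map ψ)) ∨
    (C.map ψ ^ᶜ g ≤ χ.range ∧ (Dg χ (g * ψ r * g⁻¹) → ∃ D, R1 D ∧ C.map ψ ^ᶜ g = D.map χ)) := by
  obtain ⟨K, K', -, d⟩ := dt p hJ hJ' l h1 h2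
  rcases d.side with k | k
  · exact Or.inl ⟨k, fun c => let ⟨D, _, a, b⟩ := d.rank k c; ⟨D, a, b⟩⟩
  · exact Or.inr ⟨k, fun c => let ⟨D, _, a, b⟩ := d.symm.rank k c; ⟨D, a, b⟩⟩

end UMS
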