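import Cfsg.Agent.Lib.UMS.WS
import Cfsg.Agent.Lib.G2S.Gen

set_option autoImplicit false
set_option linter.unusedSectionVars false

namespace UMS

open Subgroup H69 Cfsg Matrix U4S
open LMS (XX GX iL kk MM au tw Sg)
open scoped MatrixGroups commutatorElement

universe u
variable {G : Type*} [Group G] [Finite G] {F : Type u} [Field F] [CharP F 2] [Fintype F] [Hs F] {n : ℕ} [Ok n F]
  {ι ψ χ : XU n F →* G} {t : G} {E : Subgroup G}

local notation "X" => XU n F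
local notation "V" => VV n F
local notation "𝐪" => Nat.card (K0 F)
local notation "I" => Fin (n + 3)
local notation "Mx" => Matrix (Fin (n + 3)) (Fin (n + 3)) F

namespace WN

theorem is0 : Is (ee 0 : V) := is_ee (Fin.last_pos.ne)

theorem zsq (c : K0 F) : (zz c : X) * zz c = 1 := tc_sq is0.1 c

theorem zmul (c c' : K0 F) : (zz c : X) * zz c' = zz (c + c') := tc_mul is0.1 c c'

theorem zzero : (zz 0 : X) = 1 := tc_zero _

theorem zcen {c : K0 F} (h : (zz c : X) ∈ center _) : c = 0 := tc_cen is0 h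

theorem zU (c : K0 F) : (zz c : X) ∈ UU n F :=
  JD_le 1 (ZZ_le_JD one_pos (by omega) (mem_ZZ.2 ⟨c, rfl⟩))

theorem cj1 (f : X →* G) {x y z : X} (e : z * x * z⁻¹ = y) : f z * f x * (f z)⁻¹ = f y := by
  rw [← e, map_mul, map_mul, map_inv]

theorem sw' (h : Wk ι ψ χ t) (x : X) : t * ψ x * t⁻¹ = χ x := by
  rw [inv_eq_of_mul_eq_one_right h.t2, h.sw]

theorem cj2 (p : Pa ψ χ) {a b a' b' y z : X} (e : y * a * y⁻¹ = a') (e' : z * b * z⁻¹ = b') :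
    IsConj (ψ a * χ b) (ψ a' * χ b') := by
  refine isConj_iff.2 ⟨ψ y * χ z, ?_⟩
  rw [← conj_mul, (p.act1 y z).1 a, (p.act1 y z).2 b, cn_apply, cn_apply, e, e']

theorem eqt (h : Wk ι ψ χ t) {a b : X} (ha : a * a = 1) (hb : b * b = 1)
    (k : ψ a * χ b * t = t * (ψ a * χ b)) : a = b := by
  have : ψ a * χ b = ψ b * χ a := by
    rw [h.pa.comm b a, ← sw' h a, ← sw' h.symm b, conj_mul, ← k, mul_inv_cancel_right]
  exact (h.pa.uniq (P2.of_sq ha) (P2.of_sq hb) (P2.of_sq hb) (P2.of_sq ha) this).1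

theorem into (h : Wk ι ψ χ t) {c : K0 F} {b : X} (hb : b ∈ JD n F (kk n)) {v : G}
    (i : IsConj (ψ (zz c) * χ b) v) (k : v * t = t * v) :
    ∃ g, g * (ψ (zz c) * χ b) * g⁻¹ = v ∧
      ((UU n F).map ψ ⊔ (JD n F (kk n)).map χ) ^ᶜ g ≤ 𝐍(ψ.range ⊔ χ.range) := by
  obtain ⟨g, rfl⟩ := isConj_iff.1 i
  have le : (UU n F).map ψ ⊔ (JD n F (kk n)).map χ ≤ centralizer {ψ (zz c) * χ b} := by
    refine sup_le ?_ ?_
    · rintro _ ⟨u, hu, rfl⟩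
      rw [mem_centralizer_singleton_iff, ← mul_assoc, ← map_mul, RR_cen (mem_ZZ.2 ⟨c, rfl⟩) hu, map_mul,
        mul_assoc, h.pa.comm u, mul_assoc]
    · rintro _ ⟨u, hu, rfl⟩
      rw [mem_centralizer_singleton_iff, ← mul_assoc, ← h.pa.comm, mul_assoc, mul_assoc, ← map_mul, ← map_mul,
        (el_JD _).comm hu hb]
  obtain ⟨y, hy, m⟩ := h.ct.into (Y := centralizer {g * (ψ (zz c) * χ b) * g⁻¹})
    (mem_centralizer_singleton_iff.2 k.symm) (isPGroup_cj (h.pa.isP sylU.isP (el_JD (kk n)).isP).1 g)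
    (cj_centralizer_singleton _ g ▸ cj_mono g le)
  rw [cj_cj] at m
  refine ⟨y * g, ?_, m⟩
  have := mul_inv_eq_iff_eq_mul.2 (mem_centralizer_singleton_iff.1 hy)
  rw [← this]
  group

theorem cj_map (W : Subgroup X) (k : ∀ x, t * ψ x * t⁻¹ = χ x) : W.map ψ ^ᶜ t = W.map χ := by
  rw [WS.cj_map]
  congr 1
  exact MonoidHom.ext k

end WN

open WN

theorem Wk.cl (h : Wk ι ψ χ t) {x : X} (hx : rk x = 1) : Cl ψ (ψ x) ∧ Cl ψ (χ x) := by
  obtain ⟨z, hz⟩ := inv_cj (zsq 1) (rk_sq hx.le) ((rk_zz one_ne_zero).trans hx.symm)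
  have c : Cl ψ (ψ x) := isConj_iff.2 ⟨ψ z, cj1 ψ hz⟩
  exact ⟨c, IsConj.trans c (isConj_iff.2 ⟨t, sw' h x⟩)⟩

theorem Wk.cl_symm (h : Wk ι ψ χ t) {v : G} : Cl χ v ↔ Cl ψ v := by
  have c : IsConj (ψ (zz 1)) (χ (zz 1)) := isConj_iff.2 ⟨t, sw' h _⟩
  exact ⟨fun k => c.trans k, fun k => c.symm.trans k⟩

theorem Wk.bal (h : Wk ι ψ χ t) {a b : X} (ha : a * a = 1) (hb : b * b = 1) (e : rk a = rk b) :
    IsConj (ψ a * χ b) (ι a) ∧ ι a * t = t * ι a := by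
  obtain ⟨z, hz⟩ := inv_cj hb ha e.symm
  exact ⟨h.res a ▸ cj2 h.pa (y := 1) (by rw [one_mul, inv_one, mul_one]) hz, (h.tc a).symm⟩

theorem Wk.n0 (h : Wk ι ψ χ t) {v : G} (c : Cl ψ v) : v * t ≠ t * v := by
  intro k
  obtain ⟨g, e, m⟩ := into h (c := 1) (one_mem _) (v := v) (by rw [map_one, mul_one]; exact c) k
  rw [map_one, mul_one] at e
  have v1 : v ≠ 1 := by
    rintro rfl
    have := h.pa.e1.inj2 (P2.of_sq (zsq 1)) (P2.of_sq (mul_one 1))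
      ((isConj_one_left.1 c).trans (map_one ψ).symm)
    exact one_ne_zero (zcen (this ▸ one_mem _))
  rcases ws h.pa isJ_kk m with ⟨a, -⟩ | ⟨a, -⟩
  · obtain ⟨x, hx, ex⟩ := a 1
    rw [e] at ex
    have := eqt h (rk_sq hx) (mul_one 1) (by rwa [map_one, mul_one, ← ex])
    exact v1 (by rw [ex, this, map_one])
  · obtain ⟨x, hx, ex⟩ := a 1
    rw [e] at ex
    have := eqt h (mul_one 1) (rk_sq hx) (by rwa [map_one, one_mul, ← ex])
    exact v1 (by rw [ex, ← this, map_one])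

theorem Wk.n2 (h : Wk ι ψ χ t) {a b : X} (ha : rk a ≤ 1) (hb : b * b = 1) {v : G}
    (c : IsConj (ψ a * χ b) v ∨ IsConj (ψ b * χ a) v) (k : v * t = t * v) : ∃ x, rk x ≤ 1 ∧ v = ψ x * χ x := by
  have c1 : IsConj (ψ a * χ b) v := c.elim id fun c => IsConj.trans (isConj_iff.2 ⟨t, by
    rw [← conj_mul, sw' h, sw' h.symm, h.pa.comm]⟩) c
  obtain ⟨c0, y, hy⟩ : ∃ c0 y, y * a * y⁻¹ = zz c0 := by
    rcases Nat.le_one_iff_eq_zero_or_eq_one.1 ha with h0 | h1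
    · exact ⟨0, 1, by rw [rk_zero.1 h0, zzero]; simp⟩
    · exact ⟨1, inv_cj (rk_sq ha) (zsq 1) (h1.trans (rk_zz one_ne_zero).symm)⟩
  obtain ⟨z, hz⟩ := inv_J hb
  obtain ⟨g, e, m⟩ := into h hz ((cj2 h.pa hy rfl).symm.trans c1) k
  generalize z * b * z⁻¹ = w at hz e
  have sp : ∀ c, v = g * ψ (zz (c0 + c)) * g⁻¹ * (g * (ψ (zz c) * χ w) * g⁻¹) := fun c => by
    rw [conj_mul, ← mul_assoc (ψ _), ← map_mul, ← zmul, mul_assoc (zz _), zsq, mul_one, e]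
  have sq : ∀ c, g * (ψ (zz c) * χ w) * g⁻¹ * (g * (ψ (zz c) * χ w) * g⁻¹) = 1 := fun c => by
    rw [conj_mul, mul_assoc (ψ _), ← mul_assoc (χ w), ← h.pa.comm, mul_assoc (ψ _), ← map_mul, el_JD _ w hz,
      map_one, mul_one, ← map_mul, zsq, map_one, mul_one, mul_inv_cancel]
  rcases ws h.pa isJ_kk m with ⟨a1, a2⟩ | ⟨a1, a2⟩
  · obtain ⟨c, hc⟩ := a2 w hz
    obtain ⟨x, hx, ex⟩ := a1 (c0 + c)
    obtain ⟨y', y2, ey⟩ := h.pa.e2.lifti hc (sq c)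
    have ev := sp c
    rw [ex, ← ey] at ev
    have := eqt h (rk_sq hx) y2 (ev ▸ k)
    exact ⟨x, hx, by rw [ev, this]⟩
  · obtain ⟨c, hc⟩ := a2 w hz
    obtain ⟨x, hx, ex⟩ := a1 (c0 + c)
    obtain ⟨y', y2, ey⟩ := h.pa.e1.lifti hc (sq c)
    have ev := sp c
    rw [ex, ← ey, ← h.pa.comm] at ev
    have := eqt h y2 (rk_sq hx) (ev ▸ k)
    exact ⟨x, hx, by rw [ev, this]⟩

theorem Wk.ext (h : Wk ι ψ χ t) {v : G} (c : Cl ψ v) {P : Subgroup G} (hP : IsPGroup 2 P)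
    (k : ∀ p ∈ P, p * v = v * p) : ∃ g, g * v * g⁻¹ = ψ (zz 1) ∧ P ^ᶜ g ≤ Mo ψ χ := by
  have nT : t ∈ 𝐍((UU n F).map ψ ⊔ (UU n F).map χ) := by
    rw [← cj_eq_self_iff, cj_sup, cj_map _ (sw' h), cj_map _ (sw' h.symm), sup_comm]
  obtain ⟨S, hS, le⟩ := exists_isSylowIn_le (isPGroup_sup_of_le_normalizer_right (P2.of_sq h.t2).isP
    (h.pa.isP sylU.isP sylU.isP).1 (zpowers_le.2 nT)) le_top
  have tS : t ∈ S := le (mem_sup_left (mem_zpowers t))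
  have US : (UU n F).map ψ ≤ S := le_sup_left.trans (le_sup_right.trans le)
  have SM := h.ct.two_le hS.isP tS
  have U0 : (UU n F).map ψ ≤ S ⊓ Mo ψ χ := le_inf US (((map_le_range _ _).trans le_sup_left).trans h.pa.Mo_le.2)
  have eU : S ⊓ ψ.range = (UU n F).map ψ :=
    h.pa.e1.sylU.max _ (le_inf US (map_le_range _ _)) inf_le_right hS.isP.to_inf_left
  have nU : S ⊓ Mo ψ χ ≤ 𝐍((UU n F).map ψ) :=
    eU ▸ le_normalizer_inf (le_normalizer_of_le inf_le_left) (inf_le_right.trans inf_le_left)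
  have ne : (UU n F).map ψ ≠ ⊥ := fun d => by
    have m : ψ (zz 1) ∈ (UU n F).map ψ := mem_map_of_mem ψ (zU 1)
    rw [d, mem_bot] at m
    exact h.n0 (v := ψ (zz 1)) (IsConj.refl _) (by rw [m, one_mul, mul_one])
  obtain ⟨⟨_, ⟨w, hw, rfl⟩, cw⟩, w1⟩ := ne_bot_iff_exists_ne_one.1
    (inf_centralizer_ne_bot (sylU.isP.map ψ) hS.isP.to_inf_left nU ne)
  obtain ⟨a, rfl⟩ := mem_ZZ.1 (cen_U hw fun u hu =>
    (h.pa.e1.comm2 (P2.of_mem sylU.isP hw) (cw _ (U0 (mem_map_of_mem ψ hu))).symm).symm)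
  have a0 : a ≠ 0 := by
    rintro rfl
    exact w1 (Subtype.ext (by simp only [zzero, map_one, coe_one]))
  have cz := (h.cl (rk_zz a0)).1
  have S0 : IsSylowIn 2 (S ⊓ Mo ψ χ) (centralizer {ψ (zz a)}) := by
    refine ⟨fun s hs => mem_centralizer_singleton_iff.2 (cw s hs), hS.isP.to_inf_left, fun R h1 h2 hR => ?_⟩
    by_contra nR
    have i2 : (S ⊓ Mo ψ χ).relIndex S ∣ 2 := by
      refine relIndex_dvd_two_iff.2 ?_
      by_cases k : ∃ s ∈ S, s ∉ Mo ψ χ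
      · obtain ⟨s, hs, s1⟩ := k
        refine ⟨s, hs, fun b hb => ?_⟩
        by_cases b1 : b ∈ Mo ψ χ
        · exact Or.inr ⟨hb, b1⟩
        · exact Or.inl ⟨mul_mem hb hs, h.pa.sw_mul (SM hb) (SM hs) b1 s1⟩
      · exact ⟨1, one_mem _, fun b hb => Or.inr ⟨hb, by_contra fun d => k ⟨b, hb, d⟩⟩⟩
    have c1 := H89.G2S.Gen.card_rel (inf_le_left : S ⊓ Mo ψ χ ≤ S)
    have c2 := H89.G2S.Gen.card_rel h1
    have i3 : (S ⊓ Mo ψ χ).relIndex R ≠ 1 := fun d => nR (le_antisymm (relIndex_eq_one.1 d) h1)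
    have i4 : (S ⊓ Mo ψ χ).relIndex R ≠ 0 := fun d => by
      rw [d, mul_zero] at c2
      exact Nat.card_pos.ne c2
    have hR' := hS.of_card_le hR le_top (by
      rw [← c1, ← c2]
      exact Nat.mul_le_mul_left _ ((Nat.le_of_dvd two_pos i2).trans (by omega)))
    obtain ⟨g, -, e⟩ := hR'.conj hS
    have := cj_mono g h2 (e ▸ tS)
    rw [cj_centralizer_singleton, mem_centralizer_singleton_iff] at this
    exact h.n0 (IsConj.trans cz (isConj_iff.2 ⟨g, rfl⟩)) this.symm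
  obtain ⟨g, e⟩ := isConj_iff.1 (IsConj.trans (IsConj.symm c) cz)
  obtain ⟨x, ex, hx⟩ := H89.G2S.ext_cent S0 e hP k
  obtain ⟨y, hy⟩ := inv_cj (n := n) (zsq a) (zsq 1) ((rk_zz a0).trans (rk_zz one_ne_zero).symm)
  have ym : ψ y ∈ Mo ψ χ := h.pa.Mo_le.2 (mem_sup_left ⟨y, rfl⟩)
  refine ⟨ψ y * x, by rw [← cj1 ψ hy, ← ex]; group, ?_⟩
  rw [← cj_cj]
  refine cj_le_of_mem (fun s hs => ?_) ym
  obtain ⟨p, hp, rfl⟩ := mem_cj'.1 hs
  exact (hx p hp).2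

end UMS
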