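import Cfsg.Agent.Lib.UMS.WN
import Cfsg.Agent.Lib.UMS.WL
import Cfsg.Agent.Lib.UMS.Ln81

set_option autoImplicit false
set_option linter.unusedSectionVars false

namespace UMS

open Subgroup H69 Cfsg Matrix U4S
open LMS (XX GX iL kk MM au tw Sg)
open scoped MatrixGroups commutatorElement

universe u
variable {G : Type*} [Group G] [Finite G] {F : Type u} [Field F] [CharP F 2] [Fintype F] [Hs F] {n : ℕ} [Ok n F]
  {ι ψ χ : XU n F →* G} {t : G} {E : Subgroup G}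

local notation "X" => XU n F
local notation "V" => VV n F
local notation "𝐪" => Nat.card (K0 F)
local notation "I" => Fin (n + 3)
local notation "Mx" => Matrix (Fin (n + 3)) (Fin (n + 3)) F

namespace WP

theorem p1 {Γ : Type*} [Group Γ] : P2 (1 : Γ) := ⟨0, one_pow _⟩

theorem sqc {Γ : Type*} [Group Γ] {a b : Γ} (c : IsConj a b) (h : a * a = 1) : b * b = 1 := by
  obtain ⟨g, rfl⟩ := isConj_iff.1 c
  calc g * a * g⁻¹ * (g * a * g⁻¹) = g * (a * a) * g⁻¹ := by group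
    _ = 1 := by rw [h]; group

theorem cjc {Γ : Type*} [Group Γ] (g a : Γ) : IsConj a (g * a * g⁻¹) := isConj_iff.2 ⟨g, rfl⟩

theorem pmul (p : Pa ψ χ) (a b c d : X) : ψ a * χ b * (ψ c * χ d) = ψ (a * c) * χ (b * d) := by
  rw [map_mul, map_mul, mul_assoc, ← mul_assoc (χ b), ← p.comm c b]; simp only [mul_assoc]

theorem cjp (p : Pa ψ χ) (a b y y' : X) : IsConj (ψ a * χ b) (ψ (y * a * y⁻¹) * χ (y' * b * y'⁻¹)) := by
  refine isConj_iff.2 ⟨ψ y * χ y', ?_⟩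
  rw [mul_inv_eq_iff_eq_mul, pmul p, pmul p, inv_mul_cancel_right, inv_mul_cancel_right]

theorem rk_z : rk (zz (1 : K0 F) : X) = 1 := rk_zz one_ne_zero

theorem fin (h : Wk ι ψ χ t) {a : X} (ha : a * a = 1) {u : G} (pu : Pu ψ χ u) (u2 : u * u = 1)
    (c : IsConj (ψ (zz 1) * u) (ι a)) : rk a ≤ 1 := by
  have k : ι a * t = t * ι a := (h.tc a).symm
  have key : ∃ x, rk x ≤ 1 ∧ ι a = ψ x * χ x := by
    rcases pu with hu | hu
    · have s : (ψ (zz 1) * u) * (ψ (zz 1) * u) = 1 := sqc c.symm (by rw [← map_mul, ha, map_one])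
      obtain ⟨y, y2, e⟩ := h.pa.e1.lifti (mul_mem (MonoidHom.mem_range.2 ⟨_, rfl⟩) hu) s
      refine h.n2 (a := 1) (b := y) (by rw [rk_zero.2 rfl]; exact zero_le_one) y2 (Or.inr ?_) k
      rwa [map_one, mul_one, e]
    · obtain ⟨y, y2, rfl⟩ := h.pa.e2.lifti hu u2
      exact h.n2 rk_z.le y2 (Or.inl c) k
  obtain ⟨x, hx, e⟩ := key
  rw [← h.res] at e
  have px := P2.of_sq (rk_sq hx)
  rw [(h.pa.uniq (P2.of_sq ha) (P2.of_sq ha) px px e).1]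
  exact hx

theorem both (p : Pa ψ χ) {v : G} (v2 : v * v = 1) (h1 : v ∈ ψ.range) (h2 : v ∈ χ.range) : v = 1 := by
  obtain ⟨y, y2, e⟩ := p.e1.lifti h1 v2
  obtain ⟨y', y2', e'⟩ := p.e2.lifti h2 v2
  have := (p.uniq (a := y) (b := 1) (a' := 1) (b' := y') (P2.of_sq y2) p1 p1 (P2.of_sq y2')
    (by rw [map_one, map_one, mul_one, one_mul, e, e'])).1
  rw [← e, this, map_one]

theorem cι_sq {ρ : X →* G} (g : G) {x : X} (h : x * x = 1) : g * ρ x * g⁻¹ * (g * ρ x * g⁻¹) = 1 :=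
  sqc (cjc g _) (by rw [← map_mul, h, map_one])

theorem cι_one {ρ : X →* G} (e : Em ρ) {g : G} {x : X} (h : x * x = 1) : g * ρ x * g⁻¹ = 1 ↔ x = 1 := by
  constructor
  · intro k
    rw [conj_eq_one_iff] at k
    exact e.inj2 (P2.of_sq h) p1 (by rw [k, map_one])
  · rintro rfl
    simp

theorem dis (p : Pa ψ χ) {ρ : X →* G} (e : Em ρ) (g : G) :
    ψ.range.comap (cι ρ g) ⊓ χ.range.comap (cι ρ g) ⊓ JD n F (kk n) = ⊥ := by
  rw [eq_bot_iff]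
  intro x hx
  obtain ⟨hx, hJ⟩ := mem_inf.1 hx
  obtain ⟨h1, h2⟩ := mem_inf.1 hx
  have x2 := el_JD _ x hJ
  exact mem_bot.2 ((cι_one e x2).1 (both p (cι_sq g x2) h1 h2))

theorem le_cm {ρ : X →* G} {g : G} {C : Subgroup X} {L : Subgroup G} (h : C.map ρ ^ᶜ g ≤ L) : C ≤ L.comap (cι ρ g) :=
  fun _ hx => h (cj_mem g (mem_map_of_mem ρ hx))

theorem sup_comm' {A B : Subgroup G} {v : G} (h1 : ∀ a ∈ A, a * v = v * a) (h2 : ∀ a ∈ B, a * v = v * a) :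
    ∀ a ∈ A ⊔ B, a * v = v * a := by
  have : A ⊔ B ≤ centralizer {v} :=
    sup_le (fun a ha => mem_centralizer_singleton_iff.2 (h1 a ha)) fun a ha => mem_centralizer_singleton_iff.2 (h2 a ha)
  exact fun a ha => mem_centralizer_singleton_iff.1 (this ha)

theorem lt_J (h : Wk ι ψ χ t) {a b : X} (ha : a ∈ JD n F (kk n)) (hb : b ∈ JD n F (kk n)) (c : Cl ψ (ψ a * χ b))
    (l : rk a < rk b) : rk b ≤ 1 := by
  have eJ : El (JD n F (kk n)) := el_JD _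
  have b2 := eJ b hb
  obtain ⟨P, hP, JP, cP, H⟩ := L81.ln2' ha l (rk_le b2)
  have hQ := (h.pa.isP hP eJ.isP).1
  obtain ⟨g, hg, hM⟩ := h.ext c hQ (sup_comm' (by
      rintro _ ⟨x, hx, rfl⟩
      calc ψ x * (ψ a * χ b) = ψ (x * a) * χ b := by rw [map_mul, mul_assoc]
        _ = ψ a * χ b * ψ x := by rw [cP x hx, map_mul, mul_assoc, h.pa.comm x b, mul_assoc]) (by
      rintro _ ⟨x, hx, rfl⟩
      calc χ x * (ψ a * χ b) = ψ a * χ (x * b) := by rw [map_mul, ← mul_assoc, ← h.pa.comm a x, mul_assoc]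
        _ = ψ a * χ b * χ x := by rw [eJ.comm hx hb, map_mul, mul_assoc]))
  have hN := hM.trans h.pa.Mo_le.1
  obtain ⟨a', ha', e, hD⟩ := H _ _ (dis h.pa h.pa.e1 g) (fun r C hr hl _ => by
    rcases wl h.pa isJ_kk isJ_kk hl ((cj_mono g (sup_le_sup_right (map_mono JP) _)).trans hN)
      (hN (cj_mem g (mem_sup_left (mem_map_of_mem ψ hr)))) with k | k
    · exact Or.inl (le_cm k.1)
    · exact Or.inr (le_cm k.1))
  have a2 := eJ a ha
  have a2' := eJ a' ha'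
  have pu : Pu ψ χ (g * ψ (a * a') * g⁻¹) := by
    rcases hD with k | k
    · exact Or.inl (mul_mem k.1 k.2 : a * a' ∈ ψ.range.comap (cι ψ g))
    · exact Or.inr (mul_mem k.1 k.2 : a * a' ∈ χ.range.comap (cι ψ g))
  have E : ψ (zz 1) * (g * ψ (a * a') * g⁻¹) = g * (ψ a' * χ b) * g⁻¹ := by
    have : ψ a * χ b * ψ (a * a') = ψ a' * χ b := by
      rw [mul_assoc, ← h.pa.comm, ← mul_assoc, ← map_mul, ← mul_assoc, a2, one_mul]
    rw [← hg, ← this]; group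
  rw [← e]
  refine fin h a2' pu (cι_sq g (eJ _ (mul_mem ha ha'))) ?_
  rw [E]
  exact (cjc g _).symm.trans (h.bal a2' b2 e).1

theorem lt_one (h : Wk ι ψ χ t) {a b : X} (ha : a * a = 1) (hb : b * b = 1) (c : Cl ψ (ψ a * χ b))
    (l : rk a < rk b) : a = 1 := by
  obtain ⟨y, hy⟩ := inv_J ha
  obtain ⟨y', hy'⟩ := inv_J hb
  have := lt_J h hy hy' (IsConj.trans c (cjp h.pa a b y y')) (by rwa [rk_cj, rk_cj])
  rw [rk_cj] at this
  exact rk_zero.1 (by omega)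

end WP

theorem Wk.pure (h : Wk ι ψ χ t) {a b : X} (ha : a * a = 1) (hb : b * b = 1) (c : Cl ψ (ψ a * χ b)) : a = 1 ∨ b = 1 := by
  rcases lt_trichotomy (rk a) (rk b) with l | l | l
  · exact Or.inl (WP.lt_one h ha hb c l)
  · obtain ⟨k1, k2⟩ := h.bal ha hb l
    exact absurd k2 (h.n0 (IsConj.trans c k1))
  · refine Or.inr (WP.lt_one h.symm hb ha (h.cl_symm.2 ?_) l)
    rwa [← h.pa.comm]

namespace WP

theorem pu_cl (h : Wk ι ψ χ t) {v : G} (c : Cl ψ v) (k : v ∈ ψ.range ⊔ χ.range) :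
    ∃ x, x * x = 1 ∧ (v = ψ x ∨ v = χ x) := by
  have v2 : v * v = 1 := sqc c (by rw [← map_mul, rk_sq rk_z.le, map_one])
  obtain ⟨a, b, ha, hb, rfl⟩ := h.pa.deci k v2
  rcases h.pure ha hb c with rfl | rfl
  · exact ⟨b, hb, Or.inr (by rw [map_one, one_mul])⟩
  · exact ⟨a, ha, Or.inl (by rw [map_one, mul_one])⟩

theorem JJ_Y (p : Pa ψ χ) {g : G} (k : ((JD n F (kk n)).map ψ ⊔ (JD n F (kk n)).map χ) ^ᶜ g ≤ 𝐍(ψ.range ⊔ χ.range)) :
    ∃ J J', IsJ J ∧ IsJ J' ∧ ((JD n F (kk n)).map ψ ⊔ (JD n F (kk n)).map χ) ^ᶜ g = J.map ψ ⊔ J'.map χ := by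
  obtain ⟨e, c, -⟩ := p.elJ isJ_kk isJ_kk
  exact p.rkm (e.cjg g) k (by rw [card_cj, c])

theorem JJ_Y' (p : Pa ψ χ) {g : G} (k : ((JD n F (kk n)).map ψ ⊔ (JD n F (kk n)).map χ) ^ᶜ g ≤ 𝐍(ψ.range ⊔ χ.range)) :
    ((JD n F (kk n)).map ψ ⊔ (JD n F (kk n)).map χ) ^ᶜ g ≤ ψ.range ⊔ χ.range := by
  obtain ⟨J, J', -, -, e⟩ := JJ_Y p k
  rw [e]
  exact sup_le_sup (map_le_range ψ J) (map_le_range χ J')

theorem r1J (h : Wk ι ψ χ t) {a : X} (ha : a ∈ JD n F (kk n)) (c : Cl ψ (ψ a)) : rk a ≤ 1 := by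
  have a2 := el_JD _ a ha
  have e := (h.pa.elJ isJ_kk isJ_kk).1
  have m1 : ψ a ∈ (JD n F (kk n)).map ψ ⊔ (JD n F (kk n)).map χ := mem_sup_left (mem_map_of_mem ψ ha)
  have m2 : χ a ∈ (JD n F (kk n)).map ψ ⊔ (JD n F (kk n)).map χ := mem_sup_right (mem_map_of_mem χ ha)
  obtain ⟨g, hg, hM⟩ := h.ext c e.isP (fun p hp => e.comm hp m1)
  have hY := JJ_Y' h.pa (hM.trans h.pa.Mo_le.1) (cj_mem g m2)
  have c' : Cl ψ (g * χ a * g⁻¹) := by
    refine IsConj.trans c (IsConj.trans ?_ (cjc g _))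
    refine isConj_iff.2 ⟨t, ?_⟩
    rw [inv_eq_of_mul_eq_one_right h.t2, h.sw]
  obtain ⟨x, -, hx⟩ := pu_cl h c' hY
  refine fin h a2 (u := g * χ a * g⁻¹) (hx.imp (fun k => ⟨x, k.symm⟩) fun k => ⟨x, k.symm⟩) (cι_sq g a2) ?_
  rw [← hg, ← h.res]
  exact isConj_iff.2 ⟨g⁻¹, by group⟩

theorem r1 (h : Wk ι ψ χ t) {a : X} (ha : a * a = 1) (c : Cl ψ (ψ a)) : rk a = 1 := by
  have a1 : rk a ≠ 0 := fun k => h.n0 c (by rw [rk_zero.1 k, map_one, one_mul, mul_one])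
  obtain ⟨y, hy⟩ := inv_J ha
  have := r1J h hy (IsConj.trans c (by rw [map_mul, map_mul, map_inv]; exact cjc _ _))
  rw [rk_cj] at this
  omega

end WP

theorem Wk.rank1 (h : Wk ι ψ χ t) {v : G} (c : Cl ψ v) (k : v ∈ ψ.range ⊔ χ.range) :
    ∃ x, rk x = 1 ∧ (v = ψ x ∨ v = χ x) := by
  obtain ⟨x, x2, rfl | rfl⟩ := WP.pu_cl h c k
  · exact ⟨x, WP.r1 h x2 c, Or.inl rfl⟩
  · exact ⟨x, WP.r1 h.symm x2 (h.cl_symm.2 c), Or.inr rfl⟩

end UMS
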