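import Cfsg.Agent.Lib.UMS.W2h87
import Cfsg.Agent.Lib.UMS.COV
import Cfsg.Agent.Lib.UMS.GEN0
import Cfsg.Agent.Lib.UMS.WIT
import Cfsg.Agent.Lib.UMS.CE
import Cfsg.Agent.Lib.UMS.B7
import Cfsg.Agent.Lib.UMS.ISO
import Cfsg.Agent.Lib.UMS.H12b
import Cfsg.Agent.Lib.UMS.B3

set_option autoImplicit false
set_option linter.unusedSectionVars false

namespace UMS

open Subgroup H69 Cfsg Matrix U4S
open LMS (XX GX iL kk MM au tw Sg)
open scoped MatrixGroups commutatorElement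

universe u
variable {G : Type*} [Group G] [Finite G] {F : Type u} [Field F] [CharP F 2] [Fintype F] [Hs F] {n : ℕ} [Ok n F]
  {ι ψ χ : XU n F →* G} {t : G} {E : Subgroup G}

local notation "X" => XU n F
local notation "V" => VV n F
local notation "𝐪" => Nat.card (K0 F)
local notation "I" => Fin (n + 3)
local notation "Mx" => Matrix (Fin (n + 3)) (Fin (n + 3)) F

namespace H4

variable {W : VV n F → G} {α : K0 F} {s s' : F}

theorem pf_triv {Γ : Type*} [Group Γ] (c : X →* Γ) (h : ∀ x y, c x * c y = c y * c x) (x : X) : c x = 1 := by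
  have : commutator X ≤ c.ker := commutator_le.2 fun a _ b _ => by
    rw [MonoidHom.mem_ker, map_commutatorElement, commutatorElement_eq_one_iff_mul_comm]; exact h a b
  exact this (pf_X.ge (mem_top x))

theorem eq_hom {g g' : X →* G} (H : Subgroup G) (hg : ∀ x, g x ∈ H) (hg' : ∀ x, g' x ∈ H)
    (c : ∀ x, (g x)⁻¹ * g' x ∈ 𝐂(H)) (x : X) : g' x = g x := by
  let f : X →* G := MonoidHom.mk' (fun x => (g x)⁻¹ * g' x) fun x y => by
    have := c x (g y)⁻¹ (inv_mem (hg y))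
    rw [map_mul, map_mul, _root_.mul_inv_rev, ← mul_assoc ((g x)⁻¹ * g' x), ← this]; group
  have := pf_triv f (fun a b => (c a _ (mul_mem (inv_mem (hg b)) (hg' b))).symm) x
  exact (inv_mul_eq_one.1 this).symm

theorem two : (2 : F) = 0 := CharTwo.two_eq_zero

theorem ys0 (k : Stb ι t W α) {i j : I} (h : Sh i j) (x : F) : YS ι W i j x 0 = ι (sr i j x) := by
  unfold YS
  rw [zero_smul, H87.SS_zero_l k.toWt (is_ee (by rw [Fin.rev_rev]; exact h.2.2.2.symm)).1, mul_one]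

theorem ys00 (k : Stb ι t W α) {i j : I} (h : Sh i j) : YS ι W i j 0 0 = 1 := by
  simpa using k.yadd i j h 0 0 0 0

theorem cA (k : Stb ι t W α) (h1 : s + s' = 1) (h2 : s * s' = α) {i j l : I} (a : Sh i j) (b : Sh j l) (c : Sh i l)
    (x y : F) : ⁅YS ι W i j (s * x) x, YS ι W j l (s * y) y⁆ = YS ι W i l (s * (x * y)) (x * y) := by
  rw [k.c1 i j l a b c]
  congr 1
  · linear_combination (s * x * y) * h1 - (x * y) * h2
  · linear_combination (s * x * y) * (two (F := F))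

theorem cB (k : Stb ι t W α) (h1 : s + s' = 1) (h2 : s * s' = α) {i j l : I} (a : Sh i j) (b : Sh j l) (c : Sh i l)
    (x y : F) : Commute (YS ι W i j (s * x) x) (YS ι W j l (s' * y) y) := by
  rw [← commutatorElement_eq_one_iff_commute, k.c1 i j l a b c, ← ys00 k c]
  congr 1
  · linear_combination (x * y) * h2 + ((α : F) * x * y) * (two (F := F))
  · linear_combination (x * y) * h1 + (x * y) * (two (F := F))

theorem cC {a b c : G} (h1 : Commute a c) (h2 : Commute b c) : Commute ⁅a, b⁆ c := by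
  rw [commutatorElement_def]
  exact ((h1.mul_left h2).mul_left h1.inv_left).mul_left h2.inv_left

theorem adj (k : Stb ι t W α) (h1 : s + s' = 1) (h2 : s * s' = α) {i j l : I} (a : Sh i j) (b : Sh j l)
    (x y : F) : Commute (YS ι W i j (s * x) x) (YS ι W j l (s' * y) y) := by
  by_cases c : Sh i l
  · exact cB k h1 h2 a b c x y
  obtain ⟨p, p1, p2⟩ := ex_sh3 (Ok.h3 (n := n) (F := F)) a
  have e := cA k h1 h2 p1 p2 a x 1
  rw [mul_one x] at e
  rw [← e]
  by_cases e1 : i = l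
  · subst e1
    exact cC (cB k ((add_comm _ _).trans h1) ((mul_comm _ _).trans h2) b p1 p2.symm y x).symm
      (cB k h1 h2 p2 b p1.symm 1 y)
  have e2 : l = i.rev := by
    by_contra e2
    exact c ⟨e1, e2, a.2.2.1, b.2.2.2⟩
  subst e2
  refine cC (k.c0 _ _ _ _ p1 b e1 p2.1 a.2.1 (fun q => p1.1 (Fin.rev_injective q)) _ _ _ _)
    (cB k h1 h2 p2 b ⟨p1.2.1, fun q => p1.1 (Fin.rev_injective q), p1.2.2.2, b.2.2.2⟩ 1 y)

theorem cm (k : Stb ι t W α) (h1 : s + s' = 1) (h2 : s * s' = α) (h3 : σ s' = s') {i j i' j' : I} (a : Sh i j)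
    (b : Sh i' j') (x y : F) : Commute (YS ι W i j (s * x) x) (YS ι W i' j' (s' * y) y) := by
  have k1 := (add_comm _ _).trans h1
  have k2 := (mul_comm _ _).trans h2
  by_cases e1 : j = i'
  · subst e1; exact adj k h1 h2 a b x y
  by_cases e2 : i = j'
  · subst e2; exact (adj k k1 k2 b a y x).symm
  have sy : YS ι W i' j' (s' * y) y = YS ι W j'.rev i'.rev (s' * σ y) (σ y) := by
    rw [k.sym i' j' b, map_mul, h3]
  have b' := b.rev
  by_cases e3 : i' = i.rev
  · subst e3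
    rw [sy]
    rw [Fin.rev_rev] at b' ⊢
    exact (adj k k1 k2 b' a _ x).symm
  by_cases e4 : j' = j.rev
  · subst e4
    rw [sy]
    rw [Fin.rev_rev] at b' ⊢
    exact adj k h1 h2 a b' x _
  exact k.c0 _ _ _ _ a b e2 e1 e3 e4 _ _ _ _

/-- generated by the components of the basis -/
def B0 (ι : X →* G) (W : V → G) (s : F) : Subgroup G :=
  closure {y | ∃ i j a, Sh i j ∧ y = YS ι W i j (s * a) a}

/-- generated by all components -/
def AA (ι : X →* G) (W : V → G) (s : F) : Subgroup G := closure {y | ∃ u v, Ot u v ∧ y = XR ι W s u v}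

theorem cc0 (k : Stb ι t W α) (h1 : s + s' = 1) (h2 : s * s' = α) (h3 : σ s' = s') : B0 ι W s' ≤ 𝐂(B0 ι W s) := by
  refine (closure_le _).2 ?_
  rintro _ ⟨i, j, a, q, rfl⟩
  refine mem_centralizer_iff.2 fun y hy => mem_centralizer_singleton_iff.1 ((closure_le _).2 ?_ hy)
  rintro _ ⟨i', j', a', q', rfl⟩
  exact mem_centralizer_singleton_iff.2 (cm k h1 h2 h3 q' q a' a)

theorem nm0 (k : Stb ι t W α) (h1 : s + s' = 1) (h2 : s * s' = α) (h3 : σ s' = s') {x : X} (hx : ac x mv = mv) :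
    ι x ∈ 𝐍(B0 ι W s) := by
  refine mem_comap.1 ((closure_le ((𝐍(B0 ι W s)).comap ι)).2 ?_ (gen0 hx))
  rintro _ ⟨i, j, a, q, rfl⟩
  have e := k.yadd i j q (s * a) a (s' * a) a
  rw [← add_mul, h1, one_mul, CharTwo.add_self_eq_zero, ys0 k q] at e
  refine mem_comap.2 (e ▸ mul_mem (le_normalizer (subset_closure ⟨i, j, a, q, rfl⟩)) ?_)
  exact le_normalizer_of_le_centralizer (cc0 k h1 h2 h3) (subset_closure ⟨i, j, a, q, rfl⟩)

theorem sh01 (h : 3 ≤ n) : Sh (0 : I) (Fin.rev 1) := by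
  have e : ((1 : I) : ℕ) = 1 := rfl
  refine ⟨?_, ?_, ?_, ?_⟩ <;> simp only [ne_eq, Fin.ext_iff, Fin.val_rev, Fin.val_zero, e] <;> omega

theorem xr0 (s : F) : XR ι W s (ee 0) (ee 1) = YS ι W 0 (Fin.rev 1) (s * 1) 1 := by
  simp [XR, YS, sr]

theorem ot01 : Ot (ee 0 : V) (ee 1) := by
  simpa using ot_ee (F := F) (sh01 (Ok.h3 (n := n) (F := F)))

theorem xrm (k : Stb ι t W α) (h1 : s + s' = 1) (h2 : s * s' = α) (h3 : σ s' = s') {u v : V} (o : Ot u v)
    (hu : bt u mv = 0) (hv : bt v mv = 0) : XR ι W s u v ∈ B0 ι W s := by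
  obtain ⟨x, hx, rfl, rfl⟩ := wit2m o hu hv
  rw [← k.xeqv x _ _ s ot01, xr0]
  exact conj_mem_of_mem_normalizer (nm0 k h1 h2 h3 hx)
    (subset_closure ⟨_, _, _, sh01 (Ok.h3 (n := n) (F := F)), rfl⟩)

theorem perp4 (o : Odd (n + 3)) (u : Fin 4 → V) (hu : ∀ i, bt (u i) (u i) = 0) :
    ∃ w, bt w w ≠ 0 ∧ ∀ i, bt w (u i) = 0 := by
  by_contra c
  push Not at c
  let S := Submodule.span F (Set.range u)
  have h3 := Ok.h3 (n := n) (F := F)
  obtain ⟨j, hj⟩ := o
  have r1 : H12.pp S ≤ S := by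
    have := H12.ti_le (W := H12.pp S) fun x hx => by
      by_contra q
      obtain ⟨i, hi⟩ := c x q
      exact hi (H12.mem_pp_span.1 hx _ ⟨i, rfl⟩)
    rwa [H12.pp_pp] at this
  have r2 := H12.rk_pp S
  have r3 : Module.finrank F S ≤ 4 := (finrank_range_le_card (R := F) u).trans (by simp)
  have r4 : ∀ i, u i ∈ H12.pp S := fun i => by
    by_contra q
    have lt : H12.pp S < H12.pp S ⊔ Submodule.span F {u i} :=
      lt_of_le_of_ne le_sup_left fun e => q (e.ge (Submodule.mem_sup_right (Submodule.subset_span rfl)))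
    have le : H12.pp S ⊔ Submodule.span F {u i} ≤ S :=
      sup_le r1 (Submodule.span_mono (Set.singleton_subset_iff.2 ⟨i, rfl⟩))
    have e := Submodule.eq_of_le_of_finrank_le le (by have := Submodule.finrank_lt_finrank_of_lt lt; omega)
    refine q (H12.mem_pp.2 fun x hx => ?_)
    obtain ⟨a, ha, b, hb, rfl⟩ := Submodule.mem_sup.1 (e.ge hx)
    obtain ⟨d, rfl⟩ := Submodule.mem_span_singleton.1 hb
    rw [bt_add_right, bt_smul_right, hu, mul_zero, add_zero]
    exact H12.bt_sw (H12.mem_pp.1 ha _ (Submodule.subset_span ⟨i, rfl⟩))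
  have r5 : H12.pp S = S := le_antisymm r1 (Submodule.span_le.2 (by rintro _ ⟨i, rfl⟩; exact r4 i))
  rw [r5] at r2
  omega

theorem move (u : Fin 4 → V) (hu : ∀ i, bt (u i) (u i) = 0) : ∃ x : X, ∀ i, bt (ac x (u i)) mv = 0 := by
  by_cases e : ∃ i : I, i = i.rev
  · obtain ⟨i, hi⟩ := e
    have vi : i.1 = n + 3 - (i.1 + 1) := (congrArg Fin.val hi).trans (Fin.val_rev i)
    have m : (mv : V) = ee i := by
      ext j
      have : j = j.rev ↔ j = i := by
        rw [Fin.ext_iff, Fin.ext_iff, Fin.val_rev]; omega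
      simp [mv, ee, Pi.single_apply, this]
    obtain ⟨w, w1, w2⟩ := perp4 ⟨i.1, by omega⟩ u hu
    obtain ⟨b, -, hb⟩ := H12.ex_nm (a := (bt w w)⁻¹) (by rw [map_inv₀, ← bt_symm])
    obtain ⟨x, hx⟩ := witn (u := b • w) (v := mv)
      (by rw [bt_smul_left, bt_smul_right, ← mul_assoc, hb, inv_mul_cancel₀ w1])
      (by rw [m, H12.bt_ee, if_pos hi])
    exact ⟨x, fun j => by rw [← hx, bt_ac, bt_smul_right, H12.bt_sw (w2 j), mul_zero]⟩
  · push Not at e
    have m : (mv : V) = 0 := by ext j; simp [mv, e j]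
    exact ⟨1, fun j => by rw [m, H12.bt_zero_r]⟩

theorem cx (k : Stb ι t W α) (h1 : s + s' = 1) (h2 : s * s' = α) (h3 : σ s = s) (h4 : σ s' = s') {u v u' v' : V}
    (o : Ot u v) (o' : Ot u' v') : XR ι W s u v * XR ι W s' u' v' = XR ι W s' u' v' * XR ι W s u v := by
  obtain ⟨x, hx⟩ := move ![u, v, u', v'] fun i => by
    fin_cases i
    exacts [o.1, o.2.1, o'.1, o'.2.1]
  have := cc0 k h1 h2 h4 (xrm k ((add_comm _ _).trans h1) ((mul_comm _ _).trans h2) h3 (o'.ac x) (hx 2) (hx 3)) _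
    (xrm k h1 h2 h4 (o.ac x) (hx 0) (hx 1))
  rw [← k.xeqv x _ _ _ o, ← k.xeqv x _ _ _ o'] at this
  refine (MulAut.conj (ι x)).injective ?_
  rw [map_mul, map_mul]
  exact this

theorem cc (k : Stb ι t W α) (h1 : s + s' = 1) (h2 : s * s' = α) (h3 : σ s = s) (h4 : σ s' = s') :
    AA ι W s' ≤ 𝐂(AA ι W s) := by
  refine (closure_le _).2 ?_
  rintro _ ⟨u, v, q, rfl⟩
  refine mem_centralizer_iff.2 fun y hy => mem_centralizer_singleton_iff.1 ((closure_le _).2 ?_ hy)
  rintro _ ⟨u', v', q', rfl⟩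
  exact mem_centralizer_singleton_iff.2 (cx k h1 h2 h3 h4 q' q)

theorem cjA (k : Stb ι t W α) (s : F) (x : X) {y : G} (hy : y ∈ AA ι W s) : ι x * y * (ι x)⁻¹ ∈ AA ι W s := by
  refine mem_comap.1 ((closure_le ((AA ι W s).comap (MulAut.conj (ι x)).toMonoidHom)).2 ?_ hy)
  rintro _ ⟨u, v, q, rfl⟩
  exact subset_closure ⟨_, _, q.ac x, k.xeqv x u v s q⟩

theorem s1 (h1 : s + s' = 1) : s' = s + 1 := by linear_combination h1 - s * (two (F := F))

theorem twA (h : C1 ι t) (k : Stb ι t W α) (h1 : s + s' = 1) {y : G} (hy : y ∈ AA ι W s) :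
    t * y * t⁻¹ ∈ AA ι W s' := by
  refine mem_comap.1 ((closure_le ((AA ι W s').comap (MulAut.conj t).toMonoidHom)).2 ?_ hy)
  rintro _ ⟨u, v, q, rfl⟩
  refine subset_closure ⟨u, v, q, ?_⟩
  rw [s1 h1, ← k.tw u v s q]
  exact congrArg _ (inv_eq_of_mul_eq_one_right h.t2)

theorem inAB (k : Stb ι t W α) (h1 : s + s' = 1) (x : X) : ι x ∈ AA ι W s ⊔ AA ι W s' := by
  refine mem_comap.1 ((closure_le ((AA ι W s ⊔ AA ι W s').comap ι)).2 ?_ (gen_sh.ge (mem_top x)))
  rintro _ ⟨u, v, q, rfl⟩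
  refine mem_comap.2 ?_
  rw [← k.xmul u v s q, ← s1 h1]
  exact mul_mem_sup (subset_closure ⟨u, v, q, rfl⟩) (subset_closure ⟨u, v, q, rfl⟩)

theorem ysA {i j : I} (q : Sh i j) : YS ι W i j (s * 1) 1 ∈ AA ι W s :=
  subset_closure ⟨ee i, ee j.rev, ot_ee q, by simp [XR, YS, sr]⟩

theorem pfA (k : Stb ι t W α) (h1 : s + s' = 1) (h2 : s * s' = α) : AA ι W s ≤ ⁅AA ι W s, AA ι W s⁆ := by
  refine (closure_le _).2 ?_
  rintro _ ⟨u, v, q, rfl⟩
  obtain ⟨x, rfl, rfl⟩ := wit2 q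
  have a := sh01 (Ok.h3 (n := n) (F := F))
  obtain ⟨p, p1, p2⟩ := ex_sh3 (Ok.h3 (n := n) (F := F)) a
  have e := cA k h1 h2 p1 p2 a 1 1
  rw [mul_one (1 : F)] at e
  rw [← k.xeqv x _ _ s ot01, xr0, ← e]
  have := commutator_mem_commutator (cjA k s x (ysA (ι := ι) (W := W) p1)) (cjA k s x (ysA (ι := ι) (W := W) p2))
  rwa [← conjugate_commutatorElement] at this

theorem leE (k : Stb ι t W α) (a : Am ι.range E t) (s : F) : AA ι W s ≤ E := by
  refine (closure_le _).2 ?_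
  rintro _ ⟨u, v, q, rfl⟩
  obtain ⟨x, rfl, rfl⟩ := wit2 q
  have b := sh01 (Ok.h3 (n := n) (F := F))
  obtain ⟨p, p1, p2⟩ := ex_sh3 (Ok.h3 (n := n) (F := F)) b
  have e := k.c1 _ _ _ p1 p2 b (s * 1) 1 1 0
  simp only [mul_one, mul_zero, add_zero, zero_add] at e
  rw [ys0 k p2] at e
  rw [← k.xeqv x _ _ s ot01, xr0, mul_one, ← e, commutatorElement_def]
  exact a.nE.conj_mem _ (mul_mem (a.nE.conj_mem _ (a.le ⟨_, rfl⟩) _) (inv_mem (a.le ⟨_, rfl⟩))) _

theorem wA (h : C4 ι t) (k : Stb ι t W α) (h1 : s + s' = 1) {u : V} (hu : bt u u = 0) :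
    W u ∈ AA ι W s ⊔ AA ι W s' := by
  by_cases u0 : u = 0
  · rw [u0, k.zero]; exact one_mem _
  have ss : ∀ a b, Ot a b → SS W a b ∈ AA ι W s ⊔ AA ι W s' := fun a b o => by
    have : XR ι W s a b ∈ AA ι W s ⊔ AA ι W s' := mem_sup_left (subset_closure ⟨a, b, o, rfl⟩)
    exact (Subgroup.mul_mem_cancel_left _ (inAB k h1 _)).1 this
  obtain ⟨v, o⟩ := ext2 ⟨hu, u0⟩
  obtain ⟨ω, hω⟩ := ex_om (F := F)
  have ω0 : ω ≠ 0 := fun e => by simp [e] at hω
  have ω1 : 1 + ω ≠ 0 := fun e => by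
    have e' : ω = 1 := by linear_combination e - (two (F := F))
    rw [e', map_one] at hω
    exact one_ne_zero (by linear_combination (two (F := F)) - hω : (1 : F) = 0)
  have is : ∀ a b : F, bt (a • u + b • v) (a • u + b • v) = 0 := fun a b => by
    simp [bt_add_left, bt_add_right, bt_smul_left, bt_smul_right, hu, o.2.1, o.2.2.1, H12.bt_sw o.2.2.1]
  have i2 : bt (ω • u + v) (ω • u + v) = 0 := by simpa using is ω 1
  have o1 : Ot v u := o.symm
  have o2 : Ot v (ω • u) := by simpa using o1.smul one_ne_zero ω0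
  have o3 : Ot v (u + ω • u) := by simpa [add_smul] using o1.smul one_ne_zero ω1
  have b2 : bt u (ω • u + v) = 0 := by rw [bt_add_right, bt_smul_right, hu, o.2.2.1, mul_zero, add_zero]
  have o4 : Ot u (ω • u + v) := ⟨hu, i2, b2, LinearIndependent.pair_iff.2 fun a b e => by
    have := LinearIndependent.pair_iff.1 o.2.2.2 (a + b * ω) b (by rw [← e]; module)
    simpa [this.2] using this⟩
  have e1 := k.sadd v u (ω • u) o1 o2 (by rw [bt_smul_right, hu, mul_zero]) o3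
  have e2 := k.add u hu (1 + ω) ω 0 (Subtype.ext (by
    change (1 + ω) * σ (1 + ω) + ω * σ ω = 0 * σ 0
    rw [map_add, map_one]
    linear_combination hω + (1 + ω * σ ω) * (two (F := F))))
  rw [zero_smul, k.zero, add_smul, one_smul] at e2
  have e3 : W (u + ω • u) = W (ω • u) := by
    rw [eq_inv_of_mul_eq_one_left e2, inv_eq_of_mul_eq_one_right (H87.sqW k.toWt o2.2.1)]
  have m1 := ss _ _ o4
  have m2 := ss _ _ o
  unfold SS at e1 m1 m2
  rw [e3, ← mul_assoc, ← mul_assoc, mul_left_inj, mul_left_inj, add_comm v, add_comm v, add_comm v, add_assoc] at e1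
  rw [e1, mul_assoc (W (u + v) * W v * W u), ← H87.cmW h k.toWt hu i2 b2, mul_assoc, mul_assoc, mul_assoc (W u) (W _) (W _),
    H87.sqW k.toWt i2, mul_one, H87.sqW k.toWt hu, mul_one] at m1
  rw [mul_assoc, H87.cmW h k.toWt hu o.2.1 o.2.2.1, ← mul_assoc] at m2
  exact (Subgroup.mul_mem_cancel_left _ m1).1 m2

theorem xs0 (h : C1 ι t) {v : V} (hv : Is v) {w : G} (x : Xs ι t v 0 w) : w ∈ ι.range := by
  have wt : w * t = t * w := by
    have := x.1.2
    rw [tc_zero, map_one, mul_one] at this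
    exact mul_inv_eq_iff_eq_mul.1 this
  obtain ⟨c, z, hz, rfl⟩ := cP h.em (h.CN w wt) hv x.1.1
  have z2 : z * z = 1 := by
    have := x.2.2.1
    rwa [mul_assoc, ← mul_assoc (ι _), hz _ ⟨_, rfl⟩, mul_assoc, ← map_mul, tc_sq hv.1, map_one, mul_one] at this
  rcases h.uq z hz z2 (B7.kc h wt) with rfl | rfl
  · exact ⟨_, (one_mul _).symm⟩
  · exact absurd rfl (x.2.2.2 c)

theorem is0 : Is (ee 0 : V) := H12.is0

theorem xsA (h : C4 ι t) (k : Stb ι t W α) (h1 : s + s' = 1) {c : K0 F} {w : G} (x : Xs ι t (ee 0) c w) :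
    w ∈ AA ι W s ⊔ AA ι W s' := by
  have r : ι.range ≤ AA ι W s ⊔ AA ι W s' := by rintro _ ⟨y, rfl⟩; exact inAB k h1 y
  obtain ⟨a, rfl⟩ := nm_surj c
  by_cases a0 : a = 0
  · rw [a0, H87.nm_zero] at x
    exact r (xs0 h.toC1 is0 x)
  have y := (H87.Xs_smul is0.1 a0).1 (k.xs _ (is0.smul a0))
  rw [one_mul] at y
  have z := h.mul _ is0 _ _ _ _ x y
  rw [k0_add] at z
  exact (Subgroup.mul_mem_cancel_right _ (wA h k h1 (is0.smul a0).1)).1 (r (xs0 h.toC1 is0 z))

theorem cjY (x : X) {c : K0 F} {w : G} (h : Xs ι t (ee 0) c w) : ι x * w * (ι x)⁻¹ ∈ YY ι t :=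
  subset_closure ⟨x, c, w, h, rfl⟩

theorem xY (h : C1 ι t) (x : X) : ι x ∈ YY ι t := by
  refine mem_comap.1 ((closure_le ((YY ι t).comap ι)).2 ?_ (top_tc.ge (mem_top x)))
  rintro _ ⟨v, c, hv, rfl⟩
  refine mem_comap.2 ?_
  by_cases v0 : v = 0
  · have := tc_smul (ee 0 : V) 0 c
    rw [zero_smul, H87.nm_zero, zero_mul, tc_zero] at this
    rw [v0, this, map_one]; exact one_mem _
  obtain ⟨y, rfl⟩ := wit1 ⟨hv, v0⟩
  rw [← tc_cj is0.1, map_mul, map_mul, map_inv]
  refine cjY y (c := 0) ⟨⟨fun z hz => ?_, ?_⟩, fun o ho => ho.1 _ ⟨_, rfl⟩, ?_, fun a e => h.t_not ?_⟩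
  · rw [← map_mul, ← map_mul]
    exact congrArg ι (PP_cen hz c).symm
  · rw [tc_zero, map_one, mul_one, ← h.tc, mul_inv_cancel_right]
  · rw [← map_mul, tc_sq is0.1, map_one]
  · exact ⟨tc (ee 0) c * (tc (ee 0) a)⁻¹, by rw [map_mul, map_inv, e, mul_inv_cancel_right]⟩

theorem aY (h : C1 ι t) (k : Stb ι t W α) (s : F) : AA ι W s ≤ YY ι t := by
  have w : ∀ v, Is v → W v ∈ YY ι t := fun v hv => by
    obtain ⟨y, rfl⟩ := wit1 hv
    rw [← k.eqv y _ is0.1]
    exact cjY y (k.xs _ is0)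
  refine (closure_le _).2 ?_
  rintro _ ⟨u, v, q, rfl⟩
  have i1 : Is (u + v) := by simpa using q.is (a := 1) (b := 1) (Or.inl one_ne_zero)
  have i2 : Is u := by simpa using q.is (a := 1) (b := 0) (Or.inl one_ne_zero)
  have i3 : Is v := by simpa using q.is (a := 0) (b := 1) (Or.inr one_ne_zero)
  exact mul_mem (xY h _) (mul_mem (mul_mem (w _ i1) (w _ i2)) (w _ i3))

theorem exψ (h : C1 ι t) (k : Stb ι t W α) (h1 : s + s' = 1) (h2 : s * s' = α) (h3 : σ s = s) (h4 : σ s' = s') :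
    ∃ ψ : X →* G, Em ψ ∧ ψ.range = AA ι W s ∧
      ∀ x, ∃ a ∈ AA ι W s, ∃ b ∈ AA ι W s', ι x = a * b ∧ (ψ x)⁻¹ * a ∈ 𝐂(AA ι W s) := by
  have k1 := (add_comm _ _).trans h1
  have k2 := (mul_comm _ _).trans h2
  have c1 := cc k h1 h2 h3 h4
  have c2 := cc k k1 k2 h4 h3
  choose a ha b hb e using fun x =>
    (mem_sup_of_le_normalizer_right (le_normalizer_of_le_centralizer c2)).1 (inAB k h1 x)
  have key : ∀ {p q p' q' : G}, q ∈ AA ι W s' → q' ∈ AA ι W s' → p * q = p' * q' → p⁻¹ * p' ∈ 𝐂(AA ι W s) :=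
    fun {p q p' q'} hq hq' e => by
      rw [show p⁻¹ * p' = q * q'⁻¹ by rw [inv_mul_eq_iff_eq_mul, ← mul_assoc, e, mul_inv_cancel_right]]
      exact c1 (mul_mem hq (inv_mem hq'))
  have mc : ∀ {z : AA ι W s}, z ∈ center _ ↔ z.1 ∈ 𝐂(AA ι W s) := fun {z} =>
    ⟨fun q y hy => congrArg Subtype.val (mem_center_iff.1 q ⟨y, hy⟩),
      fun q => mem_center_iff.2 fun y => Subtype.ext (q y.1 y.2)⟩
  let f : X →* AA ι W s ⧸ center (AA ι W s) := MonoidHom.mk' (fun x => QuotientGroup.mk ⟨a x, ha x⟩) fun x y => by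
    rw [← QuotientGroup.mk_mul]
    refine QuotientGroup.eq.2 (mc.2 (key (hb (x * y)) (mul_mem (hb x) (hb y)) ?_))
    change _ = a x * a y * _
    rw [← e, map_mul, e, e, mul_assoc, mul_assoc, ← mul_assoc (b x), ← c1 (hb x) _ (ha y), mul_assoc]
  have fs : Function.Surjective f := fun q => by
    obtain ⟨⟨y, hy⟩, rfl⟩ := QuotientGroup.mk_surjective q
    change _ ∈ f.range
    induction hy using closure_induction with
    | mem y hy =>
      obtain ⟨u, v, o, rfl⟩ := hy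
      refine ⟨sh u v, QuotientGroup.eq.2 (mc.2 (key (hb (sh u v)) (subset_closure ⟨u, v, o, rfl⟩) ?_))⟩
      rw [s1 h1]
      exact (e _).symm.trans (k.xmul u v s o).symm
    | one => exact one_mem _
    | mul y z hy hz p q => exact mul_mem p q
    | inv y hy p => exact inv_mem p
  have fk : center X = f.ker := by
    refine le_antisymm (fun z hz => (QuotientGroup.eq_one_iff _).2 (mc.2 ?_))
      ((normal_X f.ker).resolve_right fun q => ?_)
    · have q := eq_hom (g := ι) (g' := cι ι (a z)) (AA ι W s ⊔ AA ι W s') (inAB k h1)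
        (fun y => mul_mem (mul_mem (mem_sup_left (ha z)) (inAB k h1 y)) (inv_mem (mem_sup_left (ha z)))) fun y => by
          have p1 : (ι y)⁻¹ * cι ι (a z) y ∈ AA ι W s := by
            have := mul_mem (cjA k s y⁻¹ (ha z)) (inv_mem (ha z))
            rw [map_inv, inv_inv] at this
            simpa only [cι_apply, mul_assoc] using this
          have p2 : (ι y)⁻¹ * cι ι (a z) y ∈ AA ι W s' := by
            have := mul_mem (cjA k s' y⁻¹ (inv_mem (hb z))) (hb z)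
            have e2 : a z = (b z)⁻¹ * ι z := by rw [e z, c1 (hb z) _ (ha z), inv_mul_cancel_left]
            have e3 : ι z * ι y = ι y * ι z := by rw [← map_mul, ← map_mul, mem_center_iff.1 hz y]
            rw [map_inv, inv_inv] at this
            rw [cι_apply, e2, mul_assoc (b z)⁻¹ (ι z), e3]
            convert this using 1
            group
          exact le_centralizer_iff.1 (sup_le (le_centralizer_iff.1 ((zpowers_le_of_mem p2).trans c1))
            (le_centralizer_iff.1 ((zpowers_le_of_mem p1).trans c2))) (mem_zpowers _)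
      intro y hy
      refine mem_centralizer_singleton_iff.1 ((closure_le _).2 ?_ hy)
      rintro _ ⟨u, v, o, rfl⟩
      have e1 : XR ι W s u v = ι (sh u v) * (XR ι W s' u v)⁻¹ := by
        rw [← k.xmul u v s o, ← s1 h1, mul_inv_cancel_right]
      refine e1 ▸ mul_mem (mem_centralizer_singleton_iff.2 (mul_inv_eq_iff_eq_mul.1 (q _)).symm) (inv_mem ?_)
      exact mem_centralizer_singleton_iff.2 (c1 (subset_closure ⟨u, v, o, rfl⟩) _ (ha z)).symm
    · have p1 : AA ι W s ≤ 𝐂(AA ι W s) := fun y hy => by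
        obtain ⟨x, hx⟩ := fs (QuotientGroup.mk ⟨y, hy⟩)
        exact mc.1 ((QuotientGroup.eq_one_iff _).1 (hx.symm.trans (q.ge (mem_top x))))
      have p2 : ∀ y ∈ AA ι W s, y = 1 := fun y hy =>
        mem_bot.1 ((commutator_eq_bot_iff_le_centralizer.2 p1).le (pfA k h1 h2 hy))
      have p3 : ι (tc (ee 0) 1) = 1 := by
        rw [e, p2 _ (ha _), one_mul]
        simpa using p2 _ (twA h k k1 (hb (tc (ee 0) 1)))
      exact one_ne_zero (tc_cen is0 (h.em p3))
  obtain ⟨φ, p1, p2, p3⟩ := cov (Γ := AA ι W s)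
    (map_injective (AA ι W s).subtype_injective (by
      rw [map_subtype_commutator, ← MonoidHom.range_eq_map, range_subtype]
      exact le_antisymm (commutator_le_left_of_le_normalizer le_normalizer) (pfA k h1 h2))) (center _) le_rfl
    ((QuotientGroup.quotientMulEquivOfEq fk).trans (QuotientGroup.quotientKerEquivOfSurjective f fs)).symm
  refine ⟨(AA ι W s).subtype.comp φ, fun x hx => p1 (Subtype.ext hx), ?_, fun x => ⟨a x, ha x, b x, hb x, e x, ?_⟩⟩
  · rw [MonoidHom.range_comp, MonoidHom.range_eq_top.2 p2, ← MonoidHom.range_eq_map, range_subtype]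
  · exact mc.1 (QuotientGroup.eq.1 ((MulEquiv.symm_apply_eq _).1 (p3 x)))

theorem wre (h : C4 ι t) (k : Stb ι t W α) (a : Am ι.range E t) {r : F} (hr : r * r + r = α) (hs : σ r = r) :
    ∃ ψ, Wc ι ψ t E := by
  have h1 : r + (r + 1) = 1 := by linear_combination r * (two (F := F))
  have h2 : r * (r + 1) = α := by linear_combination hr
  have h4 : σ (r + 1) = r + 1 := by rw [map_add, map_one, hs]
  have k1 := (add_comm _ _).trans h1
  have c1 := cc k h1 h2 hs h4
  have c2 := le_centralizer_iff.1 c1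
  obtain ⟨ψ, e, rg, hψ⟩ := exψ h.toC1 k h1 h2 hs h4
  have tt : ∀ y : G, t * (t * y * t⁻¹) * t⁻¹ = y := fun y => by
    rw [inv_eq_of_mul_eq_one_right h.t2, ← mul_assoc, ← mul_assoc, h.t2, one_mul, mul_assoc, h.t2, mul_one]
  have pA : ∀ x, ψ x ∈ AA ι W r := fun x => rg.le ⟨x, rfl⟩
  have pB : ∀ x, cι ψ t x ∈ AA ι W (r + 1) := fun x => twA h.toC1 k h1 (pA x)
  have rg' : (cι ψ t).range = AA ι W (r + 1) := le_antisymm (by rintro _ ⟨x, rfl⟩; exact pB x) fun y hy => by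
    obtain ⟨x, hx⟩ := rg.ge (twA h.toC1 k k1 hy)
    exact ⟨x, by rw [cι_apply, hx, tt]⟩
  have comm : ∀ x y, ψ x * cι ψ t y = cι ψ t y * ψ x := fun x y => c1 (pB y) _ (pA x)
  have res : ∀ x, ψ x * cι ψ t x = ι x := fun x => by
    let f : X →* G := MonoidHom.mk' (fun x => ψ x * cι ψ t x) fun x y => by
      rw [map_mul, map_mul, mul_assoc, mul_assoc, ← mul_assoc (ψ y), comm y x, mul_assoc]
    refine (eq_hom (g := f) (g' := ι) _ (fun y => mul_mem_sup (pA y) (pB y)) (inAB k h1) (fun y => ?_) x).symm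
    obtain ⟨p, hp, q, hq, e1, e2⟩ := hψ y
    have p1 : (f y)⁻¹ * ι y ∈ 𝐂(AA ι W r) := by
      have := mul_mem (mul_mem (c1 (inv_mem (pB y))) e2) (c1 hq)
      change (ψ y * cι ψ t y)⁻¹ * ι y ∈ _
      rw [e1]
      convert this using 1
      group
    have p2 : (f y)⁻¹ * ι y ∈ 𝐂(AA ι W (r + 1)) := by
      have e3 : t * ((ψ y)⁻¹ * p) * t⁻¹ ∈ 𝐂(AA ι W (r + 1)) := fun z hz => by
        have := e2 _ (twA h.toC1 k k1 hz)
        rw [← tt z]
        generalize t * z * t⁻¹ = z' at this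
        calc _ = t * (z' * ((ψ y)⁻¹ * p)) * t⁻¹ := by group
          _ = _ := by rw [this]; group
      have := mul_mem (mul_mem (c2 (inv_mem (pA y))) e3) (c2 (twA h.toC1 k k1 hq))
      change (ψ y * cι ψ t y)⁻¹ * ι y ∈ _
      rw [comm, show ι y = t * ι y * t⁻¹ by rw [h.tc, mul_inv_cancel_right], e1, cι_apply]
      convert this using 1
      group
    exact le_centralizer_iff.1 (sup_le (le_centralizer_iff.1 (zpowers_le_of_mem p1))
      (le_centralizer_iff.1 (zpowers_le_of_mem p2))) (mem_zpowers _)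
  refine ⟨ψ, h, e, comm, res, ?_, a.nE, a.simple, ?_, a.idx⟩
  · rw [rg, rg']
    refine le_antisymm ((closure_le _).2 ?_) (sup_le (aY h.toC1 k _) (aY h.toC1 k _))
    rintro _ ⟨x, c, w, hw, rfl⟩
    exact mul_mem (mul_mem (inAB k h1 x) (xsA h k h1 hw)) (inv_mem (inAB k h1 x))
  · rw [rg, rg']
    exact sup_le (leE k a _) (leE k a _)

end H4

end UMS
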