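import Cfsg.Agent.Lib.UMS.WL
import Cfsg.Agent.Lib.UMS.B3
import Cfsg.Agent.Lib.UMS.Rk70
import Cfsg.Agent.Lib.UMS.Ln81

set_option autoImplicit false
set_option linter.unusedSectionVars false

namespace UMS

open Subgroup H69 Cfsg Matrix U4S
open LMS (XX GX iL kk MM au tw Sg)
open scoped MatrixGroups commutatorElement

universe u
variable {G : Type*} [Group G] [Finite G] {F : Type u} [Field F] [CharP F 2] [Fintype F] [Hs F] {n : ℕ} [Ok n F]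
  {ι ψ χ : XU n F →* G} {t : G} {E : Subgroup G}

local notation "X" => XU n F
local notation "V" => VV n F
local notation "𝐪" => Nat.card (K0 F)
local notation "I" => Fin (n + 3)
local notation "Mx" => Matrix (Fin (n + 3)) (Fin (n + 3)) F

namespace WS

theorem cj_map (W : Subgroup X) (g : G) : W.map ψ ^ᶜ g = W.map (cι ψ g) := by
  ext y
  rw [mem_cj']
  exact ⟨fun ⟨_, ⟨x, hx, e⟩, e'⟩ => ⟨x, hx, by rw [e', ← e, cι_apply]⟩,
    fun ⟨x, hx, e⟩ => ⟨_, mem_map_of_mem ψ hx, e.symm⟩⟩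

theorem is0 : Is (ee 0 : V) := is_ee (Fin.last_pos.ne)

theorem zsq (c : K0 F) : (zz c : X) * zz c = 1 := tc_sq is0.1 c

theorem zcen {c : K0 F} (h : (zz c : X) ∈ center _) : c = 0 := tc_cen is0 h

theorem tc_fix {β : X →* X} {φ : RingAut F} (a : Au β φ) (hφ : ∀ c : K0 F, φ c = c) {v : V} (hv : bt v v = 0)
    (h : β (tc v 1) = tc v 1) (c : K0 F) : β (tc v c) = tc v c := by
  obtain ⟨g, hg⟩ := a
  have key : ∀ d : K0 F, (β (tc v d)).1.1 = 1 + (d : F) • (g.1 * (hm v v).map φ * (g⁻¹).1) := fun d => by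
    have e : (1 + (d : F) • hm v v : Mx).map φ = 1 + (d : F) • (hm v v).map φ := by
      ext i j
      simp [Matrix.one_apply, hφ d, apply_ite φ]
    rw [hg, LMS.au_false, gc_val, fr_val, tc_val hv, e, mul_add, add_mul, mul_one, Units.mul_inv,
      Matrix.mul_smul, Matrix.smul_mul]
  have e1 := key 1
  rw [h, tc_val hv, add_right_inj, OneMemClass.coe_one, one_smul, one_smul] at e1
  refine Subtype.ext (Subtype.ext ?_)
  rw [key, ← e1, tc_val hv]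

theorem same {v w : V} (hv : Is v) (hw : Is w) {d : K0 F} (h : rk (tc v 1 * tc w d) ≤ 1) :
    ∃ c, tc w d = tc v c := by
  by_cases d0 : d = 0
  · exact ⟨0, by rw [d0, tc_zero, tc_zero]⟩
  by_cases k : ∃ a : F, a • v = w
  · obtain ⟨a, rfl⟩ := k
    exact ⟨_, tc_smul v a d⟩
  exfalso
  have li : LinearIndependent F ![v, w] := (LinearIndependent.pair_iff' hv.2).2 fun a e => k ⟨a, e⟩
  have li' : LinearIndependent F ![w, v] := LinearIndependent.pair_symm_iff.1 li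
  obtain ⟨y1, a1, b1⟩ : ∃ y, bt y v = 0 ∧ bt y w = 1 := H70.ex_dual li
  obtain ⟨y2, a2, b2⟩ : ∃ y, bt y w = 0 ∧ bt y v = 1 := H70.ex_dual li'
  obtain ⟨p, e, hp, ep⟩ : ∃ (p : V) (e : K0 F), Is p ∧ tc v 1 * tc w d = tc p e := H70.le_one (x := tc v 1 * tc w d) h
  obtain ⟨l, e2⟩ : ∃ l : F, v = l • p := by
    have e2 : ac (tc v 1 * tc w d) y2 = ac (tc p e) y2 := by rw [ep]
    rw [ac_mul, ac_tc hw.1, a2, mul_zero, zero_smul, add_zero, ac_tc hv.1, b2, OneMemClass.coe_one, mul_one,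
      one_smul, ac_tc hp.1] at e2
    exact ⟨_, add_left_cancel e2⟩
  obtain ⟨m, o, e1⟩ : ∃ m o : F, (d : F) • w + o • v = m • p := by
    have e1 : ac (tc v 1 * tc w d) y1 = ac (tc p e) y1 := by rw [ep]
    rw [ac_mul, ac_tc hw.1, b1, mul_one, ac_tc hv.1, ac_tc hp.1, add_assoc] at e1
    exact ⟨_, _, add_left_cancel e1⟩
  have l0 : l ≠ 0 := by
    rintro rfl
    exact hv.2 (by rw [e2, zero_smul])
  have d1 : (d : F) ≠ 0 := fun z => d0 (Subtype.ext z)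
  refine k ⟨(d : F)⁻¹ * (m * l⁻¹ - o), ?_⟩
  rw [mul_smul, sub_smul, mul_smul, show l⁻¹ • v = p by rw [e2, inv_smul_smul₀ l0], ← e1, add_sub_cancel_right,
    inv_smul_smul₀ d1]

theorem sh0 {j : I} (j0 : j ≠ 0) (jk : j.1 < kk n) : Sh 0 j := by
  have : j.1 ≠ 0 := fun e => j0 (Fin.ext e)
  unfold kk at jk
  refine ⟨j0.symm, ?_, ?_, ?_⟩ <;> intro e <;> have := congrArg Fin.val e <;>
    simp only [Fin.val_rev, Fin.val_zero] at this <;> omega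

theorem srU {i j : I} (h : Sh i j) (k : i < j) (a : F) : (sr i j a : X) ∈ UU n F := by
  change (sr i j a : X).1 ∈ LMS.UU n F
  rw [sr_val h]
  exact mul_mem (subset_closure ⟨i, j, a, k, rfl⟩) (subset_closure ⟨j.rev, i.rev, σ a, Fin.rev_lt_rev.2 k, rfl⟩)

theorem srq {i j : I} (h : Sh i j) (a : F) : (sr i j a : X) * sr i j a = 1 := by
  have e := sr_mul (n := n) h (0 : F) 0
  rw [add_zero, mul_eq_left] at e
  rw [sr_mul h, CharTwo.add_self_eq_zero, e]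

theorem ac_ee (y : X) (l i : I) : ac y (ee l) i = y.1.1 i l := by
  simp [ac, ee]

theorem inZ {y : X} (hy : y ∈ JD n F (kk n)) (c : ∀ s ∈ UU n F, s * s = 1 → s * y = y * s) : y ∈ ZZ n F := by
  have row : ∀ j : I, j ≠ 0 → ∀ l, y.1.1 j l = (1 : Mx) j l := by
    intro j j0 l
    by_cases jk : j.1 < kk n
    swap
    · exact mem_JD.1 hy j l fun k => jk k.1
    have s := sh0 j0 jk
    have o := ot_ee (F := F) s
    have r0 : (0 : I) ≠ j.rev := fun e => s.2.1 (by rw [e, Fin.rev_rev])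
    have y0 : y.1.1 0 0 = 1 := by
      rw [mem_JD.1 hy 0 0 fun k => absurd k.1 (not_lt.2 k.2), Matrix.one_apply_eq]
    have k : ∀ a : F, y.1.1 j l * a = (ee l : V) j * a + σ a * (ee l : V) (Fin.rev 0) * y.1.1 0 j.rev := by
      intro a
      have e : ac (sr 0 j a * y) (ee l) = ac (y * sr 0 j a) (ee l) := by
        rw [c _ (srU s (Fin.pos_iff_ne_zero.2 j0) a) (srq s a)]
      have b1 : bt (a • ee 0 : V) (a • ee 0) = 0 := by rw [bt_smul_left, bt_smul_right, o.1, mul_zero, mul_zero]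
      have b2 : bt (a • ee 0 : V) (ee j.rev) = 0 := by rw [bt_smul_left, o.2.2.1, mul_zero]
      rw [ac_mul, ac_mul, sr, ac_sh b1 o.2.1 b2, ac_sh b1 o.2.1 b2, ac_add, ac_add, ac_smul, ac_smul, ac_smul,
        add_assoc, add_assoc, add_right_inj, bt_smul_right, bt_smul_right, bt_ee, bt_ee, bt_ee, bt_ee,
        Fin.rev_rev] at e
      have e0 := congrFun e 0
      simp only [Pi.add_apply, Pi.smul_apply, ac_ee, smul_eq_mul, y0] at e0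
      rw [show (ee 0 : V) 0 = 1 from Pi.single_eq_same _ _, show (ee j.rev : V) 0 = 0 from Pi.single_eq_of_ne r0 _]
        at e0
      linear_combination e0
    obtain ⟨ω, hω⟩ := ex_om (F := F)
    have k1 := k 1
    have k2 := k ω
    rw [map_one] at k1
    have z : (ee l : V) (Fin.rev 0) * y.1.1 0 j.rev = 0 := by
      have two : (2 : F) = 0 := CharTwo.two_eq_zero
      linear_combination ω * k1 - k2 - ((ee l : V) (Fin.rev 0) * y.1.1 0 j.rev) * hω +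
        (ω * ((ee l : V) (Fin.rev 0) * y.1.1 0 j.rev)) * two
    rw [one_mul, z, add_zero, mul_one, mul_one] at k1
    rw [k1, ee, Pi.single_apply, Matrix.one_apply]
  refine (cv_ker (mem_QQ.2 fun a b h => ?_)).1 (funext fun j => ?_)
  · rcases h with h | rfl
    · exact row a h.1 b
    · exact mem_JD.1 hy a a fun k => absurd k.1 (not_lt.2 k.2)
  · unfold cv
    split_ifs with h
    · rfl
    · rw [row j (fun e => h (Or.inl e)), Matrix.one_apply_ne (fun e => h (Or.inr e)), Pi.zero_apply]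

theorem ln : ∃ r C, Ln (JD n F (kk n)) r C ∧ r ∈ ⁅UU n F, UU n F⁆ ∧ ZZ n F ≤ C ∧ UU n F ≤ 𝐍(C) := by
  have k := L81.k3 F (n := n)
  have k' : kk n ≤ n + 3 := LMS.LN.kk_le
  let j : I := ⟨kk n - 1, by omega⟩
  have jk : j.1 < kk n := by simp only [j]; omega
  have j0 : j ≠ 0 := fun e => by have := congrArg Fin.val e; simp only [j, Fin.val_zero] at this; omega
  have hu := L81.ee_W (F := F) (i := (0 : I)) (by simp only [Fin.val_zero]; omega)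
  have s := sh0 j0 jk
  have o := ot_ee (F := F) s
  have d : bt (ee j : V) (ee j.rev) = 1 := by rw [bt_ee, Fin.rev_rev, ee, Pi.single_eq_same]
  have v1 : ((1 : I) : ℕ) = 1 := rfl
  have s1 : Sh (0 : I) 1 := sh0 (fun e => by have := congrArg Fin.val e; simp at this) (by omega)
  have s2 : Sh 1 j := by
    have e : j.1 = kk n - 1 := rfl
    unfold kk at k e
    refine ⟨?_, ?_, ?_, ?_⟩ <;> intro e <;> have := congrArg Fin.val e <;>
      simp only [Fin.val_rev, v1] at this <;> omega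
  refine ⟨sr 0 j 1, _, L81.ln_S hu (L81.ee_ne 0) o.2.2.1 o.2.1 (L81.ee_W jk) d ?_, ?_, ?_, ?_⟩
  · rw [sr, one_smul, sh_val o.1 o.2.1 o.2.2.1, L81.S, add_assoc]
  · rw [← mul_one (1 : F), ← sr_c1 s1 s2 s]
    exact commutator_mem_commutator (srU s1 (by simp) _) (srU s2 (by change 1 < kk n - 1; omega) _)
  · refine (closure_le _).2 ?_
    rintro _ ⟨c, rfl⟩
    have m := L81.hm_HJ hu c.2
    exact ⟨_, L81.Zm_le hu o.2.2.1 ⟨c.1, c.2, rfl⟩, by rw [zz, tc, L81.mk_val (L81.HJ0 m m) m.2]; rfl⟩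
  · intro x hx
    refine mem_normalizer_fintype ?_
    rintro y ⟨_, ⟨w, hw, kw, rfl⟩, e⟩
    have x0 : x.1.1 *ᵥ ee 0 = ee 0 := funext fun i => L81.UU_mv hx fun l hl =>
      Pi.single_eq_of_ne (fun e => absurd hl (by rw [e]; exact not_lt.2 (Fin.zero_le _))) _
    refine ⟨_, ⟨_, LMS.LN.UU_W (u := x.1) hx hw, ?_, rfl⟩, by rw [L81.cj_val x e, x0]⟩
    rw [bt_ee, Fin.rev_rev] at kw ⊢
    rwa [L81.UU_mv hx fun l hl => hw l (by have : kk n - 1 < l.1 := hl; omega)]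

theorem fixZ (e : Em ψ) {a : G} (ha : a ∈ 𝐍(ψ.range)) (a2 : a * a = 1) {v : V} (hv : bt v v = 0)
    (h : a * ψ (tc v 1) = ψ (tc v 1) * a) (c : K0 F) : a * ψ (tc v c) = ψ (tc v c) * a := by
  obtain ⟨β, φ, b, u, hφ⟩ : ∃ β φ, Act ψ a β ∧ Au β φ ∧ ∀ c : K0 F, φ c = c := by
    by_cases i : Inn ψ.range a
    · obtain ⟨u, hu⟩ := inn_act.1 i
      exact ⟨_, _, hu, cn_au u, fun _ => rfl⟩
    · obtain ⟨α, h1, h2⟩ := e.ou ha a2 i
      exact ⟨α, _, h1, h2.1, fun c => c.2⟩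
  exact b.fix (tc_fix u hφ hv (b.fix' e (P2.of_sq (tc_sq hv 1)) h) c)

theorem dis (p : Pa ψ χ) {y : G} (h1 : y ∈ ψ.range) (h2 : y ∈ χ.range) (y2 : y * y = 1) : y = 1 := by
  refine p.odd y ?_ ?_ (P2.of_sq y2)
  · obtain ⟨b, rfl⟩ := h2
    rintro _ ⟨a, rfl⟩
    exact p.comm a b
  · obtain ⟨a, rfl⟩ := h1
    rintro _ ⟨b, rfl⟩
    exact (p.comm a b).symm

theorem mem_sup2 (c : ∀ x y, ψ x * χ y = χ y * ψ x) {A B : Subgroup X} {y : G} (h : y ∈ A.map ψ ⊔ B.map χ) :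
    ∃ a ∈ A, ∃ b ∈ B, y = ψ a * χ b := by
  obtain ⟨_, ⟨a, ha, rfl⟩, _, ⟨b, hb, rfl⟩, e⟩ := (mem_sup_of_le_normalizer_right
    (le_normalizer_of_le_centralizer (by rintro _ ⟨a, -, rfl⟩ _ ⟨b, -, rfl⟩; exact (c a b).symm))).1 h
  exact ⟨a, ha, b, hb, e⟩

theorem core {ψ₀ χ₀ : X →* G} (p : Pa ψ χ) (e0 : Em ψ₀) (c0 : ∀ x y, ψ₀ x * χ₀ y = χ₀ y * ψ₀ x)
    {J' J1 J2 : Subgroup X} (hJ' : IsJ J') (h1 : IsJ J1) (h2 : IsJ J2)
    (e : (JD n F (kk n)).map ψ₀ ⊔ J'.map χ₀ = J1.map ψ ⊔ J2.map χ)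
    (hU : (UU n F).map ψ₀ ≤ 𝐍(ψ.range ⊔ χ.range)) (hz : ∀ c, ψ₀ (zz c) ∈ ψ.range) :
    (∀ c, ∃ x, rk x ≤ 1 ∧ ψ₀ (zz c) = ψ x) ∧ ∀ y ∈ J', ∃ c, ψ₀ (zz c) * χ₀ y ∈ χ.range := by
  have hJ : IsJ (JD n F (kk n)) := isJ_kk
  have z2 : ∀ c, ψ₀ (zz c) * ψ₀ (zz c) = 1 := fun c => by rw [← map_mul, zsq, map_one]
  have zc : ∀ c, ∀ u ∈ UU n F, ψ₀ u * ψ₀ (zz c) = ψ₀ (zz c) * ψ₀ u := fun c u hu => by
    rw [← map_mul, ← map_mul, RR_cen (mem_ZZ.2 ⟨c, rfl⟩) hu]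
  have mo : (UU n F).map ψ₀ ≤ Mo ψ χ := by
    rintro _ ⟨u, hu, rfl⟩
    refine (p.perm _ (hU (mem_map_of_mem _ hu))).resolve_right fun d => ?_
    have m := cj_mem (ψ₀ u) (hz 1)
    rw [d.1, zc 1 u hu, mul_inv_cancel_right] at m
    have := e0.inj2 (P2.of_sq (zsq 1)) (P2.of_sq (mul_one 1))
      ((dis p (hz 1) m (z2 1)).trans (map_one ψ₀).symm)
    exact one_ne_zero (zcen (this ▸ one_mem _))
  have nJ : (UU n F).map ψ₀ ≤ 𝐍((JD n F (kk n)).map ψ₀) := (map_mono (UU_nJ _)).trans (le_normalizer_map ψ₀)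
  have nE : (UU n F).map ψ₀ ≤ 𝐍(J1.map ψ ⊔ J2.map χ) := e ▸ le_normalizer_sup nJ
    (le_normalizer_of_le_centralizer (by rintro _ ⟨a, -, rfl⟩ _ ⟨b, -, rfl⟩; exact (c0 a b).symm))
  have eE := (p.elJ h1 h2).1
  have n2 : (UU n F).map ψ₀ ≤ 𝐍((J1.map ψ ⊔ J2.map χ) ⊓ χ.range) :=
    le_normalizer_inf nE (mo.trans inf_le_right)
  have K : ∀ y ∈ (J1.map ψ ⊔ J2.map χ) ⊓ χ.range, y ∈ (JD n F (kk n)).map ψ₀ → y = 1 := by
    intro y hy hy'
    by_contra y1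
    refine inf_centralizer_ne_bot (p := 2) (R := ((J1.map ψ ⊔ J2.map χ) ⊓ χ.range) ⊓ (JD n F (kk n)).map ψ₀)
      (T := (UU n F).map ψ₀) (hJ.el.map ψ₀).isP.to_inf_right (sylU.isP.map _) (le_normalizer_inf n2 nJ)
      (fun d => y1 (mem_bot.1 (d ▸ ⟨hy, hy'⟩))) (eq_bot_iff.2 ?_)
    rintro _ ⟨⟨m, w, hw, rfl⟩, c⟩
    obtain ⟨a, rfl⟩ := mem_ZZ.1 (cen_U (JD_le _ hw) fun u hu =>
      (e0.comm2 (P2.of_sq (hJ.el w hw)) (c _ (mem_map_of_mem _ hu)).symm).symm)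
    exact dis p (hz a) m.2 (z2 a)
  have cU : ∀ u ∈ UU n F, ∀ y ∈ (J1.map ψ ⊔ J2.map χ) ⊓ χ.range, ψ₀ u * y = y * ψ₀ u := by
    intro u hu y hy
    have m := mul_mem (conj_mem_of_mem_normalizer (n2 (mem_map_of_mem _ hu)) hy) (inv_mem hy)
    obtain ⟨a, ha, b, -, rfl⟩ := mem_sup2 c0 (e ▸ hy.1 : y ∈ (JD n F (kk n)).map ψ₀ ⊔ J'.map χ₀)
    have e1 : ψ₀ u * (ψ₀ a * χ₀ b) * (ψ₀ u)⁻¹ * (ψ₀ a * χ₀ b)⁻¹ = ψ₀ (u * a * u⁻¹ * a⁻¹) := by
      rw [← map_inv, mul_assoc (ψ₀ u), mul_assoc (ψ₀ a), ← c0]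
      simp only [map_mul, map_inv]
      group
    have := K _ m (e1 ▸ mem_map_of_mem _ (mul_mem (conj_mem_of_mem_normalizer (UU_nJ _ hu) ha) (inv_mem ha)))
    rwa [mul_inv_eq_one, mul_inv_eq_iff_eq_mul] at this
  have le2 : J2.map χ ≤ (J1.map ψ ⊔ J2.map χ) ⊓ χ.range := le_inf le_sup_right (map_le_range _ _)
  refine ⟨?_, ?_⟩
  · have e1 : (J1.map ψ ⊔ J2.map χ) ⊓ ψ.range = J1.map ψ := by
      refine le_antisymm (fun y hy => ?_) (le_inf le_sup_left (map_le_range _ _))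
      obtain ⟨a, ha, b, hb, rfl⟩ := mem_sup2 p.comm hy.1
      have : χ b = 1 := dis p ((mul_mem_cancel_left (MonoidHom.mem_range.2 ⟨a, rfl⟩)).1 hy.2) ⟨b, rfl⟩
        (by rw [← map_mul, h2.el b hb, map_one])
      rw [this, mul_one]
      exact mem_map_of_mem _ ha
    have n1 : (UU n F).map ψ₀ ≤ 𝐍(J1.map ψ) := e1 ▸ le_normalizer_inf nE (mo.trans inf_le_left)
    have sq : ∀ {u : G} {β : X →* X} {x : X}, x * x = 1 → P2 (β x) := fun {_ β x} h =>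
      P2.of_sq (by rw [← map_mul, h, map_one])
    have aJ : ∀ u ∈ UU n F, ∀ β, Act ψ (ψ₀ u) β → ∀ x ∈ J1, β x ∈ J1 := fun u hu β b x hx => by
      obtain ⟨y, hy, ey⟩ := conj_mem_of_mem_normalizer (n1 (mem_map_of_mem _ hu)) (mem_map_of_mem ψ hx)
      rw [b x] at ey
      rwa [← p.e1.inj2 (P2.of_sq (h1.el y hy)) (sq (u := 1) (h1.el x hx)) ey]
    obtain ⟨r, C, l, rU, ZC, UC⟩ := ln (n := n) (F := F)
    have rU' : r ∈ UU n F := commutator_le_left_of_le_normalizer le_normalizer rU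
    have r2 : ψ₀ r * ψ₀ r = 1 := by rw [← map_mul, l.sq, map_one]
    obtain ⟨w, hw⟩ := inn_act.1 (p.e1.comm_inn (mo.trans inf_le_left)
      (map_commutator _ _ ψ₀ ▸ mem_map_of_mem ψ₀ rU) (P2.of_sq r2))
    have wJ := aJ r rU' _ hw
    have hC : ∀ y, y ∈ C.map ψ₀ ↔ ∃ x ∈ J1, y = ψ (x * cn w x) := fun y => by
      constructor
      · rintro ⟨c, hc, rfl⟩
        obtain ⟨x, hx, rfl⟩ := (l.cm c).1 hc
        obtain ⟨a, ha, b, hb, d⟩ := mem_sup2 p.comm (e ▸ mem_sup_left (mem_map_of_mem ψ₀ hx))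
        refine ⟨a, ha, ?_⟩
        have k := cU r rU' _ (le2 (mem_map_of_mem _ hb))
        have b2 : χ b * χ b = 1 := by rw [← map_mul, h2.el b hb, map_one]
        rw [map_mul, map_mul, map_mul, map_inv, d, ← conj_mul, hw a, k, mul_inv_cancel_right, map_mul,
          mul_assoc, ← mul_assoc (χ b), ← p.comm, mul_assoc, b2, mul_one]
      · rintro ⟨a, ha, rfl⟩
        obtain ⟨x, hx, b, hb, d⟩ := mem_sup2 c0
          (e ▸ mem_sup_left (mem_map_of_mem ψ ha) : ψ a ∈ (JD n F (kk n)).map ψ₀ ⊔ J'.map χ₀)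
        refine ⟨_, (l.cm _).2 ⟨x, hx, rfl⟩, ?_⟩
        have b2 : χ₀ b * χ₀ b = 1 := by rw [← map_mul, hJ'.el b hb, map_one]
        rw [map_mul ψ, ← hw a, d, ← conj_mul, c0 r b, mul_inv_cancel_right, ← map_inv, ← map_mul, ← map_mul,
          mul_assoc (ψ₀ x), ← mul_assoc (χ₀ b), ← c0, mul_assoc (ψ₀ _), b2, mul_one, map_mul]
    have mD : ∀ y, y ∈ J1 ⊓ (C.map ψ₀).comap ψ ↔ ∃ x ∈ J1, y = x * cn w x := fun y => by
      constructor
      · rintro ⟨hy, k⟩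
        obtain ⟨x, hx, d⟩ := (hC _).1 k
        exact ⟨x, hx, p.e1.inj2 (P2.of_sq (h1.el y hy)) (P2.of_sq (h1.el _ (mul_mem hx (wJ x hx)))) d⟩
      · rintro ⟨x, hx, rfl⟩
        exact ⟨mul_mem hx (wJ x hx), (hC _).2 ⟨x, hx, rfl⟩⟩
    have eD : (J1 ⊓ (C.map ψ₀).comap ψ).map ψ = C.map ψ₀ := by
      refine le_antisymm (map_le_iff_le_comap.2 inf_le_right) fun y hy => ?_
      obtain ⟨x, hx, rfl⟩ := (hC y).1 hy
      exact mem_map_of_mem _ ((mD _).2 ⟨x, hx, rfl⟩)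
    have w2 : ∀ x ∈ J1, cn w (cn w x) = x := fun x hx => by
      refine p.e1.inj2 (sq (u := 1) (h1.el _ (wJ x hx))) (P2.of_sq (h1.el x hx)) ?_
      rw [← hw, ← hw, ← mul_assoc, ← mul_assoc, r2, one_mul, mul_assoc, ← _root_.mul_inv_rev, r2, inv_one, mul_one]
    obtain ⟨Z, cZ, hZ⟩ := (cm_lin h1 (cn_au w) wJ w2 mD).2 (by
      rw [← p.e1.card2 h1.el.isP.to_inf_left, eD, e0.card2 (hJ.el.isP.to_le l.le), l.card])
    have ZJ : Z ≤ J1 := fun x hx => ((hZ x).1 hx).1.1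
    have pZ : IsPGroup 2 Z := h1.el.isP.to_le ZJ
    have nZ : (UU n F).map ψ₀ ≤ 𝐍(Z.map ψ) := by
      rintro _ ⟨u, hu, rfl⟩
      obtain ⟨β, φ, a, b⟩ := p.e1.act (mo (mem_map_of_mem _ hu)).1
      refine mem_normalizer_fintype ?_
      rintro _ ⟨x, hx, rfl⟩
      obtain ⟨⟨x1, x2⟩, x3⟩ := (hZ x).1 hx
      refine ⟨β x, (hZ _).2 ⟨⟨aJ u hu β b x x1, ?_⟩, by rwa [a.rk]⟩, (b x).symm⟩
      change ψ (β x) ∈ C.map ψ₀
      rw [← b x]
      exact conj_mem_of_mem_normalizer (le_normalizer_map ψ₀ (mem_map_of_mem _ (UC hu))) x2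
    have q1 : 1 < 𝐪 := Finite.one_lt_card
    obtain ⟨⟨_, ⟨x0, hx0, rfl⟩, cx⟩, x1⟩ := ne_bot_iff_exists_ne_one.1
      (inf_centralizer_ne_bot (pZ.map ψ) (sylU.isP.map ψ₀) nZ fun d => by
        have := p.e1.card2 pZ
        rw [d, card_bot, cZ] at this
        omega)
    obtain ⟨v, hv, rfl⟩ := rk_one (x := x0) (le_antisymm ((hZ _).1 hx0).2 (Nat.pos_of_ne_zero fun d =>
      x1 (Subtype.ext (show ψ x0 = 1 by rw [rk_zero.1 d, map_one]))))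
    have le : Z.map ψ ≤ (ZZ n F).map ψ₀ := by
      rintro _ ⟨x, hx, rfl⟩
      obtain ⟨y, hy, ey⟩ : ψ x ∈ C.map ψ₀ := ((hZ x).1 hx).1.2
      obtain ⟨v', d, hv', rfl⟩ : ∃ (v' : V) (d : K0 F), Is v' ∧ x = tc v' d := H70.le_one ((hZ x).1 hx).2
      obtain ⟨c, ec⟩ := same hv hv' ((hZ _).1 (mul_mem hx0 hx)).2
      refine ⟨y, inZ (l.le hy) fun s hs s2 => (e0.comm2 (P2.of_sq s2) ?_), ey⟩
      rw [ey, ec]
      exact fixZ p.e1 (mo (mem_map_of_mem _ hs)).1 (by rw [← map_mul, s2, map_one]) hv.1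
        (cx _ (mem_map_of_mem _ hs)) c
    have pz : IsPGroup 2 (ZZ n F) := hJ.el.isP.to_le (ZC.trans l.le)
    have eq := eq_of_le_of_card_ge le (by rw [p.e1.card2 pZ, e0.card2 pz, cZ, card_ZZ])
    intro c
    obtain ⟨x, hx, d⟩ : ψ₀ (zz c) ∈ Z.map ψ := eq ▸ mem_map_of_mem _ (mem_ZZ.2 ⟨c, rfl⟩)
    exact ⟨x, ((hZ x).1 hx).2, d.symm⟩
  · have ex : ∀ y : ↥((J1.map ψ ⊔ J2.map χ) ⊓ χ.range), ∃ b : J', ∃ c, (y : G) = ψ₀ (zz c) * χ₀ b := by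
      rintro ⟨y, hy⟩
      have k := fun u hu => cU u hu y hy
      obtain ⟨a, ha, b, hb, rfl⟩ := mem_sup2 c0 (e ▸ hy.1 : y ∈ (JD n F (kk n)).map ψ₀ ⊔ J'.map χ₀)
      obtain ⟨c, rfl⟩ := mem_ZZ.1 (cen_U (JD_le _ ha) fun u hu => (e0.comm2 (P2.of_sq (hJ.el a ha)) (by
        have := k u hu
        rw [mul_assoc, ← c0, ← mul_assoc, ← mul_assoc, mul_left_inj] at this
        exact this.symm)).symm)
      exact ⟨⟨b, hb⟩, c, rfl⟩
    choose f c hf using ex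
    have inj : Function.Injective f := fun y y' d => by
      have m := mul_mem y.2 (inv_mem y'.2)
      have e1 : (y : G) * (y' : G)⁻¹ = ψ₀ (zz (c y) * (zz (c y'))⁻¹) := by
        rw [hf y, hf y', d, map_mul, map_inv]
        group
      have := K _ m (e1 ▸ mem_map_of_mem _ (ZZ_le_JD (by unfold kk; omega) (by unfold kk; omega)
        (mul_mem (mem_ZZ.2 ⟨_, rfl⟩) (inv_mem (mem_ZZ.2 ⟨_, rfl⟩)))))
      exact Subtype.ext (mul_inv_eq_one.1 this)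
    have bij := inj.bijective_of_nat_card_le (by
      rw [hJ'.card, ← h2.card, ← p.e2.card2 h2.el.isP]
      exact card_le_of_le le2)
    intro y hy
    obtain ⟨x, hx⟩ := bij.2 ⟨y, hy⟩
    refine ⟨c x, ?_⟩
    have := x.2.2
    rwa [hf x, hx] at this

end WS

open WS

theorem ws (p : Pa ψ χ) {J' : Subgroup X} (hJ' : IsJ J') {g : G}
    (h : ((UU n F).map ψ ⊔ J'.map χ) ^ᶜ g ≤ 𝐍(ψ.range ⊔ χ.range)) :
    ((∀ c, ∃ x, rk x ≤ 1 ∧ g * ψ (zz c) * g⁻¹ = ψ x) ∧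
      ∀ y ∈ J', ∃ c, g * (ψ (zz c) * χ y) * g⁻¹ ∈ χ.range) ∨
    ((∀ c, ∃ x, rk x ≤ 1 ∧ g * ψ (zz c) * g⁻¹ = χ x) ∧
      ∀ y ∈ J', ∃ c, g * (ψ (zz c) * χ y) * g⁻¹ ∈ ψ.range) := by
  have hJ : IsJ (JD n F (kk n)) := isJ_kk
  have h1 : ((JD n F (kk n)).map ψ ⊔ J'.map χ) ^ᶜ g ≤ 𝐍(ψ.range ⊔ χ.range) :=
    (cj_mono g (sup_le_sup_right (map_mono (JD_le _)) _)).trans h
  have hU : (UU n F).map ψ ^ᶜ g ≤ 𝐍(ψ.range ⊔ χ.range) := (cj_mono g le_sup_left).trans h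
  obtain ⟨J1, J2, j1, j2, e⟩ := p.rkm ((p.elJ hJ hJ').1.cjg g) h1 (by rw [card_cj, (p.elJ hJ hJ').2.1])
  rw [cj_sup, cj_map, cj_map] at e
  have c0 : ∀ x y, cι ψ g x * cι χ g y = cι χ g y * cι ψ g x := fun x y => cj_comm_iff.2 (p.comm x y)
  have ee : ∀ c y, g * (ψ (zz c) * χ y) * g⁻¹ = cι ψ g (zz c) * cι χ g y := fun c y =>
    conj_mul.symm
  simp only [ee]
  obtain ⟨r, C, l, rU, ZC, -⟩ := ln (n := n) (F := F)
  have sd : (ZZ n F).map ψ ^ᶜ g ≤ ψ.range ∨ (ZZ n F).map ψ ^ᶜ g ≤ χ.range :=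
    (wl p hJ hJ' l h1 (hU (cj_mem g (mem_map_of_mem ψ
      (commutator_le_left_of_le_normalizer le_normalizer rU))))).imp
      (fun k => (cj_mono g (map_mono ZC)).trans k.1) fun k => (cj_mono g (map_mono ZC)).trans k.1
  rcases sd with k1 | k1
  · exact Or.inl (core p (p.e1.cj g) c0 hJ' j1 j2 e (cj_map (ψ := ψ) _ g ▸ hU)
      fun c => k1 (cj_mem g (mem_map_of_mem ψ (mem_ZZ.2 ⟨c, rfl⟩))))
  · exact Or.inr (core p.symm (p.e1.cj g) c0 hJ' j2 j1 (e.trans (sup_comm _ _))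
      (sup_comm ψ.range χ.range ▸ cj_map (ψ := ψ) _ g ▸ hU)
      fun c => k1 (cj_mem g (mem_map_of_mem ψ (mem_ZZ.2 ⟨c, rfl⟩))))

end UMS
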