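import Cfsg.Agent.Lib.UMS.GEN0
import Cfsg.Agent.Lib.UMS.WIT
import Cfsg.Agent.Lib.UMS.W2h87

/-! The wreath case: the two components commute. -/

set_option autoImplicit false
set_option linter.unusedSectionVars false

namespace UMS

open Subgroup H69 Cfsg Matrix U4S
open LMS (XX GX iL kk MM au tw Sg)
open scoped MatrixGroups commutatorElement

universe u
variable {G : Type*} [Group G] [Finite G] {F : Type u} [Field F] [CharP F 2] [Fintype F] [Hs F] {n : ℕ} [Ok n F]
  {ι ψ χ : XU n F →* G} {t : G} {E : Subgroup G}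

local notation "X" => XU n F
local notation "V" => VV n F
local notation "𝐪" => Nat.card (K0 F)
local notation "I" => Fin (n + 3)
local notation "Mx" => Matrix (Fin (n + 3)) (Fin (n + 3)) F

namespace Wr70

variable {W : VV n F → G} {α : K0 F} {r s : F}

theorem two : (2 : F) = 0 := CharTwo.two_eq_zero

theorem y0 (k : Stb ι t W α) {i j : I} (h : Sh i j) : YS ι W i j 0 0 = 1 := by
  simpa using k.yadd i j h 0 0 0 0

theorem cm1 (k : Stb ι t W α) (e1 : r * s = α) (e2 : r + s = 1) {i j l : I} (h1 : Sh i j) (h2 : Sh j l) (h3 : Sh i l)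
    (a b : F) : Commute (YS ι W i j (r * a) a) (YS ι W j l (s * b) b) := by
  rw [← commutatorElement_eq_one_iff_commute, k.c1 i j l h1 h2 h3, ← y0 k h3]
  congr 1
  · linear_combination a * b * e1 + a * b * α * two (F := F)
  · linear_combination a * b * e2 + a * b * two (F := F)

theorem c1r (k : Stb ι t W α) (e1 : r * s = α) (e2 : r + s = 1) {i j l : I} (h1 : Sh i j) (h2 : Sh j l) (h3 : Sh i l)
    (a b : F) : ⁅YS ι W i j (r * a) a, YS ι W j l (r * b) b⁆ = YS ι W i l (r * (a * b)) (a * b) := by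
  rw [k.c1 i j l h1 h2 h3]
  congr 1
  · linear_combination -(a * b) * e1 + a * b * r * e2
  · linear_combination a * b * r * two (F := F)

theorem symr (k : Stb ι t W α) (hs : σ r = r) {i j : I} (h : Sh i j) (a : F) :
    YS ι W i j (r * a) a = YS ι W j.rev i.rev (r * σ a) (σ a) := by
  rw [k.sym i j h, map_mul, hs]

theorem cm2 (k : Stb ι t W α) (e1 : r * s = α) (e2 : r + s = 1) {i j l : I} (h1 : Sh i j) (h2 : Sh j l)
    (a b : F) : Commute (YS ι W i j (r * a) a) (YS ι W j l (s * b) b) := by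
  by_cases h3 : Sh i l
  · exact cm1 k e1 e2 h1 h2 h3 a b
  obtain ⟨m, m1, m2⟩ := ex_sh3 (Ok.h3 (n := n) (F := F)) h1
  have hl : l = i ∨ l = i.rev := by
    by_contra c
    rw [not_or] at c
    exact h3 ⟨Ne.symm c.1, c.2, h1.2.2.1, h2.2.2.2⟩
  have m3 : Sh m l := by
    rcases hl with rfl | rfl
    · exact m1.symm
    · exact ⟨m1.2.1, fun c => m1.1 (Fin.rev_injective c), m1.2.2.2, h2.2.2.2⟩
  have c2 := cm1 k e1 e2 m2 h2 m3 1 b
  have c1 : Commute (YS ι W i m (r * a) a) (YS ι W j l (s * b) b) := by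
    rcases hl with rfl | rfl
    · exact (cm1 k (by rw [mul_comm, e1]) (by rw [add_comm, e2]) h2 m1 m2.symm b a).symm
    · exact k.c0 _ _ _ _ m1 h2 h1.2.2.1 m2.1 h1.2.1 (fun c => m1.1 (Fin.rev_injective c)) _ _ _ _
  have := c1r k e1 e2 m1 m2 h1 a 1
  rw [mul_one a] at this
  rw [← this, commutatorElement_def]
  exact ((c1.mul_left c2).mul_left c1.inv_left).mul_left c2.inv_left

theorem cm (k : Stb ι t W α) (e1 : r * s = α) (e2 : r + s = 1) (hs : σ s = s) {i j i' j' : I} (h : Sh i j)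
    (h' : Sh i' j') (a b : F) : Commute (YS ι W i j (r * a) a) (YS ι W i' j' (s * b) b) := by
  have e1' : s * r = α := by rw [mul_comm, e1]
  have e2' : s + r = 1 := by rw [add_comm, e2]
  by_cases c1 : i = j'
  · subst c1
    exact (cm2 k e1' e2' h' h b a).symm
  by_cases c2 : j = i'
  · subst c2
    exact cm2 k e1 e2 h h' a b
  by_cases c3 : i' = i.rev
  · have k1 := h'.rev
    rw [symr k hs h']
    rw [c3, Fin.rev_rev] at k1 ⊢
    exact (cm2 k e1' e2' k1 h _ a).symm
  by_cases c4 : j' = j.rev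
  · have k1 := h'.rev
    rw [symr k hs h']
    rw [c4, Fin.rev_rev] at k1 ⊢
    exact cm2 k e1 e2 h k1 a _
  exact k.c0 _ _ _ _ h h' c1 c2 c3 c4 _ _ _ _

theorem xr_ys (i j : I) (a : F) : XR ι W r (a • ee i) (ee j.rev) = YS ι W i j (r * a) a := by
  rw [XR, YS, sr, smul_smul]

/-- the component generated by basis elements -/
def A0 (ι : XU n F →* G) (W : VV n F → G) (r : F) : Subgroup G :=
  closure {y | ∃ i j a, Sh i j ∧ y = YS ι W i j (r * a) a}

theorem A0_cm (k : Stb ι t W α) (e1 : r * s = α) (e2 : r + s = 1) (hs : σ s = s) : A0 ι W r ≤ 𝐂(A0 ι W s) := by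
  rw [A0, closure_le]
  rintro _ ⟨i, j, a, h, rfl⟩
  have : A0 ι W s ≤ centralizer {YS ι W i j (r * a) a} := by
    rw [A0, closure_le]
    rintro _ ⟨i', j', b, h', rfl⟩
    exact mem_centralizer_singleton_iff.2 (cm k e1 e2 hs h h' a b).symm
  exact fun y hy => mem_centralizer_singleton_iff.1 (this hy)

theorem A0_n (k : Stb ι t W α) (e1 : r * s = α) (e2 : r + s = 1) (hr : σ r = r) {x : X} (hx : ac x mv = mv) :
    ι x ∈ 𝐍(A0 ι W r) := by
  refine (closure_le ((𝐍(A0 ι W r)).comap ι)).2 ?_ (gen0 hx)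
  rintro _ ⟨i, j, a, h, rfl⟩
  have e : ι (sr i j a) = YS ι W i j (r * a) a * YS ι W i j (s * a) a := by
    rw [k.yadd i j h, ← add_mul, e2, one_mul, CharTwo.add_self_eq_zero, YS, zero_smul,
      H87.SS_zero_l k.toWt (ot_ee h).2.1, mul_one]
  rw [SetLike.mem_coe, mem_comap, e]
  refine mul_mem (le_normalizer (subset_closure ⟨i, j, a, h, rfl⟩)) (centralizer_le_normalizer _ ?_)
  exact A0_cm k (by rw [mul_comm, e1]) (by rw [add_comm, e2]) hr (subset_closure ⟨i, j, a, h, rfl⟩)

theorem sh01 (h3 : 3 ≤ n) : Sh (0 : I) (Fin.rev 1) := by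
  refine ⟨?_, ?_, ?_, ?_⟩ <;> simp [Fin.ext_iff] <;> omega

theorem xr_A0 (k : Stb ι t W α) (e1 : r * s = α) (e2 : r + s = 1) (hr : σ r = r) {u v : V} (o : Ot u v)
    (hu : bt u mv = 0) (hv : bt v mv = 0) : XR ι W r u v ∈ A0 ι W r := by
  obtain ⟨x, h0, rfl, rfl⟩ := wit2m o hu hv
  have o1 : Ot (ee 0 : V) (ee 1) := by simpa using ot_ee (F := F) (sh01 (Ok.h3 (n := n) (F := F)))
  rw [← k.xeqv x _ _ r o1]
  refine (mem_normalizer_iff.1 (A0_n k e1 e2 hr h0) _).1 
    (Subgroup.subset_closure ⟨0, Fin.rev 1, 1, sh01 (Ok.h3 (n := n) (F := F)), ?_⟩)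
  rw [← xr_ys, one_smul, Fin.rev_rev]

theorem ex_w (hn : Even n) {a b c d : V} (o : Ot a b) (o' : Ot c d) :
    ∃ w : V, bt w w = 1 ∧ bt a w = 0 ∧ bt b w = 0 ∧ bt c w = 0 ∧ bt d w = 0 := by
  classical
  have h3 := Ok.h3 (n := n) (F := F)
  set S := Submodule.span F {a, b, c, d} with hS
  have : ∃ w ∈ H12.pp S, bt w w ≠ 0 := by
    by_contra k
    push Not at k
    have k1 := H12.rk_pp S
    have k2 : Module.finrank F S ≤ 4 := by
      have := finrank_span_finset_le_card (R := F) ({a, b, c, d} : Finset V)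
      rw [Set.finrank, Finset.coe_insert, Finset.coe_insert, Finset.coe_insert, Finset.coe_singleton] at this
      exact this.trans Finset.card_le_four
    have k3 := H12.ti_rk k
    have k4 : ∀ x ∈ S, bt x x = 0 → x ∈ H12.pp S := fun x hx h0 => by
      have t1 : ∀ y ∈ H12.pp S ⊔ Submodule.span F {x}, bt y y = 0 := fun y hy => by
        obtain ⟨p, hp, z, hz, rfl⟩ := Submodule.mem_sup.1 hy
        obtain ⟨e, rfl⟩ := Submodule.mem_span_singleton.1 hz
        have := H12.mem_pp.1 hp x hx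
        rw [bt_add_left, bt_add_right, bt_add_right, k p hp, bt_smul_left, bt_smul_left, bt_smul_right,
          bt_smul_right, this, h0, H12.bt_sw this]
        simp
      have t2 := H12.ti_rk t1
      have t3 : H12.pp S = H12.pp S ⊔ Submodule.span F {x} := by
        refine Submodule.eq_of_le_of_finrank_le le_sup_left ?_
        obtain ⟨p, rfl⟩ := hn
        omega
      rw [t3]
      exact Submodule.mem_sup_right (Submodule.mem_span_singleton_self x)
    have k5 : S ≤ H12.pp S := by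
      rw [hS, Submodule.span_le]
      rintro x hx
      refine k4 x (Submodule.subset_span hx) ?_
      rcases hx with rfl | rfl | rfl | rfl
      exacts [o.1, o.2.1, o'.1, o'.2.1]
    have k6 := H12.ti_rk fun x hx => k x (k5 hx)
    obtain ⟨p, rfl⟩ := hn
    omega
  obtain ⟨w, hw, h0⟩ := this
  have hK : bt w w ∈ K0 F := by rw [mem_K0, ← bt_symm]
  obtain ⟨e, he⟩ := nm_surj (⟨_, hK⟩ : K0 F)⁻¹
  have he' : e * σ e = (bt w w)⁻¹ := congrArg Subtype.val he
  have z : ∀ x ∈ ({a, b, c, d} : Set V), bt x (e • w) = 0 := fun x hx => by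
    rw [bt_smul_right, H12.bt_sw (H12.mem_pp.1 hw x (Submodule.subset_span hx)), mul_zero]
  refine ⟨e • w, ?_, z a (by simp), z b (by simp), z c (by simp), z d (by simp)⟩
  rw [bt_smul_left, bt_smul_right, ← mul_assoc, he', inv_mul_cancel₀ h0]

theorem mv_odd (hn : ¬ Even n) : (mv : V) = 0 := by
  funext i
  refine if_neg fun h => hn ?_
  have := congrArg Fin.val h
  rw [Fin.val_rev] at this
  exact ⟨i.1 - 1, by omega⟩

theorem mv_even (hn : Even n) : bt (mv : V) mv = 1 := by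
  obtain ⟨p, hp⟩ := hn
  have e : (mv : V) = ee ⟨p + 1, by omega⟩ := by
    funext i
    rw [mv, ee, Pi.single_apply]
    refine if_congr ?_ rfl rfl
    simp only [Fin.ext_iff, Fin.val_rev]
    omega
  rw [e, bt_ee, ← e]
  exact if_pos (by simp only [Fin.ext_iff, Fin.val_rev]; omega)

/-- the two components commute -/
theorem xr_cm (k : Stb ι t W α) (e1 : r * s = α) (e2 : r + s = 1) (hr : σ r = r) (hs : σ s = s) {a b c d : V}
    (o : Ot a b) (o' : Ot c d) : Commute (XR ι W r a b) (XR ι W s c d) := by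
  have key : ∀ {a b c d : V}, Ot a b → Ot c d → bt a mv = 0 → bt b mv = 0 → bt c mv = 0 → bt d mv = 0 →
      Commute (XR ι W r a b) (XR ι W s c d) := fun o o' h1 h2 h3 h4 =>
    (A0_cm k e1 e2 hs (xr_A0 k e1 e2 hr o h1 h2) _
      (xr_A0 k (by rw [mul_comm, e1]) (by rw [add_comm, e2]) hs o' h3 h4)).symm
  by_cases hn : Even n
  · obtain ⟨w, h0, h1, h2, h3, h4⟩ := ex_w hn o o'
    obtain ⟨x, hx⟩ := witn h0 (mv_even hn)
    have z : ∀ y : V, bt y w = 0 → bt (ac x y) mv = 0 := fun y hy => by rw [← hx, bt_ac, hy]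
    have := key (o.ac x) (o'.ac x) (z a h1) (z b h2) (z c h3) (z d h4)
    rw [← k.xeqv x _ _ r o, ← k.xeqv x _ _ s o'] at this
    exact (MulAut.conj (ι x)).injective (by simpa only [map_mul, MulAut.conj_apply] using this.eq)
  · have z : ∀ y : V, bt y mv = 0 := fun y => by rw [mv_odd hn, H12.bt_zero_r]
    exact key o o' (z _) (z _) (z _) (z _)

end Wr70

end UMS
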