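import Cfsg.Agent.Lib.UMS.Wr70
import Cfsg.Agent.Lib.UMS.COV
import Cfsg.Agent.Lib.UMS.FL57

/-! The wreath case. -/

set_option autoImplicit false
set_option linter.unusedSectionVars false

namespace UMS

open Subgroup H69 Cfsg Matrix U4S
open LMS (XX GX iL kk MM au tw Sg)
open scoped MatrixGroups commutatorElement

universe u
variable {G : Type*} [Group G] [Finite G] {F : Type u} [Field F] [CharP F 2] [Fintype F] [Hs F] {n : ℕ} [Ok n F]
  {ι ψ χ : XU n F →* G} {t : G} {E : Subgroup G}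

local notation "X" => XU n F
local notation "V" => VV n F
local notation "I" => Fin (n + 3)

namespace Wr70

variable {W : VV n F → G} {α : K0 F} {r s : F}

theorem triv1 {Γ R : Type*} [Group Γ] [Group R] (c : commutator Γ = ⊤) (f g : Γ →* R)
    (h : ∀ x, f x * (g x)⁻¹ ∈ center R) : f = g := by
  let d : Γ →* center R := MonoidHom.mk' (fun x => ⟨f x * (g x)⁻¹, h x⟩) fun x y => Subtype.ext (by
    have e := mem_center_iff.1 (h y) (g x)⁻¹
    change f (x * y) * (g (x * y))⁻¹ = f x * (g x)⁻¹ * (f y * (g y)⁻¹)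
    rw [map_mul, map_mul, _root_.mul_inv_rev, mul_assoc (f x) (g x)⁻¹, e]; group)
  have k : commutator Γ ≤ d.ker := commutator_le.2 fun a _ b _ => by
    rw [MonoidHom.mem_ker, map_commutatorElement, commutatorElement_eq_one_iff_mul_comm]
    exact Subtype.ext (mem_center_iff.1 (d b).2 (d a).1)
  ext x
  have : d x = 1 := k (c ▸ mem_top x)
  exact mul_inv_eq_one.1 (congrArg Subtype.val this)

theorem triv2 {Γ : Type*} [Group Γ] (c : commutator Γ = ⊤) (f g : Γ →* G) (K : Subgroup G) (hf : ∀ x, f x ∈ K)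
    (hg : ∀ x, g x ∈ K) (h : ∀ x, ∀ y ∈ K, y * (f x * (g x)⁻¹) = f x * (g x)⁻¹ * y) (x : Γ) : f x = g x :=
  congrArg Subtype.val (DFunLike.congr_fun (triv1 c (f.codRestrict K hf) (g.codRestrict K hg) fun x =>
    mem_center_iff.2 fun y => Subtype.ext (h x y.1 y.2)) x)

/-- the abstract construction -/
theorem cons (em : Em ι) (t2 : t * t = 1) (tc : ∀ x, t * ι x = ι x * t) {A B : Subgroup G}
    (cAB : ∀ x ∈ A, ∀ y ∈ B, x * y = y * x) (tA : ∀ x ∈ A, t * x * t ∈ B) (tB : ∀ x ∈ B, t * x * t ∈ A)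
    (dec : ∀ x, ∃ a ∈ A, ∃ b ∈ B, ι x = a * b) (pf : ⁅A, A⁆ = A)
    (sur : ∀ H : Subgroup G, (∀ x, ∀ a ∈ A, ∀ b ∈ B, ι x = a * b → a ∈ H) → A ≤ H) :
    ∃ ψ : X →* G, Em ψ ∧ ψ.range = A ∧ ∀ x, ψ x * cι ψ t x = ι x := by
  have ti : t⁻¹ = t := inv_eq_of_mul_eq_one_right t2
  have pA : Group.IsPerfect A := isPerfect_iff.2 pf
  choose a ha b hb e using dec
  have fa : ∀ x, ∀ a' : A, ∀ b' ∈ B, ι x = a' * b' →
      (QuotientGroup.mk ⟨a x, ha x⟩ : A ⧸ center A) = QuotientGroup.mk a' := fun x a' b' hb' e' => by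
    refine QuotientGroup.eq.2 (mem_center_iff.2 fun y => Subtype.ext ?_)
    have : (a x)⁻¹ * a' = b x * b'⁻¹ := by
      rw [inv_mul_eq_iff_eq_mul, ← mul_assoc, ← e, e', mul_inv_cancel_right]
    change y.1 * ((a x)⁻¹ * a') = (a x)⁻¹ * a' * y.1
    rw [this]
    exact cAB _ y.2 _ (mul_mem (hb x) (inv_mem hb'))
  let f : X →* A ⧸ center A := MonoidHom.mk' (fun x => QuotientGroup.mk ⟨a x, ha x⟩) fun x y => by
    rw [← QuotientGroup.mk_mul]
    refine fa _ _ _ (mul_mem (hb x) (hb y)) ?_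
    change _ = a x * a y * _
    rw [map_mul, e x, e y, mul_assoc, mul_assoc, ← mul_assoc (b x), ← cAB _ (ha y) _ (hb x), mul_assoc]
  have fs : Function.Surjective f := fun y => by
    obtain ⟨y, rfl⟩ := QuotientGroup.mk_surjective y
    obtain ⟨z, hz, ez⟩ := sur ((f.range.comap (QuotientGroup.mk' _)).map A.subtype)
      (fun x a' ha' b' hb' e' => ⟨⟨a', ha'⟩, ⟨x, fa x ⟨a', ha'⟩ b' hb' e'⟩, rfl⟩) y.2
    obtain rfl : z = y := Subtype.ext ez
    exact hz
  have k1 : f.ker ≤ center X := (normal_X f.ker).resolve_right fun k => by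
    have c : ∀ y : A, y ∈ center A := fun y => by
      obtain ⟨x, hx⟩ := fs (QuotientGroup.mk y)
      rw [← QuotientGroup.eq_one_iff, ← hx]
      exact k.ge (mem_top x)
    have A1 : A ≤ ⊥ := by
      rw [← pf, commutator_le]
      intro x hx y hy
      rw [mem_bot, commutatorElement_eq_one_iff_mul_comm]
      exact congrArg Subtype.val (mem_center_iff.1 (c ⟨y, hy⟩) ⟨x, hx⟩)
    have B1 : ∀ y ∈ B, y = 1 := fun y hy => by
      have := mem_bot.1 (A1 (tB y hy))
      calc y = t * (t * y * t) * t := by simp only [← mul_assoc, t2, one_mul]; rw [mul_assoc, t2, mul_one]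
        _ = 1 := by rw [this, mul_one, t2]
    refine one_ne_zero (tc_cen (H57.is0 (n := n) (F := F)) (em (x := zz 1) ?_))
    rw [MonoidHom.mem_ker, e, mem_bot.1 (A1 (ha _)), B1 _ (hb _), mul_one]
  have k2 : f.ker = center X := le_antisymm k1 fun x hx => by
    have : f x ∈ center _ := mem_center_iff.2 fun y => by
      obtain ⟨y, rfl⟩ := fs y
      rw [← map_mul, ← map_mul, mem_center_iff.1 hx y]
    rwa [Group.IsPerfect.center_quotient_center_eq_bot] at this
  let q : (A ⧸ center A) ≃* X ⧸ center X :=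
    (QuotientGroup.quotientKerEquivOfSurjective f fs).symm.trans (QuotientGroup.quotientMulEquivOfEq k2)
  have hq : ∀ x, q (f x) = QuotientGroup.mk x := fun x => by
    have : (QuotientGroup.quotientKerEquivOfSurjective f fs).symm (f x) = QuotientGroup.mk x :=
      (MulEquiv.symm_apply_eq _).2 rfl
    change QuotientGroup.quotientMulEquivOfEq k2 ((QuotientGroup.quotientKerEquivOfSurjective f fs).symm (f x)) = _
    rw [this]
    rfl
  obtain ⟨p, p1, p2, p3⟩ := cov pA.commutator_eq_top (center A) le_rfl q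
  have p4 : ∀ x, f x = QuotientGroup.mk (p x) := fun x => q.injective ((hq x).trans (p3 x).symm)
  have mA : ∀ x, (A.subtype.comp p) x ∈ A := fun x => (p x).2
  have mB : ∀ x, cι (A.subtype.comp p) t x ∈ B := fun x => by
    rw [cι_apply, ti]
    exact tA _ (mA x)
  refine ⟨A.subtype.comp p, fun x hx => p1 (Subtype.ext hx), ?_, ?_⟩
  · rw [← MonoidHom.map_range, MonoidHom.range_eq_top.2 p2, ← MonoidHom.range_eq_map, range_subtype]
  · let g : X →* G := MonoidHom.mk' (fun x => (A.subtype.comp p) x * cι (A.subtype.comp p) t x) fun x y => by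
      rw [map_mul, map_mul, mul_assoc, mul_assoc, ← mul_assoc (_ : G) (cι _ t x), cAB _ (mA y) _ (mB x), mul_assoc]
    refine triv2 pf_X g ι (A ⊔ B) (fun x => mul_mem_sup (mA x) (mB x))
      (fun x => e x ▸ mul_mem_sup (ha x) (hb x)) fun x => ?_
    have z1 := QuotientGroup.eq.1 (p4 x)
    have e2 : ι x = (⟨t * b x * t, tB _ (hb x)⟩ : A) * (t * a x * t) := by
      rw [cAB _ (tB _ (hb x)) _ (tA _ (ha x)), mul_assoc, ← mul_assoc t, ← mul_assoc t, t2, one_mul, ← mul_assoc,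
        mul_assoc t, ← e, tc, mul_assoc, t2, mul_one]
    have z2 := QuotientGroup.eq.1 ((fa x _ _ (tA _ (ha x)) e2).symm.trans (p4 x))
    obtain ⟨z, hz⟩ : ∃ z, z = (a x)⁻¹ * (p x).1 := ⟨_, rfl⟩
    obtain ⟨w, hw⟩ : ∃ w, w = (t * b x * t)⁻¹ * (p x).1 := ⟨_, rfl⟩
    have zA : z ∈ A := hz ▸ mul_mem (inv_mem (ha x)) (p x).2
    have wA : w ∈ A := hw ▸ mul_mem (inv_mem (tB _ (hb x))) (p x).2
    have c1 : A ⊔ B ≤ centralizer {z} := sup_le
      (fun y hy => mem_centralizer_singleton_iff.2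
        (hz ▸ congrArg Subtype.val (mem_center_iff.1 z1 ⟨y, hy⟩)))
      fun y hy => mem_centralizer_singleton_iff.2 (cAB _ zA _ hy).symm
    have c2 : A ⊔ B ≤ centralizer {t * w * t} := sup_le
      (fun y hy => mem_centralizer_singleton_iff.2 (cAB _ hy _ (tA _ wA)))
      fun y hy => mem_centralizer_singleton_iff.2 (by
        have : t * y * t * w = w * (t * y * t) :=
          hw ▸ congrArg Subtype.val (mem_center_iff.1 z2 ⟨_, tB y hy⟩)
        calc y * (t * w * t) = t * (t * y * t * w) * t := by simp only [← mul_assoc, t2, one_mul]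
          _ = t * w * t * y := by rw [this]; simp only [mul_assoc, t2, mul_one])
    have c3 : ∀ y ∈ A ⊔ B, y * (z * (t * w * t)) = z * (t * w * t) * y := fun y hy => by
      rw [← mul_assoc, mem_centralizer_singleton_iff.1 (c1 hy), mul_assoc, mem_centralizer_singleton_iff.1 (c2 hy),
        ← mul_assoc]
    have e3 : g x = ι x * (z * (t * w * t)) := by
      change (p x).1 * (t * (p x).1 * t⁻¹) = _
      have q1 : (p x).1 = a x * z := by rw [hz, mul_inv_cancel_left]
      have q2 : t * (p x).1 * t⁻¹ = b x * (t * w * t) := by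
        rw [hw, _root_.mul_inv_rev, _root_.mul_inv_rev, ti]
        simp only [← mul_assoc, t2, mul_one, mul_inv_cancel, one_mul]
      rw [q2, q1, e x, mul_assoc, mul_assoc, ← mul_assoc z, cAB _ zA _ (hb x)]
      simp only [mul_assoc]
    intro y hy
    rw [e3, c3 _ (e x ▸ mul_mem_sup (ha x) (hb x)), mul_inv_cancel_right]
    exact c3 y hy

theorem wre (h : C4 ι t) (k : Stb ι t W α) (a : Am ι.range E t) (hr : r * r + r = α) (hs : σ r = r) :
    ∃ ψ, Wc ι ψ t E := by
  have h3 := Ok.h3 (n := n) (F := F)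
  have e1 : r * (r + 1) = α := by rw [← hr]; ring
  have e2 : r + (r + 1) = 1 := by rw [← add_assoc, CharTwo.add_self_eq_zero, zero_add]
  have hs' : σ (r + 1) = r + 1 := by rw [map_add, hs, map_one]
  have ti : t⁻¹ = t := inv_eq_of_mul_eq_one_right h.t2
  let A : F → Subgroup G := fun r => closure {y | ∃ a b, Ot a b ∧ y = XR ι W r a b}
  have mem : ∀ r {a b : V}, Ot a b → XR ι W r a b ∈ A r := fun r a b o => Subgroup.subset_closure ⟨a, b, o, rfl⟩
  have cAB : ∀ x ∈ A r, ∀ y ∈ A (r + 1), x * y = y * x := by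
    have : A r ≤ 𝐂(A (r + 1)) := by
      refine (closure_le _).2 ?_
      rintro _ ⟨a, b, o, rfl⟩
      have : A (r + 1) ≤ centralizer {XR ι W r a b} := by
        refine (closure_le _).2 ?_
        rintro _ ⟨c, d, o', rfl⟩
        exact mem_centralizer_singleton_iff.2 (xr_cm k e1 e2 hs hs' o o').symm
      exact fun y hy => mem_centralizer_singleton_iff.1 (this hy)
    exact fun x hx y hy => (this hx y hy).symm
  have tA : ∀ r, ∀ x ∈ A r, t * x * t ∈ A (r + 1) := fun r => by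
    have : A r ≤ (A (r + 1)).comap (MulAut.conj t).toMonoidHom := by
      refine (closure_le _).2 ?_
      rintro _ ⟨a, b, o, rfl⟩
      change t * _ * t⁻¹ ∈ A (r + 1)
      rw [ti, k.tw a b r o]
      exact mem _ o
    intro x hx
    have k2 : t * x * t⁻¹ ∈ A (r + 1) := this hx
    rwa [ti] at k2
  have tB : ∀ x ∈ A (r + 1), t * x * t ∈ A r := fun x hx => by
    have := tA _ x hx
    rwa [add_assoc, CharTwo.add_self_eq_zero, add_zero] at this
  have dec : ∀ x, ∃ a ∈ A r, ∃ b ∈ A (r + 1), ι x = a * b := fun x => by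
    have hx : x ∈ closure {y : X | ∃ u v, Ot u v ∧ y = sh u v} := gen_sh.ge (mem_top x)
    induction hx using closure_induction with
    | mem x hx =>
      obtain ⟨u, v, o, rfl⟩ := hx
      exact ⟨_, mem _ o, _, mem _ o, (k.xmul u v r o).symm⟩
    | one => exact ⟨1, one_mem _, 1, one_mem _, by rw [map_one, mul_one]⟩
    | mul x y _ _ hx hy =>
      obtain ⟨a, ha, b, hb, e⟩ := hx
      obtain ⟨a', ha', b', hb', e'⟩ := hy
      exact ⟨_, mul_mem ha ha', _, mul_mem hb hb', by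
        rw [map_mul, e, e', mul_assoc, mul_assoc, ← mul_assoc b, ← cAB _ ha' _ hb, mul_assoc]⟩
    | inv x _ hx =>
      obtain ⟨a, ha, b, hb, e⟩ := hx
      exact ⟨_, inv_mem ha, _, inv_mem hb, by rw [map_inv, e, cAB _ ha _ hb, _root_.mul_inv_rev]⟩
  have pf : ⁅A r, A r⁆ = A r := by
    refine le_antisymm (commutator_le.2 fun x hx y hy =>
      mul_mem (mul_mem (mul_mem hx hy) (inv_mem hx)) (inv_mem hy)) ((closure_le _).2 ?_)
    rintro _ ⟨u, v, o, rfl⟩
    obtain ⟨x, rfl, rfl⟩ := wit2 o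
    obtain ⟨m, m1, m2⟩ := ex_sh3 h3 (sh01 h3)
    have o1 : Ot (ee 0 : V) (ee 1) := by simpa using ot_ee (F := F) (sh01 h3)
    have c := c1r k e1 e2 m1 m2 (sh01 h3) 1 1
    rw [← xr_ys, ← xr_ys, mul_one (1 : F), ← xr_ys, one_smul, one_smul, Fin.rev_rev] at c
    have o2 : Ot (ee m : V) (ee 1) := by simpa using ot_ee (F := F) m2
    rw [SetLike.mem_coe, ← k.xeqv x _ _ r o1, ← c, conjugate_commutatorElement, k.xeqv x _ _ r (ot_ee m1),
      k.xeqv x _ _ r o2]
    exact commutator_mem_commutator (mem _ ((ot_ee m1).ac x)) (mem _ (o2.ac x))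
  obtain ⟨ψ, em, rg, res⟩ := cons h.em h.t2 h.tc cAB (tA r) tB dec pf fun H hH => (closure_le _).2 (by
    rintro _ ⟨u, v, o, rfl⟩
    exact hH _ _ (mem _ o) _ (mem _ o) (k.xmul u v r o).symm)
  have mA : ∀ x, ψ x ∈ A r := fun x => rg.le ⟨x, rfl⟩
  have comm : ∀ x y, ψ x * cι ψ t y = cι ψ t y * ψ x := fun x y =>
    cAB _ (mA x) _ (by rw [cι_apply, ti]; exact tA _ _ (mA y))
  have both : ∀ H : Subgroup G, (∀ x, ι x ∈ H) → (∀ x, ψ x ∈ H) → ψ.range ⊔ (cι ψ t).range ≤ H := fun H h1 h2 => by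
    refine sup_le ?_ ?_
    · rintro _ ⟨x, rfl⟩
      exact h2 x
    · rintro _ ⟨x, rfl⟩
      rw [← inv_mul_cancel_left (ψ x) (cι ψ t x), res]
      exact mul_mem (inv_mem (h2 x)) (h1 x)
  refine ⟨ψ, h, em, comm, res, le_antisymm ?_ (both _ (H57.yy_ι h.toC1) fun x => ?_), a.nE, a.simple,
    both _ (fun x => a.le ⟨x, rfl⟩) fun x => ?_, a.idx⟩
  · have := H57.bk0 (g := 1) (H := ψ.range ⊔ (cι ψ t).range) h.toC2 h.em (fun x => by simpa using h.tc x)
      (fun _ ha => cP h.em ha H57.is0) (by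
        rintro _ ⟨x, rfl⟩
        exact res x ▸ mul_mem_sup ⟨x, rfl⟩ ⟨x, rfl⟩) fun c => ?_
    · exact fun y hy => by simpa using this (cj_mem 1 hy)
    have sq : ψ (zz c) * ψ (zz c) = 1 := by rw [← map_mul, zz, tc_sq H57.is0.1, map_one]
    refine ⟨ψ (zz c), mem_sup_left ⟨_, rfl⟩, sq, fun x hx => ?_, ?_⟩
    · rw [← res, mul_assoc, ← comm, ← mul_assoc, ← mul_assoc, ← map_mul, ← map_mul, PP_cen hx]
    · rw [inv_one, one_mul, mul_one, ← res, comm, cι_apply, ti, inv_eq_of_mul_eq_one_right sq, zz]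
      simp only [← mul_assoc, h.t2, one_mul]
  · refine (closure_le (YY ι t)).2 ?_ (mA x)
    rintro _ ⟨u, v, o, rfl⟩
    exact H57.xr_yy h.toC1 k.toWt r o
  · have : commutator X ≤ E.comap ψ := commutator_le.2 fun x _ y _ => by
      have e : ψ ⁅x, y⁆ = ⁅ψ x, ι y⁆ := by
        have c := comm x⁻¹ y
        rw [map_inv] at c
        rw [map_commutatorElement, ← res y, commutatorElement_def, commutatorElement_def]
        calc _ = ψ x * ψ y * ((ψ x)⁻¹ * cι ψ t y) * (ψ y * cι ψ t y)⁻¹ := by group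
          _ = _ := by rw [c]; group
      rw [mem_comap, e, commutatorElement_def]
      exact mul_mem (a.nE.conj_mem _ (a.le ⟨_, rfl⟩) _) (inv_mem (a.le ⟨_, rfl⟩))
    exact this (pf_X.ge (mem_top x))

end Wr70

end UMS
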