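import Cfsg.Agent.Lib.UMS.WL
import Cfsg.Agent.Lib.UMS.Ln81
import Cfsg.Agent.Lib.UMS.B4b

set_option autoImplicit false
set_option linter.unusedSectionVars false

namespace UMS

open Subgroup H69 Cfsg Matrix U4S
open LMS (XX GX iL kk MM au tw Sg)
open scoped MatrixGroups commutatorElement

universe u
variable {G : Type*} [Group G] [Finite G] {F : Type u} [Field F] [CharP F 2] [Fintype F] [Hs F] {n : ℕ} [Ok n F]
  {ι ψ χ : XU n F →* G} {t : G} {E : Subgroup G}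

local notation "X" => XU n F
local notation "V" => VV n F
local notation "𝐪" => Nat.card (K0 F)
local notation "I" => Fin (n + 3)
local notation "Mx" => Matrix (Fin (n + 3)) (Fin (n + 3)) F

namespace H21

theorem srU {i j : I} (h : Sh i j) (l : i.1 < j.1) : (sr i j 1 : X) ∈ UU n F := by
  have := B4b.shU (F := F) (i := i) (j := j.rev) (by rw [Fin.val_rev]; omega) (Ne.symm h.2.2.1)
    (by rw [Fin.rev_rev]; exact h.2.2.2) 1
  rwa [one_smul, ← one_smul F (ee i : V)] at this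

open L81 in
theorem ln1c : ∃ r C, Ln (JD n F (kk n)) r C ∧ r ∈ ⁅UU n F, UU n F⁆ ∧ ZZ n F ≤ C ∧ UU n F ≤ 𝐍(C) := by
  have h3 : 3 ≤ n := Ok.h3 (F := F)
  have k : 3 ≤ kk n := WL.k3 F
  have k' : 2 * kk n ≤ n + 3 := by unfold kk; omega
  let j : I := ⟨kk n - 1, by omega⟩
  have jk : j.1 < kk n := by simp only [j]; omega
  have j0 : j ≠ 0 := fun e => by have := congrArg Fin.val e; simp only [j, Fin.val_zero] at this; omega
  have hu := ee_W (F := F) (i := (0 : I)) (by simp only [Fin.val_zero]; omega)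
  have huv : bt (ee 0 : V) (ee j.rev) = 0 := by rw [L81.bt_ee, Fin.rev_rev, ee, Pi.single_eq_of_ne j0]
  have hv : bt (ee j.rev : V) (ee j.rev) = 0 := btW' (ee_W' jk) (ee_W' jk)
  have d : bt (ee j : V) (ee j.rev) = 1 := by rw [L81.bt_ee, Fin.rev_rev, ee, Pi.single_eq_same]
  have h0 := S_S huv hv (btW hu hu) (bt0 huv)
  have s : ∀ a b : I, a.1 < b.1 → b.1 < kk n → Sh a b := fun a b h1 h2 => by
    refine ⟨?_, ?_, ?_, ?_⟩ <;> intro e <;> have := congrArg Fin.val e <;>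
      (try rw [Fin.val_rev] at this) <;> omega
  have v1 : (1 : I).1 = 1 := Fin.val_one _
  have vj : j.1 = kk n - 1 := rfl
  have s01 := s 0 1 (by simp) (by omega)
  have s1j := s 1 j (by omega) jk
  have s0j := s 0 j (by simp only [Fin.val_zero]; omega) jk
  refine ⟨el _ h0 (S_ad _ _), _, ln_S hu (L81.ee_ne 0) huv hv (ee_W jk) d rfl, ?_, ?_, ?_⟩
  · have e : (el _ h0 (S_ad _ _) : X) = ⁅(sr 0 1 1 : X), (sr 1 j 1 : X)⁆ := by
      rw [sr_c1 s01 s1j s0j, mul_one, sr, one_smul, sh, add_assoc]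
      exact (L81.mk_val _ _).symm
    rw [e]
    exact commutator_mem_commutator (srU s01 (by simp)) (srU s1j (by omega))
  · refine (closure_le _).2 ?_
    rintro _ ⟨c, rfl⟩
    have m := hm_HJ hu c.2
    exact ⟨_, Zm_le hu huv ⟨c.1, c.2, rfl⟩, by rw [zz, tc, L81.mk_val (HJ0 m m) m.2]; rfl⟩
  · intro x hx
    refine mem_normalizer_fintype ?_
    rintro y ⟨_, ⟨w, hw, kw, rfl⟩, e⟩
    have x0 : x.1.1 *ᵥ ee 0 = ee 0 := funext fun i => UU_mv hx fun l hl =>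
      Pi.single_eq_of_ne (fun e => absurd hl (by rw [e]; exact not_lt.2 (Fin.zero_le _))) _
    refine ⟨_, ⟨_, LMS.LN.UU_W (u := x.1) hx hw, ?_, rfl⟩, by rw [L81.cj_val x e, x0]⟩
    rw [L81.bt_ee, Fin.rev_rev] at kw ⊢
    rwa [UU_mv hx fun l hl => hw l (by have : kk n - 1 < l.1 := hl; omega)]

theorem inQ {y : X} (hy : y ∈ PP n F) (k : ∀ x ∈ QQ n F, y * x * y⁻¹ * x⁻¹ ∈ ZZ n F) : y ∈ QQ n F := by
  have key : ∀ w : V, Mi w → ∀ j, j ≠ 0 → ac y w j = w j := fun w hw j hj => by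
    obtain ⟨x, hx, rfl⟩ := cv_surj hw
    have m := ZZ_le_QQ (k x hx)
    have e := cv_mul m hx
    rw [inv_mul_cancel_right, (cv_ker m).2 (k x hx), zero_add] at e
    rw [← cv_cj hy hx hj, e]
  have L : (iL : I) ≠ 0 := Fin.last_pos.ne'
  refine QQ_iff.2 fun v hv => ?_
  have hw : Mi (v - v 0 • ee 0) := ⟨by simp [ee], by simp [ee, hv, Pi.single_eq_of_ne L]⟩
  have e : v = v 0 • ee 0 + (v - v 0 • ee 0) := by abel
  refine ⟨ac y (v - v 0 • ee 0) 0, ?_, ?_⟩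
  · conv_lhs => rw [e, ac_add, ac_smul, mem_PP.1 hy]
    funext j
    by_cases hj : j = 0
    · subst hj; simp [ee]
    · rw [Pi.add_apply, key _ hw j hj]; simp [ee, Pi.single_eq_of_ne hj]
  · rintro rfl
    have : (ee 0 : V) - (ee 0 : V) 0 • ee 0 = (0 : F) • ee 0 := by simp [ee]
    rw [this, ac_smul, zero_smul, Pi.zero_apply]

theorem nZ {W : Subgroup X} (hW : W ≤ UU n F) (nW : UU n F ≤ 𝐍(W)) (c : Nat.card W ≤ 𝐪) : W ≤ ZZ n F := by
  have A : ∀ y ∈ W, y ∈ QQ n F → y ∈ ZZ n F := fun y hy hQ => by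
    by_contra hz
    obtain ⟨j, hj⟩ := Function.ne_iff.1 fun e => hz ((cv_ker hQ).1 e)
    have j0 : j ≠ 0 := by rintro rfl; exact hj (cv_mi y).1
    have jL : j ≠ iL := by rintro rfl; exact hj (cv_mi y).2
    have le : ZZ n F ≤ W := fun z hz => by
      obtain ⟨c, rfl⟩ := mem_ZZ.1 hz
      obtain ⟨b, hb⟩ := tr_surj c
      obtain ⟨x, hx, e⟩ := cv_surj (w := σ (b / cv y j) • (ee j.rev : V)) ⟨by
        rw [Pi.smul_apply, ee, Pi.single_eq_of_ne (fun e => jL (by rw [← Fin.rev_rev j, ← e]; rfl)), smul_zero], by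
        rw [Pi.smul_apply, ee, Pi.single_eq_of_ne (fun e => j0 (by
          rw [← Fin.rev_rev j, ← e]; exact Fin.rev_last _)), smul_zero]⟩
      obtain ⟨c', h1, h2⟩ := comm_QQ hQ hx
      rw [e, bt_smul_right, sg_sg, bt_ee, Fin.rev_rev, div_mul_cancel₀ _ hj, hb] at h1
      have : (zz c : X) = y⁻¹ * (x⁻¹ * y * x⁻¹⁻¹) := by
        rw [← Subtype.ext h1, inv_inv, mul_assoc x⁻¹, h2]; group
      rw [this]
      exact mul_mem (inv_mem hy) (conj_mem_of_mem_normalizer (nW (QQ_le_UU (inv_mem hx))) hy)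
    exact hz (eq_of_le_of_card_ge le (by rw [card_ZZ]; exact c) ▸ hy)
  intro y hy
  refine A y hy (inQ (UU_le (hW hy)) fun x hx => A _ ?_ ?_)
  · have := mul_mem hy (conj_mem_of_mem_normalizer (nW (QQ_le_UU hx)) (inv_mem hy))
    simpa only [mul_assoc] using this
  · exact mul_mem (conj_mem_of_mem_normalizer (PP_nQ (UU_le (hW hy))) hx) (inv_mem hx)

theorem rkZ {ψ₀ : X →* G} (e0 : Em ψ₀) (e : Em ψ) {C D : Subgroup X} (CJ : C ≤ JD n F (kk n)) (ZC : ZZ n F ≤ C)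
    (nC : UU n F ≤ 𝐍(C)) (hD : El D) (r : R1 D) (k : C.map ψ₀ = D.map ψ) (hU : (UU n F).map ψ₀ ≤ 𝐍(ψ.range))
    (c : K0 F) : ∃ x, rk x ≤ 1 ∧ ψ₀ (zz c) = ψ x := by
  obtain ⟨Z, cZ, hZ⟩ := r
  have ZD : Z ≤ D := fun x hx => ((hZ x).1 hx).1
  have eC : El C := (el_JD _).mono CJ
  have c1 : Nat.card (Z.map ψ) = 𝐪 := by rw [e.card2 (hD.mono ZD).isP, cZ]
  have c2 : (C ⊓ (Z.map ψ).comap ψ₀).map ψ₀ = Z.map ψ := by
    refine le_antisymm (map_le_iff_le_comap.2 inf_le_right) fun y hy => ?_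
    obtain ⟨x, hx, rfl⟩ : y ∈ C.map ψ₀ := k ▸ map_mono ZD hy
    exact ⟨x, ⟨hx, hy⟩, rfl⟩
  have c3 : Nat.card ↥(C ⊓ (Z.map ψ).comap ψ₀) = 𝐪 := by
    rw [← e0.card2 (eC.mono inf_le_left).isP, c2, c1]
  have le := nZ (W := C ⊓ (Z.map ψ).comap ψ₀) (inf_le_left.trans (CJ.trans (JD_le _))) (fun u hu => by
    refine mem_normalizer_fintype ?_
    rintro w ⟨hw, z, hz, ez⟩
    have m := conj_mem_of_mem_normalizer (nC hu) hw
    refine ⟨m, ?_⟩
    obtain ⟨α, φ, a, b⟩ := e.act (hU (mem_map_of_mem _ hu))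
    have e1 : ψ₀ (u * w * u⁻¹) = ψ (α z) := by rw [map_mul, map_mul, map_inv, ← ez, b]
    have r1 : rk (α z) ≤ 1 := by rw [a.rk]; exact ((hZ z).1 hz).2
    obtain ⟨d, hd, ed⟩ : ψ₀ (u * w * u⁻¹) ∈ D.map ψ := k ▸ mem_map_of_mem _ m
    have : d = α z := e.inj2 (P2.of_sq (hD d hd)) (P2.of_sq (rk_sq r1)) (ed.trans e1)
    exact ⟨α z, (hZ _).2 ⟨this ▸ hd, r1⟩, e1.symm⟩) c3.le
  have e2 := eq_of_le_of_card_ge le (by rw [card_ZZ, c3])
  obtain ⟨-, z, hz, ez⟩ : zz c ∈ C ⊓ (Z.map ψ).comap ψ₀ := e2 ▸ mem_ZZ.2 ⟨c, rfl⟩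
  exact ⟨z, ((hZ z).1 hz).2, ez.symm⟩

theorem dgU {ψ₀ : X →* G} (e : Em ψ) (hU : (UU n F).map ψ₀ ≤ 𝐍(ψ.range)) {r : X} (hr : r ∈ ⁅UU n F, UU n F⁆) :
    Dg ψ (ψ₀ r) := by
  obtain ⟨K, hK, le⟩ := e.sub_dg
  refine (hK _).1 (le (commutator_mono hU hU ?_))
  rw [← map_commutator]
  exact mem_map_of_mem _ hr

end H21

end UMS
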