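import Cfsg.Agent.Lib.UMS.CL
import Cfsg.Agent.Lib.UMS.CE
import Cfsg.Agent.Lib.UMS.WIT
import Cfsg.Agent.Lib.UMS.B7
import Cfsg.Agent.Lib.UMS.Wt87
import Cfsg.Agent.Lib.LMS.B7

/-! A commuting family of complements to `t`. -/

set_option autoImplicit false
set_option linter.unusedSectionVars false

namespace UMS
namespace H33

open Subgroup H69 Cfsg Matrix U4S
open LMS (XX GX iL kk MM au tw Sg)
open scoped MatrixGroups commutatorElement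

universe u
variable {G : Type*} [Group G] [Finite G] {F : Type u} [Field F] [CharP F 2] [Fintype F] [Hs F] {n : ℕ} [Ok n F]
  {ι : XU n F →* G} {t : G}

local notation "X" => XU n F
local notation "V" => VV n F
local notation "𝐪" => Nat.card (K0 F)

/-- central involutions -/
def OZ (S : Subgroup X) : Subgroup X where
  carrier := {x | x ∈ S ∧ (∀ y ∈ S, Commute y x) ∧ x * x = 1}
  one_mem' := ⟨one_mem _, fun _ _ => Commute.one_right _, mul_one _⟩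
  mul_mem' := fun {a b} ha hb => ⟨mul_mem ha.1 hb.1, fun y hy => (ha.2.1 y hy).mul_right (hb.2.1 y hy), by
    rw [mul_assoc, ← mul_assoc b, (ha.2.1 b hb.1).eq, mul_assoc, hb.2.2, mul_one, ha.2.2]⟩
  inv_mem' := fun {a} ha => by rwa [inv_eq_of_mul_eq_one_right ha.2.2]

/-- the centraliser of `S` is small -/
def HC (ι : X →* G) (S : Subgroup X) : Prop :=
  ∀ a ∈ 𝐍(ι.range), Cn ι S a → ∃ x ∈ OZ S, ∃ k ∈ 𝐂(ι.range), a = k * ι x

/-- centralises `S` and the odd elements, translates `t` by `x` -/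
structure DD (ι : X →* G) (t : G) (S : Subgroup X) (x : X) (d : G) : Prop where
  mem : x ∈ OZ S
  cn : Cn ι S d
  co : CO ι t d
  tr : d * t * d⁻¹ = t * ι x

section gen
variable {S : Subgroup (XU n F)} {x y : XU n F} {d e : G}

theorem trA (h : C2 ι t) (s : HC ι S) (k : Cn ι S d) (c : d * t = t * d) :
    ∃ x ∈ OZ S, ∃ o, Oo ι t o ∧ (d = ι x * o ∨ d = t * ι x * o) := by
  obtain ⟨x, hx, z, hz, rfl⟩ := s _ (h.CN d c) k
  obtain ⟨O, -, -, hO⟩ := h.od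
  have c1 : Commute (ι x) t := (h.tc x).symm
  have c2 : z * t = t * z := by
    have := (show Commute (z * ι x) t from c).mul_left c1.inv_left
    rwa [mul_inv_cancel_right] at this
  obtain ⟨o, ho, e⟩ := hO z hz c2
  have c3 : ι x * o = o * ι x := ho.1 _ ⟨x, rfl⟩
  refine ⟨x, hx, o, ho, e.imp (fun e => ?_) fun e => ?_⟩
  · rw [e, c3]
  · rw [e, mul_assoc, mul_assoc, c3]

theorem DD.mul (a : DD ι t S x d) (b : DD ι t S y e) : DD ι t S (x * y) (d * e) where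
  mem := mul_mem a.mem b.mem
  cn z hz := (show Commute d (ι z) from a.cn z hz).mul_left (b.cn z hz)
  co o ho := (show Commute d o from a.co o ho).mul_left (b.co o ho)
  tr := by
    calc _ = d * (e * t * e⁻¹) * d⁻¹ := by group
      _ = d * t * d⁻¹ * (d * ι y * d⁻¹) := by rw [b.tr]; group
      _ = _ := by rw [a.tr, a.cn y b.mem.1, map_mul]; group

theorem DD.inv (a : DD ι t S x d) : DD ι t S x⁻¹ d⁻¹ where
  mem := inv_mem a.mem
  cn z hz := (show Commute d (ι z) from a.cn z hz).inv_left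
  co o ho := (show Commute d o from a.co o ho).inv_left
  tr := by
    calc _ = d⁻¹ * (t * ι x) * ((ι x)⁻¹ * d) := by group
      _ = _ := by
        rw [← a.tr, ← (show Commute d (ι x) from a.cn x a.mem.1).inv_right.eq, map_inv]; group

theorem DD.one (a : DD ι t S 1 d) : d * t = t * d := by
  have := a.tr
  rwa [map_one, mul_one, mul_inv_eq_iff_eq_mul] at this

theorem sq_tr (h : C2 ι t) {o : G} (hx : x ∈ OZ S) (ho : Oo ι t o) (k : d = ι x * o ∨ d = t * ι x * o) :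
    d * d = o * o := by
  have c1 : Commute (ι x) o := ho.1 _ ⟨x, rfl⟩
  have c2 : ι x * ι x = 1 := by rw [← map_mul, hx.2.2, map_one]
  rcases k with rfl | rfl
  · rw [← sq, c1.mul_pow, sq, c2, one_mul, sq]
  · rw [← sq, ((show Commute o t from ho.2.1).symm.mul_left c1).mul_pow,
      (show Commute t (ι x) from h.tc x).mul_pow, sq, sq, c2, h.t2, one_mul, one_mul, sq]

theorem DD.sq1 (a : DD ι t S x d) : DD ι t S 1 (d * d) := a.mem.2.2 ▸ a.mul a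

theorem p2mul (h : C2 ι t) (s : HC ι S) (a : DD ι t S x d) (b : DD ι t S y e) (p : P2 d) (q : P2 e) : P2 (d * e) := by
  obtain ⟨O, h1, h2, -⟩ := h.od
  let D : Subgroup G :=
    { carrier := {d | ∃ x, DD ι t S x d}
      one_mem' := ⟨1, one_mem _, fun _ _ => by simp, fun _ _ => by simp, by simp⟩
      mul_mem' := fun ⟨_, a⟩ ⟨_, b⟩ => ⟨_, a.mul b⟩
      inv_mem' := fun ⟨_, a⟩ => ⟨_, a.inv⟩ }
  refine (LMS.two_sub (D := D) (fun o ho d ⟨_, a⟩ => a.co o ((h1 o).1 ho)) h2 fun d ⟨_, a⟩ => ⟨2, ?_⟩).1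
    d ⟨_, a⟩ e ⟨_, b⟩ p q
  obtain ⟨z, hz, o, ho, k⟩ := trA h s a.sq1.cn a.sq1.one
  rw [show d ^ 2 ^ 2 = d * d * (d * d) by rw [show 2 ^ 2 = 2 + 2 from rfl, pow_add, sq], sq_tr h hz ho k]
  exact mul_mem ((h1 o).2 ho) ((h1 o).2 ho)

theorem p2sq (p : P2 d) : P2 (d * d) := by
  obtain ⟨k, hk⟩ := p
  exact ⟨k, by rw [(Commute.refl d).mul_pow, hk, one_mul]⟩

theorem p2inv (p : P2 d) : P2 d⁻¹ := by
  obtain ⟨k, hk⟩ := p
  exact ⟨k, by rw [inv_pow, hk, inv_one]⟩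

theorem ker (h : C2 ι t) (s : HC ι S) (k : Cn ι S d) (c : d * t = t * d) (p : P2 d) :
    ∃ y ∈ OZ S, d = ι y ∨ d = t * ι y := by
  obtain ⟨z, hz, o, ho, k⟩ := trA h s k c
  have h1 := p2sq p
  rw [sq_tr h hz ho k] at h1
  have h2 : P2 o := by
    obtain ⟨m, hm⟩ := h1
    exact ⟨m + 1, by rw [pow_succ', pow_mul, sq, hm]⟩
  rw [h2.eq_one ho.2.2, mul_one, mul_one] at k
  exact ⟨z, hz, k⟩

theorem sqA (h : C2 ι t) (s : HC ι S) (a : DD ι t S x d) (p : P2 d) : ∃ y ∈ OZ S, d * d = ι y := by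
  obtain ⟨y, hy, e | e⟩ := ker h s a.sq1.cn a.sq1.one (p2sq p)
  · exact ⟨y, hy, e⟩
  have c : Commute d t := by
    have := ((Commute.refl d).mul_right (Commute.refl d)).mul_right
      (show Commute d (ι y) from a.cn y hy.1).inv_right
    rwa [e, mul_inv_cancel_right] at this
  obtain ⟨z, hz, k⟩ := ker h s a.cn c p
  have := sq_tr h (d := d) (o := 1) hz ⟨one_mem _, by simp, by simp⟩ (by simpa using k)
  rw [e, one_mul, mul_eq_one_iff_eq_inv] at this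
  exact absurd ⟨y⁻¹, by rw [this, map_inv]⟩ h.toC1.t_not

theorem cmD (h : C2 ι t) (s : HC ι S) (a : DD ι t S x d) (b : DD ι t S y e) (p : P2 d) (q : P2 e) :
    ∃ z ∈ OZ S, d * e = ι z * (e * d) := by
  obtain ⟨x, hx, ex⟩ := sqA h s a p
  obtain ⟨y, hy, ey⟩ := sqA h s b q
  obtain ⟨z, hz, ez⟩ := sqA h s (a.mul b) (p2mul h s a b p q)
  have k : ι (z * y⁻¹ * x⁻¹) = d * e * (e * d)⁻¹ := by
    have c : Commute e (ι x) := b.cn x hx.1
    rw [map_mul, map_mul, map_inv, map_inv, ← ez, ← ey]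
    calc _ = d * e * (d * (e⁻¹ * (ι x)⁻¹)) := by group
      _ = _ := by rw [c.inv_left.inv_right.eq, ← ex]; group
  exact ⟨_, mul_mem (mul_mem hz (inv_mem hy)) (inv_mem hx), by rw [k, inv_mul_cancel_right]⟩

theorem oz_eq (e : Em ι) (hx : x ∈ OZ S) (hy : y ∈ OZ S) {k : G} (hk : k ∈ 𝐂(ι.range)) (h : ι x = k * ι y) :
    x = y :=
  mul_inv_eq_one.1 (cen_two (e.cen.1 (by rwa [map_mul, map_inv, h, mul_inv_cancel_right]))
    (P2.of_sq (mul_mem hx (inv_mem hy)).2.2))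

end gen

variable {u v : VV n F} {c c' : K0 F} {w e : G}

theorem oz_tc {s : Set V} (hs : ∀ a ∈ s, bt a v = 0) (hv : bt v v = 0) (k : ∀ x ∈ St s, ac x v = v) (c : K0 F) :
    tc v c ∈ OZ (St s) :=
  ⟨mem_St.2 fun a ha => by rw [ac_tc hv, hs a ha, mul_zero, zero_smul, add_zero], fun y hy =>
    mul_inv_eq_iff_eq_mul.1 (by rw [tc_cj hv, k y hy]), tc_sq hv c⟩

theorem oz1 (hv : Is v) (c : K0 F) : tc v c ∈ OZ (St {v}) :=
  oz_tc (s := {v}) (by rintro _ rfl; exact hv.1) hv.1 (fun _ hx => mem_St.1 hx v rfl) c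

theorem ozu (o : Ot u v) (c : K0 F) : tc u c ∈ OZ (St {u, v}) :=
  oz_tc (by rintro _ (rfl | rfl); exacts [o.1, o.symm.2.2.1]) o.1 (fun _ hx => mem_St.1 hx u (Or.inl rfl)) c

theorem ozv (o : Ot u v) (c : K0 F) : tc v c ∈ OZ (St {u, v}) :=
  oz_tc (by rintro _ (rfl | rfl); exacts [o.2.2.1, o.2.1]) o.2.1 (fun _ hx => mem_St.1 hx v (Or.inr rfl)) c

theorem bs (o : Ot u v) (a : F) : bt (a • u) (a • u) = 0 ∧ bt (a • u) v = 0 :=
  ⟨by rw [bt_smul_left, bt_smul_right, o.1, mul_zero, mul_zero], by rw [bt_smul_left, o.2.2.1, mul_zero]⟩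

theorem ozs (o : Ot u v) (a : F) : sh (a • u) v ∈ OZ (St {u, v}) := by
  obtain ⟨h1, h2⟩ := bs o a
  refine ⟨mem_St.2 ?_, fun y hy => mul_inv_eq_iff_eq_mul.1 ?_, sh_sq h1 o.2.1 h2⟩
  · rintro _ (rfl | rfl) <;>
      simp only [ac_sh h1 o.2.1 h2, bt_smul_right, o.1, o.2.1, o.2.2.1, o.symm.2.2.1, mul_zero, zero_smul, add_zero]
  · rw [sh_cj h1 o.2.1 h2, ac_smul, mem_St.1 hy u (Or.inl rfl), mem_St.1 hy v (Or.inr rfl)]

theorem hc1 (e : Em ι) (hv : Is v) : HC ι (St {v}) := fun _ ha h =>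
  let ⟨c, k⟩ := cP e ha hv h; ⟨_, oz1 hv c, k⟩

theorem hc2 (e : Em ι) (o : Ot u v) : HC ι (St {u, v}) := fun _ ha h =>
  let ⟨x, y, c, k⟩ := cP2 e ha o h; ⟨_, mul_mem (mul_mem (ozu o x) (ozv o y)) (ozs o c), k⟩

theorem cn_oz {S : Subgroup X} {x : X} (hx : x ∈ OZ S) : Cn ι S (ι x) := fun y hy => by
  rw [← map_mul, ← map_mul, (hx.2.1 y hy).eq]

theorem of1 (e : Em ι) (hv : Is v) {x : X} (hx : x ∈ OZ (St {v})) : ∃ c, x = tc v c :=
  let ⟨c, _, hk, k⟩ := cP e (le_normalizer ⟨x, rfl⟩) hv (cn_oz hx); ⟨c, oz_eq e hx (oz1 hv c) hk k⟩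

theorem of2 (e : Em ι) (o : Ot u v) {x : X} (hx : x ∈ OZ (St {u, v})) :
    ∃ (a b : K0 F) (c : F), x = tc u a * tc v b * sh (c • u) v :=
  let ⟨a, b, c, _, hk, k⟩ := cP2 e (le_normalizer ⟨x, rfl⟩) o (cn_oz hx)
  ⟨a, b, c, oz_eq e hx (mul_mem (mul_mem (ozu o a) (ozv o b)) (ozs o c)) hk k⟩

theorem dd1 (hv : Is v) (k : SV ι t v c w) : DD ι t (St {v}) (tc v c) w := ⟨oz1 hv c, k.1.1, k.2.1, k.1.2⟩

theorem sv_mul (h : C2 ι t) (hv : Is v) (k : SV ι t v c w) (k' : SV ι t v c' e) : SV ι t v (c + c') (w * e) :=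
  have a := (dd1 hv k).mul (dd1 hv k')
  ⟨⟨a.cn, tc_mul hv.1 c c' ▸ a.tr⟩, a.co, p2mul h (hc1 h.em hv) (dd1 hv k) (dd1 hv k') k.2.2 k'.2.2⟩

theorem sv_inv (hv : Is v) (k : SV ι t v c w) : SV ι t v c w⁻¹ :=
  have a := (dd1 hv k).inv
  ⟨⟨a.cn, inv_eq_of_mul_eq_one_right (tc_sq hv.1 c) ▸ a.tr⟩, a.co, p2inv k.2.2⟩

theorem sv_ker (h : C2 ι t) (hv : Is v) (k : SV ι t v 0 w) : ∃ a, w = ι (tc v a) ∨ w = t * ι (tc v a) := by
  obtain ⟨y, hy, q⟩ := ker h (hc1 h.em hv) k.1.1 (tc_zero v ▸ dd1 hv k).one k.2.2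
  obtain ⟨a, rfl⟩ := of1 h.em hv hy
  exact ⟨a, q⟩

theorem sv_sq (h : C2 ι t) (hv : Is v) (k : SV ι t v c w) : ∃ a, w * w = ι (tc v a) := by
  obtain ⟨y, hy, q⟩ := sqA h (hc1 h.em hv) (dd1 hv k) k.2.2
  obtain ⟨a, rfl⟩ := of1 h.em hv hy
  exact ⟨a, q⟩

theorem xm (hv : Is v) (a b : K0 F) : ι (tc v a) * ι (tc v b) = ι (tc v (a + b)) := by rw [← map_mul, tc_mul hv.1]
theorem xx (hv : Is v) (a : K0 F) : ι (tc v a) * ι (tc v a) = 1 := by rw [← map_mul, tc_sq hv.1, map_one]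
theorem xinj (e : Em ι) (hv : Is v) {a b : K0 F} (k : ι (tc v a) = ι (tc v b)) : a = b :=
  tc_inj hv (e.inj2 (.of_sq (tc_sq hv.1 a)) (.of_sq (tc_sq hv.1 b)) k)

theorem cx (k : SV ι t v c w) (hu : bt u u = 0) (o : bt v u = 0) (a : K0 F) : Commute (ι (tc u a)) w :=
  (k.1.1 _ (tc_St hu o a)).symm

theorem sv_uniq (h : C2 ι t) (hv : Is v) (k : SV ι t v c w) (k' : SV ι t v c' w) : c = c' :=
  xinj h.em hv (mul_left_cancel (k.1.2.symm.trans k'.1.2))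

theorem sv_x (h : C2 ι t) (hv : Is v) (a : K0 F) : SV ι t v 0 (ι (tc v a)) :=
  ⟨⟨cn_oz (oz1 hv a), by rw [← h.tc, mul_inv_cancel_right, tc_zero, map_one, mul_one]⟩,
    fun _ ho => ho.1 _ ⟨_, rfl⟩, .of_sq (xx hv a)⟩

theorem sv_t (h : C2 ι t) : SV ι t v 0 t :=
  ⟨⟨fun x _ => h.tc x, by rw [mul_inv_cancel_right, tc_zero, map_one, mul_one]⟩, fun _ ho => ho.2.1.symm,
    P2.of_sq h.t2⟩

theorem sv_tr (h : C2 ι t) (hv : Is v) (k : SV ι t v c w) (x : X) : SV ι t (ac x v) c (ι x * w * (ι x)⁻¹) :=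
  ⟨H87.D0_ac h.toC1 hv.1 k.1 x, H87.CO_ac k.2.1 x, k.2.2.cjg _⟩

theorem sv_smul (hv : Is v) {a : F} (ha : a ≠ 0) : SV ι t (a • v) c w ↔ SV ι t v (nm a * c) w := by
  rw [SV, SV, H87.D0_smul hv.1 ha, mul_comm]

theorem cjx (hv : bt v v = 0) (x : X) (a : K0 F) : ι x * ι (tc v a) * (ι x)⁻¹ = ι (tc (ac x v) a) := by
  rw [← map_inv, ← map_mul, ← map_mul, tc_cj hv]

theorem ex_sc (o : Ot u v) {a : F} (ha : a ≠ 0) : ∃ x : X, ac x u = a • u ∧ ac x v = v := by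
  obtain ⟨y, y1, y2⟩ := wit2 o
  obtain ⟨z, z1, z2⟩ := wit2 (o.smul ha one_ne_zero)
  refine ⟨z * y⁻¹, ?_, ?_⟩
  · rw [ac_mul, ← y1, H12.ac_inv, z1, y1]
  · rw [ac_mul, ← y2, H12.ac_inv, z2, y2, one_smul]

theorem sh0 (o : Ot u v) : sh ((0 : F) • u) v = 1 := by
  obtain ⟨h1, h2⟩ := bs o 0
  refine ac_ext fun x => ?_
  rw [ac_sh h1 o.2.1 h2, bt_smul_right, ac_one]
  simp

theorem inj2 (e : Em ι) (o : Ot u v) {a b a' b' : K0 F} (k : ι (tc u a) * ι (tc v b) = ι (tc u a') * ι (tc v b')) :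
    a = a' ∧ b = b' := by
  rw [← map_mul, ← map_mul] at k
  have := e.inj2 (.of_sq (mul_mem (ozu o a) (ozv o b)).2.2) (.of_sq (mul_mem (ozu o a') (ozv o b')).2.2) k
  have k := herm_inj o (c := 0) (c' := 0) (congrArg (· * sh ((0 : F) • u) v) this)
  exact ⟨k.1, k.2.1⟩

theorem isu (o : Ot u v) : Is u := by simpa using o.is (a := 1) (b := 0) (Or.inl one_ne_zero)

theorem cmA (h : C2 ι t) (o : Ot u v) (k : SV ι t u c e) (k' : SV ι t v c' w) :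
    ∃ a b, e * w = ι (tc u a) * ι (tc v b) * (w * e) := by
  have hu := isu o
  have hv := isu o.symm
  have a1 : DD ι t (St {u, v}) (tc u c) e :=
    ⟨ozu o c, fun x hx => k.1.1 x (mem_St.2 (by rintro _ rfl; exact mem_St.1 hx _ (Or.inl rfl))), k.2.1, k.1.2⟩
  have a2 : DD ι t (St {u, v}) (tc v c') w :=
    ⟨ozv o c', fun x hx => k'.1.1 x (mem_St.2 (by rintro _ rfl; exact mem_St.1 hx _ (Or.inr rfl))), k'.2.1, k'.1.2⟩
  obtain ⟨z, hz, ez⟩ := cmD h (hc2 h.em o) a1 a2 k.2.2 k'.2.2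
  obtain ⟨a, b, γ, rfl⟩ := of2 h.em o hz
  suffices γ = 0 from ⟨a, b, by rw [ez, this, sh0 o, mul_one, map_mul]⟩
  obtain ⟨μ, μ1, μ2, -⟩ := ex_n1 (F := F)
  have μ0 : μ ≠ 0 := fun q => one_ne_zero (μ1.symm.trans (nm_zero.2 q))
  obtain ⟨x, x1, x2⟩ := ex_sc o μ0
  have k1 := sv_tr h hu k x
  rw [x1, sv_smul hu μ0, μ1, one_mul] at k1
  have k2 := sv_mul h hu (sv_inv hu k) k1
  rw [k0_add] at k2
  have xw : ι x * w * (ι x)⁻¹ = w := H87.D0_cen k'.1 x2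
  have e1 : ι x * ι (tc u a * tc v b * sh (γ • u) v) * (ι x)⁻¹ = ι (tc u a * tc v b * sh ((γ * μ) • u) v) := by
    rw [← map_inv, ← map_mul, ← map_mul, ← conj_mul, ← conj_mul, tc_cj o.1, tc_cj o.2.1,
      sh_cj (bs o γ).1 o.2.1 (bs o γ).2, ac_smul, x1, x2, tc_smul, μ1, one_mul, smul_smul]
  have e2 : ι x * e * (ι x)⁻¹ * w = ι (tc u a * tc v b * sh ((γ * μ) • u) v) * (w * (ι x * e * (ι x)⁻¹)) := by
    rw [← e1]
    calc _ = ι x * e * (ι x)⁻¹ * (ι x * w * (ι x)⁻¹) := by rw [xw]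
      _ = ι x * (e * w) * (ι x)⁻¹ := by group
      _ = ι x * ι (tc u a * tc v b * sh (γ • u) v) * (ι x)⁻¹ * (ι x * w * (ι x)⁻¹ * (ι x * e * (ι x)⁻¹)) := by
        rw [ez]; group
      _ = _ := by rw [xw]
  generalize ι x * e * (ι x)⁻¹ = e' at k2 e2
  obtain ⟨p, b', e3⟩ : ∃ p b', e' = e * p ∧ p * w = ι (tc v b') * (w * p) := by
    obtain ⟨s, q | q⟩ := sv_ker h hu k2
    · exact ⟨ι (tc u s), 0, by rw [← q, mul_inv_cancel_left], by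
        rw [tc_zero, map_one, one_mul, (cx k' o.1 o.symm.2.2.1 s).eq]⟩
    · refine ⟨t * ι (tc u s), c', by rw [← q, mul_inv_cancel_left], ?_⟩
      rw [mul_assoc, (cx k' o.1 o.symm.2.2.1 s).eq, ← mul_assoc, ← mul_assoc w, mul_inv_eq_iff_eq_mul.1 k'.1.2,
        h.tc, ← mul_assoc, ← mul_assoc, ← mul_assoc, xx hv, one_mul]
  rw [e3.1, mul_assoc, e3.2, ← mul_assoc, ← (cx k o.2.1 o.2.2.1 b').eq, mul_assoc, ← mul_assoc e, ez] at e2
  simp only [← mul_assoc, mul_left_inj] at e2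
  rw [← map_mul] at e2
  have e4 := h.em.inj2 (.of_sq (mul_mem (ozv o b') hz).2.2)
    (.of_sq (mul_mem (mul_mem (ozu o a) (ozv o b)) (ozs o _)).2.2) e2
  rw [← mul_assoc, ← mul_assoc, ← tc_comm o.1 o.2.1 o.2.2.1, mul_assoc (tc u a), tc_mul o.2.1] at e4
  have := (herm_inj o e4).2.2
  by_contra q
  exact μ2 (mul_left_cancel₀ q (by rw [← this, mul_one]))

/-- the complement -/
def ZK (ι : X →* G) (t : G) (u : V) (c : K0 F) (w : G) : Prop :=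
  SV ι t u c w ∧ ∀ v, Ot u v → ∀ c' e, SV ι t v c' e → ∃ f, w * e = ι (tc u f) * (e * w)

theorem wt (k : SV ι t v c w) : w * t = t * ι (tc v c) * w := mul_inv_eq_iff_eq_mul.1 k.1.2

theorem z0 (h : C2 ι t) (o : Ot u v) (k : SV ι t u c w) (k' : SV ι t v 0 e) : ∃ f, w * e = ι (tc u f) * (e * w) := by
  obtain ⟨a, rfl | rfl⟩ := sv_ker h (isu o.symm) k'
  · exact ⟨0, by rw [tc_zero, map_one, one_mul, (cx k o.2.1 o.2.2.1 a).eq]⟩
  · exact ⟨c, by rw [← mul_assoc, wt k, h.tc, mul_assoc, ← (cx k o.2.1 o.2.2.1 a).eq, mul_assoc, mul_assoc]⟩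

theorem ex_st {v' : V} (o : Ot u v) (o' : Ot u v') : ∃ x : X, ac x u = u ∧ ac x v = v' := by
  obtain ⟨y, y1, y2⟩ := wit2 o
  obtain ⟨z, z1, z2⟩ := wit2 o'
  refine ⟨z * y⁻¹, ?_, ?_⟩
  · rw [ac_mul, ← y1, H12.ac_inv, z1, y1]
  · rw [ac_mul, ← y2, H12.ac_inv, z2]

theorem cjr {u' : V} (hu : bt u u = 0) (x : X) (hx : ac x u = u') {f : K0 F} (r : w * e = ι (tc u f) * (e * w)) :
    ι x * w * (ι x)⁻¹ * (ι x * e * (ι x)⁻¹) = ι (tc u' f) * (ι x * e * (ι x)⁻¹ * (ι x * w * (ι x)⁻¹)) := by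
  rw [← hx, ← cjx hu, conj_mul, conj_mul, conj_mul, r]

theorem zb (h : C2 ι t) (o : Ot u v) (k : SV ι t u c w) (k' : SV ι t v 1 e) {f : K0 F}
    (r : w * e = ι (tc u f) * (e * w)) : ZK ι t u c w := by
  refine ⟨k, fun v' o' c' e' k1 => ?_⟩
  by_cases c0 : c' = 0
  · exact z0 h o' k (c0 ▸ k1)
  obtain ⟨a, rfl⟩ := nm_surj c'
  have a0 : a ≠ 0 := fun q => c0 (nm_zero.2 q)
  have hv := isu o'.symm
  obtain ⟨x, x1, x2⟩ := ex_st o (v' := a • v') (by simpa using o'.smul one_ne_zero a0)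
  have k2 := sv_tr h (isu o.symm) k' x
  rw [x2, sv_smul hv a0, mul_one] at k2
  have r1 := cjr o.1 x x1 r
  rw [H87.D0_cen k.1 x1] at r1
  generalize ι x * e * (ι x)⁻¹ = e1 at k2 r1
  have k3 := sv_mul h hv (sv_inv hv k2) k1
  rw [k0_add] at k3
  obtain ⟨g, r2⟩ := z0 h o' k k3
  refine ⟨f + g, ?_⟩
  rw [← mul_inv_cancel_left e1 e', ← mul_assoc, r1, mul_assoc, mul_assoc e1, r2,
    ← (cx k2 o.1 o'.symm.2.2.1 g).left_comm, ← xm (isu o)]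
  simp only [mul_assoc]

theorem ZK.mul (h : C2 ι t) (hu : Is u) (k : ZK ι t u c w) (k' : ZK ι t u c' e) : ZK ι t u (c + c') (w * e) := by
  refine ⟨sv_mul h hu k.1 k'.1, fun v o c1 d kd => ?_⟩
  obtain ⟨f, r⟩ := k.2 v o c1 d kd
  obtain ⟨g, r'⟩ := k'.2 v o c1 d kd
  refine ⟨g + f, ?_⟩
  rw [mul_assoc, r', ← (cx k.1 hu.1 hu.1 g).left_comm, ← mul_assoc w, r, ← xm hu]
  simp only [mul_assoc]

theorem ZK.tr (h : C2 ι t) (hu : Is u) (k : ZK ι t u c w) (x : X) : ZK ι t (ac x u) c (ι x * w * (ι x)⁻¹) := by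
  refine ⟨sv_tr h hu k.1 x, fun v o c1 d kd => ?_⟩
  have o' := o.ac x⁻¹
  rw [H12.ac_inv] at o'
  obtain ⟨f, r⟩ := k.2 _ o' c1 _ (sv_tr h (isu o.symm) kd x⁻¹)
  have := cjr hu.1 x rfl r
  rw [show ι x * (ι x⁻¹ * d * (ι x⁻¹)⁻¹) * (ι x)⁻¹ = d by rw [map_inv]; group] at this
  exact ⟨f, this⟩

theorem ZK.smul (hu : Is u) {a : F} (ha : a ≠ 0) (k : ZK ι t (a • u) c w) : ZK ι t u (nm a * c) w := by
  refine ⟨(sv_smul hu ha).1 k.1, fun v o c1 d kd => ?_⟩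
  obtain ⟨f, r⟩ := k.2 v (by simpa using o.smul ha one_ne_zero) c1 d kd
  exact ⟨_, tc_smul u a f ▸ r⟩

theorem zz_x (h : C2 ι t) (hu : Is u) (a : K0 F) : ZK ι t u 0 (ι (tc u a)) :=
  ⟨sv_x h hu a, fun v o c1 d kd => ⟨0, by rw [tc_zero, map_one, one_mul, (cx kd o.1 o.symm.2.2.1 a).eq]⟩⟩

theorem ex_ot (hu : Is u) : ∃ v, Ot u v := by
  obtain ⟨x, rfl⟩ := wit1 hu
  exact ⟨_, WIT.ot01.ac x⟩

theorem te (h : C2 ι t) (hv : Is v) (k : SV ι t v c e) : t * e = ι (tc v c) * (e * t) := by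
  rw [wt k, h.tc, ← mul_assoc, ← mul_assoc, xx hv, one_mul]

theorem ZK.nt (h : C3 ι t) (hu : Is u) (k : ZK ι t u c w) (a : K0 F) : w ≠ t * ι (tc u a) := by
  rintro rfl
  obtain ⟨v, o⟩ := ex_ot hu
  have hv := isu o.symm
  obtain ⟨e, ke⟩ := h.ex v hv 1
  obtain ⟨f, r⟩ := k.2 v o 1 e ke
  rw [mul_assoc, (cx ke o.1 o.symm.2.2.1 a).eq, ← mul_assoc, te h.toC2 hv ke] at r
  simp only [← mul_assoc, mul_left_inj] at r
  have := inj2 h.em o (a := 0) (b := 1) (a' := f) (b' := 0) (by rwa [tc_zero, tc_zero, map_one, one_mul, mul_one])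
  exact one_ne_zero this.2

theorem ZK.ker (h : C3 ι t) (hu : Is u) (k : ZK ι t u 0 w) : ∃ a, w = ι (tc u a) :=
  let ⟨a, q⟩ := sv_ker h.toC2 hu k.1; ⟨a, q.resolve_right (k.nt h hu a)⟩

theorem zz_ex (h : C3 ι t) (hu : Is u) (c : K0 F) : ∃ w, ZK ι t u c w := by
  have h2 := h.toC2
  by_cases c0 : c = 0
  · exact ⟨_, c0 ▸ zz_x h2 hu 0⟩
  obtain ⟨v, o⟩ := ex_ot hu
  have hv := isu o.symm
  suffices ∃ c1 w, c1 ≠ 0 ∧ ZK ι t u c1 w by
    obtain ⟨c1, w, n1, k⟩ := this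
    obtain ⟨a, ea⟩ := nm_surj (c * c1⁻¹)
    have a0 : a ≠ 0 := fun q => mul_ne_zero c0 (inv_ne_zero n1) (ea ▸ nm_zero.2 q)
    obtain ⟨x, x1, -⟩ := ex_sc o a0
    have := (x1 ▸ k.tr h2 hu x).smul hu a0
    rw [ea, inv_mul_cancel_right₀ n1] at this
    exact ⟨_, this⟩
  obtain ⟨e, ke⟩ := h.ex v hv 1
  obtain ⟨w, k⟩ := h.ex u hu 1
  obtain ⟨a, b, r⟩ := cmA h2 o k ke
  have two : ∀ {c1 w1 a1}, SV ι t u c1 w1 → w1 * e = ι (tc u a1) * ι (tc v b) * (e * w1) →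
      ZK ι t u (1 + c1) (w * w1) := fun {c1 w1 a1} k1 r1 => by
    refine zb h2 o (sv_mul h2 hu k k1) ke (f := a1 + a) ?_
    rw [mul_assoc, r1, ← ((cx k o.1 o.1 a1).mul_left (cx k o.2.1 o.2.2.1 b)).left_comm, ← mul_assoc w, r,
      ← xm hu, ← map_mul ι (tc u a), tc_comm o.1 o.2.1 o.2.2.1, map_mul]
    simp only [← mul_assoc, mul_left_inj]
    rw [mul_assoc (ι _), xx hv, mul_one]
  by_cases b0 : b = 0
  · exact ⟨1, w, one_ne_zero, zb h2 o k ke (by rwa [b0, tc_zero, map_one, mul_one] at r)⟩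
  by_cases b1 : b = 1
  · exact ⟨_, _, by simp, two (a1 := 0) (sv_t h2) (by rw [b1, tc_zero, map_one, one_mul, te h2 hv ke])⟩
  obtain ⟨μ, eμ⟩ := nm_surj b
  have μ0 : μ ≠ 0 := fun q => b0 (eμ ▸ nm_zero.2 q)
  obtain ⟨x, x1, x2⟩ := ex_sc o μ0
  have k1 := sv_tr h2 hu k x
  rw [x1, sv_smul hu μ0, eμ, mul_one] at k1
  refine ⟨_, _, fun q => b1 (CharTwo.add_eq_zero.1 q).symm, two (a1 := nm μ * a) k1 ?_⟩
  have xe : ι x * e * (ι x)⁻¹ = e := H87.D0_cen ke.1 x2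
  conv_lhs => rw [← xe, conj_mul, r, ← conj_mul, ← conj_mul, ← conj_mul, cjx o.1, cjx o.2.1, x1, x2, tc_smul, xe]

theorem zz_sq (h : C3 ι t) : ∃ κ : K0 F, ∀ v, Is v → ∀ c w, ZK ι t v c w → w * w = ι (tc v (κ * c)) := by
  have h0 : Is (ee 0 : V) := isu WIT.ot01
  obtain ⟨w0, k0⟩ := zz_ex h h0 1
  obtain ⟨κ, e0⟩ := sv_sq h.toC2 h0 k0.1
  refine ⟨κ, fun v hv c w k => ?_⟩
  by_cases c0 : c = 0
  · subst c0
    obtain ⟨a, rfl⟩ := k.ker h hv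
    rw [xx hv, mul_zero, tc_zero, map_one]
  obtain ⟨a, rfl⟩ := nm_surj c
  have a0 : a ≠ 0 := fun q => c0 (nm_zero.2 q)
  obtain ⟨x, x1⟩ := wit1 (hv.smul a0)
  have k1 := (x1 ▸ k0.tr h.toC2 h0 x).smul hv a0
  have e1 := cjx (ι := ι) h0.1 x κ
  rw [mul_one] at k1
  rw [x1, tc_smul, ← e0, mul_comm (nm a), ← conj_mul] at e1
  generalize ι x * w0 * (ι x)⁻¹ = w1 at k1 e1
  have k2 := k1.mul h.toC2 hv k
  rw [k0_add] at k2
  obtain ⟨b, eb⟩ := k2.ker h hv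
  rw [← inv_eq_of_mul_eq_one_right (xx (ι := ι) hv (κ * nm a)), ← e1, eq_inv_mul_iff_mul_eq.2 eb, mul_assoc,
    (cx k1.1 hv.1 hv.1 b).inv_right.left_comm, xx hv]
  group

theorem ZK.comm (h : C3 ι t) (hv : Is v) (k : ZK ι t v c w) (k' : ZK ι t v c' e) : w * e = e * w := by
  obtain ⟨κ, q⟩ := zz_sq h
  have := q v hv _ _ (k.mul h.toC2 hv k')
  rw [mul_add, ← xm hv, ← q v hv _ _ k, ← q v hv _ _ k'] at this
  simp only [mul_assoc, mul_left_cancel_iff] at this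
  simp only [← mul_assoc, mul_left_inj] at this
  exact this.symm

theorem ZK.cm (h : C3 ι t) (hu : Is u) (hv : Is v) (o : bt u v = 0) (k : ZK ι t u c w) (k' : ZK ι t v c' e) :
    w * e = e * w := by
  by_cases l : LinearIndependent F ![u, v]
  · have o : Ot u v := ⟨hu.1, hv.1, o, l⟩
    obtain ⟨f, r⟩ := k.2 v o _ _ k'.1
    obtain ⟨g, r'⟩ := k'.2 u o.symm _ _ k.1
    have := r
    rw [r', ← mul_assoc, right_eq_mul] at this
    rw [r, (inj2 h.em o (a := f) (b := g) (a' := 0) (b' := 0)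
      (by rw [this, tc_zero, tc_zero, map_one, one_mul])).1, tc_zero,
      map_one, one_mul]
  rw [LinearIndependent.pair_iff' hu.2] at l
  push Not at l
  obtain ⟨a, rfl⟩ := l
  exact k.comm h hu (k'.smul hu fun q => hv.2 (by rw [q, zero_smul]))

theorem exZf (h : C3 ι t) : ∃ Z, Zf ι t Z :=
  ⟨ZK ι t, fun _ _ _ _ k => k.1, fun _ hv _ _ k => k.nt h hv, fun _ hv => zz_ex h hv, fun _ hv => zz_x h.toC2 hv,
    fun _ hv _ _ _ _ k k' => k.mul h.toC2 hv k', fun _ hv _ _ x k => k.tr h.toC2 hv x,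
    fun _ _ hu hv o _ _ _ _ k k' => k.cm h hu hv o k', zz_sq h⟩

end H33
end UMS
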